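import Mathlib
import Cfsg.Prelude.Def_TwoFusion
import Cfsg.Agent.Lib.Helper33.SylIn

/-!
Sylow 2-subgroups of the form `Q × R` with `Q` generalized quaternion and all involutions of `R`
central in `R` (helper20's library for S3269): construction of an isolated involution.
-/

set_option autoImplicit false

namespace Cfsg.Agent.Lib.Helper20.QuatProd

open Cfsg.Agent.Lib.Helper33


open QuaternionGroup

section quaternion

variable {m : ℕ}

theorem qg_natCast_ne_zero (hm : m ≠ 0) : ((m : ℕ) : ZMod (2 * m)) ≠ 0 := by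
  intro h
  rw [ZMod.natCast_eq_zero_iff] at h
  have := Nat.le_of_dvd (Nat.pos_of_ne_zero hm) h
  omega

theorem qg_double_eq_zero [NeZero m] (i : ZMod (2 * m)) (h : i + i = 0) : i = 0 ∨ i = (m : ZMod (2 * m)) := by
  have hm : m ≠ 0 := NeZero.ne m
  have : NeZero (2 * m) := ⟨by omega⟩
  have h1 : ((i.val + i.val : ℕ) : ZMod (2 * m)) = 0 := by
    push_cast
    rw [ZMod.natCast_zmod_val]
    exact h
  rw [ZMod.natCast_eq_zero_iff] at h1
  have hlt : i.val < 2 * m := ZMod.val_lt i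
  obtain ⟨c, hc⟩ := h1
  have hc' : i.val = m * c := by
    have : 2 * i.val = 2 * (m * c) := by rw [← mul_assoc, ← hc]; ring
    omega
  have hc2 : c < 2 := by
    by_contra hcon
    rw [not_lt] at hcon
    have : m * 2 ≤ m * c := Nat.mul_le_mul_left m hcon
    omega
  interval_cases c
  · left
    rw [← ZMod.natCast_zmod_val i, hc']
    simp
  · right
    rw [← ZMod.natCast_zmod_val i, hc']
    simp

theorem qg_sq_eq_one [NeZero m] (x : QuaternionGroup m) (h : x * x = 1) :
    x = 1 ∨ x = a (m : ZMod (2 * m)) := by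
  have hm : m ≠ 0 := NeZero.ne m
  rcases x with i | i
  · rw [a_mul_a, one_def] at h
    have h' : i + i = 0 := by injection h
    rcases qg_double_eq_zero i h' with h0 | h0
    · left; rw [h0, one_def]
    · right; rw [h0]
  · exfalso
    rw [xa_mul_xa, one_def] at h
    have h' : (m : ZMod (2 * m)) + i - i = 0 := by injection h
    rw [add_sub_cancel_right] at h'
    exact qg_natCast_ne_zero hm h'

theorem qg_xa_sq (i : ZMod (2 * m)) : xa i * xa i = a (m : ZMod (2 * m)) := by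
  rw [xa_mul_xa, add_sub_cancel_right]

theorem qg_two_m : ((m : ℕ) : ZMod (2 * m)) + (m : ZMod (2 * m)) = 0 := by
  have : ((2 * m : ℕ) : ZMod (2 * m)) = 0 := ZMod.natCast_self _
  rw [← this]; push_cast; ring

theorem qg_z_sq : (a (m : ZMod (2 * m)) : QuaternionGroup m) * a (m : ZMod (2 * m)) = 1 := by
  rw [a_mul_a, qg_two_m, one_def]

theorem qg_z_ne_one (hm : m ≠ 0) : (a (m : ZMod (2 * m)) : QuaternionGroup m) ≠ 1 := by
  intro h
  rw [one_def] at h
  have h' : (m : ZMod (2 * m)) = 0 := by injection h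
  exact qg_natCast_ne_zero hm h'

theorem qg_z_central (x : QuaternionGroup m) :
    a (m : ZMod (2 * m)) * x = x * a (m : ZMod (2 * m)) := by
  rcases x with i | i
  · rw [a_mul_a, a_mul_a, add_comm]
  · rw [a_mul_xa, xa_mul_a]
    congr 1
    have := qg_two_m (m := m)
    linear_combination -this

theorem qg_card_sq_one_le [NeZero m] :
    Nat.card {x : QuaternionGroup m // x * x = 1} ≤ 2 := by
  classical
  have h1 : {x : QuaternionGroup m | x * x = 1} ⊆ {1, a (m : ZMod (2 * m))} := by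
    intro x hx
    rcases qg_sq_eq_one x hx with h | h
    · left; exact h
    · right; exact h
  have h2 := Set.ncard_le_ncard h1 (Set.toFinite _)
  have h3 : ({1, a (m : ZMod (2 * m))} : Set (QuaternionGroup m)).ncard ≤ 2 := by
    have := Set.ncard_insert_le (1 : QuaternionGroup m) {a (m : ZMod (2 * m))}
    rwa [Set.ncard_singleton] at this
  have h4 : Nat.card {x : QuaternionGroup m // x * x = 1} = {x : QuaternionGroup m | x * x = 1}.ncard := by
    rw [← Nat.card_coe_set_eq]; rfl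
  omega

theorem qg_card_sq_z_ge [NeZero m] :
    2 * m ≤ Nat.card {x : QuaternionGroup m // x * x = a (m : ZMod (2 * m))} := by
  have hm : m ≠ 0 := NeZero.ne m
  have : NeZero (2 * m) := ⟨by omega⟩
  let f : ZMod (2 * m) → {x : QuaternionGroup m // x * x = a (m : ZMod (2 * m))} :=
    fun i => ⟨xa i, qg_xa_sq i⟩
  have hf : Function.Injective f := by
    intro i j hij
    have : xa i = (xa j : QuaternionGroup m) := congrArg Subtype.val hij
    injection this
  have := Nat.card_le_card_of_injective f hf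
  rwa [Nat.card_zmod] at this

end quaternion



section prod

variable {G : Type*} [Group G] {Q R S : Subgroup G}

theorem idp_exists_mul (hQR : Cfsg.IsInternalDirectProduct Q R S) {s : G} (hs : s ∈ S) :
    ∃ q ∈ Q, ∃ r ∈ R, s = q * r := by
  obtain ⟨hQS, hRS, hcomm, hinf, hsup⟩ := hQR
  let K : Subgroup G :=
    { carrier := {s | ∃ q ∈ Q, ∃ r ∈ R, s = q * r}
      one_mem' := ⟨1, one_mem _, 1, one_mem _, by simp⟩
      mul_mem' := by
        rintro _ _ ⟨q, hq, r, hr, rfl⟩ ⟨q', hq', r', hr', rfl⟩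
        refine ⟨q * q', mul_mem hq hq', r * r', mul_mem hr hr', ?_⟩
        have := hcomm q' hq' r hr
        calc q * r * (q' * r') = q * (r * q') * r' := by group
          _ = q * (q' * r) * r' := by rw [this]
          _ = q * q' * (r * r') := by group
      inv_mem' := by
        rintro _ ⟨q, hq, r, hr, rfl⟩
        refine ⟨q⁻¹, inv_mem hq, r⁻¹, inv_mem hr, ?_⟩
        have := hcomm q⁻¹ (inv_mem hq) r⁻¹ (inv_mem hr)
        rw [mul_inv_rev, this] }
  have hQK : Q ≤ K := fun q hq => ⟨q, hq, 1, one_mem _, by simp⟩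
  have hRK : R ≤ K := fun r hr => ⟨1, one_mem _, r, hr, by simp⟩
  have : S ≤ K := by rw [← hsup]; exact sup_le hQK hRK
  exact this hs

theorem idp_eq_one (hQR : Cfsg.IsInternalDirectProduct Q R S) {x : G} (hxQ : x ∈ Q) (hxR : x ∈ R) :
    x = 1 := by
  have : x ∈ Q ⊓ R := ⟨hxQ, hxR⟩
  rw [hQR.2.2.2.1] at this
  exact Subgroup.mem_bot.mp this

theorem idp_mul_eq_mul (hQR : Cfsg.IsInternalDirectProduct Q R S) {q q' r r' : G}
    (hq : q ∈ Q) (hq' : q' ∈ Q) (hr : r ∈ R) (hr' : r' ∈ R) (h : q * r = q' * r') :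
    q = q' ∧ r = r' := by
  have h1 : q'⁻¹ * q = r' * r⁻¹ := by
    calc q'⁻¹ * q = q'⁻¹ * (q * r) * r⁻¹ := by group
      _ = q'⁻¹ * (q' * r') * r⁻¹ := by rw [h]
      _ = r' * r⁻¹ := by group
  have h2 : q'⁻¹ * q = 1 :=
    idp_eq_one hQR (mul_mem (inv_mem hq') hq) (h1 ▸ mul_mem hr' (inv_mem hr))
  have h3 : r' * r⁻¹ = 1 := h1 ▸ h2
  constructor
  · exact (inv_mul_eq_one.mp h2).symm
  · exact (mul_inv_eq_one.mp h3).symm

theorem idp_mul_sq (hQR : Cfsg.IsInternalDirectProduct Q R S) {q r : G}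
    (hq : q ∈ Q) (hr : r ∈ R) : (q * r) * (q * r) = (q * q) * (r * r) := by
  have := hQR.2.2.1 q hq r hr
  calc q * r * (q * r) = q * (r * q) * r := by group
    _ = q * (q * r) * r := by rw [this]
    _ = q * q * (r * r) := by group

/-- Square roots in a direct product. -/
theorem card_sqrt_mul [Finite G] (hQR : Cfsg.IsInternalDirectProduct Q R S) {q₀ r₀ : G}
    (hq₀ : q₀ ∈ Q) (hr₀ : r₀ ∈ R) :
    Nat.card {s : G // s ∈ S ∧ s * s = q₀ * r₀} =
      Nat.card {q : G // q ∈ Q ∧ q * q = q₀} * Nat.card {r : G // r ∈ R ∧ r * r = r₀} := by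
  rw [← Nat.card_prod]
  symm
  let f : {q : G // q ∈ Q ∧ q * q = q₀} × {r : G // r ∈ R ∧ r * r = r₀} →
      {s : G // s ∈ S ∧ s * s = q₀ * r₀} := fun x =>
    ⟨x.1.1 * x.2.1, mul_mem (hQR.1 x.1.2.1) (hQR.2.1 x.2.2.1), by
      rw [idp_mul_sq hQR x.1.2.1 x.2.2.1, x.1.2.2, x.2.2.2]⟩
  apply Nat.card_congr (Equiv.ofBijective f ⟨?_, ?_⟩)
  · rintro ⟨⟨q, hq, hq2⟩, ⟨r, hr, hr2⟩⟩ ⟨⟨q', hq', hq2'⟩, ⟨r', hr', hr2'⟩⟩ h
    have h' : q * r = q' * r' := congrArg Subtype.val h
    obtain ⟨rfl, rfl⟩ := idp_mul_eq_mul hQR hq hq' hr hr' h'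
    rfl
  · rintro ⟨s, hs, hs2⟩
    obtain ⟨q, hq, r, hr, rfl⟩ := idp_exists_mul hQR hs
    rw [idp_mul_sq hQR hq hr] at hs2
    obtain ⟨h1, h2⟩ := idp_mul_eq_mul hQR (mul_mem hq hq) hq₀ (mul_mem hr hr) hr₀ hs2
    exact ⟨(⟨q, hq, h1⟩, ⟨r, hr, h2⟩), rfl⟩

end prod

section omz

variable {G : Type*} [Group G]

/-- `Ω₁(Z(S))` as a subgroup of the ambient group. -/
def OmZ (S : Subgroup G) : Subgroup G where
  carrier := {e | e ∈ S ∧ e * e = 1 ∧ ∀ s ∈ S, e * s = s * e}
  one_mem' := ⟨one_mem _, by simp, by simp⟩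
  mul_mem' := by
    rintro a b ⟨ha, ha2, hac⟩ ⟨hb, hb2, hbc⟩
    refine ⟨mul_mem ha hb, ?_, ?_⟩
    · have := hac b hb
      calc a * b * (a * b) = a * (b * a) * b := by group
        _ = a * (a * b) * b := by rw [this]
        _ = (a * a) * (b * b) := by group
        _ = 1 := by rw [ha2, hb2, one_mul]
    · intro s hs
      calc a * b * s = a * (b * s) := by group
        _ = a * (s * b) := by rw [hbc s hs]
        _ = (a * s) * b := by group
        _ = (s * a) * b := by rw [hac s hs]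
        _ = s * (a * b) := by group
  inv_mem' := by
    rintro a ⟨ha, ha2, hac⟩
    have : a⁻¹ = a := inv_eq_of_mul_eq_one_right ha2
    show a⁻¹ ∈ {e | e ∈ S ∧ e * e = 1 ∧ ∀ s ∈ S, e * s = s * e}
    rw [this]
    exact ⟨ha, ha2, hac⟩

theorem mem_OmZ {S : Subgroup G} {e : G} :
    e ∈ OmZ S ↔ e ∈ S ∧ e * e = 1 ∧ ∀ s ∈ S, e * s = s * e := Iff.rfl

instance OmZ.commGroup (S : Subgroup G) : CommGroup ↥(OmZ S) :=
  { (inferInstance : Group ↥(OmZ S)) with
    mul_comm := fun a b => Subtype.ext (a.2.2.2 b b.2.1) }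

theorem conj_mem_OmZ {S : Subgroup G} {n : G} (hn : n ∈ Subgroup.normalizer (S : Set G))
    {e : G} (he : e ∈ OmZ S) : n * e * n⁻¹ ∈ OmZ S := by
  obtain ⟨heS, he2, hec⟩ := he
  refine ⟨(Subgroup.mem_normalizer_iff.mp hn e).mp heS, ?_, ?_⟩
  · calc n * e * n⁻¹ * (n * e * n⁻¹) = n * (e * e) * n⁻¹ := by group
      _ = 1 := by rw [he2]; group
  · intro s hs
    have hs' : n⁻¹ * s * n ∈ S := by
      have := (Subgroup.mem_normalizer_iff.mp (inv_mem hn) s).mp hs
      simpa using this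
    have := hec _ hs'
    calc n * e * n⁻¹ * s = n * (e * (n⁻¹ * s * n)) * n⁻¹ := by group
      _ = n * ((n⁻¹ * s * n) * e) * n⁻¹ := by rw [this]
      _ = s * (n * e * n⁻¹) := by group

instance OmZ.mulAction (S : Subgroup G) :
    MulAction ↥(Subgroup.normalizer (S : Set G)) ↥(OmZ S) where
  smul n e := ⟨(n : G) * (e : G) * (n : G)⁻¹, conj_mem_OmZ n.2 e.2⟩
  one_smul e := Subtype.ext (by
    show ((1 : ↥(Subgroup.normalizer (S : Set G))) : G) * (e : G) *
      ((1 : ↥(Subgroup.normalizer (S : Set G))) : G)⁻¹ = e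
    simp)
  mul_smul a b e := Subtype.ext (by
    show ((a * b : ↥(Subgroup.normalizer (S : Set G))) : G) * (e : G) *
      ((a * b : ↥(Subgroup.normalizer (S : Set G))) : G)⁻¹ = (a : G) * ((b : G) * (e : G) * (b : G)⁻¹) * (a : G)⁻¹
    rw [Subgroup.coe_mul]; group)

theorem OmZ.smul_coe {S : Subgroup G} (n : ↥(Subgroup.normalizer (S : Set G))) (e : ↥(OmZ S)) :
    ((n • e : ↥(OmZ S)) : G) = (n : G) * (e : G) * (n : G)⁻¹ := rfl

/-- Conjugation by an element of the normalizer as an endomorphism of `Ω₁(Z(S))`. -/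
def OmZ.conjHom {S : Subgroup G} (n : ↥(Subgroup.normalizer (S : Set G))) :
    ↥(OmZ S) →* ↥(OmZ S) where
  toFun e := n • e
  map_one' := Subtype.ext (by rw [OmZ.smul_coe]; simp)
  map_mul' a b := Subtype.ext (by
    rw [OmZ.smul_coe, Subgroup.coe_mul, Subgroup.coe_mul, OmZ.smul_coe, OmZ.smul_coe]; group)

/-- The product over an orbit is fixed. -/
theorem OmZ.orbit_prod_fixed {S : Subgroup G} [Finite G] (m₀ : ↥(OmZ S))
    [Fintype ↥(MulAction.orbit ↥(Subgroup.normalizer (S : Set G)) m₀)]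
    (n : ↥(Subgroup.normalizer (S : Set G))) :
    n • (∏ o : ↥(MulAction.orbit ↥(Subgroup.normalizer (S : Set G)) m₀), (o : ↥(OmZ S))) =
      ∏ o : ↥(MulAction.orbit ↥(Subgroup.normalizer (S : Set G)) m₀), (o : ↥(OmZ S)) := by
  have h1 : n • (∏ o : ↥(MulAction.orbit ↥(Subgroup.normalizer (S : Set G)) m₀), (o : ↥(OmZ S)))
      = ∏ o : ↥(MulAction.orbit ↥(Subgroup.normalizer (S : Set G)) m₀), n • (o : ↥(OmZ S)) :=
    map_prod (OmZ.conjHom n) _ _
  rw [h1]
  exact Fintype.prod_equiv (MulAction.toPerm n) _ _ (fun o => rfl)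

end omz




section burnside

variable {G : Type*} [Group G]

/-- Burnside: two elements centralized by a Sylow subgroup which are conjugate are conjugate under the
normalizer of the Sylow subgroup. -/
theorem burnside_center {p : ℕ} [Fact p.Prime] [Finite G] (S : Sylow p G) {x : G}
    (hx : ∀ s ∈ S, x * s = s * x) (g : G)
    (hy : ∀ s ∈ S, (g * x * g⁻¹) * s = s * (g * x * g⁻¹)) :
    ∃ k ∈ Subgroup.normalizer ((S : Subgroup G) : Set G), k * x * k⁻¹ = g * x * g⁻¹ := by
  set y := g * x * g⁻¹ with hydef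
  set C := Subgroup.centralizer ({y} : Set G) with hC
  have hSC : (S : Subgroup G) ≤ C := by
    intro s hs
    rw [hC, Subgroup.mem_centralizer_iff]
    rintro _ rfl
    exact hy s hs
  have hgSC : cj g (S : Subgroup G) ≤ C := by
    intro v hv
    rw [mem_cj] at hv
    rw [hC, Subgroup.mem_centralizer_iff]
    rintro _ rfl
    have := hx _ hv
    calc g * x * g⁻¹ * v = g * (x * (g⁻¹ * v * g)) * g⁻¹ := by group
      _ = g * ((g⁻¹ * v * g) * x) * g⁻¹ := by rw [this]
      _ = v * (g * x * g⁻¹) := by group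
  have hSyl : SylIn p (S : Subgroup G) C := sylIn_of_sylow_le S hSC
  obtain ⟨c, hc, hcle⟩ := hSyl.exists_cj_le hgSC (isPGroup_cj S.isPGroup')
  rw [← cj_mul] at hcle
  have heq : cj (c * g) (S : Subgroup G) = S :=
    Subgroup.eq_of_le_of_card_ge hcle (by rw [card_cj])
  refine ⟨c * g, mem_normalizer_iff_cj_eq.mpr heq, ?_⟩
  rw [hC, Subgroup.mem_centralizer_iff] at hc
  have := hc y rfl
  calc c * g * x * (c * g)⁻¹ = c * (g * x * g⁻¹) * c⁻¹ := by group
    _ = (y * c) * c⁻¹ := by rw [← hydef, ← this]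
    _ = y := by group

end burnside


section core

variable {G : Type*} [Group G]

/-- Number of square roots of `e` in `S`. -/
noncomputable def nu (S : Subgroup G) (e : G) : ℕ := Nat.card {s : G // s ∈ S ∧ s * s = e}

theorem nu_conj [Finite G] {S : Subgroup G} {n : G} (hn : n ∈ Subgroup.normalizer (S : Set G)) (e : G) :
    nu S (n * e * n⁻¹) = nu S e := by
  unfold nu
  symm
  refine Nat.card_congr
    { toFun := fun s => ⟨n * s.1 * n⁻¹, (Subgroup.mem_normalizer_iff.mp hn s.1).mp s.2.1, ?_⟩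
      invFun := fun s => ⟨n⁻¹ * s.1 * n, ?_, ?_⟩
      left_inv := fun s => Subtype.ext (by show n⁻¹ * (n * s.1 * n⁻¹) * n = s.1; group)
      right_inv := fun s => Subtype.ext (by show n * (n⁻¹ * s.1 * n) * n⁻¹ = s.1; group) }
  · calc n * s.1 * n⁻¹ * (n * s.1 * n⁻¹) = n * (s.1 * s.1) * n⁻¹ := by group
      _ = n * e * n⁻¹ := by rw [s.2.2]
  · have := (Subgroup.mem_normalizer_iff.mp (inv_mem hn) s.1).mp s.2.1
    simpa using this
  · calc n⁻¹ * s.1 * n * (n⁻¹ * s.1 * n) = n⁻¹ * (s.1 * s.1) * n := by group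
      _ = e := by rw [s.2.2]; group

theorem nu_one_pos [Finite G] (S : Subgroup G) : 0 < nu S 1 := by
  unfold nu
  have : Nonempty {s : G // s ∈ S ∧ s * s = 1} := ⟨⟨1, one_mem _, one_mul 1⟩⟩
  exact Nat.card_pos

/-- Parity of products of elements outside a subgroup `R` with `a * b ∈ R ↔ (a ∈ R ↔ b ∈ R)`. -/
theorem prod_mem_iff_even {E : Type*} [CommGroup E] (P : E → Prop) (h1 : P 1)
    (hmul : ∀ a b : E, P (a * b) ↔ (P a ↔ P b)) {ι : Type*} (T : Finset ι) (f : ι → E)
    (hf : ∀ i ∈ T, ¬ P (f i)) : P (∏ i ∈ T, f i) ↔ Even T.card := by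
  classical
  induction T using Finset.induction_on with
  | empty => simpa using h1
  | insert a T ha ih =>
    rw [Finset.prod_insert ha, Finset.card_insert_of_notMem ha, hmul,
      ih (fun i hi => hf i (Finset.mem_insert_of_mem hi)), Nat.even_add_one]
    have := hf a (Finset.mem_insert_self a T)
    tauto

end core

section main

variable {G : Type*} [Group G] [Finite G]

theorem exists_isolated (S : Sylow 2 G) (Q R : Subgroup G)
    (hQR : Cfsg.IsInternalDirectProduct Q R (S : Subgroup G))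
    (z : G) (hzQ : z ∈ Q) (hz2 : z * z = 1) (hz1 : z ≠ 1) (hzc : ∀ q ∈ Q, z * q = q * z)
    (hF1 : ∀ q ∈ Q, q * q = 1 → q = 1 ∨ q = z)
    (hF2 : Nat.card {q : G // q ∈ Q ∧ q * q = 1} < Nat.card {q : G // q ∈ Q ∧ q * q = z})
    (hR : ∀ r ∈ R, orderOf r = 2 → ∀ s ∈ R, r * s = s * r) :
    ∃ u : G, orderOf u = 2 ∧ u ∈ S ∧ ∀ g : G, g * u * g⁻¹ ∈ S → g * u * g⁻¹ = u := by
  have hfact : Fact (Nat.Prime 2) := ⟨Nat.prime_two⟩
  obtain ⟨hQS, hRS, hcomm, hinf, hsup⟩ := id hQR
  -- (L2)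
  have hRc : ∀ r ∈ R, r * r = 1 → ∀ s ∈ (S : Subgroup G), r * s = s * r := by
    intro r hr hr2 s hs
    obtain ⟨q', hq', r', hr', rfl⟩ := idp_exists_mul hQR hs
    have h1 : r * r' = r' * r := by
      by_cases h1 : r = 1
      · rw [h1]; simp
      · exact hR r hr (orderOf_eq_prime (by rw [pow_two]; exact hr2) h1) r' hr'
    have h2 := hcomm q' hq' r hr
    calc r * (q' * r') = (r * q') * r' := by group
      _ = (q' * r) * r' := by rw [h2]
      _ = q' * (r * r') := by group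
      _ = q' * (r' * r) := by rw [h1]
      _ = q' * r' * r := by group
  -- (L3)
  have hzS : ∀ s ∈ (S : Subgroup G), z * s = s * z := by
    intro s hs
    obtain ⟨q', hq', r', hr', rfl⟩ := idp_exists_mul hQR hs
    have h1 := hzc q' hq'
    have h2 := hcomm z hzQ r' hr'
    calc z * (q' * r') = (z * q') * r' := by group
      _ = (q' * z) * r' := by rw [h1]
      _ = q' * (z * r') := by group
      _ = q' * (r' * z) := by rw [h2]
      _ = q' * r' * z := by group
  -- (L1)
  have hinv : ∀ e ∈ (S : Subgroup G), e * e = 1 → ∃ r ∈ R, r * r = 1 ∧ (e = r ∨ e = z * r) := by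
    intro e he he2
    obtain ⟨q, hq, r, hr, rfl⟩ := idp_exists_mul hQR he
    rw [idp_mul_sq hQR hq hr] at he2
    have he2' : q * q * (r * r) = 1 * 1 := by rw [he2, one_mul]
    obtain ⟨h1, h2⟩ := idp_mul_eq_mul hQR (mul_mem hq hq) (one_mem _) (mul_mem hr hr) (one_mem _) he2'
    refine ⟨r, hr, h2, ?_⟩
    rcases hF1 q hq h1 with h | h
    · left; rw [h, one_mul]
    · right; rw [h]
  -- (L4)
  have hinvOm : ∀ e ∈ (S : Subgroup G), e * e = 1 → e ∈ OmZ (S : Subgroup G) := by
    intro e he he2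
    refine ⟨he, he2, ?_⟩
    intro s hs
    obtain ⟨r, hr, hr2, h | h⟩ := hinv e he he2
    · rw [h]; exact hRc r hr hr2 s hs
    · rw [h]
      calc z * r * s = z * (r * s) := by group
        _ = z * (s * r) := by rw [hRc r hr hr2 s hs]
        _ = (z * s) * r := by group
        _ = (s * z) * r := by rw [hzS s hs]
        _ = s * (z * r) := by group
  have hzOm : z ∈ OmZ (S : Subgroup G) := hinvOm z (hQS hzQ) hz2
  have hznR : z ∉ R := fun h => hz1 (idp_eq_one hQR hzQ h)
  -- (L6)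
  have hdich : ∀ e ∈ OmZ (S : Subgroup G), (z * e ∈ R ↔ e ∉ R) := by
    intro e he
    constructor
    · intro h1 h2
      apply hznR
      have : z = (z * e) * e⁻¹ := by group
      rw [this]
      exact mul_mem h1 (inv_mem h2)
    · intro h1
      obtain ⟨r, hr, hr2, h | h⟩ := hinv e he.1 he.2.1
      · exact absurd (h ▸ hr) h1
      · rw [h, ← mul_assoc, hz2, one_mul]; exact hr
  -- (L7)
  have hmulR : ∀ a b : ↥(OmZ (S : Subgroup G)),
      (((a * b : ↥(OmZ (S : Subgroup G))) : G) ∈ R) ↔ ((a : G) ∈ R ↔ (b : G) ∈ R) := by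
    intro a b
    rw [Subgroup.coe_mul]
    by_cases ha : (a : G) ∈ R <;> by_cases hb : (b : G) ∈ R
    · exact ⟨fun _ => ⟨fun _ => hb, fun _ => ha⟩, fun _ => mul_mem ha hb⟩
    · constructor
      · intro h
        exfalso
        apply hb
        have : (b : G) = (a : G)⁻¹ * ((a : G) * (b : G)) := by group
        rw [this]; exact mul_mem (inv_mem ha) h
      · intro h
        exact absurd (h.mp ha) hb
    · constructor
      · intro h
        exfalso
        apply ha
        have : (a : G) = ((a : G) * (b : G)) * (b : G)⁻¹ := by group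
        rw [this]; exact mul_mem h (inv_mem hb)
      · intro h
        exact absurd (h.mpr hb) ha
    · refine ⟨fun _ => ⟨fun h => absurd h ha, fun h => absurd h hb⟩, fun _ => ?_⟩
      have h1 := (hdich a a.2).mpr ha
      have h2 := (hdich b b.2).mpr hb
      have h3 : (z * (a : G)) * (z * (b : G)) = (a : G) * (b : G) := by
        calc (z * (a : G)) * (z * (b : G)) = ((z * (a : G)) * z) * (b : G) := by group
          _ = (z * (z * (a : G))) * (b : G) := by rw [hzS _ (mul_mem (hQS hzQ) a.2.1)]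
          _ = (z * z) * (a : G) * (b : G) := by group
          _ = (a : G) * (b : G) := by rw [hz2, one_mul]
      rw [← h3]; exact mul_mem h1 h2
  -- (L11)
  have hnu_lt : ∀ e ∈ R, 0 < nu (S : Subgroup G) e → nu (S : Subgroup G) e < nu (S : Subgroup G) (z * e) := by
    intro e he hpos
    have h1 : nu (S : Subgroup G) e = Nat.card {q : G // q ∈ Q ∧ q * q = 1} *
        Nat.card {r : G // r ∈ R ∧ r * r = e} := by
      have := card_sqrt_mul hQR (one_mem Q) he
      rw [one_mul] at this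
      exact this
    have h2 : nu (S : Subgroup G) (z * e) = Nat.card {q : G // q ∈ Q ∧ q * q = z} *
        Nat.card {r : G // r ∈ R ∧ r * r = e} := card_sqrt_mul hQR hzQ he
    rw [h1] at hpos ⊢
    rw [h2]
    have h3 : 0 < Nat.card {r : G // r ∈ R ∧ r * r = e} := Nat.pos_of_mul_pos_left hpos
    exact Nat.mul_lt_mul_of_pos_right hF2 h3
  -- (L12)
  have hmax_notR : ∀ e : ↥(OmZ (S : Subgroup G)),
      (∀ e' : ↥(OmZ (S : Subgroup G)), nu (S : Subgroup G) (e' : G) ≤ nu (S : Subgroup G) (e : G)) →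
      (e : G) ∉ R := by
    intro e hmax he
    have hpos : 0 < nu (S : Subgroup G) (e : G) := lt_of_lt_of_le (nu_one_pos _) (hmax 1)
    have h1 := hnu_lt _ he hpos
    have h2 := hmax ⟨z * (e : G), mul_mem hzOm e.2⟩
    exact absurd h1 (not_lt.mpr h2)
  obtain ⟨m₀, hm₀⟩ := Finite.exists_max (fun e : ↥(OmZ (S : Subgroup G)) => nu (S : Subgroup G) (e : G))
  -- orbit
  let N := Subgroup.normalizer ((S : Subgroup G) : Set G)
  let O := MulAction.orbit ↥N m₀
  haveI : Fintype ↥O := Fintype.ofFinite _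
  have horb_notR : ∀ o : ↥O, ((o : ↥(OmZ (S : Subgroup G))) : G) ∉ R := by
    rintro ⟨o, n, rfl⟩
    apply hmax_notR
    intro e'
    show nu (S : Subgroup G) (e' : G) ≤ nu (S : Subgroup G) ((n • m₀ : ↥(OmZ (S : Subgroup G))) : G)
    rw [OmZ.smul_coe, nu_conj n.2]
    exact hm₀ e'
  -- (L14)
  have hodd : ¬ Even (Fintype.card ↥O) := by
    have h1 : ((S : Subgroup G).subgroupOf N) ≤ MulAction.stabilizer ↥N m₀ := by
      intro s hs
      rw [MulAction.mem_stabilizer_iff]
      apply Subtype.ext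
      rw [OmZ.smul_coe]
      have := m₀.2.2.2 (s : G) (Subgroup.mem_subgroupOf.mp hs)
      calc (s : G) * (m₀ : G) * (s : G)⁻¹ = ((m₀ : G) * (s : G)) * (s : G)⁻¹ := by rw [this]
        _ = m₀ := by group
    have h2 := Subgroup.index_dvd_of_le h1
    have h3 : ((S : Subgroup G).subgroupOf N).index ∣ (S : Subgroup G).index :=
      Subgroup.relIndex_dvd_index_of_le Subgroup.le_normalizer
    have h4 := S.not_dvd_index
    have h5 : (MulAction.stabilizer ↥N m₀).index = Fintype.card ↥O := by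
      rw [MulAction.index_stabilizer, ← Nat.card_coe_set_eq, Nat.card_eq_fintype_card]
    rw [h5] at h2
    intro hev
    exact h4 ((even_iff_two_dvd.mp hev).trans (h2.trans h3))
  -- (L15)
  set e₁ : ↥(OmZ (S : Subgroup G)) := ∏ o : ↥O, (o : ↥(OmZ (S : Subgroup G))) with he₁
  have he₁R : (e₁ : G) ∉ R := by
    have := prod_mem_iff_even (fun e : ↥(OmZ (S : Subgroup G)) => (e : G) ∈ R) (one_mem R) hmulR
      (Finset.univ : Finset ↥O) (fun o => (o : ↥(OmZ (S : Subgroup G)))) (fun o _ => horb_notR o)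
    rw [Finset.card_univ] at this
    intro h
    exact hodd (this.mp h)
  have he₁fix : ∀ n ∈ N, n * (e₁ : G) * n⁻¹ = (e₁ : G) := by
    intro n hn
    have := OmZ.orbit_prod_fixed m₀ ⟨n, hn⟩
    have := congrArg Subtype.val this
    rwa [OmZ.smul_coe] at this
  have he₁ne : (e₁ : G) ≠ 1 := fun h => he₁R (h ▸ one_mem R)
  refine ⟨(e₁ : G), orderOf_eq_prime (by rw [pow_two]; exact e₁.2.2.1) he₁ne, e₁.2.1, ?_⟩
  intro g hg
  have hy2 : (g * (e₁ : G) * g⁻¹) * (g * (e₁ : G) * g⁻¹) = 1 := by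
    calc (g * (e₁ : G) * g⁻¹) * (g * (e₁ : G) * g⁻¹) = g * ((e₁ : G) * (e₁ : G)) * g⁻¹ := by group
      _ = 1 := by rw [e₁.2.2.1]; group
  have hyOm := hinvOm _ hg hy2
  obtain ⟨k, hk, hkeq⟩ := burnside_center S (x := (e₁ : G)) e₁.2.2.2 g hyOm.2.2
  rw [← hkeq]
  exact he₁fix k hk

end main

section final

variable {G : Type*} [Group G]

theorem card_sqrt_transport (Q : Subgroup G) {H : Type*} [Group H] (eQ : ↥Q ≃* H) (w : ↥Q) :
    Nat.card {q : G // q ∈ Q ∧ q * q = (w : G)} = Nat.card {x : H // x * x = eQ w} := by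
  refine Nat.card_congr
    { toFun := fun q => ⟨eQ ⟨q.1, q.2.1⟩, ?_⟩
      invFun := fun x => ⟨((eQ.symm x.1 : ↥Q) : G), (eQ.symm x.1).2, ?_⟩
      left_inv := fun q => Subtype.ext (by simp)
      right_inv := fun x => Subtype.ext (by simp) }
  · rw [← map_mul]
    congr 1
    exact Subtype.ext q.2.2
  · have h1 : eQ.symm x.1 * eQ.symm x.1 = w := by
      apply eQ.injective
      rw [map_mul, eQ.apply_symm_apply, x.2]
    exact congrArg Subtype.val h1

open QuaternionGroup in
theorem quat_data [Finite G] (Q : Subgroup G) {m : ℕ} [NeZero m] (hm : 2 ≤ m)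
    (eQ : ↥Q ≃* QuaternionGroup m) :
    ∃ z : G, z ∈ Q ∧ z * z = 1 ∧ z ≠ 1 ∧ (∀ q ∈ Q, z * q = q * z) ∧
      (∀ q ∈ Q, q * q = 1 → q = 1 ∨ q = z) ∧
      Nat.card {q : G // q ∈ Q ∧ q * q = 1} < Nat.card {q : G // q ∈ Q ∧ q * q = z} ∧
      2 < Nat.card ↥Q := by
  have hm0 : m ≠ 0 := NeZero.ne m
  set zq : ↥Q := eQ.symm (a (m : ZMod (2 * m))) with hzq
  have hezq : eQ zq = a (m : ZMod (2 * m)) := eQ.apply_symm_apply _
  have hzq2 : zq * zq = 1 := by
    apply eQ.injective
    rw [map_mul, hezq, qg_z_sq, map_one]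
  have hzq1 : zq ≠ 1 := by
    intro h
    rw [h, map_one] at hezq
    exact qg_z_ne_one hm0 hezq.symm
  refine ⟨(zq : G), zq.2, ?_, ?_, ?_, ?_, ?_, ?_⟩
  · exact congrArg Subtype.val hzq2
  · intro h
    exact hzq1 (Subtype.ext h)
  · intro q hq
    have : zq * ⟨q, hq⟩ = ⟨q, hq⟩ * zq := by
      apply eQ.injective
      rw [map_mul, map_mul, hezq, qg_z_central]
    exact congrArg Subtype.val this
  · intro q hq hq2
    have h1 : eQ ⟨q, hq⟩ * eQ ⟨q, hq⟩ = 1 := by
      rw [← map_mul, ← map_one eQ]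
      congr 1
      exact Subtype.ext hq2
    rcases qg_sq_eq_one _ h1 with h | h
    · left
      have : (⟨q, hq⟩ : ↥Q) = 1 := eQ.injective (by rw [h, map_one])
      exact congrArg Subtype.val this
    · right
      have : (⟨q, hq⟩ : ↥Q) = zq := eQ.injective (by rw [h, hezq])
      exact congrArg Subtype.val this
  · have h1 := card_sqrt_transport Q eQ 1
    have h2 := card_sqrt_transport Q eQ zq
    rw [map_one] at h1
    rw [hezq] at h2
    have h1' : Nat.card {q : G // q ∈ Q ∧ q * q = 1} = Nat.card {x : QuaternionGroup m // x * x = 1} := h1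
    rw [h1', h2]
    have h3 := qg_card_sq_one_le (m := m)
    have h4 := qg_card_sq_z_ge (m := m)
    omega
  · rw [Nat.card_congr eQ.toEquiv, Nat.card_eq_fintype_card, QuaternionGroup.card]
    omega

theorem not_simple_of_zstar [Finite G] (u : G) (hu : orderOf u = 2) (H : Subgroup G)
    (hH : 2 < Nat.card ↥H)
    (hN : ∃ N : Subgroup G, N.Normal ∧ Odd (Nat.card N) ∧ ∀ g : G, (u * g * u⁻¹ * g⁻¹) ∈ N) :
    ¬ IsSimpleGroup G := by
  intro hsimp
  obtain ⟨N, hNn, hNodd, hNc⟩ := hN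
  have hu1 : u ≠ 1 := by
    intro h
    rw [h, orderOf_one] at hu
    omega
  rcases hNn.eq_bot_or_eq_top with h | h
  · -- u is central
    have hucomm : ∀ g : G, g * u = u * g := by
      intro g
      have := hNc g
      rw [h, Subgroup.mem_bot] at this
      have h2 : u * g = g * u := by
        calc u * g = (u * g * u⁻¹ * g⁻¹) * (g * u) := by group
          _ = g * u := by rw [this, one_mul]
      exact h2.symm
    have hnorm : (Subgroup.zpowers u).Normal := by
      refine ⟨fun x hx g => ?_⟩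
      obtain ⟨k, rfl⟩ := Subgroup.mem_zpowers_iff.mp hx
      have : g * u ^ k * g⁻¹ = u ^ k := by
        have hc : Commute g u := hucomm g
        rw [(hc.zpow_right k).eq, mul_inv_cancel_right]
      rw [this]
      exact hx
    rcases hnorm.eq_bot_or_eq_top with h' | h'
    · apply hu1
      have : u ∈ Subgroup.zpowers u := Subgroup.mem_zpowers u
      rw [h', Subgroup.mem_bot] at this
      exact this
    · have h1 : Nat.card (Subgroup.zpowers u) = 2 := by rw [Nat.card_zpowers, hu]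
      rw [h', Subgroup.card_top] at h1
      have h2 : Nat.card ↥H ≤ Nat.card G := Subgroup.card_le_card_group H
      omega
  · rw [h, Subgroup.card_top] at hNodd
    have h1 : orderOf u ∣ Nat.card G := orderOf_dvd_natCard u
    rw [hu] at h1
    exact (Nat.not_even_iff_odd.mpr hNodd) (even_iff_two_dvd.mpr h1)

/-- S3269, conditional on the conclusion of Glauberman's `Z*`-theorem for `G`. -/
theorem not_simple_of_quat_prod [Finite G] (S : Sylow 2 G) (Q R : Subgroup G)
    (hQR : Cfsg.IsInternalDirectProduct Q R (S : Subgroup G))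
    (n : ℕ) (hn : 1 ≤ n) (eQ : ↥Q ≃* QuaternionGroup (2 ^ n))
    (hR : ∀ r ∈ R, orderOf r = 2 → ∀ s ∈ R, r * s = s * r)
    (hZ : ∀ u : G, orderOf u = 2 → u ∈ S →
      (∀ g : G, g * u * g⁻¹ ∈ S → g * u * g⁻¹ = u) →
      ∃ N : Subgroup G, N.Normal ∧ Odd (Nat.card N) ∧ ∀ g : G, (u * g * u⁻¹ * g⁻¹) ∈ N) :
    ¬ IsSimpleGroup G := by
  have hm : 2 ≤ 2 ^ n := by
    calc 2 = 2 ^ 1 := by norm_num
      _ ≤ 2 ^ n := Nat.pow_le_pow_right (by norm_num) hn
  have : NeZero (2 ^ n) := ⟨by positivity⟩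
  obtain ⟨z, hzQ, hz2, hz1, hzc, hF1, hF2, hcard⟩ := quat_data Q hm eQ
  obtain ⟨u, hu, huS, hiso⟩ := exists_isolated S Q R hQR z hzQ hz2 hz1 hzc hF1 hF2 hR
  exact not_simple_of_zstar u hu Q hcard (hZ u hu huS hiso)

end final

end Cfsg.Agent.Lib.Helper20.QuatProd
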