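import Mathlib

/-!
Conjugates of subgroups written as `A.map (MulAut.conj g).toMonoidHom` (helper20's library).
-/

set_option autoImplicit false

namespace Cfsg.Agent.Lib.Helper20

variable {G : Type*} [Group G]

theorem mem_map_conj {A : Subgroup G} {g x : G} :
    x ∈ A.map (MulAut.conj g).toMonoidHom ↔ g⁻¹ * x * g ∈ A := by
  rw [Subgroup.mem_map]
  constructor
  · rintro ⟨a, ha, rfl⟩
    have : g⁻¹ * ((MulAut.conj g).toMonoidHom a) * g = a := by
      simp [MulAut.conj_apply, mul_assoc]
    rw [this]; exact ha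
  · intro h
    refine ⟨g⁻¹ * x * g, h, ?_⟩
    simp [MulAut.conj_apply, mul_assoc]

theorem conj_mem_map_conj {A : Subgroup G} {g a : G} (ha : a ∈ A) :
    g * a * g⁻¹ ∈ A.map (MulAut.conj g).toMonoidHom := by
  rw [mem_map_conj]
  have : g⁻¹ * (g * a * g⁻¹) * g = a := by group
  rw [this]; exact ha

theorem map_conj_mul (A : Subgroup G) (g h : G) :
    A.map (MulAut.conj (g * h)).toMonoidHom =
      (A.map (MulAut.conj h).toMonoidHom).map (MulAut.conj g).toMonoidHom := by
  ext x
  rw [mem_map_conj, mem_map_conj, mem_map_conj]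
  have : (g * h)⁻¹ * x * (g * h) = h⁻¹ * (g⁻¹ * x * g) * h := by group
  rw [this]

theorem map_conj_one (A : Subgroup G) : A.map (MulAut.conj (1 : G)).toMonoidHom = A := by
  ext x
  rw [mem_map_conj]
  simp

theorem map_conj_eq_of_mem {A : Subgroup G} {g : G} (hg : g ∈ A) :
    A.map (MulAut.conj g).toMonoidHom = A := by
  ext x
  rw [mem_map_conj]
  constructor
  · intro h
    have : x = g * (g⁻¹ * x * g) * g⁻¹ := by group
    rw [this]
    exact mul_mem (mul_mem hg h) (inv_mem hg)
  · intro h
    exact mul_mem (mul_mem (inv_mem hg) h) hg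

theorem map_conj_inv_eq {A : Subgroup G} {g : G} (h : A.map (MulAut.conj g).toMonoidHom = A) :
    A.map (MulAut.conj g⁻¹).toMonoidHom = A := by
  conv_lhs => rw [← h]
  rw [← map_conj_mul, inv_mul_cancel, map_conj_one]

theorem map_conj_eq_iff_mem_normalizer {A : Subgroup G} {g : G} :
    A.map (MulAut.conj g).toMonoidHom = A ↔ g ∈ Subgroup.normalizer (A : Set G) := by
  rw [Subgroup.mem_normalizer_iff]
  constructor
  · intro h x
    constructor
    · intro hx
      rw [← h]
      exact conj_mem_map_conj hx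
    · intro hx
      rw [← h, mem_map_conj] at hx
      have : g⁻¹ * (g * x * g⁻¹) * g = x := by group
      rwa [this] at hx
  · intro h
    ext x
    rw [mem_map_conj, h (g⁻¹ * x * g)]
    have : g * (g⁻¹ * x * g) * g⁻¹ = x := by group
    rw [this]

theorem card_map_conj (A : Subgroup G) (g : G) :
    Nat.card (A.map (MulAut.conj g).toMonoidHom) = Nat.card A :=
  Nat.card_congr (A.equivMapOfInjective _ (MulAut.conj g).injective).toEquiv.symm

theorem isPGroup_map_conj {p : ℕ} {A : Subgroup G} (hA : IsPGroup p A) (g : G) :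
    IsPGroup p (A.map (MulAut.conj g).toMonoidHom) :=
  hA.map _

/-- Sylow subgroups are conjugate, in `map (MulAut.conj g)` form. -/
theorem sylow_exists_map_conj {p : ℕ} [Fact p.Prime] [Finite G] (P Q : Sylow p G) :
    ∃ g : G, (Q : Subgroup G) = (P : Subgroup G).map (MulAut.conj g).toMonoidHom := by
  obtain ⟨g, hg⟩ := MulAction.exists_smul_eq G P Q
  refine ⟨g, ?_⟩
  rw [← hg, Sylow.coe_subgroup_smul, Subgroup.pointwise_smul_def]
  rfl

/-- Every `p`-subgroup lies in a conjugate of a given Sylow `p`-subgroup. -/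
theorem pgroup_le_map_conj_sylow {p : ℕ} [Fact p.Prime] [Finite G] (P : Sylow p G) {A : Subgroup G}
    (hA : IsPGroup p A) : ∃ g : G, A ≤ (P : Subgroup G).map (MulAut.conj g).toMonoidHom := by
  obtain ⟨Q, hQ⟩ := hA.exists_le_sylow
  obtain ⟨g, hg⟩ := sylow_exists_map_conj P Q
  exact ⟨g, hg ▸ hQ⟩

end Cfsg.Agent.Lib.Helper20
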