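import Mathlib

/-!
Homomorphisms out of `DihedralGroup m` and `QuaternionGroup m` from generators and relations
(helper20's library).

* `pw a N i = a ^ i.val` for `i : ZMod N`, additive in `i` when `a ^ N = 1`.
* `dihHom a b m` : `DihedralGroup m →* S` with `r i ↦ a ^ i`, `sr i ↦ b * a ^ i`, given
  `a ^ m = 1`, `b * b = 1`, `b * a * b⁻¹ = a⁻¹`.
* `quatHom a w m` : `QuaternionGroup m →* S` with `a i ↦ a ^ i`, `xa i ↦ w * a ^ i`, given
  `a ^ (2 * m) = 1`, `w * w = a ^ m`, `w * a * w⁻¹ = a⁻¹`.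
-/

set_option autoImplicit false
set_option linter.unusedSectionVars false

namespace Cfsg.Agent.Lib.Helper20

section pw

variable {S : Type*} [Group S]

/-- `a ^ i` for `i : ZMod N`. -/
def pw (a : S) (N : ℕ) (i : ZMod N) : S := a ^ i.val

variable {a : S} {N : ℕ} [NeZero N]

theorem pw_zero : pw a N 0 = 1 := by
  unfold pw; simp

theorem pw_natCast (ha : a ^ N = 1) (k : ℕ) : pw a N (k : ZMod N) = a ^ k := by
  unfold pw
  rw [ZMod.val_natCast, ← pow_eq_pow_mod k ha]

theorem pw_add (ha : a ^ N = 1) (i j : ZMod N) : pw a N (i + j) = pw a N i * pw a N j := by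
  unfold pw
  rw [ZMod.val_add, ← pow_eq_pow_mod _ ha, pow_add]

theorem pw_neg (ha : a ^ N = 1) (i : ZMod N) : pw a N (-i) = (pw a N i)⁻¹ := by
  rw [eq_inv_iff_mul_eq_one, ← pw_add ha, neg_add_cancel, pw_zero]

theorem pw_sub (ha : a ^ N = 1) (i j : ZMod N) : pw a N (i - j) = pw a N i * (pw a N j)⁻¹ := by
  rw [sub_eq_add_neg, pw_add ha, pw_neg ha]

theorem pw_mem_zpowers (i : ZMod N) : pw a N i ∈ Subgroup.zpowers a := by
  unfold pw; exact Subgroup.pow_mem _ (Subgroup.mem_zpowers a) _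

theorem pw_injective (ho : orderOf a = N) : Function.Injective (pw a N) := by
  intro i j h
  unfold pw at h
  have hi : i.val < orderOf a := by rw [ho]; exact ZMod.val_lt i
  have hj : j.val < orderOf a := by rw [ho]; exact ZMod.val_lt j
  have := pow_injOn_Iio_orderOf (Set.mem_Iio.mpr hi) (Set.mem_Iio.mpr hj) h
  exact ZMod.val_injective _ this

theorem exists_pw_of_mem_zpowers (ha : a ^ N = 1) {g : S} (hg : g ∈ Subgroup.zpowers a) :
    ∃ i : ZMod N, g = pw a N i := by
  have hfin : IsOfFinOrder a := isOfFinOrder_iff_pow_eq_one.mpr ⟨N, Nat.pos_of_ne_zero (NeZero.ne N), ha⟩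
  rw [← hfin.mem_powers_iff_mem_zpowers] at hg
  obtain ⟨k, rfl⟩ := hg
  exact ⟨(k : ZMod N), (pw_natCast ha k).symm⟩

/-- If `b` inverts `a`, it inverts all powers. -/
theorem conj_pw_of_inv (ha : a ^ N = 1) {b : S} (hb : b * a * b⁻¹ = a⁻¹) (i : ZMod N) :
    b * pw a N i * b⁻¹ = pw a N (-i) := by
  rw [pw_neg ha]
  unfold pw
  rw [← conj_pow, hb, inv_pow]

theorem mul_pw_of_inv (ha : a ^ N = 1) {b : S} (hb : b * a * b⁻¹ = a⁻¹) (i : ZMod N) :
    pw a N i * b = b * pw a N (-i) := by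
  have h := conj_pw_of_inv ha hb (-i)
  rw [neg_neg] at h
  rw [← h]; group

end pw

/-! ### Dihedral groups -/

section dihedral

variable {S : Type*} [Group S]

/-- The homomorphism from the dihedral group determined by `a`, `b`. -/
def dihHom (a b : S) (m : ℕ) [NeZero m] (ha : a ^ m = 1) (hb : b * b = 1)
    (hab : b * a * b⁻¹ = a⁻¹) : DihedralGroup m →* S where
  toFun g := match g with
    | DihedralGroup.r i => pw a m i
    | DihedralGroup.sr i => b * pw a m i
  map_one' := by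
    show pw a m 0 = 1
    exact pw_zero
  map_mul' := by
    rintro (i | i) (j | j)
    · show pw a m (i + j) = pw a m i * pw a m j
      exact pw_add ha i j
    · show b * pw a m (j - i) = pw a m i * (b * pw a m j)
      rw [← mul_assoc, mul_pw_of_inv ha hab, mul_assoc, ← pw_add ha]
      congr 2; ring
    · show b * pw a m (i + j) = b * pw a m i * pw a m j
      rw [pw_add ha, mul_assoc]
    · show pw a m (j - i) = b * pw a m i * (b * pw a m j)
      have hbi : b⁻¹ = b := inv_eq_of_mul_eq_one_right hb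
      have h1 : b * pw a m i * b = pw a m (-i) := by
        have := conj_pw_of_inv ha hab i
        rwa [hbi] at this
      rw [← mul_assoc, h1, ← pw_add ha]
      congr 1; ring

theorem dihHom_r (a b : S) (m : ℕ) [NeZero m] (ha : a ^ m = 1) (hb : b * b = 1)
    (hab : b * a * b⁻¹ = a⁻¹) (i : ZMod m) :
    dihHom a b m ha hb hab (DihedralGroup.r i) = pw a m i := rfl

theorem dihHom_sr (a b : S) (m : ℕ) [NeZero m] (ha : a ^ m = 1) (hb : b * b = 1)
    (hab : b * a * b⁻¹ = a⁻¹) (i : ZMod m) :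
    dihHom a b m ha hb hab (DihedralGroup.sr i) = b * pw a m i := rfl

theorem dihHom_injective (a b : S) (m : ℕ) [NeZero m] (ha : a ^ m = 1) (hb : b * b = 1)
    (hab : b * a * b⁻¹ = a⁻¹) (ho : orderOf a = m) (hba : b ∉ Subgroup.zpowers a) :
    Function.Injective (dihHom a b m ha hb hab) := by
  rintro (i | i) (j | j) h
  · rw [dihHom_r, dihHom_r] at h
    rw [pw_injective ho h]
  · exfalso
    rw [dihHom_r, dihHom_sr] at h
    apply hba
    have : b = pw a m i * (pw a m j)⁻¹ := by rw [h]; group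
    rw [this]
    exact mul_mem (pw_mem_zpowers i) (inv_mem (pw_mem_zpowers j))
  · exfalso
    rw [dihHom_r, dihHom_sr] at h
    apply hba
    have : b = pw a m j * (pw a m i)⁻¹ := by rw [← h]; group
    rw [this]
    exact mul_mem (pw_mem_zpowers j) (inv_mem (pw_mem_zpowers i))
  · rw [dihHom_sr, dihHom_sr] at h
    rw [pw_injective ho (mul_left_cancel h)]

theorem mem_dihHom_range (a b : S) (m : ℕ) [NeZero m] (ha : a ^ m = 1) (hb : b * b = 1)
    (hab : b * a * b⁻¹ = a⁻¹) (g : S) :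
    g ∈ (dihHom a b m ha hb hab).range ↔ (∃ i, g = pw a m i) ∨ (∃ i, g = b * pw a m i) := by
  constructor
  · rintro ⟨(i | i), rfl⟩
    · left; exact ⟨i, rfl⟩
    · right; exact ⟨i, rfl⟩
  · rintro (⟨i, rfl⟩ | ⟨i, rfl⟩)
    · exact ⟨DihedralGroup.r i, rfl⟩
    · exact ⟨DihedralGroup.sr i, rfl⟩

/-- A subgroup which is the range of an injective `dihHom` is dihedral. -/
theorem nonempty_mulEquiv_dihedral (a b : S) (m : ℕ) [NeZero m] (ha : a ^ m = 1) (hb : b * b = 1)
    (hab : b * a * b⁻¹ = a⁻¹) (ho : orderOf a = m) (hba : b ∉ Subgroup.zpowers a)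
    (H : Subgroup S) (hH : ∀ g, g ∈ H ↔ (∃ i, g = pw a m i) ∨ (∃ i, g = b * pw a m i)) :
    Nonempty (H ≃* DihedralGroup m) := by
  have hrange : (dihHom a b m ha hb hab).range = H := by
    ext g; rw [mem_dihHom_range, hH]
  exact ⟨((MonoidHom.ofInjective (dihHom_injective a b m ha hb hab ho hba)).trans
    (MulEquiv.subgroupCongr hrange)).symm⟩

end dihedral

/-! ### Generalized quaternion groups -/

section quaternion

variable {S : Type*} [Group S]

/-- The homomorphism from the generalized quaternion group determined by `a`, `w`. -/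
def quatHom (a w : S) (m : ℕ) [NeZero m] (ha : a ^ (2 * m) = 1) (hw : w * w = a ^ m)
    (hwa : w * a * w⁻¹ = a⁻¹) : QuaternionGroup m →* S where
  toFun g := match g with
    | QuaternionGroup.a i => pw a (2 * m) i
    | QuaternionGroup.xa i => w * pw a (2 * m) i
  map_one' := by
    show pw a (2 * m) 0 = 1
    exact pw_zero
  map_mul' := by
    rintro (i | i) (j | j)
    · show pw a (2 * m) (i + j) = pw a (2 * m) i * pw a (2 * m) j
      exact pw_add ha i j
    · show w * pw a (2 * m) (j - i) = pw a (2 * m) i * (w * pw a (2 * m) j)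
      rw [← mul_assoc, mul_pw_of_inv ha hwa, mul_assoc, ← pw_add ha]
      congr 2; ring
    · show w * pw a (2 * m) (i + j) = w * pw a (2 * m) i * pw a (2 * m) j
      rw [pw_add ha, mul_assoc]
    · show pw a (2 * m) ((m : ZMod (2 * m)) + j - i) = w * pw a (2 * m) i * (w * pw a (2 * m) j)
      have h1 : w * pw a (2 * m) i = pw a (2 * m) (-i) * w := by
        have := mul_pw_of_inv ha hwa (-i)
        rw [neg_neg] at this
        exact this.symm
      have h2 : w * w = pw a (2 * m) (m : ZMod (2 * m)) := by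
        rw [pw_natCast ha, hw]
      rw [h1, mul_assoc, ← mul_assoc w w, h2, ← pw_add ha, ← pw_add ha]
      congr 1; ring

theorem quatHom_a (a w : S) (m : ℕ) [NeZero m] (ha : a ^ (2 * m) = 1) (hw : w * w = a ^ m)
    (hwa : w * a * w⁻¹ = a⁻¹) (i : ZMod (2 * m)) :
    quatHom a w m ha hw hwa (QuaternionGroup.a i) = pw a (2 * m) i := rfl

theorem quatHom_xa (a w : S) (m : ℕ) [NeZero m] (ha : a ^ (2 * m) = 1) (hw : w * w = a ^ m)
    (hwa : w * a * w⁻¹ = a⁻¹) (i : ZMod (2 * m)) :
    quatHom a w m ha hw hwa (QuaternionGroup.xa i) = w * pw a (2 * m) i := rfl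

theorem quatHom_injective (a w : S) (m : ℕ) [NeZero m] (ha : a ^ (2 * m) = 1) (hw : w * w = a ^ m)
    (hwa : w * a * w⁻¹ = a⁻¹) (ho : orderOf a = 2 * m) (hwz : w ∉ Subgroup.zpowers a) :
    Function.Injective (quatHom a w m ha hw hwa) := by
  rintro (i | i) (j | j) h
  · rw [quatHom_a, quatHom_a] at h
    rw [pw_injective ho h]
  · exfalso
    rw [quatHom_a, quatHom_xa] at h
    apply hwz
    have : w = pw a (2 * m) i * (pw a (2 * m) j)⁻¹ := by rw [h]; group
    rw [this]
    exact mul_mem (pw_mem_zpowers i) (inv_mem (pw_mem_zpowers j))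
  · exfalso
    rw [quatHom_a, quatHom_xa] at h
    apply hwz
    have : w = pw a (2 * m) j * (pw a (2 * m) i)⁻¹ := by rw [← h]; group
    rw [this]
    exact mul_mem (pw_mem_zpowers j) (inv_mem (pw_mem_zpowers i))
  · rw [quatHom_xa, quatHom_xa] at h
    rw [pw_injective ho (mul_left_cancel h)]

theorem mem_quatHom_range (a w : S) (m : ℕ) [NeZero m] (ha : a ^ (2 * m) = 1) (hw : w * w = a ^ m)
    (hwa : w * a * w⁻¹ = a⁻¹) (g : S) :
    g ∈ (quatHom a w m ha hw hwa).range ↔
      (∃ i, g = pw a (2 * m) i) ∨ (∃ i, g = w * pw a (2 * m) i) := by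
  constructor
  · rintro ⟨(i | i), rfl⟩
    · left; exact ⟨i, rfl⟩
    · right; exact ⟨i, rfl⟩
  · rintro (⟨i, rfl⟩ | ⟨i, rfl⟩)
    · exact ⟨QuaternionGroup.a i, rfl⟩
    · exact ⟨QuaternionGroup.xa i, rfl⟩

theorem nonempty_mulEquiv_quaternion (a w : S) (m : ℕ) [NeZero m] (ha : a ^ (2 * m) = 1)
    (hw : w * w = a ^ m) (hwa : w * a * w⁻¹ = a⁻¹) (ho : orderOf a = 2 * m)
    (hwz : w ∉ Subgroup.zpowers a)
    (H : Subgroup S)
    (hH : ∀ g, g ∈ H ↔ (∃ i, g = pw a (2 * m) i) ∨ (∃ i, g = w * pw a (2 * m) i)) :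
    Nonempty (H ≃* QuaternionGroup m) := by
  have hrange : (quatHom a w m ha hw hwa).range = H := by
    ext g; rw [mem_quatHom_range, hH]
  exact ⟨((MonoidHom.ofInjective (quatHom_injective a w m ha hw hwa ho hwz)).trans
    (MulEquiv.subgroupCongr hrange)).symm⟩

end quaternion

end Cfsg.Agent.Lib.Helper20
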