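/-
helper20: the diagonal involution `h_a(-1) h_b(-1)` lies in the small Ree group `twistedG2 K θ` (char 3, θ odd):
explicit word over the prime field, `U(0,0,1) V(0,0,1) U(1,1,1) V(-1,1,-1)`, checked over `ZMod 3` by `decide` and
transported along `ZMod 3 →+* K`.
-/
import Cfsg.Agent.Lib.Helper69.ChevMap
import Cfsg.Prelude.Def_LieTwisted
import Cfsg.Prelude.Def_ChevStructure

set_option autoImplicit false

namespace Cfsg.Agent.Lib.Helper20.ReeH0

open Cfsg.Lie Cfsg.Agent.Lib.Helper69.ChevMap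

/-- The inverse word. -/
def invW (w : List (ℕ × ZMod 3)) : List (ℕ × ZMod 3) := w.reverse.map fun a => (a.1, -a.2)

/-- The four words of the certificate, as `(isV, t, u, v)`. -/
def certWords : List (List (ℕ × ZMod 3)) :=
  [reeWordU 1 0 0 1, reeWordV 1 0 0 1, reeWordU 1 1 1 1, reeWordV 1 (-1) 1 (-1)]

set_option maxRecDepth 1000000 in
theorem cert :
    chevG2.wordMat (ZMod 3) (reeWordU 1 0 0 1) * chevG2.wordMat (ZMod 3) (reeWordV 1 0 0 1)
        * chevG2.wordMat (ZMod 3) (reeWordU 1 1 1 1) * chevG2.wordMat (ZMod 3) (reeWordV 1 (-1) 1 (-1))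
      = chevG2.hMat (ZMod 3) 7 (-1) * chevG2.hMat (ZMod 3) 6 (-1) := by
  decide +kernel

set_option maxRecDepth 1000000 in
theorem inv_cert : ∀ w ∈ certWords,
    chevG2.wordMat (ZMod 3) w * chevG2.wordMat (ZMod 3) (invW w) = 1 ∧
      chevG2.wordMat (ZMod 3) (invW w) * chevG2.wordMat (ZMod 3) w = 1 := by
  decide +kernel

section General

variable {K : Type*} [Field K] [CharP K 3]

/-- The prime field embedding. -/
noncomputable def emb (K : Type*) [Field K] [CharP K 3] : ZMod 3 →+* K := ZMod.castHom (dvd_refl 3) K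

theorem z3_cases (s : ZMod 3) : s = 0 ∨ s = 1 ∨ s = -1 := by
  revert s; decide

theorem emb_pow_fix {θ : ℕ} (hθ : Odd θ) (s : ZMod 3) : (emb K s) ^ θ = emb K s := by
  rw [← map_pow]
  congr 1
  rcases z3_cases s with rfl | rfl | rfl
  · exact zero_pow (Nat.pos_iff_ne_zero.1 hθ.pos)
  · exact one_pow θ
  · exact hθ.neg_one_pow

theorem map_reeWordU {θ : ℕ} (hθ : Odd θ) (t u v : ZMod 3) :
    (reeWordU 1 t u v).map (fun p => (p.1, emb K p.2)) = reeWordU θ (emb K t) (emb K u) (emb K v) := by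
  have ht := emb_pow_fix (K := K) hθ t
  have hu := emb_pow_fix (K := K) hθ u
  have hv := emb_pow_fix (K := K) hθ v
  have h1 : emb K t ^ (θ + 1) = emb K t ^ 2 := by rw [pow_succ, ht]; ring
  have h2 : emb K t ^ (2 * θ + 1) = emb K t ^ 3 := by
    rw [pow_succ, pow_mul', ht]; ring
  unfold reeWordU
  simp only [List.map_cons, List.map_nil, map_add, map_pow, pow_one, ht, hu, hv, h1, h2]

theorem map_reeWordV {θ : ℕ} (hθ : Odd θ) (t u v : ZMod 3) :
    (reeWordV 1 t u v).map (fun p => (p.1, emb K p.2)) = reeWordV θ (emb K t) (emb K u) (emb K v) := by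
  unfold reeWordV ChevalleyDatum.negWord
  rw [← map_reeWordU hθ t u v, List.map_map, List.map_map]
  apply List.map_congr_left
  intro p _
  simp [map_neg]

/-- The image in `GL` over `K` of an invertible word over the prime field. -/
noncomputable def wordUnit (w : List (ℕ × ZMod 3))
    (h : chevG2.wordMat (ZMod 3) w * chevG2.wordMat (ZMod 3) (invW w) = 1 ∧
      chevG2.wordMat (ZMod 3) (invW w) * chevG2.wordMat (ZMod 3) w = 1) : GL chevG2.Idx K :=
  ⟨(chevG2.wordMat (ZMod 3) w).map (emb K), (chevG2.wordMat (ZMod 3) (invW w)).map (emb K),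
    by rw [← Matrix.map_mul, h.1, Matrix.map_one _ (map_zero _) (map_one _)],
    by rw [← Matrix.map_mul, h.2, Matrix.map_one _ (map_zero _) (map_one _)]⟩

theorem coe_wordUnit (w : List (ℕ × ZMod 3)) (h) :
    ((wordUnit (K := K) w h : GL chevG2.Idx K) : Matrix chevG2.Idx chevG2.Idx K)
      = chevG2.wordMat K (w.map fun p => (p.1, emb K p.2)) := by
  unfold wordUnit
  simp only
  rw [wordMat_map]

theorem wordUnit_mem_U {θ : ℕ} (hθ : Odd θ) (t u v : ZMod 3) (h) :
    wordUnit (K := K) (reeWordU 1 t u v) h ∈ twistedG2 K θ := by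
  apply Subgroup.subset_closure
  refine ⟨reeWordU θ (emb K t) (emb K u) (emb K v), ⟨emb K t, emb K u, emb K v, Or.inl rfl⟩, ?_⟩
  rw [coe_wordUnit, map_reeWordU hθ]

theorem wordUnit_mem_V {θ : ℕ} (hθ : Odd θ) (t u v : ZMod 3) (h) :
    wordUnit (K := K) (reeWordV 1 t u v) h ∈ twistedG2 K θ := by
  apply Subgroup.subset_closure
  refine ⟨reeWordV θ (emb K t) (emb K u) (emb K v), ⟨emb K t, emb K u, emb K v, Or.inr rfl⟩, ?_⟩
  rw [coe_wordUnit, map_reeWordV hθ]

/-- **[H0-CERT]** The diagonal involution `h_a(-1) h_b(-1)` lies in the small Ree group. -/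
theorem h0_mem (θ : ℕ) (hθ : Odd θ) :
    ∃ g : GL chevG2.Idx K, g ∈ twistedG2 K θ ∧
      (g : Matrix chevG2.Idx chevG2.Idx K) = chevG2.hMat K 7 (-1) * chevG2.hMat K 6 (-1) := by
  have i1 := inv_cert (reeWordU 1 0 0 1) (by simp [certWords])
  have i2 := inv_cert (reeWordV 1 0 0 1) (by simp [certWords])
  have i3 := inv_cert (reeWordU 1 1 1 1) (by simp [certWords])
  have i4 := inv_cert (reeWordV 1 (-1) 1 (-1)) (by simp [certWords])
  refine ⟨wordUnit (K := K) _ i1 * wordUnit (K := K) _ i2 * wordUnit (K := K) _ i3 * wordUnit (K := K) _ i4,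
    ?_, ?_⟩
  · exact Subgroup.mul_mem _ (Subgroup.mul_mem _ (Subgroup.mul_mem _ (wordUnit_mem_U hθ _ _ _ i1)
      (wordUnit_mem_V hθ _ _ _ i2)) (wordUnit_mem_U hθ _ _ _ i3)) (wordUnit_mem_V hθ _ _ _ i4)
  · have hc := congrArg (fun M => M.map (emb K)) cert
    simp only [Matrix.map_mul] at hc
    rw [hMat_map, hMat_map, map_neg, map_one] at hc
    rw [← hc]
    simp only [Units.val_mul]
    rfl

end General

end Cfsg.Agent.Lib.Helper20.ReeH0
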