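/-
helper20: abstract rank-one lemma for S1153 (three-point stabilisers in the small Ree group).
If `Γ = B ∪ U H n U` with `B = UH`, `n` normalising `H`, `H` normalising `U` and `n⁻¹ u n ∈ B → u = 1` for `u ∈ U`,
then in the action of `Γ` on `Γ ⧸ B` the joint stabiliser of three distinct points is conjugate to
`H ⊓ C(u)` for some `1 ≠ u ∈ U`.
-/
import Mathlib

set_option autoImplicit false

namespace Cfsg.Agent.Lib.Helper20.RankOneStab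

open MulAction

variable {Γ : Type*} [Group Γ]

/-- The rank-one Bruhat hypothesis, with Borel subgroup. -/
structure Data (U H B : Subgroup Γ) (n : Γ) : Prop where
  mem_B : ∀ g, g ∈ B ↔ ∃ u ∈ U, ∃ h ∈ H, g = u * h
  bruhat : ∀ g : Γ, g ∈ B ∨ ∃ u ∈ U, ∃ h ∈ H, ∃ u' ∈ U, g = u * h * n * u'
  normH : ∀ h ∈ H, n⁻¹ * h * n ∈ H
  normU : ∀ h ∈ H, ∀ u ∈ U, h * u * h⁻¹ ∈ U
  opp : ∀ u ∈ U, n⁻¹ * u * n ∈ B → u = 1

variable {U H B : Subgroup Γ} {n : Γ}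

theorem U_le_B (D : Data U H B n) : U ≤ B := fun u hu => (D.mem_B u).2 ⟨u, hu, 1, H.one_mem, by simp⟩

theorem H_le_B (D : Data U H B n) : H ≤ B := fun h hh => (D.mem_B h).2 ⟨1, U.one_mem, h, hh, by simp⟩

theorem mem_stab_coset (g a : Γ) : g ∈ stabilizer Γ (a : Γ ⧸ B) ↔ a⁻¹ * g * a ∈ B := by
  rw [mem_stabilizer_iff]
  have : g • (a : Γ ⧸ B) = ((g * a : Γ) : Γ ⧸ B) := rfl
  rw [this, QuotientGroup.eq]
  constructor
  · intro h
    have := B.inv_mem h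
    have e : ((g * a)⁻¹ * a)⁻¹ = a⁻¹ * g * a := by group
    rwa [e] at this
  · intro h
    have := B.inv_mem h
    have e : (a⁻¹ * g * a)⁻¹ = (g * a)⁻¹ * a := by group
    rwa [e] at this

/-- Every point other than the base point is `u • nB` with `u ∈ U`. -/
theorem exists_smul_n (D : Data U H B n) (y : Γ ⧸ B) (hy : y ≠ ((1 : Γ) : Γ ⧸ B)) :
    ∃ u ∈ U, y = u • ((n : Γ) : Γ ⧸ B) := by
  induction y using QuotientGroup.induction_on with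
  | H b =>
    rcases D.bruhat b with hb | ⟨u, hu, h, hh, u', hu', rfl⟩
    · exfalso
      apply hy
      rw [QuotientGroup.eq]
      simpa using hb
    · refine ⟨u, hu, ?_⟩
      have : u • ((n : Γ) : Γ ⧸ B) = ((u * n : Γ) : Γ ⧸ B) := rfl
      rw [this, QuotientGroup.eq]
      have e : (u * h * n * u')⁻¹ * (u * n) = (n⁻¹ * h * n * u')⁻¹ := by group
      rw [e]
      exact B.inv_mem (B.mul_mem (H_le_B D (D.normH h hh)) (U_le_B D hu'))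

/-- The joint stabiliser of `B`, `nB`, `u₂ nB`. -/
theorem stab_three_eq (D : Data U H B n) (u₂ : Γ) (hu₂ : u₂ ∈ U) :
    stabilizer Γ (((1 : Γ)) : Γ ⧸ B) ⊓ stabilizer Γ ((n : Γ) : Γ ⧸ B)
        ⊓ stabilizer Γ (u₂ • ((n : Γ) : Γ ⧸ B))
      = H ⊓ Subgroup.centralizer {u₂} := by
  have hu2n : u₂ • ((n : Γ) : Γ ⧸ B) = ((u₂ * n : Γ) : Γ ⧸ B) := rfl
  ext g
  simp only [Subgroup.mem_inf, hu2n, mem_stab_coset, Subgroup.mem_centralizer_iff, Set.mem_singleton_iff,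
    forall_eq, inv_one, one_mul, mul_one]
  constructor
  · rintro ⟨⟨hgB, hgn⟩, hgu⟩
    obtain ⟨u, hu, h, hh, rfl⟩ := (D.mem_B g).1 hgB
    -- n⁻¹ u n ∈ B
    have h1 : n⁻¹ * u * n ∈ B := by
      have e : n⁻¹ * u * n = (n⁻¹ * (u * h) * n) * (n⁻¹ * h * n)⁻¹ := by group
      rw [e]
      exact B.mul_mem hgn (B.inv_mem (H_le_B D (D.normH h hh)))
    have hu1 : u = 1 := D.opp u hu h1
    subst hu1
    rw [one_mul] at hgu ⊢
    refine ⟨hh, ?_⟩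
    -- n⁻¹ (u₂⁻¹ h u₂ h⁻¹) n ∈ B
    have hw : u₂⁻¹ * (h * u₂ * h⁻¹) ∈ U := U.mul_mem (U.inv_mem hu₂) (D.normU h hh u₂ hu₂)
    have h2 : n⁻¹ * (u₂⁻¹ * (h * u₂ * h⁻¹)) * n ∈ B := by
      have e : n⁻¹ * (u₂⁻¹ * (h * u₂ * h⁻¹)) * n = ((u₂ * n)⁻¹ * h * (u₂ * n)) * (n⁻¹ * h * n)⁻¹ := by group
      rw [e]
      exact B.mul_mem hgu (B.inv_mem (H_le_B D (D.normH h hh)))
    have h3 := D.opp _ hw h2
    -- u₂⁻¹ h u₂ h⁻¹ = 1
    have : u₂ * h = h * u₂ := by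
      have e : h * u₂ = u₂ * (u₂⁻¹ * (h * u₂ * h⁻¹)) * h := by group
      rw [e, h3, mul_one]
    exact this
  · rintro ⟨hh, hcomm⟩
    refine ⟨⟨H_le_B D hh, H_le_B D (D.normH g hh)⟩, ?_⟩
    have e : (u₂ * n)⁻¹ * g * (u₂ * n) = n⁻¹ * g * n := by
      have : g * u₂ = u₂ * g := hcomm.symm
      calc (u₂ * n)⁻¹ * g * (u₂ * n) = n⁻¹ * u₂⁻¹ * (g * u₂) * n := by group
        _ = n⁻¹ * u₂⁻¹ * (u₂ * g) * n := by rw [this]
        _ = n⁻¹ * g * n := by group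
    rw [e]
    exact H_le_B D (D.normH g hh)

theorem n_coset_ne (D : Data U H B n) (u : Γ) (hu : u ∈ U) (hu1 : u ≠ 1) :
    u • ((n : Γ) : Γ ⧸ B) ≠ ((n : Γ) : Γ ⧸ B) := by
  intro h
  have : u ∈ stabilizer Γ ((n : Γ) : Γ ⧸ B) := mem_stabilizer_iff.2 h
  rw [mem_stab_coset] at this
  exact hu1 (D.opp u hu this)

theorem smul_n_ne_one (D : Data U H B n) (hn : n ∉ B) (u : Γ) (hu : u ∈ U) :
    u • ((n : Γ) : Γ ⧸ B) ≠ ((1 : Γ) : Γ ⧸ B) := by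
  intro h
  have : u • ((n : Γ) : Γ ⧸ B) = ((u * n : Γ) : Γ ⧸ B) := rfl
  rw [this, QuotientGroup.eq] at h
  apply hn
  have h' : u * n ∈ B := by
    have := B.inv_mem h
    simpa using this
  have e : n = u⁻¹ * (u * n) := by group
  rw [e]
  exact B.mul_mem (B.inv_mem (U_le_B D hu)) h'

/-- Conjugating the joint stabiliser of three points. -/
theorem stab_three_smul (g : Γ) (x y z : Γ ⧸ B) :
    stabilizer Γ (g • x) ⊓ stabilizer Γ (g • y) ⊓ stabilizer Γ (g • z)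
      = (stabilizer Γ x ⊓ stabilizer Γ y ⊓ stabilizer Γ z).map (MulAut.conj g).toMonoidHom := by
  rw [stabilizer_smul_eq_stabilizer_map_conj, stabilizer_smul_eq_stabilizer_map_conj,
    stabilizer_smul_eq_stabilizer_map_conj]
  rw [Subgroup.map_inf _ _ _ (MulAut.conj g).injective, Subgroup.map_inf _ _ _ (MulAut.conj g).injective]

theorem card_map_conj (g : Γ) (S : Subgroup Γ) :
    Nat.card ↥(S.map (MulAut.conj g).toMonoidHom) = Nat.card ↥S :=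
  (Nat.card_congr (S.equivMapOfInjective _ (MulAut.conj g).injective).toEquiv).symm

/-- The joint stabiliser of three distinct points has the cardinality of `H ⊓ C(u)` for some `1 ≠ u ∈ U`. -/
theorem card_stab_three (D : Data U H B n) (x y z : Γ ⧸ B) (hxy : x ≠ y) (hxz : x ≠ z) (hyz : y ≠ z) :
    ∃ u ∈ U, u ≠ 1 ∧ Nat.card ↥(stabilizer Γ x ⊓ stabilizer Γ y ⊓ stabilizer Γ z)
      = Nat.card ↥(H ⊓ Subgroup.centralizer {u}) := by
  -- move x to the base point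
  obtain ⟨a, rfl⟩ := QuotientGroup.mk_surjective x
  have hx0 : a⁻¹ • ((a : Γ) : Γ ⧸ B) = ((1 : Γ) : Γ ⧸ B) := by
    have : a⁻¹ • ((a : Γ) : Γ ⧸ B) = ((a⁻¹ * a : Γ) : Γ ⧸ B) := rfl
    rw [this, inv_mul_cancel]
  have hy0 : a⁻¹ • y ≠ ((1 : Γ) : Γ ⧸ B) := by
    rw [← hx0]; exact fun h => hxy (smul_left_cancel _ h).symm
  obtain ⟨u, hu, hyu⟩ := exists_smul_n D _ hy0
  -- apply u⁻¹
  have hu0 : u⁻¹ • ((1 : Γ) : Γ ⧸ B) = ((1 : Γ) : Γ ⧸ B) := by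
    have : u⁻¹ • ((1 : Γ) : Γ ⧸ B) = ((u⁻¹ * 1 : Γ) : Γ ⧸ B) := rfl
    rw [this, QuotientGroup.eq]
    simpa using U_le_B D hu
  set g : Γ := u⁻¹ * a⁻¹ with hg
  have gx : g • ((a : Γ) : Γ ⧸ B) = ((1 : Γ) : Γ ⧸ B) := by rw [hg, mul_smul, hx0, hu0]
  have gy : g • y = ((n : Γ) : Γ ⧸ B) := by rw [hg, mul_smul, hyu, smul_smul, inv_mul_cancel, one_smul]
  have gz1 : g • z ≠ ((1 : Γ) : Γ ⧸ B) := by
    rw [← gx]; exact fun h => hxz (smul_left_cancel _ h).symm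
  have gzn : g • z ≠ ((n : Γ) : Γ ⧸ B) := by
    rw [← gy]; exact fun h => hyz (smul_left_cancel _ h).symm
  obtain ⟨u₂, hu₂, hz⟩ := exists_smul_n D _ gz1
  have hu₂1 : u₂ ≠ 1 := by
    rintro rfl
    apply gzn
    rw [hz, one_smul]
  refine ⟨u₂, hu₂, hu₂1, ?_⟩
  rw [← card_map_conj g, ← stab_three_smul, gx, gy, hz, stab_three_eq D u₂ hu₂]

end Cfsg.Agent.Lib.Helper20.RankOneStab
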