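/-
helper20: abstract rank-one lemma for S1155 (distinct Sylow 3-subgroups of the small Ree group meet trivially).
If `G = UH ∪ UHnU`, `H` normalises `U`, `U ∩ n⁻¹Un = 1`, `U` is a nontrivial `p`-group and the elements of `H`
have order prime to `p`, then `U` is a Sylow `p`-subgroup and distinct Sylow `p`-subgroups of `G` meet trivially.
-/
import Mathlib

set_option autoImplicit false

namespace Cfsg.Agent.Lib.Helper20.RankOneTI

variable {G : Type*} [Group G]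

/-- The rank-one Bruhat hypothesis. -/
structure Data (U H : Subgroup G) (n : G) : Prop where
  bruhat : ∀ g : G, (∃ u ∈ U, ∃ h ∈ H, g = u * h) ∨ (∃ u ∈ U, ∃ h ∈ H, ∃ u' ∈ U, g = u * h * n * u')
  norm : ∀ h ∈ H, ∀ u ∈ U, h * u * h⁻¹ ∈ U
  opp : ∀ u ∈ U, n * u * n⁻¹ ∈ U → u = 1

variable {U H : Subgroup G} {n : G}

theorem norm_inv (D : Data U H n) {h : G} (hh : h ∈ H) {u : G} (hu : u ∈ U) : h⁻¹ * u * h ∈ U := by
  have := D.norm h⁻¹ (H.inv_mem hh) u hu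
  simpa using this

/-- If `g` conjugates a nonidentity element of `U` into `U` then `g ∈ UH`. -/
theorem mem_borel_of_conj (D : Data U H n) {g x : G} (hx : x ∈ U) (hx1 : x ≠ 1) (hg : g * x * g⁻¹ ∈ U) :
    ∃ u ∈ U, ∃ h ∈ H, g = u * h := by
  rcases D.bruhat g with h1 | ⟨u, hu, h, hh, u', hu', rfl⟩
  · exact h1
  · exfalso
    apply hx1
    -- n (u' x u'⁻¹) n⁻¹ ∈ U
    have hy : u' * x * u'⁻¹ ∈ U := U.mul_mem (U.mul_mem hu' hx) (U.inv_mem hu')
    have h2 : n * (u' * x * u'⁻¹) * n⁻¹ ∈ U := by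
      have e : n * (u' * x * u'⁻¹) * n⁻¹
          = h⁻¹ * (u⁻¹ * ((u * h * n * u') * x * (u * h * n * u')⁻¹) * u) * h := by
        group
      rw [e]
      apply norm_inv D hh
      exact U.mul_mem (U.mul_mem (U.inv_mem hu) hg) hu
    have h3 := D.opp _ hy h2
    have : x = u'⁻¹ * (u' * x * u'⁻¹) * u' := by group
    rw [this, h3]; group

theorem borel_normalizes (D : Data U H n) {g : G} (hg : ∃ u ∈ U, ∃ h ∈ H, g = u * h) {x : G} (hx : x ∈ U) :
    g * x * g⁻¹ ∈ U := by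
  obtain ⟨u, hu, h, hh, rfl⟩ := hg
  have e : u * h * x * (u * h)⁻¹ = u * (h * x * h⁻¹) * u⁻¹ := by group
  rw [e]
  exact U.mul_mem (U.mul_mem hu (D.norm h hh x hx)) (U.inv_mem hu)

variable [Finite G] {p : ℕ} [Fact p.Prime]

/-- `U` is a Sylow `p`-subgroup. -/
theorem exists_sylow_eq (D : Data U H n) (hU : IsPGroup p U) (hU1 : U ≠ ⊥)
    (hH : ∀ h ∈ H, (orderOf h).Coprime p) : ∃ P : Sylow p G, (P : Subgroup G) = U := by
  classical
  obtain ⟨P, hP⟩ := hU.exists_le_sylow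
  refine ⟨P, ?_⟩
  by_contra hne
  have hlt : U < (P : Subgroup G) := lt_of_le_of_ne hP (Ne.symm hne)
  -- normalizer condition inside the p-group P
  have hnil : Group.IsNilpotent (P : Subgroup G) := P.isPGroup'.isNilpotent
  have hnc := Group.normalizerCondition_of_isNilpotent (G := (P : Subgroup G))
  have hlt' : U.subgroupOf (P : Subgroup G) < ⊤ := by
    rw [lt_top_iff_ne_top]
    intro h
    rw [Subgroup.subgroupOf_eq_top] at h
    exact absurd (le_antisymm hP h) (Ne.symm hne)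
  have h2 := hnc _ hlt'
  obtain ⟨g, hgN, hgU⟩ := SetLike.exists_of_lt h2
  -- g ∈ P normalizes U, g ∉ U
  have hgN' : ∀ x ∈ U, (g : G) * x * (g : G)⁻¹ ∈ U := by
    intro x hx
    have hxP : x ∈ (P : Subgroup G) := hP hx
    have := (Subgroup.mem_normalizer_iff.1 hgN ⟨x, hxP⟩).1 (by simpa [Subgroup.mem_subgroupOf] using hx)
    simpa [Subgroup.mem_subgroupOf] using this
  obtain ⟨x, hxU, hx1⟩ : ∃ x ∈ U, x ≠ 1 := by
    by_contra hcon
    push Not at hcon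
    exact hU1 ((Subgroup.eq_bot_iff_forall _).2 hcon)
  obtain ⟨u, hu, h, hh, hguh⟩ := mem_borel_of_conj D hxU hx1 (hgN' x hxU)
  -- h = u⁻¹ g ∈ P is a p-element of order prime to p
  have hhP : h ∈ (P : Subgroup G) := by
    have : h = u⁻¹ * (g : G) := by rw [hguh]; group
    rw [this]
    exact (P : Subgroup G).mul_mem ((P : Subgroup G).inv_mem (hP hu)) g.2
  obtain ⟨k, hk⟩ := P.isPGroup' ⟨h, hhP⟩
  have hk' : h ^ p ^ k = 1 := by
    have := congrArg (fun y : (P : Subgroup G) => (y : G)) hk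
    simpa using this
  have hdvd : orderOf h ∣ p ^ k := orderOf_dvd_of_pow_eq_one hk'
  have hcop : (orderOf h).Coprime (p ^ k) := Nat.Coprime.pow_right k (hH h hh)
  have h1 : orderOf h = 1 := Nat.Coprime.eq_one_of_dvd hcop hdvd
  have hh1 : h = 1 := orderOf_eq_one_iff.1 h1
  apply hgU
  rw [Subgroup.mem_subgroupOf, hguh, hh1, mul_one]
  exact hu

/-- Distinct Sylow `p`-subgroups meet trivially. -/
theorem sylow_inf_eq_bot (D : Data U H n) (hU : IsPGroup p U) (hU1 : U ≠ ⊥)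
    (hH : ∀ h ∈ H, (orderOf h).Coprime p) (P Q : Sylow p G) (hPQ : P ≠ Q) :
    (P : Subgroup G) ⊓ (Q : Subgroup G) = ⊥ := by
  classical
  obtain ⟨S, hS⟩ := exists_sylow_eq D hU hU1 hH
  obtain ⟨a, ha⟩ := MulAction.exists_smul_eq G S P
  obtain ⟨b, hb⟩ := MulAction.exists_smul_eq G S Q
  rw [Subgroup.eq_bot_iff_forall]
  intro x hx
  by_contra hx1
  apply hPQ
  have hxP : x ∈ (P : Subgroup G) := hx.1
  have hxQ : x ∈ (Q : Subgroup G) := hx.2
  rw [← ha, Sylow.coe_subgroup_smul, Subgroup.mem_pointwise_smul_iff_inv_smul_mem] at hxP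
  rw [← hb, Sylow.coe_subgroup_smul, Subgroup.mem_pointwise_smul_iff_inv_smul_mem] at hxQ
  simp only [MulAut.smul_def, MulAut.conj_inv_apply] at hxP hxQ
  rw [hS] at hxP hxQ
  -- y = a⁻¹ x a ∈ U, (b⁻¹ a) y (b⁻¹ a)⁻¹ = b⁻¹ x b ∈ U
  have hy1 : a⁻¹ * x * a ≠ 1 := by
    intro h
    apply hx1
    have : x = a * (a⁻¹ * x * a) * a⁻¹ := by group
    rw [this, h]; group
  have hconj : (b⁻¹ * a) * (a⁻¹ * x * a) * (b⁻¹ * a)⁻¹ ∈ U := by
    have : (b⁻¹ * a) * (a⁻¹ * x * a) * (b⁻¹ * a)⁻¹ = b⁻¹ * x * b := by group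
    rw [this]; exact hxQ
  have hB := mem_borel_of_conj D hxP hy1 hconj
  -- b⁻¹ a normalizes U, so a U a⁻¹ = b U b⁻¹
  have hBinv : ∃ u ∈ U, ∃ h ∈ H, (b⁻¹ * a)⁻¹ = u * h := by
    obtain ⟨u, hu, h, hh, e⟩ := hB
    refine ⟨h⁻¹ * u⁻¹ * h, norm_inv D hh (U.inv_mem hu), h⁻¹, H.inv_mem hh, ?_⟩
    rw [e]; group
  rw [← ha, ← hb]
  apply Sylow.ext
  rw [Sylow.coe_subgroup_smul, Sylow.coe_subgroup_smul, hS]
  ext z
  rw [Subgroup.mem_pointwise_smul_iff_inv_smul_mem, Subgroup.mem_pointwise_smul_iff_inv_smul_mem]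
  simp only [MulAut.smul_def, MulAut.conj_inv_apply]
  constructor
  · intro hz
    have := borel_normalizes D hB hz
    have e : (b⁻¹ * a) * (a⁻¹ * z * a) * (b⁻¹ * a)⁻¹ = b⁻¹ * z * b := by group
    rwa [e] at this
  · intro hz
    have := borel_normalizes D hBinv hz
    have e : (b⁻¹ * a)⁻¹ * (b⁻¹ * z * b) * ((b⁻¹ * a)⁻¹)⁻¹ = a⁻¹ * z * a := by group
    rwa [e] at this

end Cfsg.Agent.Lib.Helper20.RankOneTI
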