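/-
helper20: the abstract twisted rank-one machine of helper19 (`TwData`) feeds the rank-one lemmas
`RankOneStab` (three-point stabilisers, S1153) and `RankOneTI` (TI Sylow subgroups, S1155).
-/
import Cfsg.Agent.Lib.Helper19.ReeAbsE
import Cfsg.Agent.Lib.Helper20.RankOneStab
import Cfsg.Agent.Lib.Helper20.RankOneTI

set_option autoImplicit false

namespace Cfsg.Agent.Lib.Helper20.ReeStab

open Cfsg.Agent.Lib.Helper19.ReeAbs MulAction

variable {G : Type*} [Group G] (T : TwData G)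

/-- `U¹` inside `G¹`. -/
abbrev U1 : Subgroup T.G1 := T.U.subgroupOf T.G1
/-- `H¹` inside `G¹`. -/
abbrev H1 : Subgroup T.G1 := T.H.subgroupOf T.G1
/-- `B¹` inside `G¹`. -/
abbrev B1 : Subgroup T.G1 := (T.B ⊓ T.G1).subgroupOf T.G1

theorem mem_B1_iff (g : T.G1) : g ∈ B1 T ↔ (g : G) ∈ T.B := by
  simp [Subgroup.mem_subgroupOf]

theorem data (n₀ : G) (hn₀ : n₀ ∈ T.N) (hn₀1 : n₀ ∈ T.G1) (hl₀ : T.L n₀) :
    RankOneStab.Data (U1 T) (H1 T) (B1 T) ⟨n₀, hn₀1⟩ where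
  mem_B := by
    intro g
    rw [mem_B1_iff]
    constructor
    · intro hg
      obtain ⟨u, hu, h, hh, e, hu1, hh1⟩ := T.B1_factors' g hg g.2
      exact ⟨⟨u, hu1⟩, Subgroup.mem_subgroupOf.2 hu, ⟨h, hh1⟩, Subgroup.mem_subgroupOf.2 hh, Subtype.ext e⟩
    · rintro ⟨u, hu, h, hh, rfl⟩
      exact (T.mem_B_iff _).2 ⟨u, Subgroup.mem_subgroupOf.1 hu, h, Subgroup.mem_subgroupOf.1 hh, rfl⟩
  bruhat := by
    intro g
    rcases T.G1_cases n₀ hn₀ hn₀1 hl₀ g g.2 with hB | ⟨u₀, hu₀, h, hh, u, hu, g1, g2, g3, e⟩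
    · left; exact (mem_B1_iff T g).2 hB
    · right
      exact ⟨⟨u₀, g1⟩, Subgroup.mem_subgroupOf.2 hu₀, ⟨h, g2⟩, Subgroup.mem_subgroupOf.2 hh, ⟨u, g3⟩,
        Subgroup.mem_subgroupOf.2 hu, Subtype.ext e⟩
  normH := by
    intro h hh
    have := T.N_norm_H n₀⁻¹ (inv_mem hn₀) h (Subgroup.mem_subgroupOf.1 hh)
    rw [inv_inv] at this
    exact Subgroup.mem_subgroupOf.2 this
  normU := fun h hh u hu =>
    Subgroup.mem_subgroupOf.2 (T.H_norm_U h (Subgroup.mem_subgroupOf.1 hh) u (Subgroup.mem_subgroupOf.1 hu))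
  opp := by
    intro u hu hB
    rw [mem_B1_iff] at hB
    obtain ⟨u', hu', h, hh, e⟩ := (T.mem_B_iff _).1 hB
    have := T.long_conj_not_B n₀⁻¹ u u' h (inv_mem hn₀) (T.long_inv n₀ hn₀ hl₀)
      (Subgroup.mem_subgroupOf.1 hu) hu' hh (by rw [inv_inv]; exact e)
    exact Subtype.ext this

/-- The data for the TI lemma. -/
theorem dataTI (n₀ : G) (hn₀ : n₀ ∈ T.N) (hn₀1 : n₀ ∈ T.G1) (hl₀ : T.L n₀) :
    RankOneTI.Data (U1 T) (H1 T) (⟨n₀, hn₀1⟩ : T.G1) where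
  bruhat := by
    intro g
    rcases (data T n₀ hn₀ hn₀1 hl₀).bruhat g with hB | h
    · left; exact ((data T n₀ hn₀ hn₀1 hl₀).mem_B g).1 hB
    · right; exact h
  norm := (data T n₀ hn₀ hn₀1 hl₀).normU
  opp := by
    intro u hu hU
    -- n u n⁻¹ ∈ U ∩ V
    have hv := T.long_conj n₀ hn₀ hl₀ u (Subgroup.mem_subgroupOf.1 hu)
    have hu' : n₀ * u * n₀⁻¹ ∈ T.U := Subgroup.mem_subgroupOf.1 hU
    have h1 := T.V_inf_B _ hv _ hu' 1 (one_mem _) (by rw [mul_one])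
    apply Subtype.ext
    have : (u : G) = n₀⁻¹ * (n₀ * u * n₀⁻¹) * n₀ := by group
    rw [this, h1]; simp

section Action

variable {k : Type*} [Field k] (ρ : kˣ →* G) (uu : k → k → k → G)
  (huu_inj : ∀ t u v t' u' v', uu t u v = uu t' u' v' → t = t' ∧ u = u' ∧ v = v')
  (huu_surj : ∀ x ∈ T.U, x ∈ T.G1 → ∃ t u v, x = uu t u v)
  (huu_mem : ∀ t u v, uu t u v ∈ T.U ∧ uu t u v ∈ T.G1)
  (huu0 : uu 0 0 0 = 1)
  (χ₁ χ₂ : kˣ → k)
  (hconj : ∀ c t u v, ρ c * uu t u v * (ρ c)⁻¹ = uu (χ₁ c * t) (χ₂ c * u) ((c : k) * v))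
  (h1 : ∀ c, χ₁ c = 1 → c = 1) (h2 : ∀ c, χ₂ c = 1 → c * c = 1)
  (hρ_surj : ∀ h ∈ T.H, h ∈ T.G1 → ∃ c, h = ρ c)
  (hρ_mem : ∀ c, ρ c ∈ T.H ∧ ρ c ∈ T.G1)

include huu_inj huu_surj huu0 hconj h1 h2 hρ_surj in
/-- A torus element of `G¹` centralising a nonidentity element of `U¹` is `ρ c` with `c² = 1`. -/
theorem centralizer_torus (x : G) (hxU : x ∈ T.U) (hx1 : x ∈ T.G1) (hx : x ≠ 1) (h : G) (hh : h ∈ T.H)
    (hh1 : h ∈ T.G1) (hcomm : h * x = x * h) : ∃ c : kˣ, h = ρ c ∧ c * c = 1 := by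
  obtain ⟨c, rfl⟩ := hρ_surj h hh hh1
  refine ⟨c, rfl, ?_⟩
  obtain ⟨t, u, v, rfl⟩ := huu_surj x hxU hx1
  have h' : ρ c * uu t u v * (ρ c)⁻¹ = uu t u v := by rw [hcomm]; group
  rw [hconj] at h'
  obtain ⟨e1, e2, e3⟩ := huu_inj _ _ _ _ _ _ h'
  by_cases hv : v = 0
  · by_cases hu : u = 0
    · have ht : t ≠ 0 := by
        rintro rfl
        apply hx
        rw [hu, hv, huu0]
      have : (χ₁ c - 1) * t = 0 := by linear_combination e1
      rcases mul_eq_zero.mp this with h | h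
      · have := h1 c (by linear_combination h)
        rw [this, mul_one]
      · exact absurd h ht
    · have : (χ₂ c - 1) * u = 0 := by linear_combination e2
      rcases mul_eq_zero.mp this with h | h
      · exact h2 c (by linear_combination h)
      · exact absurd h hu
  · have : ((c : k) - 1) * v = 0 := by linear_combination e3
    rcases mul_eq_zero.mp this with h | h
    · have hc : c = 1 := by
        apply Units.ext
        rw [Units.val_one]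
        linear_combination h
      rw [hc, mul_one]
    · exact absurd h hv

omit [Field k] in
theorem unit_sq_cases {k : Type*} [Field k] (c : kˣ) (hc : c * c = 1) : c = 1 ∨ c = -1 := by
  have h : (c : k) * (c : k) = 1 := by
    have := congrArg Units.val hc
    simpa using this
  have h' : ((c : k) - 1) * ((c : k) + 1) = 0 := by linear_combination h
  rcases mul_eq_zero.mp h' with h | h
  · left; apply Units.ext; rw [Units.val_one]; linear_combination h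
  · right; apply Units.ext; rw [Units.val_neg, Units.val_one]; linear_combination h

include huu_inj huu_surj huu0 hconj h1 h2 hρ_surj hρ_mem in
/-- `C_{H¹}(u) ⊆ {1, ρ(-1)}` for `1 ≠ u ∈ U¹`. -/
theorem centralizer_subset (u : T.G1) (hu : u ∈ U1 T) (hu1 : u ≠ 1) :
    ((H1 T ⊓ Subgroup.centralizer {u} : Subgroup T.G1) : Set T.G1) ⊆
      {(⟨ρ 1, (hρ_mem 1).2⟩ : T.G1), (⟨ρ (-1), (hρ_mem (-1)).2⟩ : T.G1)} := by
  intro h hh
  obtain ⟨hH, hC⟩ := hh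
  have hcomm : (h : G) * (u : G) = (u : G) * (h : G) := by
    have := Subgroup.mem_centralizer_iff.1 hC u (Set.mem_singleton u)
    have := congrArg (fun y : T.G1 => (y : G)) this
    simpa using this.symm
  have hune : (u : G) ≠ 1 := fun h => hu1 (Subtype.ext h)
  obtain ⟨c, hc, hcc⟩ := centralizer_torus T ρ uu huu_inj huu_surj huu0 χ₁ χ₂ hconj h1 h2 hρ_surj
    (u : G) (Subgroup.mem_subgroupOf.1 hu) u.2 hune (h : G) (Subgroup.mem_subgroupOf.1 hH) h.2 hcomm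
  rcases unit_sq_cases c hcc with rfl | rfl
  · left; exact Subtype.ext hc
  · right; exact Subtype.ext hc

include huu_inj huu_surj huu0 hconj h1 h2 hρ_surj hρ_mem in
/-- `|C_{H¹}(u)| ≤ 2` for `1 ≠ u ∈ U¹`. -/
theorem card_centralizer_le (u : T.G1) (hu : u ∈ U1 T) (hu1 : u ≠ 1) :
    Nat.card ↥(H1 T ⊓ Subgroup.centralizer {u}) ≤ 2 := by
  classical
  have hsub := centralizer_subset T ρ uu huu_inj huu_surj huu0 χ₁ χ₂ hconj h1 h2 hρ_surj hρ_mem u hu hu1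
  calc Nat.card ↥(H1 T ⊓ Subgroup.centralizer {u})
      = Set.ncard ((H1 T ⊓ Subgroup.centralizer {u} : Subgroup T.G1) : Set T.G1) :=
        (_root_.Nat.card_coe_set_eq _)
    _ ≤ Set.ncard ({(⟨ρ 1, (hρ_mem 1).2⟩ : T.G1), (⟨ρ (-1), (hρ_mem (-1)).2⟩ : T.G1)} : Set T.G1) :=
        Set.ncard_le_ncard hsub (Set.toFinite _)
    _ ≤ ({(⟨ρ (-1), (hρ_mem (-1)).2⟩ : T.G1)} : Set T.G1).ncard + 1 := Set.ncard_insert_le _ _
    _ = 2 := by rw [Set.ncard_singleton]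

include huu_inj huu_surj huu0 hconj h1 h2 hρ_surj hρ_mem in
theorem finite_centralizer (u : T.G1) (hu : u ∈ U1 T) (hu1 : u ≠ 1) :
    Finite ↥(H1 T ⊓ Subgroup.centralizer {u}) := by
  have hsub := centralizer_subset T ρ uu huu_inj huu_surj huu0 χ₁ χ₂ hconj h1 h2 hρ_surj hρ_mem u hu hu1
  exact (Set.Finite.subset (Set.toFinite _) hsub).to_subtype

include huu_inj huu_surj huu_mem huu0 hconj h1 h2 hρ_surj hρ_mem in
/-- `|C_{H¹}(u(0,1,0))| = 2` when `-1 ≠ 1` and `χ₂ (-1) = 1`. -/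
theorem card_centralizer_eq (hneg : (-1 : kˣ) ≠ 1) (hχ : χ₂ (-1) = 1) :
    (⟨uu 0 1 0, (huu_mem 0 1 0).2⟩ : T.G1) ∈ U1 T ∧ (⟨uu 0 1 0, (huu_mem 0 1 0).2⟩ : T.G1) ≠ 1 ∧
    Nat.card ↥(H1 T ⊓ Subgroup.centralizer {(⟨uu 0 1 0, (huu_mem 0 1 0).2⟩ : T.G1)}) = 2 := by
  classical
  set u₂ : T.G1 := ⟨uu 0 1 0, (huu_mem 0 1 0).2⟩ with hu₂
  have hu₂U : u₂ ∈ U1 T := Subgroup.mem_subgroupOf.2 (huu_mem 0 1 0).1
  have hu₂1 : u₂ ≠ 1 := by
    intro h
    have h' : uu 0 1 0 = uu 0 0 0 := by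
      rw [huu0]
      exact congrArg (fun y : T.G1 => (y : G)) h
    exact one_ne_zero (huu_inj _ _ _ _ _ _ h').2.1
  refine ⟨hu₂U, hu₂1, ?_⟩
  refine le_antisymm (card_centralizer_le T ρ uu huu_inj huu_surj huu0 χ₁ χ₂ hconj h1 h2 hρ_surj hρ_mem
    u₂ hu₂U hu₂1) ?_
  -- the two elements `1` and `ρ (-1)`
  let b : T.G1 := ⟨ρ (-1), (hρ_mem (-1)).2⟩
  have hb1 : b ≠ 1 := by
    intro h
    have h' : ρ (-1) = ρ 1 := by
      rw [map_one]
      exact congrArg (fun y : T.G1 => (y : G)) h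
    exact hneg (T.torus_injective ρ uu huu_inj huu_mem χ₁ χ₂ hconj h')
  have hbmem : b ∈ H1 T ⊓ Subgroup.centralizer {u₂} := by
    refine Subgroup.mem_inf.2 ⟨Subgroup.mem_subgroupOf.2 (hρ_mem (-1)).1, ?_⟩
    rw [Subgroup.mem_centralizer_iff]
    intro y hy
    rw [Set.mem_singleton_iff] at hy
    subst hy
    apply Subtype.ext
    show uu 0 1 0 * ρ (-1) = ρ (-1) * uu 0 1 0
    have hc := hconj (-1) 0 1 0
    rw [hχ, mul_zero, mul_zero, mul_one] at hc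
    have : ρ (-1) * uu 0 1 0 = (ρ (-1) * uu 0 1 0 * (ρ (-1))⁻¹) * ρ (-1) := by group
    rw [this, hc]
  haveI := finite_centralizer T ρ uu huu_inj huu_surj huu0 χ₁ χ₂ hconj h1 h2 hρ_surj hρ_mem u₂ hu₂U hu₂1
  haveI : Nontrivial ↥(H1 T ⊓ Subgroup.centralizer {u₂}) :=
    ⟨⟨⟨b, hbmem⟩, 1, fun h => hb1 (congrArg Subtype.val h)⟩⟩
  exact Finite.one_lt_card_iff_nontrivial.2 inferInstance

include huu_inj huu_surj huu_mem huu0 hconj h1 h2 hρ_surj hρ_mem in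
/-- Three-point stabilisers of `G¹` on `G¹ ⧸ B¹` have order at most `2`, and some has order `2`. -/
theorem three_point (n₀ : G) (hn₀ : n₀ ∈ T.N) (hn₀1 : n₀ ∈ T.G1) (hl₀ : T.L n₀)
    (hneg : (-1 : kˣ) ≠ 1) (hχ : χ₂ (-1) = 1) :
    (∀ x y z : T.G1 ⧸ B1 T, x ≠ y → x ≠ z → y ≠ z →
        Nat.card ↥(stabilizer T.G1 x ⊓ stabilizer T.G1 y ⊓ stabilizer T.G1 z) ≤ 2) ∧
      ∃ x y z : T.G1 ⧸ B1 T, x ≠ y ∧ x ≠ z ∧ y ≠ z ∧
        Nat.card ↥(stabilizer T.G1 x ⊓ stabilizer T.G1 y ⊓ stabilizer T.G1 z) = 2 := by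
  have D := data T n₀ hn₀ hn₀1 hl₀
  constructor
  · intro x y z hxy hxz hyz
    obtain ⟨u, hu, hu1, hcard⟩ := RankOneStab.card_stab_three D x y z hxy hxz hyz
    rw [hcard]
    exact card_centralizer_le T ρ uu huu_inj huu_surj huu0 χ₁ χ₂ hconj h1 h2 hρ_surj hρ_mem u hu hu1
  · obtain ⟨hu₂U, hu₂1, hc⟩ := card_centralizer_eq T ρ uu huu_inj huu_surj huu_mem huu0 χ₁ χ₂ hconj h1 h2
      hρ_surj hρ_mem hneg hχ
    have hnB : (⟨n₀, hn₀1⟩ : T.G1) ∉ B1 T := by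
      rw [mem_B1_iff]
      exact T.long_not_mem_B n₀ hn₀ hl₀
    refine ⟨((1 : T.G1) : T.G1 ⧸ B1 T), (((⟨n₀, hn₀1⟩ : T.G1)) : T.G1 ⧸ B1 T),
      (⟨uu 0 1 0, (huu_mem 0 1 0).2⟩ : T.G1) • (((⟨n₀, hn₀1⟩ : T.G1)) : T.G1 ⧸ B1 T), ?_, ?_, ?_, ?_⟩
    · intro h
      rw [QuotientGroup.eq, inv_one, one_mul] at h
      exact hnB h
    · exact (RankOneStab.smul_n_ne_one D hnB _ hu₂U).symm
    · exact (RankOneStab.n_coset_ne D _ hu₂U hu₂1).symm
    · rw [RankOneStab.stab_three_eq D _ hu₂U]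
      exact hc

theorem coprime_three_pow_sub_one (e : ℕ) (he : 0 < e) : (3 ^ e - 1).Coprime 3 := by
  rw [Nat.coprime_comm, Nat.Prime.coprime_iff_not_dvd Nat.prime_three]
  rintro ⟨b, hb⟩
  obtain ⟨a, ha⟩ : 3 ∣ 3 ^ e := dvd_pow_self 3 he.ne'
  have : 0 < 3 ^ e := pow_pos (by norm_num) e
  omega

include huu_inj huu_surj huu_mem huu0 hρ_surj in
/-- Distinct Sylow `3`-subgroups of `G¹` meet trivially. -/
theorem sylow_TI [Finite T.G1] [Fintype k] (n₀ : G) (hn₀ : n₀ ∈ T.N) (hn₀1 : n₀ ∈ T.G1) (hl₀ : T.L n₀)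
    (hpow : ∀ t u v, uu t u v ^ 9 = 1) (e : ℕ) (hk : Fintype.card k = 3 ^ e)
    (P Q : Sylow 3 T.G1) (hPQ : P ≠ Q) : (P : Subgroup T.G1) ⊓ (Q : Subgroup T.G1) = ⊥ := by
  classical
  have D := dataTI T n₀ hn₀ hn₀1 hl₀
  have he : 0 < e := by
    rcases Nat.eq_zero_or_pos e with rfl | h
    · have := Fintype.one_lt_card (α := k)
      rw [hk] at this
      norm_num at this
    · exact h
  have hU : IsPGroup 3 (U1 T) := by
    intro x
    refine ⟨2, ?_⟩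
    obtain ⟨t, u, v, hx⟩ := huu_surj ((x : T.G1) : G) (Subgroup.mem_subgroupOf.1 x.2) (x : T.G1).2
    apply Subtype.ext
    apply Subtype.ext
    have := hpow t u v
    rw [← hx] at this
    simpa using this
  have hU1 : U1 T ≠ ⊥ := by
    intro h
    have hmem : (⟨uu 0 0 1, (huu_mem 0 0 1).2⟩ : T.G1) ∈ U1 T := Subgroup.mem_subgroupOf.2 (huu_mem 0 0 1).1
    rw [h, Subgroup.mem_bot] at hmem
    have h' : uu 0 0 1 = uu 0 0 0 := by
      rw [huu0]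
      exact congrArg (fun y : T.G1 => (y : G)) hmem
    exact one_ne_zero (huu_inj _ _ _ _ _ _ h').2.2
  have hH : ∀ h ∈ H1 T, (orderOf h).Coprime 3 := by
    intro h hh
    obtain ⟨c, hc⟩ := hρ_surj (h : G) (Subgroup.mem_subgroupOf.1 hh) h.2
    have h1 : orderOf h = orderOf (h : G) := (Subgroup.orderOf_coe h).symm
    have h2 : orderOf (ρ c) ∣ orderOf c := orderOf_map_dvd ρ c
    have h3 : orderOf c ∣ Fintype.card kˣ := orderOf_dvd_card
    rw [Fintype.card_units, hk] at h3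
    rw [h1, hc]
    exact Nat.Coprime.coprime_dvd_left (h2.trans h3) (coprime_three_pow_sub_one e he)
  exact RankOneTI.sylow_inf_eq_bot D hU hU1 hH P Q hPQ

end Action

end Cfsg.Agent.Lib.Helper20.ReeStab
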