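/-
helper20: cubes and ninth powers in `U(G₂)` in characteristic three, in helper61's coordinates `uu`;
consequences for the elements `reeWordU θ t u v` of `U¹` of the small Ree group (S1154, S1155).
-/
import Cfsg.Agent.Lib.Helper61.ChevJ.G2Ree

set_option autoImplicit false

namespace Cfsg.Agent.Lib.Helper20.ReeCube

open Cfsg.Lie Cfsg.Agent.Lib.Helper18 Cfsg.Agent.Lib.Helper61.ChevJ.G2Short
  Cfsg.Agent.Lib.Helper61.ChevJ.G2Char3

universe u

variable {F : Type u} [Field F] [CharP F 3]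

/-- The cube of an element of `U(G₂)` in characteristic three. -/
theorem uu_cube (a b c d e f : F) :
    (uu a b c d e f) ^ 3 = uu 0 0 0 (-(a * b ^ 2)) 0 (-(a ^ 2 * b ^ 3)) := by
  have h3 : (3 : F) = 0 := three_eq_zero'
  rw [pow_succ, pow_two, uu_mul, uu_mul]
  refine uu_congr ?_ ?_ ?_ ?_ ?_ ?_
  · linear_combination a * h3
  · linear_combination b * h3
  · linear_combination (c - a * b) * h3
  · linear_combination (d - b * c) * h3
  · linear_combination (e + 3 * a * b ^ 3) * h3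
  · linear_combination (f - a * e + 3 * a ^ 2 * b ^ 3) * h3

theorem uu_cube_eq_one_iff (a b c d e f : F) : (uu a b c d e f) ^ 3 = 1 ↔ a = 0 ∨ b = 0 := by
  rw [uu_cube, ← uu_zero (F := F)]
  constructor
  · intro h
    obtain ⟨-, -, -, h4, -, -⟩ := uu_inj h
    have : a * b ^ 2 = 0 := neg_eq_zero.1 h4
    rcases mul_eq_zero.1 this with h | h
    · exact Or.inl h
    · exact Or.inr (pow_eq_zero_iff (by norm_num) |>.1 h)
  · rintro (rfl | rfl)
    · exact uu_congr rfl rfl rfl (by ring) rfl (by ring)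
    · exact uu_congr rfl rfl rfl (by ring) rfl (by ring)

/-- Every element of `U(G₂)` in characteristic three has order dividing nine. -/
theorem uu_pow_nine (a b c d e f : F) : (uu a b c d e f) ^ 9 = 1 := by
  have e9 : (9 : ℕ) = 3 * 3 := by norm_num
  rw [e9, pow_mul, uu_cube, uu_cube, ← uu_zero (F := F)]
  exact uu_congr rfl rfl rfl (by ring) rfl (by ring)

theorem reeU_zero (θ : ℕ) (hθ : θ ≠ 0) : wordG hG2 (reeWordU θ (0 : F) 0 0) = 1 := by
  rw [wordG_reeWordU, ← uu_zero (F := F)]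
  refine uu_congr rfl ?_ ?_ ?_ ?_ ?_ <;> simp [hθ]

theorem reeU_cube_eq_one_iff (θ : ℕ) (hθ : θ ≠ 0) (t u v : F) :
    wordG hG2 (reeWordU θ t u v) ^ 3 = 1 ↔ t = 0 := by
  rw [wordG_reeWordU, uu_cube_eq_one_iff]
  constructor
  · rintro (h | h)
    · exact h
    · exact pow_eq_zero_iff hθ |>.1 h
  · intro h
    exact Or.inl h

theorem reeU_pow_nine (θ : ℕ) (t u v : F) : wordG hG2 (reeWordU θ t u v) ^ 9 = 1 := by
  rw [wordG_reeWordU, uu_pow_nine]

end Cfsg.Agent.Lib.Helper20.ReeCube
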