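/-
helper20: glue between the abstract rank-one results of `ReeStab` (three-point stabilisers, TI Sylow 3-subgroups) and
the concrete small Ree group `²G₂(3^(2m+1)) = twistedG2 K (3^m)`: for ANY `TwData` on `GL chevG2.Idx K` whose `U`, `H`,
`G¹` are the positive unipotent subgroup, the diagonal subgroup and `twistedG2 K (3^m)`, and such that the fixed torus
`reeH (3^m) c` lies in `²G₂` (helper19's tower provides both), the statements S1153 and S1155 hold (in terms of `T`).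
-/
import Cfsg.Agent.Lib.Helper20.ReeStab
import Cfsg.Agent.Lib.Helper20.ReeCube
import Cfsg.Agent.Lib.Helper61.Ree.HAct
import Cfsg.Agent.S1101

set_option autoImplicit false
set_option linter.unusedSectionVars false

namespace Cfsg.Agent.Lib.Helper20.ReeGlue

open Cfsg.Lie Cfsg.Agent.Lib.Helper18 Cfsg.Agent.Lib.Helper61.ChevJ.G2Short
  Cfsg.Agent.Lib.Helper61.ChevJ.G2Char3 Cfsg.Agent.Lib.Helper61.Ree Cfsg.Agent.Lib.Helper19.ReeAbs
  Cfsg.Agent.Lib.Helper91.Ree MulAction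

universe u

variable {K : Type u} [Field K] [Fintype K] {m : ℕ}

/-- The hypotheses on a `TwData` making it "the" twisted datum of `²G₂(3^(2m+1))`. -/
structure Inst (T : TwData (GL chevG2.Idx K)) (m : ℕ) : Prop where
  hU : T.U = chevG2.posUnipotent K
  hH : T.H = chevG2.diagonalSubgroup K
  hG1 : T.G1 = twistedG2 K (3 ^ m)
  hHmem : ∀ c : Kˣ, reeH (3 ^ m) c ∈ twistedG2 K (3 ^ m)

theorem hq_of_card (hK : Fintype.card K = 3 ^ (2 * m + 1)) : ∀ t : K, t ^ (3 * 3 ^ m * 3 ^ m) = t := by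
  intro t
  have e : 3 * 3 ^ m * 3 ^ m = Fintype.card K := by rw [hK]; ring
  rw [e, FiniteField.pow_card]

theorem neg_one_ne_one [CharP K 3] : (-1 : Kˣ) ≠ 1 := by
  intro h
  have h' : (-1 : K) = 1 := by
    have := congrArg Units.val h
    simpa using this
  have h2 : ((2 : ℕ) : K) = 0 := by
    have : (2 : K) = 0 := by linear_combination -h'
    exact_mod_cast this
  have := (CharP.cast_eq_zero_iff K 3 2).1 h2
  omega

theorem chi2_neg_one : (((-1 : Kˣ) : K)) ^ (3 * 3 ^ m) * (((-1 : Kˣ) : K))⁻¹ = 1 := by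
  have hodd : Odd (3 * 3 ^ m) := by
    have : 3 * 3 ^ m = 3 ^ (m + 1) := by ring
    rw [this]
    exact Odd.pow (by decide)
  rw [Units.val_neg, Units.val_one, hodd.neg_one_pow, inv_neg, inv_one]
  ring

section Main

variable (hK : Fintype.card K = 3 ^ (2 * m + 1)) (T : TwData (GL chevG2.Idx K)) (I : Inst T m)

include hK I

theorem huu_surj [CharP K 3] : ∀ x ∈ T.U, x ∈ T.G1 → ∃ t u v : K, x = wordG hG2 (reeWordU (3 ^ m) t u v) := by
  intro x hx hx1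
  obtain ⟨hmem, -⟩ := Cfsg.Agent.S1101.main hK
  rw [I.hU] at hx
  rw [I.hG1] at hx1
  obtain ⟨t, u, v, h⟩ := (hmem x).1 ⟨hx, hx1⟩
  refine ⟨t, u, v, ?_⟩
  apply Units.ext
  rw [h, coe_wordG]

omit hK in
theorem huu_mem : ∀ t u v : K, wordG hG2 (reeWordU (3 ^ m) t u v) ∈ T.U ∧
    wordG hG2 (reeWordU (3 ^ m) t u v) ∈ T.G1 := by
  intro t u v
  rw [I.hU, I.hG1]
  exact ⟨wordG_reeWordU_mem_U _ t u v, wordG_reeWordU_mem_twisted _ t u v⟩

theorem hρ_surj [CharP K 3] : ∀ h ∈ T.H, h ∈ T.G1 → ∃ c : Kˣ, h = reeHHom (3 ^ m) c := by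
  intro h hh hh1
  rw [I.hH] at hh
  rw [I.hG1] at hh1
  exact reeH_surj m (hq_of_card hK) h hh (twistedG2_le_reeFix K m (hq_of_card hK) hh1)

omit hK in
theorem hρ_mem : ∀ c : Kˣ, reeHHom (3 ^ m) c ∈ T.H ∧ reeHHom (3 ^ m) c ∈ T.G1 := by
  intro c
  rw [I.hH, I.hG1]
  exact ⟨reeH_mem_H _ c, I.hHmem c⟩

/-- S1153 in terms of `T`. -/
theorem three_point :
    (∀ x y z : T.G1 ⧸ ReeStab.B1 T, x ≠ y → x ≠ z → y ≠ z →
        Nat.card ↥(stabilizer T.G1 x ⊓ stabilizer T.G1 y ⊓ stabilizer T.G1 z) ≤ 2) ∧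
      ∃ x y z : T.G1 ⧸ ReeStab.B1 T, x ≠ y ∧ x ≠ z ∧ y ≠ z ∧
        Nat.card ↥(stabilizer T.G1 x ⊓ stabilizer T.G1 y ⊓ stabilizer T.G1 z) = 2 := by
  haveI : CharP K 3 := Cfsg.Agent.S1101.charP_three hK
  have hq := hq_of_card hK
  obtain ⟨n₀, hn₀, hn₀1, hl₀⟩ := T.exists_long
  have hθ : (3 : ℕ) ^ m ≠ 0 := pow_ne_zero _ (by norm_num)
  exact ReeStab.three_point T (reeHHom (3 ^ m)) (fun t u v => wordG hG2 (reeWordU (3 ^ m) t u v))
    (fun t u v t' u' v' h => reeWordU_inj (3 ^ m) t u v t' u' v' h)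
    (huu_surj hK T I) (huu_mem T I) (ReeCube.reeU_zero (3 ^ m) hθ)
    (fun c => (c : K) ^ 2 * ((c : K) ^ (3 * 3 ^ m))⁻¹) (fun c => (c : K) ^ (3 * 3 ^ m) * (c : K)⁻¹)
    (fun c t u v => reeH_conj m hq c t u v)
    (fun c h => unit_eq_one_of_chi1 (3 ^ m) c (hq c) h)
    (fun c h => unit_sq_eq_one_of_chi2 (3 ^ m) c (hq c) h)
    (hρ_surj hK T I) (hρ_mem T I) n₀ hn₀ hn₀1 hl₀ neg_one_ne_one chi2_neg_one

/-- S1155 in terms of `T`. -/
theorem sylow_TI (P Q : Sylow 3 T.G1) (hPQ : P ≠ Q) :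
    (P : Subgroup T.G1) ⊓ (Q : Subgroup T.G1) = ⊥ := by
  haveI : CharP K 3 := Cfsg.Agent.S1101.charP_three hK
  have hq := hq_of_card hK
  obtain ⟨n₀, hn₀, hn₀1, hl₀⟩ := T.exists_long
  have hθ : (3 : ℕ) ^ m ≠ 0 := pow_ne_zero _ (by norm_num)
  exact ReeStab.sylow_TI T (reeHHom (3 ^ m)) (fun t u v => wordG hG2 (reeWordU (3 ^ m) t u v))
    (fun t u v t' u' v' h => reeWordU_inj (3 ^ m) t u v t' u' v' h)
    (huu_surj hK T I) (huu_mem T I) (ReeCube.reeU_zero (3 ^ m) hθ)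
    (hρ_surj hK T I) n₀ hn₀ hn₀1 hl₀ (fun t u v => ReeCube.reeU_pow_nine (3 ^ m) t u v) (2 * m + 1) hK P Q hPQ

end Main

end Cfsg.Agent.Lib.Helper20.ReeGlue
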