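/-
helper20: Klein four-subgroups of `PSL₂(q)`, `q ≡ 3, 5 (mod 8)`, `q > 3`: `|N(V)| = 12` and `C(V) = V`
(from S0807, S0808, S0276, the simplicity of `PSL₂(q)` and Burnside's transfer theorem). Input for S1157.
-/
import Cfsg.Agent.S0807
import Cfsg.Agent.S0808
import Cfsg.Agent.S0276

set_option autoImplicit false

namespace Cfsg.Agent.Lib.Helper20.PSL2Klein

open MulAction Pointwise

variable {F : Type*} [Field F] [Fintype F]

local notation "PSL2" => Matrix.ProjectiveSpecialLinearGroup (Fin 2) F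

theorem psl2_simple (hF3 : 3 < Fintype.card F) : IsSimpleGroup PSL2 := by
  apply Matrix.ProjectiveSpecialLinearGroup.rank_two_simple
  rw [Nat.card_eq_fintype_card]
  omega

/-- A Klein four-subgroup is mapped to a Klein four-subgroup by an isomorphism. -/
theorem isKleinFour_map {G : Type*} [Group G] (V : Subgroup G) [hV : IsKleinFour V] (f : G ≃* G) :
    IsKleinFour ↥(V.map f.toMonoidHom) := by
  have e : ↥V ≃* ↥(V.map f.toMonoidHom) := V.equivMapOfInjective f.toMonoidHom f.injective
  refine ⟨?_, ?_⟩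
  · rw [← Nat.card_congr e.toEquiv]; exact hV.card_four
  · rw [← Monoid.exponent_eq_of_mulEquiv e]; exact hV.exponent_two

variable {q : ℕ}

/-- `|N(V)| = 12`. -/
theorem card_normalizer (hF : Fintype.card F = q) (hq : q % 8 = 3 ∨ q % 8 = 5)
    (V : Subgroup PSL2) (hV : IsKleinFour V) : Nat.card ↥(Subgroup.normalizer (V : Set PSL2)) = 12 := by
  classical
  have hodd : Odd q := by rw [Nat.odd_iff]; omega
  have h807 := Cfsg.Agent.S0807.result hF hodd
  have h808 := (Cfsg.Agent.S0808.result hF hodd).1 hq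
  letI act : MulAction PSL2 (Subgroup PSL2) := MulAction.compHom (Subgroup PSL2) (MulAut.conj : PSL2 →* MulAut PSL2)
  have hsmul : ∀ (g : PSL2) (W : Subgroup PSL2), g • W = W.map (MulAut.conj g).toMonoidHom := fun g W => rfl
  have horb : orbit PSL2 V = {W : Subgroup PSL2 | IsKleinFour W} := by
    ext W
    constructor
    · rintro ⟨g, rfl⟩
      show IsKleinFour ↥(g • V)
      rw [hsmul]
      exact isKleinFour_map V (MulAut.conj g)
    · intro hW
      obtain ⟨g, hg⟩ := h808 V W hV hW
      exact ⟨g, by rw [hg]; rfl⟩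
  have hstab : stabilizer PSL2 V = Subgroup.normalizer (V : Set PSL2) := by
    ext g
    rw [mem_stabilizer_iff, hsmul, Subgroup.mem_normalizer_iff_map_conj_eq]
    rfl
  have h1 : Nat.card ↥(orbit PSL2 V) * Nat.card ↥(stabilizer PSL2 V) = Nat.card PSL2 := by
    rw [← Nat.card_prod]
    exact Nat.card_congr (orbitProdStabilizerEquivGroup PSL2 V)
  have h2 : Nat.card ↥(orbit PSL2 V) = Nat.card {W : Subgroup PSL2 // IsKleinFour W} := by
    rw [horb]; rfl
  rw [h2, hstab, ← h807] at h1
  have hpos : 0 < Nat.card {W : Subgroup PSL2 // IsKleinFour W} := by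
    haveI : Nonempty {W : Subgroup PSL2 // IsKleinFour W} := ⟨⟨V, hV⟩⟩
    exact Nat.card_pos
  have h3 : Nat.card {W : Subgroup PSL2 // IsKleinFour W} * Nat.card ↥(Subgroup.normalizer (V : Set PSL2))
      = Nat.card {W : Subgroup PSL2 // IsKleinFour W} * 12 := by rw [h1]; ring
  exact Nat.eq_of_mul_eq_mul_left hpos h3

/-- `C(V) = V`. -/
theorem centralizer_eq (hF : Fintype.card F = q) (hq : q % 8 = 3 ∨ q % 8 = 5) (hq3 : 3 < q)
    (V : Subgroup PSL2) (hV : IsKleinFour V) : Subgroup.centralizer (V : Set PSL2) = V := by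
  classical
  haveI : Fact (Nat.Prime 2) := ⟨Nat.prime_two⟩
  have hodd : Odd q := by rw [Nat.odd_iff]; omega
  have h807 := Cfsg.Agent.S0807.result hF hodd
  have h12 := card_normalizer hF hq V hV
  haveI hsimple : IsSimpleGroup PSL2 := psl2_simple (by rw [hF]; exact hq3)
  have hV4 : Nat.card ↥V = 4 := hV.card_four
  -- `V` is abelian
  have hVexp : ∀ x ∈ V, x * x = 1 := by
    intro x hx
    have := Monoid.pow_exponent_eq_one (⟨x, hx⟩ : ↥V)
    rw [hV.exponent_two, pow_two] at this
    exact congrArg Subtype.val this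
  have hVcomm : ∀ x ∈ V, ∀ y ∈ V, x * y = y * x := by
    intro x hx y hy
    have h1 := hVexp (x * y) (V.mul_mem hx hy)
    have hx' : x⁻¹ = x := inv_eq_of_mul_eq_one_left (hVexp x hx)
    have hy' : y⁻¹ = y := inv_eq_of_mul_eq_one_left (hVexp y hy)
    have : x * y = (x * y)⁻¹ := (inv_eq_of_mul_eq_one_left h1).symm
    rw [this, mul_inv_rev, hx', hy']
  have hVC : V ≤ Subgroup.centralizer (V : Set PSL2) := by
    intro x hx
    rw [Subgroup.mem_centralizer_iff]
    intro y hy
    exact hVcomm y hy x hx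
  have hCN : Subgroup.centralizer (V : Set PSL2) ≤ Subgroup.normalizer (V : Set PSL2) :=
    Subgroup.centralizer_le_normalizer _
  -- cardinalities
  obtain ⟨m, hm⟩ := Subgroup.card_dvd_of_le hVC
  obtain ⟨n, hn⟩ := Subgroup.card_dvd_of_le hCN
  rw [h12, hm, hV4] at hn
  have hm13 : m = 1 ∨ m = 3 := by
    have h43 : 4 * 3 = 4 * (m * n) := by rw [← mul_assoc, ← hn]
    have : m ∣ 3 := ⟨n, Nat.eq_of_mul_eq_mul_left (by norm_num) h43⟩
    exact (Nat.dvd_prime Nat.prime_three).1 this
  rcases hm13 with rfl | rfl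
  · -- `|C(V)| = 4`
    symm
    apply Subgroup.eq_of_le_of_card_ge hVC
    rw [hm, hV4]
  · -- `|C(V)| = 12`: Burnside
    exfalso
    have hCeqN : Subgroup.centralizer (V : Set PSL2) = Subgroup.normalizer (V : Set PSL2) := by
      apply Subgroup.eq_of_le_of_card_ge hCN
      rw [h12, hm, hV4]
    -- `V` is a Sylow 2-subgroup
    let P₀ : Sylow 2 PSL2 := default
    haveI hP₀ := Cfsg.Agent.S0276.result hF hq P₀
    have hP₀4 : Nat.card ↥(P₀ : Subgroup PSL2) = 4 := IsKleinFour.card_four
    have hfac : Nat.card ↥V = 2 ^ (Nat.card PSL2).factorization 2 := by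
      rw [hV4, ← hP₀4, Sylow.card_eq_multiplicity]
    let P : Sylow 2 PSL2 := Sylow.ofCard V hfac
    have hPV : (P : Subgroup PSL2) = V := rfl
    have hNC : Subgroup.normalizer ((P : Subgroup PSL2) : Set PSL2) ≤ Subgroup.centralizer ((P : Subgroup PSL2) : Set PSL2) := by
      rw [hPV, hCeqN]
    have hcompl := MonoidHom.ker_transferSylow_isComplement' P hNC
    have hcard := hcompl.card_mul_card
    have hP4 : Nat.card ↥(P : Subgroup PSL2) = 4 := hV4
    rw [hP4] at hcard
    rcases (MonoidHom.normal_ker (MonoidHom.transferSylow P hNC)).eq_bot_or_eq_top with hk | hk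
    · rw [hk, Subgroup.card_bot] at hcard
      omega
    · rw [hk, Subgroup.card_top] at hcard
      have : 0 < Nat.card PSL2 := Nat.card_pos
      omega

/-- The centre of `PSL₂(q)`, `q > 3`, `q ≡ 3, 5 (mod 8)`, is trivial. -/
theorem center_eq_bot (hF : Fintype.card F = q) (hq : q % 8 = 3 ∨ q % 8 = 5) (hq3 : 3 < q) :
    Subgroup.center PSL2 = ⊥ := by
  classical
  haveI : Fact (Nat.Prime 2) := ⟨Nat.prime_two⟩
  haveI := psl2_simple (F := F) (by rw [hF]; exact hq3)
  rcases (inferInstance : (Subgroup.center PSL2).Normal).eq_bot_or_eq_top with h | h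
  · exact h
  · exfalso
    let inst : CommGroup PSL2 :=
      { (inferInstance : Group PSL2) with
        mul_comm := fun a b => (Subgroup.mem_center_iff.1 (h ▸ Subgroup.mem_top b) a) }
    have hprime : (Nat.card PSL2).Prime := @IsSimpleGroup.prime_card PSL2 inst _
    let P₀ : Sylow 2 PSL2 := default
    haveI hP₀ := Cfsg.Agent.S0276.result hF hq P₀
    have hP₀4 : Nat.card ↥(P₀ : Subgroup PSL2) = 4 := IsKleinFour.card_four
    have hdvd : 4 ∣ Nat.card PSL2 := hP₀4 ▸ Subgroup.card_subgroup_dvd_card _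
    have := (Nat.dvd_prime hprime).1 hdvd
    rcases this with h4 | h4
    · omega
    · rw [← h4] at hprime
      exact absurd hprime (by decide)

end Cfsg.Agent.Lib.Helper20.PSL2Klein
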