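/-
helper20: abstract lemma for S1157 (Sylow 2-subgroups of the small Ree groups): in a finite group `G` whose Sylow
2-subgroups are elementary abelian of order 8, with an involution `a` such that `C(a) ≃* Z₂ × L` where `L` has trivial
centre and every Klein four-subgroup `V` of `L` satisfies `|N_L(V)| = 12`, `C_L(V) = V`, and such that a Sylow
2-subgroup `S` lies in the derived subgroup of its normaliser (focal subgroup theorem + `G` perfect):
`C(S) = S` and `|N(S)| = 168`.
-/
import Mathlib

set_option autoImplicit false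
set_option linter.unusedSectionVars false
set_option linter.unusedVariables false

namespace Cfsg.Agent.Lib.Helper20.ReeSyl2

open MulAction

/-- A central involution of `N` lying in an abelian subgroup of odd index is not a product of commutators. -/
theorem not_mem_commutator_of_central {N : Type*} [Group N] [Finite N] (H : Subgroup N)
    (hH : ∀ x ∈ H, ∀ y ∈ H, x * y = y * x) (hodd : Odd H.index) (s : N) (hs : s ∈ H)
    (hsc : ∀ n : N, n * s = s * n) (hs2 : s * s = 1) (hs1 : s ≠ 1) : s ∉ commutator N := by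
  intro hcomm
  let inst : CommGroup ↥H :=
    { (inferInstance : Group ↥H) with mul_comm := fun x y => Subtype.ext (hH x x.2 y y.2) }
  let t : N →* ↥H := MonoidHom.transfer (MonoidHom.id ↥H)
  have h1 : t s = 1 := by
    have := Abelianization.commutator_subset_ker t hcomm
    exact this
  have key : ∀ (k : ℕ) (g₀ : N), g₀⁻¹ * s ^ k * g₀ ∈ H → g₀⁻¹ * s ^ k * g₀ = s ^ k := by
    intro k g₀ _
    have hcom : ∀ k : ℕ, g₀ * s ^ k = s ^ k * g₀ := by
      intro k
      induction k with
      | zero => simp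
      | succ k ih => rw [pow_succ, ← mul_assoc, ih, mul_assoc, hsc g₀, mul_assoc]
    rw [mul_assoc, ← hcom k, inv_mul_cancel_left]
  have h2 := MonoidHom.transfer_eq_pow (MonoidHom.id ↥H) s key
  have h3 : s ^ H.index = s := by
    obtain ⟨k, hk⟩ := hodd
    rw [hk, pow_succ, pow_mul, pow_two, hs2, one_pow, one_mul]
  have h4 : (t s : N) = s := by
    show ((MonoidHom.transfer (MonoidHom.id ↥H) s : ↥H) : N) = s
    rw [h2]
    simpa using h3
  rw [h1] at h4
  exact hs1 h4.symm

section Prod

variable {Z L : Type*} [CommGroup Z] [Group L]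

theorem normalizer_top_prod (V : Subgroup L) :
    Subgroup.normalizer (((⊤ : Subgroup Z).prod V : Subgroup (Z × L)) : Set (Z × L))
      = (⊤ : Subgroup Z).prod (Subgroup.normalizer (V : Set L)) := by
  ext ⟨z, l⟩
  simp only [Subgroup.mem_normalizer_iff, Subgroup.mem_prod, Subgroup.mem_top, true_and, SetLike.mem_coe]
  constructor
  · intro h v
    have := h (1, v)
    simpa using this
  · intro h x
    have := h x.2
    simpa using this

theorem centralizer_top_prod (V : Subgroup L) :
    Subgroup.centralizer (((⊤ : Subgroup Z).prod V : Subgroup (Z × L)) : Set (Z × L))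
      = (⊤ : Subgroup Z).prod (Subgroup.centralizer (V : Set L)) := by
  ext ⟨z, l⟩
  simp only [Subgroup.mem_centralizer_iff, Subgroup.mem_prod, Subgroup.mem_top, true_and, SetLike.mem_coe]
  constructor
  · intro h v hv
    have := h (1, v) (by simpa using hv)
    simpa using this
  · intro h x hx
    have := h x.2 hx
    ext
    · simp [mul_comm]
    · simpa using this

theorem card_top_prod [Finite Z] [Finite L] (K : Subgroup L) :
    Nat.card ↥((⊤ : Subgroup Z).prod K) = Nat.card Z * Nat.card K := by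
  rw [Nat.card_congr ((⊤ : Subgroup Z).prodEquiv K).toEquiv, Nat.card_prod, Subgroup.card_top]

end Prod

/-- An action on an invariant `7`-element set all of whose orbits have odd size `≠ 1` is transitive on it. -/
theorem orbit_eq_of_ncard_seven {N X : Type*} [Group N] [MulAction N X] (Y : Set X) (hY : Y.ncard = 7)
    (hinv : ∀ n : N, ∀ y ∈ Y, n • y ∈ Y)
    (hodd : ∀ y ∈ Y, Odd (orbit N y).ncard) (hne1 : ∀ y ∈ Y, (orbit N y).ncard ≠ 1) (a : X) (ha : a ∈ Y) :
    orbit N a = Y := by
  have hYfin : Y.Finite := Set.finite_of_ncard_ne_zero (by rw [hY]; norm_num)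
  have hsub : ∀ y ∈ Y, orbit N y ⊆ Y := by
    rintro y hy _ ⟨n, rfl⟩
    exact hinv n y hy
  have hfin : ∀ y ∈ Y, (orbit N y).Finite := fun y hy => hYfin.subset (hsub y hy)
  have h3 : ∀ y ∈ Y, 3 ≤ (orbit N y).ncard := by
    intro y hy
    obtain ⟨k, hk⟩ := hodd y hy
    have := hne1 y hy
    omega
  by_contra hne
  have hss : orbit N a ⊂ Y := lt_of_le_of_ne (hsub a ha) hne
  obtain ⟨s, hsY, hsa⟩ := Set.exists_of_ssubset hss
  have hdisj : ∀ x y : X, y ∉ orbit N x → Disjoint (orbit N x) (orbit N y) := by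
    intro x y hy
    rw [Set.disjoint_left]
    intro w hwx hwy
    apply hy
    have e1 : orbit N w = orbit N x := orbit_eq_iff.2 hwx
    have e2 : orbit N w = orbit N y := orbit_eq_iff.2 hwy
    rw [← e1, e2]
    exact mem_orbit_self y
  have hd := hdisj a s hsa
  have hun : (orbit N a ∪ orbit N s).ncard = (orbit N a).ncard + (orbit N s).ncard :=
    Set.ncard_union_eq hd (hfin a ha) (hfin s hsY)
  have hunsub : orbit N a ∪ orbit N s ⊆ Y := Set.union_subset (hsub a ha) (hsub s hsY)
  have hle : (orbit N a ∪ orbit N s).ncard ≤ 7 := hY ▸ Set.ncard_le_ncard hunsub hYfin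
  obtain ⟨k1, hk1⟩ := hodd a ha
  obtain ⟨k2, hk2⟩ := hodd s hsY
  have h3a := h3 a ha
  have h3s := h3 s hsY
  have h6 : (orbit N a ∪ orbit N s).ncard = 6 := by omega
  have hR : (Y \ (orbit N a ∪ orbit N s)).ncard = 1 := by
    rw [Set.ncard_sdiff hunsub (hYfin.subset hunsub), hY, h6]
  obtain ⟨s', hs'⟩ := Set.ncard_eq_one.1 hR
  have hs'R : s' ∈ Y \ (orbit N a ∪ orbit N s) := by rw [hs']; exact Set.mem_singleton s'
  have hs'Y : s' ∈ Y := hs'R.1
  have hs'a : s' ∉ orbit N a := fun h => hs'R.2 (Or.inl h)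
  have hs's : s' ∉ orbit N s := fun h => hs'R.2 (Or.inr h)
  have hsub' : orbit N s' ⊆ {s'} := by
    intro x hx
    rw [← hs']
    refine ⟨hsub s' hs'Y hx, ?_⟩
    rintro (h | h)
    · exact Set.disjoint_left.1 (hdisj a s' hs'a) h hx
    · exact Set.disjoint_left.1 (hdisj s s' hs's) h hx
  have := Set.ncard_le_ncard hsub' (Set.finite_singleton s')
  rw [Set.ncard_singleton] at this
  have := h3 s' hs'Y
  omega

theorem card_subgroupOf_eq_card_inf {G : Type*} [Group G] (K M : Subgroup G) :
    Nat.card ↥(K.subgroupOf M) = Nat.card ↥(K ⊓ M) := by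
  rw [← Subgroup.inf_subgroupOf_right K M]
  exact Nat.card_congr (Subgroup.subgroupOfEquivOfLe (inf_le_right : K ⊓ M ≤ M)).toEquiv

theorem two_cases : ∀ x z : Multiplicative (ZMod 2), z ≠ 1 → x = 1 ∨ x = z := by decide

section Main

variable {G : Type*} [Group G] [Finite G] {L : Type*} [Group L] [Finite L]

/-- Exponent two implies commutative. -/
theorem comm_of_exp_two (P : Subgroup G) (hexp : ∀ x ∈ P, x * x = 1) : ∀ x ∈ P, ∀ y ∈ P, x * y = y * x := by
  intro x hx y hy
  have h1 := hexp (x * y) (P.mul_mem hx hy)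
  have hx' : x⁻¹ = x := inv_eq_of_mul_eq_one_left (hexp x hx)
  have hy' : y⁻¹ = y := inv_eq_of_mul_eq_one_left (hexp y hy)
  have : x * y = (x * y)⁻¹ := (inv_eq_of_mul_eq_one_left h1).symm
  rw [this, mul_inv_rev, hx', hy']

variable (a : G) (φ : ↥(Subgroup.centralizer ({a} : Set G)) ≃* Multiplicative (ZMod 2) × L)
  (P : Subgroup G)

/-- The image of `P ∩ C(a)` in `Z₂ × L`. -/
noncomputable def img : Subgroup (Multiplicative (ZMod 2) × L) :=
  (P.subgroupOf (Subgroup.centralizer ({a} : Set G))).map φ.toMonoidHom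

/-- Its projection to `L`. -/
noncomputable def proj : Subgroup L := (img a φ P).map (MonoidHom.snd (Multiplicative (ZMod 2)) L)

theorem mem_img_iff (x : Multiplicative (ZMod 2) × L) :
    x ∈ img a φ P ↔ ((φ.symm x : ↥(Subgroup.centralizer ({a} : Set G))) : G) ∈ P := by
  unfold img
  constructor
  · rintro ⟨g, hg, rfl⟩
    have : φ.symm (φ.toMonoidHom g) = g := φ.symm_apply_apply g
    rw [this]
    exact Subgroup.mem_subgroupOf.1 hg
  · intro h
    exact ⟨φ.symm x, Subgroup.mem_subgroupOf.2 h, φ.apply_symm_apply x⟩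

theorem card_img (hPC : P ≤ Subgroup.centralizer ({a} : Set G)) : Nat.card ↥(img a φ P) = Nat.card ↥P := by
  unfold img
  rw [Subgroup.card_map_of_injective φ.injective, card_subgroupOf_eq_card_inf, inf_of_le_left hPC]

include φ in
/-- `φ a = (z, 1)` with `z ≠ 1`. -/
theorem phi_a (hLc : Subgroup.center L = ⊥) (ha1 : a ≠ 1) :
    ∃ z : Multiplicative (ZMod 2), z ≠ 1 ∧
      φ ⟨a, Subgroup.mem_centralizer_iff.2 (fun h hh => by rw [Set.mem_singleton_iff.1 hh])⟩ = (z, 1) := by
  set a' : ↥(Subgroup.centralizer ({a} : Set G)) :=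
    ⟨a, Subgroup.mem_centralizer_iff.2 (fun h hh => by rw [Set.mem_singleton_iff.1 hh])⟩ with ha'
  have hcen : ∀ g : ↥(Subgroup.centralizer ({a} : Set G)), g * a' = a' * g := by
    intro g
    apply Subtype.ext
    have := Subgroup.mem_centralizer_iff.1 g.2 a (Set.mem_singleton a)
    exact this.symm
  have h2 : (φ a').2 ∈ Subgroup.center L := by
    rw [Subgroup.mem_center_iff]
    intro l
    have := hcen (φ.symm (1, l))
    have := congrArg φ this
    rw [map_mul, map_mul, φ.apply_symm_apply] at this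
    exact congrArg Prod.snd this
  rw [hLc, Subgroup.mem_bot] at h2
  refine ⟨(φ a').1, ?_, Prod.ext rfl h2⟩
  intro h1
  have : φ a' = 1 := Prod.ext h1 h2
  have : a' = 1 := by
    rw [← φ.symm_apply_apply a', this, map_one]
  exact ha1 (congrArg Subtype.val this)


variable {a φ P}

/-- `img = Z₂ × proj`. -/
theorem img_eq_prod {z : Multiplicative (ZMod 2)} (hz : z ≠ 1) (hzmem : (z, (1 : L)) ∈ img a φ P) :
    img a φ P = (⊤ : Subgroup (Multiplicative (ZMod 2))).prod (proj a φ P) := by
  ext ⟨x, l⟩
  rw [Subgroup.mem_prod]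
  constructor
  · intro h
    exact ⟨Subgroup.mem_top _, ⟨(x, l), h, rfl⟩⟩
  · rintro ⟨-, ⟨⟨x', l'⟩, h, hl⟩⟩
    change l' = l at hl
    subst hl
    rcases two_cases (x * x'⁻¹) z hz with h1 | h1
    · have : x = x' := by rwa [mul_inv_eq_one] at h1
      rw [this]; exact h
    · have : ((x, l') : Multiplicative (ZMod 2) × L) = (z, 1) * (x', l') := by
        ext
        · show x = z * x'
          rw [← h1, inv_mul_cancel_right]
        · show l' = 1 * l'
          rw [one_mul]
      rw [this]
      exact (img a φ P).mul_mem hzmem h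

theorem card_two : Nat.card (Multiplicative (ZMod 2)) = 2 := by
  rw [Nat.card_eq_fintype_card]; rfl

/-- `proj` is a Klein four-group. -/
theorem isKleinFour_proj (hPC : P ≤ Subgroup.centralizer ({a} : Set G)) (hcard : Nat.card ↥P = 8)
    (hexp : ∀ x ∈ P, x * x = 1) {z : Multiplicative (ZMod 2)} (hz : z ≠ 1) (hzmem : (z, (1 : L)) ∈ img a φ P) :
    IsKleinFour ↥(proj a φ P) := by
  have h1 := card_img a φ P hPC
  rw [img_eq_prod hz hzmem, card_top_prod, hcard, card_two] at h1
  have h4 : Nat.card ↥(proj a φ P) = 4 := by omega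
  have hexpV : ∀ v : ↥(proj a φ P), v ^ 2 = 1 := by
    rintro ⟨v, ⟨⟨x, l⟩, hx, hl⟩⟩
    change l = v at hl
    subst hl
    obtain ⟨g, hg, hgx⟩ := hx
    have hg2 : g * g = 1 := Subtype.ext (hexp g (Subgroup.mem_subgroupOf.1 hg))
    have : ((x, l) : Multiplicative (ZMod 2) × L) * (x, l) = 1 := by
      rw [← hgx, ← map_mul, hg2, map_one]
    apply Subtype.ext
    rw [pow_two]
    exact congrArg Prod.snd this
  refine ⟨h4, ?_⟩
  have hd : Monoid.exponent ↥(proj a φ P) ∣ 2 := Monoid.exponent_dvd_of_forall_pow_eq_one hexpV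
  rcases (Nat.dvd_prime Nat.prime_two).1 hd with h | h
  · exfalso
    have := Monoid.exp_eq_one_iff.1 h
    have := Nat.card_unique (α := ↥(proj a φ P))
    omega
  · exact h


variable (a φ)

include φ in
/-- The main lemma when `a ∈ S`. -/
theorem main_of_mem
    (hLc : Subgroup.center L = ⊥)
    (hLV : ∀ V : Subgroup L, IsKleinFour V →
      Nat.card (Subgroup.normalizer (V : Set L)) = 12 ∧ Subgroup.centralizer (V : Set L) = V)
    (ha1 : a ≠ 1)
    (S : Sylow 2 G) (hcard : Nat.card (S : Subgroup G) = 8) (hexp : ∀ x ∈ (S : Subgroup G), x * x = 1)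
    (haS : a ∈ (S : Subgroup G))
    (hfocal : (S : Subgroup G) ≤ ⁅Subgroup.normalizer ((S : Subgroup G) : Set G),
      Subgroup.normalizer ((S : Subgroup G) : Set G)⁆) :
    Subgroup.centralizer ((S : Subgroup G) : Set G) = S ∧
      Nat.card (Subgroup.normalizer ((S : Subgroup G) : Set G)) = 168 := by
  classical
  set P : Subgroup G := (S : Subgroup G) with hP
  set C : Subgroup G := Subgroup.centralizer ({a} : Set G) with hC
  have hcomm := comm_of_exp_two P hexp
  have hPC : P ≤ C := by
    intro x hx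
    rw [hC, Subgroup.mem_centralizer_iff]
    intro h hh
    rw [Set.mem_singleton_iff.1 hh]
    exact hcomm a haS x hx
  obtain ⟨z, hz, hφa⟩ := phi_a a φ hLc ha1
  have hzmem : (z, (1 : L)) ∈ img a φ P := by
    rw [← hφa]
    exact ⟨_, Subgroup.mem_subgroupOf.2 haS, rfl⟩
  have himg := img_eq_prod (a := a) (φ := φ) (P := P) hz hzmem
  haveI hK := isKleinFour_proj (a := a) (φ := φ) (P := P) hPC hcard hexp hz hzmem
  obtain ⟨hN12, hCV⟩ := hLV (proj a φ P) hK
  -- membership in `P` through `φ`
  have hmemP : ∀ g : ↥C, (g : G) ∈ P ↔ (φ g).2 ∈ proj a φ P := by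
    intro g
    have h1 := mem_img_iff a φ P (φ g)
    rw [φ.symm_apply_apply] at h1
    rw [← h1, himg, Subgroup.mem_prod]
    simp
  constructor
  · -- centraliser
    apply le_antisymm
    · intro g hg
      have hgC : g ∈ C := by
        rw [hC, Subgroup.mem_centralizer_iff]
        intro h hh
        rw [Set.mem_singleton_iff.1 hh]
        exact Subgroup.mem_centralizer_iff.1 hg a haS
      have h2 : (φ ⟨g, hgC⟩).2 ∈ Subgroup.centralizer ((proj a φ P : Subgroup L) : Set L) := by
        rw [Subgroup.mem_centralizer_iff]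
        rintro v ⟨⟨x, l⟩, hx, hl⟩
        change l = v at hl
        subst hl
        have hxP : ((φ.symm (x, l) : ↥C) : G) ∈ P := (mem_img_iff a φ P (x, l)).1 hx
        have h3 := Subgroup.mem_centralizer_iff.1 hg _ hxP
        have h4 : φ.symm (x, l) * ⟨g, hgC⟩ = ⟨g, hgC⟩ * φ.symm (x, l) := Subtype.ext h3
        have h5 := congrArg φ h4
        rw [map_mul, map_mul, φ.apply_symm_apply] at h5
        exact congrArg Prod.snd h5
      rw [hCV] at h2
      exact (hmemP ⟨g, hgC⟩).2 h2
    · intro g hg
      rw [Subgroup.mem_centralizer_iff]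
      intro h hh
      exact hcomm h hh g hg
  · -- normaliser
    set Nn : Subgroup G := Subgroup.normalizer (P : Set G) with hNn
    -- `|N(P) ∩ C| = 24`
    have h24 : Nat.card ↥(Nn ⊓ C) = 24 := by
      rw [← card_subgroupOf_eq_card_inf, hNn, Subgroup.subgroupOf_normalizer_eq hPC,
        ← Subgroup.card_map_of_injective (f := φ.toMonoidHom) φ.injective,
        Subgroup.map_equiv_normalizer_eq]
      have : (P.subgroupOf C).map φ.toMonoidHom = img a φ P := rfl
      rw [this, himg, normalizer_top_prod, card_top_prod, card_two, hN12]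
    -- the conjugation action of `N(P)` on `G`
    letI act : MulAction ↥Nn G := MulAction.compHom G ((MulAut.conj : G →* MulAut G).comp Nn.subtype)
    have hsmul : ∀ (n : ↥Nn) (x : G), n • x = (n : G) * x * (n : G)⁻¹ := fun n x => rfl
    set Y : Set G := {x | x ∈ P ∧ x ≠ 1} with hY
    have hPfin : (P : Set G).Finite := Set.toFinite _
    have hYcard : Y.ncard = 7 := by
      have h1 : Y = (P : Set G) \ {1} := by
        ext x; simp [hY]
      have h2 : ((P : Set G)).ncard = 8 := by
        rw [← _root_.Nat.card_coe_set_eq]; exact hcard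
      rw [h1, Set.ncard_sdiff (by simpa using P.one_mem) (Set.finite_singleton _), h2, Set.ncard_singleton]
    have hinv : ∀ n : ↥Nn, ∀ y ∈ Y, n • y ∈ Y := by
      rintro n y ⟨hy, hy1⟩
      refine ⟨?_, ?_⟩
      · rw [hsmul]
        exact (Subgroup.mem_normalizer_iff.1 n.2 y).1 hy
      · rw [hsmul]
        intro h
        apply hy1
        have : y = (n : G)⁻¹ * ((n : G) * y * (n : G)⁻¹) * (n : G) := by group
        rw [this, h]; group
    -- the subgroup `H = P` of `N(P)`
    set H : Subgroup ↥Nn := P.subgroupOf Nn with hH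
    have hPN : P ≤ Nn := Subgroup.le_normalizer
    have hHcomm : ∀ x ∈ H, ∀ y ∈ H, x * y = y * x := by
      intro x hx y hy
      exact Subtype.ext (hcomm _ (Subgroup.mem_subgroupOf.1 hx) _ (Subgroup.mem_subgroupOf.1 hy))
    have hHodd : Odd H.index := by
      have h1 : H.index = P.relIndex Nn := rfl
      have h2 := Subgroup.relIndex_mul_index hPN
      have h3 : (Nat.card ↥P).Coprime P.index := S.card_coprime_index
      rw [hcard] at h3
      rw [h1]
      have h4 : (P.relIndex Nn).Coprime 8 := by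
        apply Nat.Coprime.coprime_dvd_left (Dvd.intro _ h2)
        exact h3.symm
      rw [Nat.odd_iff]
      by_contra hcon
      have : 2 ∣ Nat.gcd (P.relIndex Nn) 8 := Nat.dvd_gcd (by omega) (by norm_num)
      rw [h4] at this
      omega
    have hHstab : ∀ y ∈ Y, H ≤ stabilizer ↥Nn y := by
      rintro y ⟨hy, -⟩ h hh
      rw [mem_stabilizer_iff, hsmul]
      have := hcomm _ (Subgroup.mem_subgroupOf.1 hh) y hy
      rw [this, mul_inv_cancel_right]
    have horbcard : ∀ y : G, Nat.card ↥(orbit ↥Nn y) * Nat.card ↥(stabilizer ↥Nn y) = Nat.card ↥Nn := by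
      intro y
      rw [← Nat.card_prod]
      exact Nat.card_congr (orbitProdStabilizerEquivGroup ↥Nn y)
    have hodd : ∀ y ∈ Y, Odd (orbit ↥Nn y).ncard := by
      intro y hy
      rw [← _root_.Nat.card_coe_set_eq]
      have h1 := horbcard y
      obtain ⟨m, hm⟩ := Subgroup.card_dvd_of_le (hHstab y hy)
      have h2 : Nat.card ↥H * H.index = Nat.card ↥Nn := H.card_mul_index
      rw [hm, ← h2] at h1
      have hHpos : 0 < Nat.card ↥H := Nat.card_pos
      have h3 : Nat.card ↥(orbit ↥Nn y) * m = H.index := by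
        have : Nat.card ↥H * (Nat.card ↥(orbit ↥Nn y) * m) = Nat.card ↥H * H.index := by
          rw [← h1]; ring
        exact Nat.eq_of_mul_eq_mul_left hHpos this
      exact (Nat.odd_mul.1 (h3 ▸ hHodd)).1
    have hne1 : ∀ y ∈ Y, (orbit ↥Nn y).ncard ≠ 1 := by
      rintro y ⟨hy, hy1⟩ hone
      obtain ⟨w, hw⟩ := Set.ncard_eq_one.1 hone
      have hyw : y = w := by
        have : y ∈ orbit ↥Nn y := mem_orbit_self y
        rw [hw] at this
        exact this
      have hfix : ∀ n : ↥Nn, n • y = y := by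
        intro n
        have : n • y ∈ orbit ↥Nn y := mem_orbit y n
        rw [hw, Set.mem_singleton_iff, ← hyw] at this
        exact this
      -- `y` is central in `N(P)`, so not in the commutator subgroup
      have hyN : y ∈ Nn := hPN hy
      have hcen : ∀ n : ↥Nn, n * ⟨y, hyN⟩ = ⟨y, hyN⟩ * n := by
        intro n
        apply Subtype.ext
        have := hfix n
        rw [hsmul] at this
        show (n : G) * y = y * (n : G)
        calc (n : G) * y = ((n : G) * y * (n : G)⁻¹) * (n : G) := by group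
          _ = y * (n : G) := by rw [this]
      have hnot := not_mem_commutator_of_central H hHcomm hHodd ⟨y, hyN⟩ (Subgroup.mem_subgroupOf.2 hy) hcen
        (Subtype.ext (hexp y hy)) (fun h => hy1 (congrArg (fun w : ↥Nn => (w : G)) h))
      apply hnot
      have hyc : y ∈ ⁅Nn, Nn⁆ := hfocal hy
      rw [← Subgroup.map_subtype_commutator] at hyc
      obtain ⟨w', hw', hw'y⟩ := hyc
      have : w' = ⟨y, hyN⟩ := Subtype.ext hw'y
      rw [← this]
      exact hw'
    have haY : a ∈ Y := ⟨haS, ha1⟩
    have horb := orbit_eq_of_ncard_seven (N := ↥Nn) Y hYcard hinv hodd hne1 a haY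
    have h7 : Nat.card ↥(orbit ↥Nn a) = 7 := by
      rw [_root_.Nat.card_coe_set_eq, horb, hYcard]
    have hstab : stabilizer ↥Nn a = C.subgroupOf Nn := by
      ext n
      rw [mem_stabilizer_iff, hsmul, Subgroup.mem_subgroupOf, hC, Subgroup.mem_centralizer_iff]
      constructor
      · intro h x hx
        rw [Set.mem_singleton_iff.1 hx]
        calc a * (n : G) = ((n : G) * a * (n : G)⁻¹) * (n : G) := by rw [h]
          _ = (n : G) * a := by group
      · intro h
        have := h a (Set.mem_singleton a)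
        rw [← this, mul_inv_cancel_right]
    have := horbcard a
    rw [h7, hstab, card_subgroupOf_eq_card_inf, inf_comm, h24] at this
    omega

omit [Finite G] in
theorem centralizer_map_equiv (P : Subgroup G) (f : G ≃* G) :
    Subgroup.centralizer ((P.map f.toMonoidHom : Subgroup G) : Set G)
      = (Subgroup.centralizer (P : Set G)).map f.toMonoidHom := by
  ext x
  rw [Subgroup.mem_centralizer_iff, Subgroup.mem_map_equiv, Subgroup.mem_centralizer_iff]
  constructor
  · intro h y hy
    have := h (f y) ⟨y, hy, rfl⟩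
    apply f.injective
    rw [map_mul, map_mul, f.apply_symm_apply]
    exact this
  · rintro h _ ⟨y, hy, rfl⟩
    have := congrArg f (h y hy)
    rw [map_mul, map_mul, f.apply_symm_apply] at this
    exact this

include φ in
/-- The main lemma. -/
theorem main
    (hLc : Subgroup.center L = ⊥)
    (hLV : ∀ V : Subgroup L, IsKleinFour V →
      Nat.card (Subgroup.normalizer (V : Set L)) = 12 ∧ Subgroup.centralizer (V : Set L) = V)
    (ha1 : a ≠ 1) (ha2 : a * a = 1)
    (hS : ∀ S : Sylow 2 G, Nat.card (S : Subgroup G) = 8 ∧ ∀ x ∈ (S : Subgroup G), x * x = 1)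
    (hfocal : ∀ S : Sylow 2 G, (S : Subgroup G) ≤ ⁅Subgroup.normalizer ((S : Subgroup G) : Set G),
      Subgroup.normalizer ((S : Subgroup G) : Set G)⁆)
    (S : Sylow 2 G) :
    Subgroup.centralizer ((S : Subgroup G) : Set G) = S ∧
      Nat.card (Subgroup.normalizer ((S : Subgroup G) : Set G)) = 168 := by
  classical
  have hord : orderOf a = 2 := orderOf_eq_prime (by rw [pow_two]; exact ha2) ha1
  have hp : IsPGroup 2 ↥(Subgroup.zpowers a) := by
    apply IsPGroup.of_card (n := 1)
    rw [Nat.card_zpowers, hord, pow_one]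
  obtain ⟨S₀, hS₀⟩ := hp.exists_le_sylow
  have haS₀ : a ∈ (S₀ : Subgroup G) := hS₀ (Subgroup.mem_zpowers a)
  obtain ⟨h1, h2⟩ := main_of_mem a φ hLc hLV ha1 S₀ (hS S₀).1 (hS S₀).2 haS₀ (hfocal S₀)
  obtain ⟨g, hg⟩ := MulAction.exists_smul_eq G S₀ S
  have hSS₀ : (S : Subgroup G) = (S₀ : Subgroup G).map (MulAut.conj g).toMonoidHom := by
    rw [← hg, Sylow.coe_subgroup_smul]
    rfl
  rw [hSS₀]
  constructor
  · rw [centralizer_map_equiv, h1]
  · rw [← Subgroup.map_equiv_normalizer_eq, Subgroup.card_map_of_injective (MulAut.conj g).injective, h2]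

end Main

end Cfsg.Agent.Lib.Helper20.ReeSyl2
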