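/-
helper20: S1157 reduced to S1152 + S1073: in a finite nonabelian simple group `G` whose Sylow 2-subgroups are
elementary abelian of order 8 and in which some involution `a` has `C(a) ≃* Z₂ × PSL₂(q)`, `q ≡ 3, 5 (mod 8)`, `q > 3`:
`C(S) = S` and `|N(S)| = 168` for every Sylow 2-subgroup `S`.
-/
import Cfsg.Agent.Lib.Helper20.ReeSyl2
import Cfsg.Agent.Lib.Helper20.PSL2Klein
import Cfsg.Agent.S0074

set_option autoImplicit false

namespace Cfsg.Agent.Lib.Helper20.ReeSyl2

open scoped commutatorElement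

theorem commutator_eq_top_of_simple {G : Type*} [Group G] (hsimple : IsSimpleGroup G)
    (hnc : ¬ IsMulCommutative G) : commutator G = ⊤ := by
  rcases (inferInstance : (commutator G).Normal).eq_bot_or_eq_top with h | h
  · exfalso
    apply hnc
    refine ⟨⟨fun x y => ?_⟩⟩
    have : ⁅x, y⁆ ∈ commutator G := Subgroup.commutator_mem_commutator (Subgroup.mem_top x) (Subgroup.mem_top y)
    rw [h, Subgroup.mem_bot] at this
    exact commutatorElement_eq_one_iff_mul_comm.1 this
  · exact h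

theorem sylow2 {G : Type*} [Group G] [Finite G] (hsimple : IsSimpleGroup G) (hnc : ¬ IsMulCommutative G)
    {F : Type*} [Field F] [Fintype F] {q : ℕ} (hF : Fintype.card F = q) (hq : q % 8 = 3 ∨ q % 8 = 5)
    (hq3 : 3 < q) (a : G) (ha1 : a ≠ 1) (ha2 : a * a = 1)
    (hCa : Nonempty (↥(Subgroup.centralizer ({a} : Set G)) ≃*
      Multiplicative (ZMod 2) × Matrix.ProjectiveSpecialLinearGroup (Fin 2) F))
    (hS : ∀ S : Sylow 2 G, Nat.card (S : Subgroup G) = 8 ∧ ∀ x ∈ (S : Subgroup G), x * x = 1)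
    (S : Sylow 2 G) :
    Subgroup.centralizer ((S : Subgroup G) : Set G) = S ∧
      Nat.card (Subgroup.normalizer ((S : Subgroup G) : Set G)) = 168 := by
  haveI : Fact (Nat.Prime 2) := ⟨Nat.prime_two⟩
  obtain ⟨φ⟩ := hCa
  have hperf := commutator_eq_top_of_simple hsimple hnc
  have hfocal : ∀ S : Sylow 2 G, (S : Subgroup G) ≤ ⁅Subgroup.normalizer ((S : Subgroup G) : Set G),
      Subgroup.normalizer ((S : Subgroup G) : Set G)⁆ := by
    intro S
    have hcomm := comm_of_exp_two (S : Subgroup G) (hS S).2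
    have hSc : IsMulCommutative ↥(S : Subgroup G) :=
      ⟨⟨fun x y => Subtype.ext (hcomm x x.2 y y.2)⟩⟩
    have h74 := Cfsg.Agent.S0074.result S hSc
    rw [hperf, top_inf_eq] at h74
    exact h74.le.trans inf_le_left
  exact main a φ (PSL2Klein.center_eq_bot hF hq hq3)
    (fun V hV => ⟨PSL2Klein.card_normalizer hF hq V hV, PSL2Klein.centralizer_eq hF hq hq3 V hV⟩)
    ha1 ha2 hS hfocal S

end Cfsg.Agent.Lib.Helper20.ReeSyl2
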