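/-
helper20: S1157 (Sylow 2-subgroups of `²G₂(q)`: `C(S) = S`, `|N(S)| = 168`) from the statements of S1152
(centraliser of an involution of `H¹`, Sylow 2-subgroups elementary abelian of order 8) and S1073 (simplicity).
-/
import Cfsg.Agent.Lib.Helper20.ReeSyl2Main
import Cfsg.Agent.Lib.Helper20.ReeH0
import Cfsg.Agent.Lib.Helper20.ReeGlue
import Cfsg.Agent.Lib.Helper61.Ree.HFix

set_option autoImplicit false

namespace Cfsg.Agent.Lib.Helper20.ReeSyl2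

open Cfsg.Lie Cfsg.Agent.Lib.Helper61.Ree

theorem three_pow_mod_eight (m : ℕ) : 3 ^ (2 * m + 1) % 8 = 3 := by
  rw [pow_succ, pow_mul, Nat.mul_mod, Nat.pow_mod]
  norm_num

/-- The involution `h(-1) ∈ H¹`. -/
theorem exists_involution {K : Type*} [Field K] [Fintype K] [CharP K 3] (m : ℕ) :
    ∃ a : ↥(twistedG2 K (3 ^ m)), (a : GL chevG2.Idx K) ∈ chevG2.diagonalSubgroup K ∧ a ≠ 1 ∧ a * a = 1 := by
  obtain ⟨g, hg, hgm⟩ := Cfsg.Agent.Lib.Helper20.ReeH0.h0_mem (K := K) (3 ^ m) (Odd.pow (by decide))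
  have hgr : g = reeH (3 ^ m) (-1 : Kˣ) := by
    apply Units.ext
    rw [hgm, coe_reeH_neg_one]
  refine ⟨⟨g, hg⟩, ?_, ?_, ?_⟩
  · show g ∈ chevG2.diagonalSubgroup K
    rw [hgr]
    exact reeH_mem_H _ _
  · intro h
    have h1 : g = 1 := congrArg Subtype.val h
    rw [hgr, ← reeH_one (K := K) (3 ^ m)] at h1
    exact Cfsg.Agent.Lib.Helper20.ReeGlue.neg_one_ne_one (reeH_injective _ h1)
  · apply Subtype.ext
    show g * g = 1
    rw [hgr, ← reeH_mul, neg_mul_neg, one_mul, reeH_one]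

/-- S1157 from S1152 and S1073. -/
theorem result_of {K : Type*} [Field K] [Fintype K] {m : ℕ} (hm : 1 ≤ m) (hK : Fintype.card K = 3 ^ (2 * m + 1))
    (h1152 : ∀ (a : ↥(Cfsg.Lie.twistedG2 K (3 ^ m))),
      (a : GL Cfsg.Lie.chevG2.Idx K) ∈ Cfsg.Lie.chevG2.diagonalSubgroup K → a ≠ 1 → a * a = 1 →
      Nonempty (↥(Subgroup.centralizer {a}) ≃*
        Multiplicative (ZMod 2) × Matrix.ProjectiveSpecialLinearGroup (Fin 2) K) ∧
      ∀ S : Sylow 2 ↥(Cfsg.Lie.twistedG2 K (3 ^ m)), Nat.card S = 8 ∧ ∀ x ∈ S, x * x = 1)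
    (h1073 : IsSimpleGroup ↥(Cfsg.Lie.twistedG2 K (3 ^ m)) ∧ ¬ IsMulCommutative ↥(Cfsg.Lie.twistedG2 K (3 ^ m)))
    (S : Sylow 2 ↥(Cfsg.Lie.twistedG2 K (3 ^ m))) :
    Subgroup.centralizer ((S : Subgroup ↥(Cfsg.Lie.twistedG2 K (3 ^ m))) : Set ↥(Cfsg.Lie.twistedG2 K (3 ^ m))) = S ∧
      Nat.card (Subgroup.normalizer ((S : Subgroup ↥(Cfsg.Lie.twistedG2 K (3 ^ m))) : Set ↥(Cfsg.Lie.twistedG2 K (3 ^ m)))) = 168 := by
  haveI : CharP K 3 := Cfsg.Agent.S1101.charP_three hK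
  obtain ⟨a, haH, ha1, ha2⟩ := exists_involution (K := K) m
  obtain ⟨hCa, hS⟩ := h1152 a haH ha1 ha2
  have hq3 : 3 < 3 ^ (2 * m + 1) := by
    calc 3 = 3 ^ 1 := by norm_num
      _ < 3 ^ (2 * m + 1) := Nat.pow_lt_pow_right (by norm_num) (by omega)
  exact sylow2 h1073.1 h1073.2 hK (Or.inl (three_pow_mod_eight m)) hq3 a ha1 ha2 hCa
    (fun S => ⟨(hS S).1, fun x hx => (hS S).2 x hx⟩) S

end Cfsg.Agent.Lib.Helper20.ReeSyl2
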