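/-
helper20: S1153 and S1155 (literal statements) from ANY `TwData` on `GL chevG2.Idx K` whose `U`, `H`, `G¹`, `F` are the
positive unipotent subgroup, the diagonal subgroup, `twistedG2 K (3^m)` and the fixed points of helper91's `reeSigma`.
(The fixed torus lies in `²G₂` by helper19's `torus_mem_G1` + the certificate `ReeH0.h0_mem`.)
-/
import Cfsg.Agent.Lib.Helper20.ReeGlue
import Cfsg.Agent.Lib.Helper20.ReeSyl2Final

set_option autoImplicit false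
set_option linter.unusedSectionVars false

namespace Cfsg.Agent.Lib.Helper20.ReeGlue

open Cfsg.Lie Cfsg.Agent.Lib.Helper18 Cfsg.Agent.Lib.Helper61.ChevJ.G2Short
  Cfsg.Agent.Lib.Helper61.ChevJ.G2Char3 Cfsg.Agent.Lib.Helper61.Ree Cfsg.Agent.Lib.Helper19.ReeAbs
  Cfsg.Agent.Lib.Helper91.Ree MulAction

universe u

variable {K : Type u} [Field K] [Fintype K] {m : ℕ}

theorem three_pow_mod_four (m : ℕ) : 3 ^ (2 * m + 1) % 4 = 3 := by
  rw [pow_succ, pow_mul, Nat.mul_mod, Nat.pow_mod]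
  norm_num

/-- `reeH (3^m) (-1) ∈ ²G₂`. -/
theorem reeH_neg_one_mem [CharP K 3] (m : ℕ) : reeH (3 ^ m) (-1 : Kˣ) ∈ twistedG2 K (3 ^ m) := by
  obtain ⟨g, hg, hgm⟩ := Cfsg.Agent.Lib.Helper20.ReeH0.h0_mem (K := K) (3 ^ m) (Odd.pow (by decide))
  have hgr : g = reeH (3 ^ m) (-1 : Kˣ) := by
    apply Units.ext
    rw [hgm, coe_reeH_neg_one]
  rw [← hgr]
  exact hg

/-- The instance hypotheses of `ReeGlue` from the four identifications. -/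
theorem inst_of [CharP K 3] (hK : Fintype.card K = 3 ^ (2 * m + 1)) (T : TwData (GL chevG2.Idx K))
    (hU : T.U = chevG2.posUnipotent K) (hH : T.H = chevG2.diagonalSubgroup K)
    (hG1 : T.G1 = twistedG2 K (3 ^ m)) (hF : T.F = (reeFix K m).map (chevG2.group K).subtype) :
    Inst T m := by
  refine ⟨hU, hH, hG1, ?_⟩
  intro c
  have hcard : Fintype.card K % 4 = 3 := by rw [hK]; exact three_pow_mod_four m
  have := T.torus_mem_G1 hcard (reeHHom (3 ^ m))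
    (fun c => by rw [hH]; exact reeH_mem_H _ c)
    (fun c => by rw [hF]; exact reeH_mem_F m (hq_of_card hK) c)
    (by rw [hG1]; exact reeH_neg_one_mem m) c
  rw [hG1] at this
  exact this

/-- S1153, literally. -/
theorem s1153_of [CharP K 3] (hK : Fintype.card K = 3 ^ (2 * m + 1)) (T : TwData (GL chevG2.Idx K))
    (hU : T.U = chevG2.posUnipotent K) (hH : T.H = chevG2.diagonalSubgroup K)
    (hG1 : T.G1 = twistedG2 K (3 ^ m)) (hF : T.F = (reeFix K m).map (chevG2.group K).subtype) :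
    (∀ x y z : ↥(Cfsg.Lie.twistedG2 K (3 ^ m)) ⧸ ((Cfsg.Lie.chevG2.borelSubgroup K ⊓ Cfsg.Lie.twistedG2 K (3 ^ m))).subgroupOf (Cfsg.Lie.twistedG2 K (3 ^ m)), x ≠ y → x ≠ z → y ≠ z →
        Nat.card ↥(MulAction.stabilizer ↥(Cfsg.Lie.twistedG2 K (3 ^ m)) x ⊓ MulAction.stabilizer ↥(Cfsg.Lie.twistedG2 K (3 ^ m)) y ⊓ MulAction.stabilizer ↥(Cfsg.Lie.twistedG2 K (3 ^ m)) z) ≤ 2) ∧
      ∃ x y z : ↥(Cfsg.Lie.twistedG2 K (3 ^ m)) ⧸ ((Cfsg.Lie.chevG2.borelSubgroup K ⊓ Cfsg.Lie.twistedG2 K (3 ^ m))).subgroupOf (Cfsg.Lie.twistedG2 K (3 ^ m)), x ≠ y ∧ x ≠ z ∧ y ≠ z ∧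
        Nat.card ↥(MulAction.stabilizer ↥(Cfsg.Lie.twistedG2 K (3 ^ m)) x ⊓ MulAction.stabilizer ↥(Cfsg.Lie.twistedG2 K (3 ^ m)) y ⊓ MulAction.stabilizer ↥(Cfsg.Lie.twistedG2 K (3 ^ m)) z) = 2 := by
  have I := inst_of hK T hU hH hG1 hF
  have key : ∀ (U' H' G' : Subgroup (GL chevG2.Idx K)), T.U = U' → T.H = H' → T.G1 = G' →
      ((∀ x y z : ↥G' ⧸ ((U' ⊔ H') ⊓ G').subgroupOf G', x ≠ y → x ≠ z → y ≠ z →
        Nat.card ↥(stabilizer ↥G' x ⊓ stabilizer ↥G' y ⊓ stabilizer ↥G' z) ≤ 2) ∧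
      ∃ x y z : ↥G' ⧸ ((U' ⊔ H') ⊓ G').subgroupOf G', x ≠ y ∧ x ≠ z ∧ y ≠ z ∧
        Nat.card ↥(stabilizer ↥G' x ⊓ stabilizer ↥G' y ⊓ stabilizer ↥G' z) = 2) := by
    rintro _ _ _ rfl rfl rfl
    exact three_point hK T I
  exact key _ _ _ hU hH hG1

/-- S1155, literally. -/
theorem s1155_of [CharP K 3] (hK : Fintype.card K = 3 ^ (2 * m + 1)) (T : TwData (GL chevG2.Idx K))
    (hU : T.U = chevG2.posUnipotent K) (hH : T.H = chevG2.diagonalSubgroup K)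
    (hG1 : T.G1 = twistedG2 K (3 ^ m)) (hF : T.F = (reeFix K m).map (chevG2.group K).subtype)
    (P Q : Sylow 3 ↥(Cfsg.Lie.twistedG2 K (3 ^ m))) (hPQ : P ≠ Q) :
    (P : Subgroup ↥(Cfsg.Lie.twistedG2 K (3 ^ m))) ⊓ (Q : Subgroup ↥(Cfsg.Lie.twistedG2 K (3 ^ m))) = ⊥ := by
  have I := inst_of hK T hU hH hG1 hF
  have key : ∀ (G' : Subgroup (GL chevG2.Idx K)), T.G1 = G' →
      ∀ (P Q : Sylow 3 ↥G'), P ≠ Q → (P : Subgroup ↥G') ⊓ (Q : Subgroup ↥G') = ⊥ := by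
    rintro _ rfl P Q hPQ
    exact sylow_TI hK T I P Q hPQ
  exact key _ hG1 P Q hPQ

end Cfsg.Agent.Lib.Helper20.ReeGlue
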