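/-
helper20: the multiplication law of `U¹ ≤ ²G₂(3^(2m+1))` in the coordinates `(t, u, v)` of helper61's `reeWordU`,
with inverse, commutators and the three layers.
-/
import Cfsg.Agent.Lib.Helper20.ReeCube
import Cfsg.Agent.Lib.Helper61.Ree.HAct

set_option autoImplicit false

namespace Cfsg.Agent.Lib.Helper20.ReeUMul

open Cfsg.Lie Cfsg.Agent.Lib.Helper18 Cfsg.Agent.Lib.Helper61.ChevJ.G2Short
  Cfsg.Agent.Lib.Helper61.ChevJ.G2Char3

universe u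

variable {K : Type u} [Field K] [CharP K 3] {m : ℕ}

theorem frob_add (x y : K) : (x + y) ^ 3 ^ m = x ^ 3 ^ m + y ^ 3 ^ m := by
  have : Fact (Nat.Prime 3) := ⟨Nat.prime_three⟩
  exact add_pow_char_pow x y 3 m

theorem frob_sub (x y : K) : (x - y) ^ 3 ^ m = x ^ 3 ^ m - y ^ 3 ^ m := by
  have : Fact (Nat.Prime 3) := ⟨Nat.prime_three⟩
  exact sub_pow_char_pow x y m

omit [CharP K 3] in
theorem frob_back (hq : ∀ t : K, t ^ (3 * 3 ^ m * 3 ^ m) = t) (x : K) : ((x ^ 3 ^ m) ^ 3) ^ 3 ^ m = x := by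
  rw [← pow_mul, ← pow_mul]
  have := hq x
  rw [← this]
  congr 1
  ring

/-- The element `(t, u, v)` of `U¹`. -/
noncomputable def R (m : ℕ) (t u v : K) : GL chevG2.Idx K := wordG hG2 (reeWordU (3 ^ m) t u v)

theorem R_eq (t u v : K) :
    R m t u v = uu t (t ^ 3 ^ m) (u ^ 3 ^ m) (v ^ 3 ^ m) (u + (t ^ 3 ^ m) ^ 3 * t) (v + (t ^ 3 ^ m) ^ 3 * t ^ 2) :=
  wordG_reeWordU (3 ^ m) t u v

/-- The multiplication law. -/
theorem R_mul (hq : ∀ t : K, t ^ (3 * 3 ^ m * 3 ^ m) = t) (t u v t' u' v' : K) :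
    R m t u v * R m t' u' v' = R m (t + t') (u + u' - t * (t' ^ 3 ^ m) ^ 3)
      (v + v' - t' * u - t ^ 2 * (t' ^ 3 ^ m) ^ 3 + t * (t' ^ 3 ^ m) ^ 3 * t') := by
  have h3 : (3 : K) = 0 := three_eq_zero'
  rw [R_eq, R_eq, R_eq, uu_mul]
  have hb' := frob_back hq t'
  simp only [frob_add, frob_sub, mul_pow]
  rw [hb', pow_right_comm t 2 (3 ^ m)]
  generalize t ^ 3 ^ m = X
  generalize t' ^ 3 ^ m = X'
  generalize u ^ 3 ^ m = Y
  generalize u' ^ 3 ^ m = Y'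
  generalize v ^ 3 ^ m = Z
  generalize v' ^ 3 ^ m = Z'
  refine uu_congr rfl rfl ?_ ?_ ?_ ?_
  · ring
  · ring
  · linear_combination (-(X ^ 2 * X' + X * X' ^ 2) * (t + t')) * h3
  · linear_combination (-(X ^ 3 * t * t') - t * t' * X' ^ 3 - (X ^ 2 * X' + X * X' ^ 2) * (t + t') ^ 2) * h3


theorem R_zero : R m (0 : K) 0 0 = 1 :=
  ReeCube.reeU_zero (3 ^ m) (pow_ne_zero _ (by norm_num))

/-- Splitting off the `t`-coordinate. -/
theorem R_split1 (hq : ∀ t : K, t ^ (3 * 3 ^ m * 3 ^ m) = t) (t u v u1 v1 : K) :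
    R m t u v = R m t u1 v1 * R m 0 (u - u1) (v - v1) := by
  rw [R_mul hq]
  have h0 : ((0 : K) ^ 3 ^ m) ^ 3 = 0 := by
    rw [zero_pow (pow_ne_zero _ (by norm_num)), zero_pow (by norm_num)]
  rw [h0]
  congr 1 <;> ring

/-- Splitting off the `u`-coordinate. -/
theorem R_split2 (hq : ∀ t : K, t ^ (3 * 3 ^ m * 3 ^ m) = t) (u v v2 : K) :
    R m 0 u v = R m 0 u v2 * R m 0 0 (v - v2) := by
  rw [R_mul hq]
  have h0 : ((0 : K) ^ 3 ^ m) ^ 3 = 0 := by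
    rw [zero_pow (pow_ne_zero _ (by norm_num)), zero_pow (by norm_num)]
  rw [h0]
  congr 1 <;> ring

/-- The cube of an element of `U¹`. -/
theorem R_cube (hq : ∀ t : K, t ^ (3 * 3 ^ m * 3 ^ m) = t) (t u v : K) :
    (R m t u v) ^ 3 = R m 0 0 (-(t ^ 2 * (t ^ 3 ^ m) ^ 3)) := by
  rw [R_eq, R_eq, ReeCube.uu_cube]
  have hodd : Odd (3 ^ m) := Odd.pow (by decide)
  have h0 : ((0 : K) ^ 3 ^ m) = 0 := zero_pow (pow_ne_zero _ (by norm_num))
  have hb := frob_back hq t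
  rw [h0, hodd.neg_pow, mul_pow, hb, pow_right_comm t 2 (3 ^ m)]
  refine uu_congr rfl rfl rfl ?_ ?_ ?_ <;> ring

end Cfsg.Agent.Lib.Helper20.ReeUMul
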