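/-
helper20: a subgroup of `U¹ ≤ ²G₂(3^(2m+1))` normalised by the torus `H¹` and containing an element with
non-zero `t`-coordinate is all of `U¹` (the torus acts on the three layers through `χ₁` (onto), `χ₂` (squares), `id`).
-/
import Cfsg.Agent.Lib.Helper20.ReeUMul

set_option autoImplicit false

namespace Cfsg.Agent.Lib.Helper20.ReeLayers

open Cfsg.Lie Cfsg.Agent.Lib.Helper18 Cfsg.Agent.Lib.Helper61.ChevJ.G2Short
  Cfsg.Agent.Lib.Helper61.ChevJ.G2Char3 Cfsg.Agent.Lib.Helper61.Ree Cfsg.Agent.Lib.Helper20.ReeUMul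

universe u

variable {K : Type u} [Field K] [Fintype K] {m : ℕ}

omit [Fintype K] in
/-- `χ₁ : c ↦ c² / c^(3θ)` is onto `Kˣ`. -/
theorem chi1_surj (hq : ∀ t : K, t ^ (3 * 3 ^ m * 3 ^ m) = t) (s : K) (hs : s ≠ 0) :
    ∃ c : Kˣ, (c : K) ^ 2 * ((c : K) ^ (3 * 3 ^ m))⁻¹ = s := by
  refine ⟨Units.mk0 (s ^ (3 * 3 ^ m + 2)) (pow_ne_zero _ hs), ?_⟩
  rw [Units.val_mk0]
  have h1 : (s ^ (3 * 3 ^ m + 2)) ^ (3 * 3 ^ m) = s ^ 3 * s ^ (2 * (3 * 3 ^ m)) := by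
    have : (3 * 3 ^ m + 2) * (3 * 3 ^ m) = (3 * 3 ^ m * 3 ^ m) * 3 + 2 * (3 * 3 ^ m) := by ring
    rw [← pow_mul, this, pow_add, pow_mul, hq]
  have h2 : (s ^ (3 * 3 ^ m + 2)) ^ 2 = s ^ 4 * s ^ (2 * (3 * 3 ^ m)) := by
    rw [← pow_mul, ← pow_add]; congr 1; ring
  rw [h1, h2]
  have hne : s ^ (2 * (3 * 3 ^ m)) ≠ 0 := pow_ne_zero _ hs
  field_simp

omit [Fintype K] in
/-- The image of `χ₂ : c ↦ c^(3θ) / c` contains the non-zero squares. -/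
theorem chi2_sq (hq : ∀ t : K, t ^ (3 * 3 ^ m * 3 ^ m) = t) (a : K) (ha : a ≠ 0) :
    ∃ c : Kˣ, (c : K) ^ (3 * 3 ^ m) * (c : K)⁻¹ = a ^ 2 := by
  refine ⟨Units.mk0 (a ^ (3 * 3 ^ m + 1)) (pow_ne_zero _ ha), ?_⟩
  rw [Units.val_mk0]
  have h1 : (a ^ (3 * 3 ^ m + 1)) ^ (3 * 3 ^ m) = a ^ 3 * a ^ (3 * 3 ^ m) := by
    have : (3 * 3 ^ m + 1) * (3 * 3 ^ m) = (3 * 3 ^ m * 3 ^ m) * 3 + (3 * 3 ^ m) := by ring
    rw [← pow_mul, this, pow_add, pow_mul, hq]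
  rw [h1]
  have hne : a ^ (3 * 3 ^ m) ≠ 0 := pow_ne_zero _ ha
  field_simp
  rw [pow_succ]
  ring

/-- Every element of a finite field of odd characteristic is a sum of two squares. -/
theorem two_squares (hodd : Fintype.card K % 2 = 1) (x : K) : ∃ a b : K, a ^ 2 + b ^ 2 = x := by
  classical
  have hf : (Polynomial.X ^ 2 : Polynomial K).degree = 2 := Polynomial.degree_X_pow 2
  have hg : (Polynomial.X ^ 2 - Polynomial.C x : Polynomial K).degree = 2 :=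
    Polynomial.degree_X_pow_sub_C (by norm_num) x
  obtain ⟨a, b, hab⟩ := FiniteField.exists_root_sum_quadratic hf hg hodd
  refine ⟨a, b, ?_⟩
  simp only [Polynomial.eval_pow, Polynomial.eval_X, Polynomial.eval_sub, Polynomial.eval_C] at hab
  linear_combination hab

/-- Some element is moved by `x ↦ x^(3θ)` when `q > 3`. -/
theorem exists_not_fixed (hm : 1 ≤ m) (hK : Fintype.card K = 3 ^ (2 * m + 1))
    (hq : ∀ t : K, t ^ (3 * 3 ^ m * 3 ^ m) = t) : ∃ s : K, (s ^ 3 ^ m) ^ 3 ≠ s := by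
  classical
  by_contra hcon
  push Not at hcon
  -- then `s ^ θ = s` and `s ^ 3 = s` for all `s`
  have h1 : ∀ s : K, s ^ 3 ^ m = s := by
    intro s
    have := ReeUMul.frob_back hq s
    rw [hcon s] at this
    exact this
  have h2 : ∀ s : K, s ^ 3 = s := by
    intro s
    have := hcon s
    rwa [h1 s] at this
  -- a generator of `Kˣ` has order at most 2
  obtain ⟨g, hg⟩ := IsCyclic.exists_generator (α := Kˣ)
  have hord : orderOf g = Fintype.card K - 1 := by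
    rw [orderOf_eq_card_of_forall_mem_zpowers hg, Nat.card_eq_fintype_card, Fintype.card_units]
  have hg2 : g ^ 2 = 1 := by
    apply Units.ext
    have h3 := h2 (g : K)
    have hne : (g : K) ≠ 0 := g.ne_zero
    have : (g : K) ^ 2 * (g : K) = 1 * (g : K) := by rw [one_mul, ← pow_succ]; exact h3
    have := mul_right_cancel₀ hne this
    simpa using this
  have hdvd := orderOf_dvd_of_pow_eq_one hg2
  rw [hord, hK] at hdvd
  have hle := Nat.le_of_dvd (by norm_num) hdvd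
  have h27 : 27 ≤ 3 ^ (2 * m + 1) := by
    calc 27 = 3 ^ 3 := by norm_num
      _ ≤ 3 ^ (2 * m + 1) := Nat.pow_le_pow_right (by norm_num) (by omega)
  omega


/-- The torus action on `U¹` in the coordinates `R`. -/
theorem R_conj [CharP K 3] (hq : ∀ t : K, t ^ (3 * 3 ^ m * 3 ^ m) = t) (c : Kˣ) (t u v : K) :
    reeH (3 ^ m) c * R m t u v * (reeH (3 ^ m) c)⁻¹
      = R m ((c : K) ^ 2 * ((c : K) ^ (3 * 3 ^ m))⁻¹ * t) ((c : K) ^ (3 * 3 ^ m) * (c : K)⁻¹ * u) ((c : K) * v) :=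
  reeH_conj m hq c t u v

/-- A subgroup normalised by the torus and containing an element of `U¹` with `t ≠ 0` contains `U¹`. -/
theorem layers [CharP K 3] (hm : 1 ≤ m) (hK : Fintype.card K = 3 ^ (2 * m + 1))
    (T : Subgroup (GL chevG2.Idx K))
    (hH : ∀ c : Kˣ, ∀ x ∈ T, reeH (3 ^ m) c * x * (reeH (3 ^ m) c)⁻¹ ∈ T)
    (t₀ u₀ v₀ : K) (ht₀ : t₀ ≠ 0) (hx₀ : R m t₀ u₀ v₀ ∈ T) : ∀ t u v : K, R m t u v ∈ T := by
  have hq : ∀ t : K, t ^ (3 * 3 ^ m * 3 ^ m) = t := by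
    intro t
    have e : 3 * 3 ^ m * 3 ^ m = Fintype.card K := by rw [hK]; ring
    rw [e, FiniteField.pow_card]
  have hconj : ∀ (c : Kˣ) (t u v : K), R m t u v ∈ T →
      R m ((c : K) ^ 2 * ((c : K) ^ (3 * 3 ^ m))⁻¹ * t) ((c : K) ^ (3 * 3 ^ m) * (c : K)⁻¹ * u) ((c : K) * v) ∈ T := by
    intro c t u v h
    rw [← R_conj hq]
    exact hH c _ h
  have h1T : R m (0 : K) 0 0 ∈ T := by rw [R_zero]; exact T.one_mem
  have h00 : ((0 : K) ^ 3 ^ m) ^ 3 = 0 := by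
    rw [zero_pow (pow_ne_zero _ (by norm_num)), zero_pow (by norm_num)]
  -- first layer
  have L1 : ∀ t : K, ∃ u v : K, R m t u v ∈ T := by
    intro t
    by_cases ht : t = 0
    · exact ⟨0, 0, ht ▸ h1T⟩
    · obtain ⟨c, hc⟩ := chi1_surj hq (t / t₀) (div_ne_zero ht ht₀)
      have := hconj c _ _ _ hx₀
      rw [hc, div_mul_cancel₀ t ht₀] at this
      exact ⟨_, _, this⟩
  -- third layer
  have L3 : ∀ v : K, R m 0 0 v ∈ T := by
    intro v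
    have h3 : R m 0 0 (-(t₀ ^ 2 * (t₀ ^ 3 ^ m) ^ 3)) ∈ T := by
      rw [← R_cube hq t₀ u₀ v₀]
      exact pow_mem hx₀ 3
    have hv3 : -(t₀ ^ 2 * (t₀ ^ 3 ^ m) ^ 3) ≠ 0 :=
      neg_ne_zero.mpr (mul_ne_zero (pow_ne_zero _ ht₀) (pow_ne_zero _ (pow_ne_zero _ ht₀)))
    by_cases hv : v = 0
    · exact hv ▸ h1T
    · have := hconj (Units.mk0 (v / (-(t₀ ^ 2 * (t₀ ^ 3 ^ m) ^ 3))) (div_ne_zero hv hv3)) _ _ _ h3
      rw [mul_zero, mul_zero, Units.val_mk0, div_mul_cancel₀ v hv3] at this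
      exact this
  -- second layer
  have L2 : ∀ u : K, ∃ v : K, R m 0 u v ∈ T := by
    obtain ⟨s, hs⟩ := exists_not_fixed hm hK hq
    obtain ⟨u1, v1, h1⟩ := L1 1
    obtain ⟨us, vs, h2⟩ := L1 s
    have hP : R m 1 u1 v1 * R m s us vs ∈ T := mul_mem h1 h2
    have hQ : R m s us vs * R m 1 u1 v1 ∈ T := mul_mem h2 h1
    rw [R_mul hq] at hP hQ
    rw [add_comm (1 : K) s, R_split1 hq (s + 1) _ _ (us + u1 - s * ((1 : K) ^ 3 ^ m) ^ 3)
      (vs + v1 - 1 * us - s ^ 2 * ((1 : K) ^ 3 ^ m) ^ 3 + s * ((1 : K) ^ 3 ^ m) ^ 3 * 1)] at hP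
    have hw := (Subgroup.mul_mem_cancel_left T hQ).mp hP
    have hwu : u1 + us - 1 * (s ^ 3 ^ m) ^ 3 - (us + u1 - s * ((1 : K) ^ 3 ^ m) ^ 3) = s - (s ^ 3 ^ m) ^ 3 := by
      rw [one_pow, one_pow]; ring
    rw [hwu] at hw
    have hw0 : s - (s ^ 3 ^ m) ^ 3 ≠ 0 := sub_ne_zero.mpr (Ne.symm hs)
    generalize s - (s ^ 3 ^ m) ^ 3 = w at hw hw0
    generalize (vs + v1 - 1 * us - s ^ 2 * ((1 : K) ^ 3 ^ m) ^ 3 + s * ((1 : K) ^ 3 ^ m) ^ 3 * 1) = q1 at hw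
    generalize (v1 + vs - s * u1 - 1 ^ 2 * (s ^ 3 ^ m) ^ 3 + 1 * (s ^ 3 ^ m) ^ 3 * s - q1) = vw at hw
    -- square multiples
    have hsq : ∀ a : K, ∃ v : K, R m 0 (a ^ 2 * w) v ∈ T := by
      intro a
      by_cases ha : a = 0
      · refine ⟨0, ?_⟩
        rw [ha, zero_pow (by norm_num), zero_mul]
        exact h1T
      · obtain ⟨c, hc⟩ := chi2_sq hq a ha
        have := hconj c _ _ _ hw
        rw [hc, mul_zero] at this
        exact ⟨_, this⟩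
    intro u
    have hodd : Fintype.card K % 2 = 1 := by
      rw [hK]; exact Nat.odd_iff.mp (Odd.pow (by decide))
    obtain ⟨a, b, hab⟩ := two_squares hodd (u / w)
    obtain ⟨va, hva⟩ := hsq a
    obtain ⟨vb, hvb⟩ := hsq b
    have := mul_mem hva hvb
    rw [R_mul hq, h00, mul_zero, sub_zero, add_zero] at this
    have e : a ^ 2 * w + b ^ 2 * w = u := by
      rw [← add_mul, hab, div_mul_cancel₀ u hw0]
    rw [e] at this
    exact ⟨_, this⟩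
  intro t u v
  obtain ⟨u1, v1, h1⟩ := L1 t
  obtain ⟨v2, h2⟩ := L2 (u - u1)
  rw [R_split1 hq t u v u1 v1, R_split2 hq (u - u1) (v - v1) v2]
  exact mul_mem h1 (mul_mem h2 (L3 _))

end Cfsg.Agent.Lib.Helper20.ReeLayers
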