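/-
helper20: (backup) the `TwData` structure of helper19's abstract rank-one machine on `GL chevG2.Idx K` for the small
Ree group `²G₂(3^(2m+1)) = twistedG2 K (3^m)`, assembled from the modules of the `²G₂` tower:
REE-[SIG] (helper91), REE-[FIXU] (helper61), REE-[LONG] (helper43/helper61), REE-[W0] (helper18) and helper18's
Bruhat machinery.
-/
import Cfsg.Agent.Lib.Helper19.ReeAbsE
import Cfsg.Agent.Lib.Helper91.ReeSig
import Cfsg.Agent.Lib.Helper61.Ree.FixU
import Cfsg.Agent.Lib.Helper43.ReeLong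
import Cfsg.Agent.Lib.Helper18.ReeW0
import Cfsg.Agent.Lib.Helper61.ChevJ.G2ReeV

set_option autoImplicit false
set_option linter.unusedSectionVars false

namespace Cfsg.Agent.Lib.Helper20.ReeTw

open Cfsg.Lie Cfsg.Agent.Lib.Helper18 Cfsg.Agent.Lib.Helper91.Ree Cfsg.Agent.Lib.Helper43.Ree
  Cfsg.Agent.Lib.Helper19.ReeAbs Cfsg.Agent.Lib.Helper61.Ree Cfsg.Agent.Lib.Helper61.ChevJ.G2Char3
  Cfsg.Agent.Lib.Helper61.ChevJ.G2Short Cfsg.Agent.Lib.Helper61.ChevJ.G2ReeV Cfsg.Agent.Lib.Helper18.ReeW0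
  Cfsg.Agent.Lib.Helper61.ChevJ
open Cfsg.Agent.S1099 (hD2)

universe u

variable (K : Type u) [Field K] [Fintype K] [CharP K 3] (m : ℕ)

theorem F_le_group : (reeFix K m).map (chevG2.group K).subtype ≤ chevG2.group K := by
  rintro _ ⟨g, -, rfl⟩
  exact g.2

/-- Existence of the strong Bruhat form in `G₂(K)`. -/
theorem exists_form (g : GL chevG2.Idx K) (hg : g ∈ chevG2.group K) :
    ∃ u₀ ∈ chevG2.posUnipotent K, ∃ n ∈ chevG2.monomialSubgroup K,
      ∃ u ∈ Subgroup.closure (UnegSet chevG2 K n), g = u₀ * n * u := by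
  obtain ⟨L⟩ := nonempty_levelData chevG2 hD2
  obtain ⟨b, hb, n, hn, u, hu, rfl⟩ := exists_bruhat_form hD2 chevData_G2.{u} L g hg
  obtain ⟨u₀, hu₀, h₀, hh₀, rfl⟩ := (mem_borel_iff chevG2 hD2 b).mp hb
  have hn₁ : h₀ * n ∈ chevG2.monomialSubgroup K := mul_mem (diagonal_le_monomial hD2 hh₀) hn
  have hu₁ : u ∈ Subgroup.closure (UnegSet chevG2 K (h₀ * n)) :=
    Subgroup.closure_mono (UnegSet_diag_mul hD2 n h₀ hh₀) hu
  exact ⟨u₀, hu₀, h₀ * n, hn₁, u, hu₁, by group⟩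

variable {K} in
theorem hq_of_card {m : ℕ} (hK : Fintype.card K = 3 ^ (2 * m + 1)) : ∀ t : K, t ^ (3 * 3 ^ m * 3 ^ m) = t := by
  intro t
  have e : 3 * 3 ^ m * 3 ^ m = Fintype.card K := by rw [hK]; ring
  rw [e, FiniteField.pow_card]

variable {K m} in
/-- The `TwData` of the small Ree group. -/
noncomputable def reeTw (hK : Fintype.card K = 3 ^ (2 * m + 1)) : TwData (GL chevG2.Idx K) where
  U := chevG2.posUnipotent K
  V := chevG2.negUnipotent K
  H := chevG2.diagonalSubgroup K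
  N := chevG2.monomialSubgroup K
  Um n := Subgroup.closure (UnegSet chevG2 K n)
  L n := reeLong K n
  F := (reeFix K m).map (chevG2.group K).subtype
  G1 := twistedG2 K (3 ^ m)
  Um_le n := closure_UnegSet_le chevG2 n
  H_le_N := diagonal_le_monomial hD2
  H_comm h hh h' hh' := H_comm h h' hh hh'
  N_norm_H n hn h hh := monomial_conj_diagonal hD2 chevData_G2.{u} n h hn hh
  H_norm_U h hh u hu := by
    have := (Cfsg.Agent.S1036.result (F := K) chevG2 hD2).1 hh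
    exact (Subgroup.mem_normalizer_iff.1 this u).1 hu
  V_inf_B v hv u hu h hh e := by
    have hB : v ∈ chevG2.borelSubgroup K := by
      rw [e]
      exact (mem_borel_iff chevG2 hD2 _).2 ⟨u, hu, h, hh, rfl⟩
    have : v ∈ chevG2.borelSubgroup K ⊓ chevG2.negUnipotent K := ⟨hB, hv⟩
    rw [(Cfsg.Agent.S1037.result (F := K) chevG2 hD2).1, Subgroup.mem_bot] at this
    exact this
  ex g hg := exists_form K g (F_le_group K m hg)
  uniq u₀ u₀' n n' u u' hu₀ hu₀' hn hn' hu hu' h :=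
    bruhat_strong_unique hD2 chevData_G2.{u} u₀ u₀' n n' u u' hu₀ hu₀' hn hn' hu hu' h
  Um_H h hh := Um_H h hh
  L_Um n _ hl := reeLong_Um hl
  long_conj n _ hl u hu := reeLong_conj hl u hu
  long_conj' n _ hl v hv := reeLong_conj' hl v hv
  long_inv n _ hl := reeLong_inv hl
  long_div n _ n' _ hl hl' := reeLong_div hl hl'
  long_mul_H n _ hl h hh := reeLong_H_mul hl h hh
  long_inverts n _ hl h hh := reeLong_inverts hl h hh
  F_form u₀ hu₀ n hn u hu hF := reeF_form K m u₀ n u hu₀ hn hu hF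
  fixN n hn hF := fixN K m n hn hF
  G1_le_F := twistedG2_le_reeFix K m (hq_of_card hK)
  fixU_le x hx hF := fixU_le K m (hq_of_card hK) x hx hF
  exists_nonB := by
    refine ⟨wordG hG2 (reeWordV (3 ^ m) (0 : K) 0 1), wordG_reeWordV_mem_twisted _ _ _ _, ?_⟩
    intro u hu h hh e
    have hB : wordG hG2 (reeWordV (3 ^ m) (0 : K) 0 1) ∈ chevG2.borelSubgroup K := by
      rw [e]
      exact (mem_borel_iff chevG2 hD2 _).2 ⟨u, hu, h, hh, rfl⟩
    have : wordG hG2 (reeWordV (3 ^ m) (0 : K) 0 1) ∈ chevG2.borelSubgroup K ⊓ chevG2.negUnipotent K :=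
      ⟨hB, wordG_reeWordV_mem_V _ _ _ _⟩
    rw [(Cfsg.Agent.S1037.result (F := K) chevG2 hD2).1, Subgroup.mem_bot] at this
    have hθ : (3 : ℕ) ^ m ≠ 0 := pow_ne_zero _ (by norm_num)
    have h0 : wordG hG2 (reeWordV (3 ^ m) (0 : K) 0 0) = 1 := by
      have h0' : wordG hG2 (reeWordU (3 ^ m) (0 : K) 0 0) = 1 := by
        rw [wordG_reeWordU, ← uu_zero (F := K)]
        refine uu_congr rfl ?_ ?_ ?_ ?_ ?_ <;> simp [hθ]
      rw [wordG_reeWordV, h0', map_one]
    rw [← h0] at this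
    have := (reeWordV_inj (3 ^ m) _ _ _ _ _ _ this).2.2
    exact one_ne_zero this
  U1_ne := by
    refine ⟨wordG hG2 (reeWordU (3 ^ m) (0 : K) 0 1), wordG_reeWordU_mem_U _ _ _ _,
      twistedG2_le_reeFix K m (hq_of_card hK) (wordG_reeWordU_mem_twisted _ _ _ _), ?_⟩
    intro h
    have hθ : (3 : ℕ) ^ m ≠ 0 := pow_ne_zero _ (by norm_num)
    have h0 : wordG hG2 (reeWordU (3 ^ m) (0 : K) 0 0) = 1 := by
      rw [wordG_reeWordU, ← uu_zero (F := K)]
      refine uu_congr rfl ?_ ?_ ?_ ?_ ?_ <;> simp [hθ]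
    rw [← h0] at h
    have := (reeWordU_inj (3 ^ m) _ _ _ _ _ _ h).2.2
    exact one_ne_zero this

end Cfsg.Agent.Lib.Helper20.ReeTw
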