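/-
helper20: the small Ree group `²G₂(3^(2m+1))`, `m ≥ 1`, is perfect (instance of helper19's abstract `TwData.perfect`),
and S1157 (Sylow 2-subgroups: `C(S) = S`, `|N(S)| = 168`) from the statement of S1152.
-/
import Cfsg.Agent.Lib.Helper20.ReeTw
import Cfsg.Agent.Lib.Helper20.ReeGlue2
import Cfsg.Agent.S0074

set_option autoImplicit false
set_option linter.unusedSectionVars false

namespace Cfsg.Agent.Lib.Helper20.ReePerfect

open Cfsg.Lie Cfsg.Agent.Lib.Helper18 Cfsg.Agent.Lib.Helper61.ChevJ.G2Short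
  Cfsg.Agent.Lib.Helper61.ChevJ.G2Char3 Cfsg.Agent.Lib.Helper61.Ree Cfsg.Agent.Lib.Helper19.ReeAbs
  Cfsg.Agent.Lib.Helper91.Ree Cfsg.Agent.Lib.Helper20.ReeGlue Cfsg.Agent.Lib.Helper20.ReeTw
  Cfsg.Agent.Lib.Helper61.ChevJ.G2ReeV

universe u

variable {K : Type u} [Field K] [Fintype K] {m : ℕ}

/-- A unit `≠ 1` of odd order, for `q ≥ 27`. -/
theorem exists_odd_unit (hm : 1 ≤ m) (hK : Fintype.card K = 3 ^ (2 * m + 1)) :
    ∃ c : Kˣ, c ≠ 1 ∧ Odd (orderOf c) := by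
  classical
  have hcard : Fintype.card K % 4 = 3 := by rw [hK]; exact three_pow_mod_four m
  have h2 := two_mul_card_odd_units (k := K) hcard
  have h27 : 27 ≤ Fintype.card K := by
    rw [hK]
    calc 27 = 3 ^ 3 := by norm_num
      _ ≤ 3 ^ (2 * m + 1) := Nat.pow_le_pow_right (by norm_num) (by omega)
  have h13 : 1 < Nat.card {c : Kˣ // Odd (orderOf c)} := by omega
  haveI : Finite {c : Kˣ // Odd (orderOf c)} := inferInstance
  obtain ⟨a, b, hab⟩ := Finite.one_lt_card_iff_nontrivial.1 h13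
  by_cases ha : (a : Kˣ) = 1
  · refine ⟨b, ?_, b.2⟩
    intro hb
    exact hab (Subtype.ext (ha.trans hb.symm))
  · exact ⟨a, ha, a.2⟩

/-- `²G₂(3^(2m+1))` is perfect for `m ≥ 1`. -/
theorem ree_perfect (hm : 1 ≤ m) (hK : Fintype.card K = 3 ^ (2 * m + 1)) :
    commutator ↥(twistedG2 K (3 ^ m)) = ⊤ := by
  haveI : CharP K 3 := Cfsg.Agent.S1101.charP_three hK
  have hq := ReeGlue.hq_of_card hK
  set T := reeTw hK with hT
  have I : Inst T m := inst_of hK T rfl rfl rfl rfl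
  obtain ⟨c, hc1, hodd⟩ := exists_odd_unit hm hK
  have hθ : (3 : ℕ) ^ m ≠ 0 := pow_ne_zero _ (by norm_num)
  have hgen : ∀ K' : Subgroup (GL chevG2.Idx K), (∀ x ∈ T.U, x ∈ T.G1 → x ∈ K') →
      (∀ x ∈ T.V, x ∈ T.G1 → x ∈ K') → T.G1 ≤ K' := by
    intro K' hU hV
    show twistedG2 K (3 ^ m) ≤ K'
    unfold twistedG2 ChevalleyDatum.genSubgroup
    rw [Subgroup.closure_le]
    rintro g ⟨w, ⟨t, u, v, hw | hw⟩, hgw⟩
    · have e : g = wordG hG2 (reeWordU (3 ^ m) t u v) := by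
        apply Units.ext
        rw [hgw, hw, coe_wordG]
      rw [SetLike.mem_coe, e]
      exact hU _ (wordG_reeWordU_mem_U _ t u v) (wordG_reeWordU_mem_twisted _ t u v)
    · have e : g = wordG hG2 (reeWordV (3 ^ m) t u v) := by
        apply Units.ext
        rw [hgw, hw, coe_wordG]
      rw [SetLike.mem_coe, e]
      exact hV _ (wordG_reeWordV_mem_V _ t u v) (wordG_reeWordV_mem_twisted _ t u v)
  have hfpf : ∀ x ∈ T.U, x ∈ T.G1 → reeHHom (3 ^ m) c * x = x * reeHHom (3 ^ m) c → x = 1 := by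
    intro x hxU hx1 hcomm
    exact T.torus_fpf (reeHHom (3 ^ m)) (fun t u v => wordG hG2 (reeWordU (3 ^ m) t u v))
      (fun t u v t' u' v' h => reeWordU_inj (3 ^ m) t u v t' u' v' h)
      (huu_surj hK T I) (ReeCube.reeU_zero (3 ^ m) hθ)
      (fun c => (c : K) ^ 2 * ((c : K) ^ (3 * 3 ^ m))⁻¹) (fun c => (c : K) ^ (3 * 3 ^ m) * (c : K)⁻¹)
      (fun c t u v => reeH_conj m hq c t u v)
      (fun c h => unit_eq_one_of_chi1 (3 ^ m) c (hq c) h)
      (fun c h => unit_sq_eq_one_of_chi2 (3 ^ m) c (hq c) h)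
      c hc1 hodd x hxU hx1 hcomm
  exact T.perfect hgen (reeHHom (3 ^ m) c) (hρ_mem T I c).1 (hρ_mem T I c).2 hfpf

end Cfsg.Agent.Lib.Helper20.ReePerfect
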