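/-
helper20: the small Ree group `²G₂(3^(2m+1))`, `m ≥ 1`, is simple (instance of helper19's abstract `TwData.simple`:
perfect + trivial core of `B¹` (helper61's `torus_faithful'`) + `U¹` a 3-group).
-/
import Cfsg.Agent.Lib.Helper20.ReePerfect
import Cfsg.Agent.Lib.Helper61.Ree.TwBN

set_option autoImplicit false
set_option linter.unusedSectionVars false

namespace Cfsg.Agent.Lib.Helper20.ReeSimple

open Cfsg.Lie Cfsg.Agent.Lib.Helper18 Cfsg.Agent.Lib.Helper61.ChevJ.G2Short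
  Cfsg.Agent.Lib.Helper61.ChevJ.G2Char3 Cfsg.Agent.Lib.Helper61.Ree Cfsg.Agent.Lib.Helper19.ReeAbs
  Cfsg.Agent.Lib.Helper91.Ree Cfsg.Agent.Lib.Helper20.ReeGlue Cfsg.Agent.Lib.Helper20.ReeTw
  Cfsg.Agent.Lib.Helper61.ChevJ.G2ReeV

universe u

variable {K : Type u} [Field K] [Fintype K] {m : ℕ}

/-- `²G₂(q)` is generated by `U¹` and `V¹`. -/
theorem ree_gen [CharP K 3] (hK : Fintype.card K = 3 ^ (2 * m + 1)) :
    ∀ K' : Subgroup (GL chevG2.Idx K), (∀ x ∈ (reeTw hK).U, x ∈ (reeTw hK).G1 → x ∈ K') →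
      (∀ x ∈ (reeTw hK).V, x ∈ (reeTw hK).G1 → x ∈ K') → (reeTw hK).G1 ≤ K' := by
  intro K' hU hV
  show twistedG2 K (3 ^ m) ≤ K'
  unfold twistedG2 ChevalleyDatum.genSubgroup
  rw [Subgroup.closure_le]
  rintro g ⟨w, ⟨t, u, v, hw | hw⟩, hgw⟩
  · have e : g = wordG hG2 (reeWordU (3 ^ m) t u v) := by
      apply Units.ext
      rw [hgw, hw, coe_wordG]
    rw [SetLike.mem_coe, e]
    exact hU _ (wordG_reeWordU_mem_U _ t u v) (wordG_reeWordU_mem_twisted _ t u v)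
  · have e : g = wordG hG2 (reeWordV (3 ^ m) t u v) := by
      apply Units.ext
      rw [hgw, hw, coe_wordG]
    rw [SetLike.mem_coe, e]
    exact hV _ (wordG_reeWordV_mem_V _ t u v) (wordG_reeWordV_mem_twisted _ t u v)

/-- `U¹` is a 3-group (exponent dividing 9). -/
theorem ree_U1_isPGroup [CharP K 3] (hK : Fintype.card K = 3 ^ (2 * m + 1)) :
    IsPGroup 3 ↥(((reeTw hK).U ⊓ (reeTw hK).G1).subgroupOf (reeTw hK).G1) := by
  set T := reeTw hK with hT
  have I : Inst T m := inst_of hK T rfl rfl rfl rfl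
  intro x
  refine ⟨2, ?_⟩
  have hx : ((x : ↥T.G1) : GL chevG2.Idx K) ∈ T.U ⊓ T.G1 := Subgroup.mem_subgroupOf.mp x.2
  obtain ⟨t, u, v, h⟩ := huu_surj hK T I _ (Subgroup.mem_inf.mp hx).1 (Subgroup.mem_inf.mp hx).2
  apply Subtype.ext
  apply Subtype.ext
  show (((x : ↥T.G1) : GL chevG2.Idx K)) ^ 3 ^ 2 = 1
  rw [h]
  exact ReeCube.reeU_pow_nine (3 ^ m) t u v

/-- `²G₂(3^(2m+1))` is simple for `m ≥ 1`. -/
theorem ree_simple (hm : 1 ≤ m) (hK : Fintype.card K = 3 ^ (2 * m + 1)) :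
    IsSimpleGroup ↥(twistedG2 K (3 ^ m)) := by
  have : CharP K 3 := Cfsg.Agent.S1101.charP_three hK
  set T := reeTw hK with hT
  have hperf : commutator ↥T.G1 = ⊤ := ReePerfect.ree_perfect hm hK
  have hcore : ((T.B ⊓ T.G1).subgroupOf T.G1).normalCore = ⊥ :=
    T.core_trivial (fun h hH h1 hc => Cfsg.Agent.Lib.Helper61.ReeInv.torus_faithful' hK h hH h1 hc)
  have hsolv : Group.IsSolvable ↥((T.U ⊓ T.G1).subgroupOf T.G1) := by
    have : Group.IsNilpotent ↥((T.U ⊓ T.G1).subgroupOf T.G1) := (ree_U1_isPGroup hK).isNilpotent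
    infer_instance
  exact T.simple (ree_gen hK) hperf hcore hsolv

/-- `²G₂(3^(2m+1))` is not commutative for `m ≥ 1`. -/
theorem ree_not_comm (hm : 1 ≤ m) (hK : Fintype.card K = 3 ^ (2 * m + 1)) :
    ¬ IsMulCommutative ↥(twistedG2 K (3 ^ m)) := by
  intro hc
  have := ree_simple hm hK
  have hperf := ReePerfect.ree_perfect hm hK
  have hbot : commutator ↥(twistedG2 K (3 ^ m)) = ⊥ := by
    rw [commutator_def, Subgroup.commutator_eq_bot_iff_le_centralizer]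
    intro a _ b _
    exact hc.is_comm.comm b a
  rw [hbot] at hperf
  exact bot_ne_top hperf

end Cfsg.Agent.Lib.Helper20.ReeSimple
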