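/-
helper20: S1157 from the statement of S1152 alone (perfectness of `²G₂(q)` replaces simplicity).
-/
import Cfsg.Agent.Lib.Helper20.ReeSyl2Final
import Cfsg.Agent.Lib.Helper20.ReePerfect

set_option autoImplicit false

namespace Cfsg.Agent.Lib.Helper20.ReeSyl2

open Cfsg.Lie

theorem sylow2_of_perfect {G : Type*} [Group G] [Finite G] (hperf : commutator G = ⊤)
    {F : Type*} [Field F] [Fintype F] {q : ℕ} (hF : Fintype.card F = q) (hq : q % 8 = 3 ∨ q % 8 = 5)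
    (hq3 : 3 < q) (a : G) (ha1 : a ≠ 1) (ha2 : a * a = 1)
    (hCa : Nonempty (↥(Subgroup.centralizer ({a} : Set G)) ≃*
      Multiplicative (ZMod 2) × Matrix.ProjectiveSpecialLinearGroup (Fin 2) F))
    (hS : ∀ S : Sylow 2 G, Nat.card (S : Subgroup G) = 8 ∧ ∀ x ∈ (S : Subgroup G), x * x = 1)
    (S : Sylow 2 G) :
    Subgroup.centralizer ((S : Subgroup G) : Set G) = S ∧
      Nat.card (Subgroup.normalizer ((S : Subgroup G) : Set G)) = 168 := by
  haveI : Fact (Nat.Prime 2) := ⟨Nat.prime_two⟩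
  obtain ⟨φ⟩ := hCa
  have hfocal : ∀ S : Sylow 2 G, (S : Subgroup G) ≤ ⁅Subgroup.normalizer ((S : Subgroup G) : Set G),
      Subgroup.normalizer ((S : Subgroup G) : Set G)⁆ := by
    intro S
    have hcomm := comm_of_exp_two (S : Subgroup G) (hS S).2
    have hSc : IsMulCommutative ↥(S : Subgroup G) :=
      ⟨⟨fun x y => Subtype.ext (hcomm x x.2 y y.2)⟩⟩
    have h74 := Cfsg.Agent.S0074.result S hSc
    rw [hperf, top_inf_eq] at h74
    exact h74.le.trans inf_le_left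
  exact main a φ (PSL2Klein.center_eq_bot hF hq hq3)
    (fun V hV => ⟨PSL2Klein.card_normalizer hF hq V hV, PSL2Klein.centralizer_eq hF hq hq3 V hV⟩)
    ha1 ha2 hS hfocal S

/-- S1157 from S1152. -/
theorem result_of_perfect {K : Type*} [Field K] [Fintype K] {m : ℕ} (hm : 1 ≤ m)
    (hK : Fintype.card K = 3 ^ (2 * m + 1))
    (h1152 : ∀ (a : ↥(Cfsg.Lie.twistedG2 K (3 ^ m))),
      (a : GL Cfsg.Lie.chevG2.Idx K) ∈ Cfsg.Lie.chevG2.diagonalSubgroup K → a ≠ 1 → a * a = 1 →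
      Nonempty (↥(Subgroup.centralizer {a}) ≃*
        Multiplicative (ZMod 2) × Matrix.ProjectiveSpecialLinearGroup (Fin 2) K) ∧
      ∀ S : Sylow 2 ↥(Cfsg.Lie.twistedG2 K (3 ^ m)), Nat.card S = 8 ∧ ∀ x ∈ S, x * x = 1)
    (S : Sylow 2 ↥(Cfsg.Lie.twistedG2 K (3 ^ m))) :
    Subgroup.centralizer ((S : Subgroup ↥(Cfsg.Lie.twistedG2 K (3 ^ m))) : Set ↥(Cfsg.Lie.twistedG2 K (3 ^ m))) = S ∧
      Nat.card (Subgroup.normalizer ((S : Subgroup ↥(Cfsg.Lie.twistedG2 K (3 ^ m))) : Set ↥(Cfsg.Lie.twistedG2 K (3 ^ m)))) = 168 := by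
  haveI : CharP K 3 := Cfsg.Agent.S1101.charP_three hK
  obtain ⟨a, haH, ha1, ha2⟩ := exists_involution (K := K) m
  obtain ⟨hCa, hS⟩ := h1152 a haH ha1 ha2
  have hq3 : 3 < 3 ^ (2 * m + 1) := by
    calc 3 = 3 ^ 1 := by norm_num
      _ < 3 ^ (2 * m + 1) := Nat.pow_lt_pow_right (by norm_num) (by omega)
  exact sylow2_of_perfect (Cfsg.Agent.Lib.Helper20.ReePerfect.ree_perfect hm hK) hK
    (Or.inl (three_pow_mod_eight m)) hq3 a ha1 ha2 hCa
    (fun S => ⟨(hS S).1, fun x hx => (hS S).2 x hx⟩) S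

end Cfsg.Agent.Lib.Helper20.ReeSyl2
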