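import Mathlib
import Cfsg.Prelude.Def_Amalgam
import Cfsg.Agent.Lib.Helper12.AmalDefs

/-!
# S2858 part (A), module [A-TR] (helper20 for helper12): transport from the subgroup `P` of `G`
to the abstract group `↥P`
-/

set_option autoImplicit false

namespace Cfsg.Agent.Lib.Helper20.Amal

open Cfsg Cfsg.Agent.Lib.Helper12.Amal

variable {G : Type*} [Group G] {P P₁ P₂ T : Subgroup G}

theorem coe_mem_Qof_iff (v : ↥P) : (v : G) ∈ Qof P ↔ v ∈ pCore 2 ↥P := by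
  show (P.subtype v) ∈ (pCore 2 ↥P).map P.subtype ↔ _
  exact Subgroup.mem_map_iff_mem P.subtype_injective

theorem mem_Qof_iff (x : G) : x ∈ Qof P ↔ ∃ hx : x ∈ P, (⟨x, hx⟩ : ↥P) ∈ pCore 2 ↥P := by
  constructor
  · rintro ⟨y, hy, rfl⟩
    exact ⟨y.2, hy⟩
  · rintro ⟨hx, h⟩
    exact ⟨⟨x, hx⟩, h, rfl⟩

theorem Qof_le (P : Subgroup G) : Qof P ≤ P := fun x hx => ((mem_Qof_iff x).1 hx).1

theorem card_pCore_eq : Nat.card ↥(pCore 2 ↥P) = Nat.card ↥(Qof P) :=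
  (Subgroup.card_map_of_injective (K := pCore 2 ↥P) P.subtype_injective).symm

theorem map_inf_centralizer_singleton (t : ↥P) :
    (pCore 2 ↥P ⊓ Subgroup.centralizer ({t} : Set ↥P)).map P.subtype =
      Qof P ⊓ Subgroup.centralizer ({(t : G)} : Set G) := by
  ext x
  rw [Subgroup.mem_map, Subgroup.mem_inf]
  constructor
  · rintro ⟨y, hy, rfl⟩
    obtain ⟨hy1, hy2⟩ := Subgroup.mem_inf.1 hy
    refine ⟨(coe_mem_Qof_iff y).2 hy1, ?_⟩
    rw [Subgroup.mem_centralizer_singleton_iff]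
    have := Subgroup.mem_centralizer_singleton_iff.1 hy2
    exact congrArg Subtype.val this
  · rintro ⟨hx1, hx2⟩
    obtain ⟨hxP, hx'⟩ := (mem_Qof_iff x).1 hx1
    refine ⟨⟨x, hxP⟩, Subgroup.mem_inf.2 ⟨hx', ?_⟩, rfl⟩
    rw [Subgroup.mem_centralizer_singleton_iff]
    have := Subgroup.mem_centralizer_singleton_iff.1 hx2
    exact Subtype.ext this

theorem map_inf_center :
    (pCore 2 ↥P ⊓ Subgroup.center ↥P).map P.subtype =
      Qof P ⊓ Subgroup.centralizer (P : Set G) := by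
  ext x
  rw [Subgroup.mem_map, Subgroup.mem_inf]
  constructor
  · rintro ⟨y, hy, rfl⟩
    obtain ⟨hy1, hy2⟩ := Subgroup.mem_inf.1 hy
    refine ⟨(coe_mem_Qof_iff y).2 hy1, ?_⟩
    rw [Subgroup.mem_centralizer_iff]
    intro g hg
    have := (Subgroup.mem_center_iff.1 hy2) ⟨g, hg⟩
    exact congrArg Subtype.val this
  · rintro ⟨hx1, hx2⟩
    obtain ⟨hxP, hx'⟩ := (mem_Qof_iff x).1 hx1
    refine ⟨⟨x, hxP⟩, Subgroup.mem_inf.2 ⟨hx', ?_⟩, rfl⟩
    rw [Subgroup.mem_center_iff]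
    intro g
    have := (Subgroup.mem_centralizer_iff.1 hx2) g g.2
    exact Subtype.ext this

theorem Loc.transport (h : Loc P T) (hexp : ∀ x ∈ Qof P, x * x = 1)
    (t : G) (htT : t ∈ T) (htQ : t ∉ Qof P) (ht : t * t = 1) :
    (∀ v ∈ pCore 2 ↥P, v * v = 1) ∧
    Subgroup.centralizer ((pCore 2 ↥P : Subgroup ↥P) : Set ↥P) ≤ pCore 2 ↥P ∧
    (⟨t, h.le htT⟩ : ↥P) ∉ pCore 2 ↥P ∧
    (⟨t, h.le htT⟩ : ↥P) * ⟨t, h.le htT⟩ = 1 ∧
    Nat.card ↥(pCore 2 ↥P ⊓ Subgroup.centralizer ({(⟨t, h.le htT⟩ : ↥P)} : Set ↥P)) =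
      Nat.card ↥(Qof P ⊓ Subgroup.centralizer ({t} : Set G)) ∧
    Nat.card ↥(pCore 2 ↥P) = Nat.card ↥(Qof P) ∧
    Nat.card ↥(pCore 2 ↥P ⊓ Subgroup.center ↥P) =
      Nat.card ↥(Qof P ⊓ Subgroup.centralizer (P : Set G)) := by
  refine ⟨?_, ?_, ?_, ?_, ?_, card_pCore_eq, ?_⟩
  · intro v hv
    have := hexp (v : G) ((coe_mem_Qof_iff v).2 hv)
    exact Subtype.ext this
  · intro c hc
    rw [← coe_mem_Qof_iff]
    refine h.cent (Subgroup.mem_inf.2 ⟨c.2, ?_⟩)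
    rw [Subgroup.mem_centralizer_iff]
    intro x hx
    obtain ⟨hxP, hx'⟩ := (mem_Qof_iff x).1 hx
    have := (Subgroup.mem_centralizer_iff.1 hc) ⟨x, hxP⟩ hx'
    exact congrArg Subtype.val this
  · intro hmem
    exact htQ ((coe_mem_Qof_iff (⟨t, h.le htT⟩ : ↥P)).2 hmem)
  · exact Subtype.ext ht
  · rw [← map_inf_centralizer_singleton (P := P) ⟨t, h.le htT⟩]
    exact (Subgroup.card_map_of_injective P.subtype_injective).symm
  · rw [← map_inf_center (P := P)]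
    exact (Subgroup.card_map_of_injective P.subtype_injective).symm

end Cfsg.Agent.Lib.Helper20.Amal
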