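import Mathlib
import Cfsg.Agent.Lib.Helper64.CH4Defs

/-!
# CH4-[FIBER] (helper20, for helper64's project CH4 = S4167)
-/

set_option autoImplicit false
set_option linter.style.haveILetI false

namespace Cfsg.Agent.Lib.Helper20.CH4

open Cfsg.Agent.Lib.Helper64.CH4
open scoped Pointwise

/-- an involution is conjugate into a given Sylow 2-subgroup -/
theorem exists_conj_mem_sylow {G : Type*} [Group G] [Finite G] (P : Sylow 2 G) (t : G)
    (ht : orderOf t = 2) : ∃ g : G, g * t * g⁻¹ ∈ P := by
  haveI : Fact (Nat.Prime 2) := ⟨Nat.prime_two⟩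
  have hp : IsPGroup 2 (Subgroup.zpowers t) := by
    apply IsPGroup.of_card (n := 1)
    rw [Nat.card_zpowers, ht, pow_one]
  obtain ⟨Q, hQ⟩ := hp.exists_le_sylow
  obtain ⟨g, hg⟩ := MulAction.exists_smul_eq G Q P
  refine ⟨g, ?_⟩
  have htQ : t ∈ Q := hQ (Subgroup.mem_zpowers t)
  have h1 : MulAut.conj g • t ∈ MulAut.conj g • (Q : Subgroup G) :=
    Subgroup.smul_mem_pointwise_smul t (MulAut.conj g) (Q : Subgroup G) htQ
  rw [← Sylow.coe_subgroup_smul, hg, MulAut.smul_def, MulAut.conj_apply] at h1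
  exact h1

/-- [FIBER] -/
theorem two_mul_sum_card_centralizer_le {G : Type*} [Group G] [Fintype G] [DecidableEq G]
    (P : Sylow 2 G) (hexp : ∀ a ∈ P, a ^ 2 = 1)
    (hconj : ∀ t : G, orderOf t = 2 → t ∈ P → ∃ g : G, g * t * g⁻¹ ∈ P ∧ g * t * g⁻¹ ≠ t) :
    2 * ∑ t ∈ Finset.univ.filter (fun t : G => orderOf t = 2),
        Nat.card (Subgroup.centralizer ({t} : Set G)) ≤ Nat.card G * (Nat.card P - 1) := by
  classical
  haveI : Fact (Nat.Prime 2) := ⟨Nat.prime_two⟩
  set I : Finset G := Finset.univ.filter (fun t : G => orderOf t = 2) with hI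
  set S : Finset G := (Finset.univ.filter (fun s : G => s ∈ (P : Subgroup G))).erase 1 with hS
  have memS : ∀ s : G, s ∈ S ↔ s ≠ 1 ∧ s ∈ (P : Subgroup G) := by
    intro s; rw [hS, Finset.mem_erase, Finset.mem_filter]; simp
  have hScard : S.card = Nat.card P - 1 := by
    rw [hS, Finset.card_erase_of_mem (by simp)]
    congr 1
    rw [Nat.card_eq_fintype_card, Fintype.card_subtype]
  set X : Finset (G × G) := (Finset.univ : Finset G) ×ˢ S with hX
  have hXcard : X.card = Nat.card G * (Nat.card P - 1) := by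
    rw [hX, Finset.card_product, hScard, Finset.card_univ, Nat.card_eq_fintype_card (α := G)]
  let φ : G × G → G := fun x => x.1 * x.2 * x.1⁻¹
  have hord : ∀ s ∈ S, orderOf s = 2 := by
    intro s hs
    obtain ⟨hs1, hsP⟩ := (memS s).1 hs
    exact orderOf_eq_prime (hexp s hsP) hs1
  have hmaps : ∀ x ∈ X, φ x ∈ I := by
    rintro ⟨g, s⟩ hx
    rw [hX, Finset.mem_product] at hx
    rw [hI, Finset.mem_filter]
    refine ⟨Finset.mem_univ _, ?_⟩
    have := MulEquiv.orderOf_eq (MulAut.conj g) s
    rw [MulAut.conj_apply] at this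
    show orderOf (g * s * g⁻¹) = 2
    rw [this]; exact hord s hx.2
  have hfib := Finset.card_eq_sum_card_fiberwise hmaps
  have hkey : ∀ t ∈ I, 2 * Nat.card (Subgroup.centralizer ({t} : Set G)) ≤
      (X.filter (fun x => φ x = t)).card := by
    intro t ht
    rw [hI, Finset.mem_filter] at ht
    have ht2 : orderOf t = 2 := ht.2
    obtain ⟨a₁, ha₁⟩ := exists_conj_mem_sylow P t ht2
    set s₁ := a₁ * t * a₁⁻¹ with hs₁
    have hs₁ord : orderOf s₁ = 2 := by
      have := MulEquiv.orderOf_eq (MulAut.conj a₁) t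
      rw [MulAut.conj_apply] at this
      rw [hs₁, this]; exact ht2
    obtain ⟨b, hb, hbne⟩ := hconj s₁ hs₁ord ha₁
    set s₂ := b * s₁ * b⁻¹ with hs₂
    have hs₂ord : orderOf s₂ = 2 := by
      have := MulEquiv.orderOf_eq (MulAut.conj b) s₁
      rw [MulAut.conj_apply] at this
      rw [hs₂, this]; exact hs₁ord
    have hne1 : ∀ s : G, orderOf s = 2 → s ≠ 1 := by
      intro s hs h1
      rw [h1, orderOf_one] at hs
      omega
    set C : Finset G := Finset.univ.filter (fun c : G => c ∈ Subgroup.centralizer ({t} : Set G))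
      with hC
    have hCcard : C.card = Nat.card (Subgroup.centralizer ({t} : Set G)) := by
      rw [Nat.card_eq_fintype_card, Fintype.card_subtype]
    -- γ s : conjugating element
    let γ : G → G := fun s => if s = s₁ then a₁⁻¹ else (b * a₁)⁻¹
    have hγ : ∀ s ∈ ({s₁, s₂} : Finset G), γ s * s * (γ s)⁻¹ = t := by
      intro s hs
      rw [Finset.mem_insert, Finset.mem_singleton] at hs
      rcases hs with rfl | rfl
      · simp only [γ, if_true]
        rw [hs₁]; group
      · have : s₂ ≠ s₁ := hbne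
        simp only [γ, if_neg this]
        rw [hs₂, hs₁]; group
    have hpair : ({s₁, s₂} : Finset G).card = 2 := Finset.card_pair (Ne.symm hbne)
    have hinj : (C ×ˢ ({s₁, s₂} : Finset G)).card ≤ (X.filter (fun x => φ x = t)).card := by
      apply Finset.card_le_card_of_injOn (fun p : G × G => (p.1 * γ p.2, p.2))
      · rintro ⟨c, s⟩ hcs
        rw [Finset.mem_coe, Finset.mem_product] at hcs
        obtain ⟨hc, hs⟩ := hcs
        simp only at hc hs
        rw [Finset.mem_coe, Finset.mem_filter, hX, Finset.mem_product]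
        refine ⟨⟨Finset.mem_univ _, ?_⟩, ?_⟩
        · rw [memS]
          rw [Finset.mem_insert, Finset.mem_singleton] at hs
          rcases hs with rfl | rfl
          · exact ⟨hne1 _ hs₁ord, ha₁⟩
          · exact ⟨hne1 _ hs₂ord, hb⟩
        · show c * γ s * s * (c * γ s)⁻¹ = t
          have h1 := hγ s hs
          rw [hC, Finset.mem_filter, Subgroup.mem_centralizer_iff] at hc
          have h2 : t * c = c * t := hc.2 t (Set.mem_singleton t)
          calc c * γ s * s * (c * γ s)⁻¹ = c * (γ s * s * (γ s)⁻¹) * c⁻¹ := by group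
            _ = c * t * c⁻¹ := by rw [h1]
            _ = t := by rw [← h2]; group
      · rintro ⟨c, s⟩ _ ⟨c', s'⟩ _ heq
        simp only [Prod.mk.injEq] at heq
        obtain ⟨h1, h2⟩ := heq
        subst h2
        have : c = c' := mul_right_cancel h1
        rw [this]
    rw [Finset.card_product, hpair, hCcard] at hinj
    omega
  calc 2 * ∑ t ∈ I, Nat.card (Subgroup.centralizer ({t} : Set G))
      = ∑ t ∈ I, 2 * Nat.card (Subgroup.centralizer ({t} : Set G)) := Finset.mul_sum _ _ _
    _ ≤ ∑ t ∈ I, (X.filter (fun x => φ x = t)).card := Finset.sum_le_sum hkey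
    _ = X.card := hfib.symm
    _ = Nat.card G * (Nat.card P - 1) := hXcard

end Cfsg.Agent.Lib.Helper20.CH4
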