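import Mathlib
import Cfsg.Agent.Lib.Helper64.CH4Defs

/-!
# CH4-[LEMMA-L] (helper20, for helper64's project CH4 = S4167)

A finite solvable group in which no conjugacy class size is divisible by `4` has a normal
`2`-complement.  (The hypothesis `AbSyl` of the sheet statement is not needed.)
-/

set_option autoImplicit false
set_option linter.style.haveILetI false
set_option linter.unusedVariables false

namespace Cfsg.Agent.Lib.Helper20.CH4

open Cfsg.Agent.Lib.Helper64.CH4


theorem card_mul_relIndex_of_le {K : Type*} [Group K] {A B : Subgroup K} (h : A ≤ B) :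
    Nat.card A * A.relIndex B = Nat.card B := by
  have := Subgroup.relIndex_mul_relIndex ⊥ A B bot_le h
  rwa [Subgroup.relIndex_bot_left, Subgroup.relIndex_bot_left] at this

theorem relIndex_dvd_index_right {K : Type*} [Group K] [Finite K] (C M : Subgroup K) [M.Normal] :
    C.relIndex M ∣ C.index := by
  have h1 : C.relIndex (C ⊔ M) ∣ C.index := Subgroup.relIndex_dvd_index_of_le le_sup_left
  have e1 : Nat.card C * C.relIndex (C ⊔ M) = Nat.card (C ⊔ M : Subgroup K) :=
    card_mul_relIndex_of_le le_sup_left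
  have e2 : Nat.card M * M.relIndex (C ⊔ M) = Nat.card (C ⊔ M : Subgroup K) :=
    card_mul_relIndex_of_le le_sup_right
  have e3 : Nat.card (C ⊓ M : Subgroup K) * C.relIndex M = Nat.card M := by
    have := card_mul_relIndex_of_le (inf_le_right : C ⊓ M ≤ M)
    rwa [Subgroup.inf_relIndex_right] at this
  have e4 : Nat.card (C ⊓ M : Subgroup K) * M.relIndex C = Nat.card C := by
    have := card_mul_relIndex_of_le (inf_le_left : C ⊓ M ≤ C)
    rwa [Subgroup.inf_relIndex_left] at this
  have e5 : M.relIndex (C ⊔ M) = M.relIndex C := Subgroup.relIndex_sup_right C M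
  have hpos : 0 < Nat.card (C ⊓ M : Subgroup K) := Nat.card_pos
  have hpos2 : 0 < M.relIndex C := by
    rcases Nat.eq_zero_or_pos (M.relIndex C) with h | h
    · rw [h, mul_zero] at e4
      have : 0 < Nat.card C := Nat.card_pos
      omega
    · exact h
  have h2 : C.relIndex (C ⊔ M) = C.relIndex M := by
    have : Nat.card (C ⊓ M : Subgroup K) * M.relIndex C * C.relIndex (C ⊔ M) =
        Nat.card (C ⊓ M : Subgroup K) * M.relIndex C * C.relIndex M := by
      calc Nat.card (C ⊓ M : Subgroup K) * M.relIndex C * C.relIndex (C ⊔ M)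
          = Nat.card (C ⊔ M : Subgroup K) := by rw [e4, e1]
        _ = Nat.card M * M.relIndex C := by rw [← e2, e5]
        _ = Nat.card (C ⊓ M : Subgroup K) * M.relIndex C * C.relIndex M := by rw [← e3]; ring
    exact Nat.eq_of_mul_eq_mul_left (Nat.mul_pos hpos hpos2) this
  rw [← h2]; exact h1




/-- conjugation twisted by a commuting element -/
theorem conj_pow_of_conj_eq_mul {K : Type*} [Group K] (y m c : K) (hc : y * c = c * y)
    (hm : y * m * y⁻¹ = m * c) (i : ℕ) : y ^ i * m * (y ^ i)⁻¹ = m * c ^ i := by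
  induction i with
  | zero => simp
  | succ i ih =>
    have hci : y * c ^ i * y⁻¹ = c ^ i := by
      have : Commute y (c ^ i) := (show Commute y c from hc).pow_right i
      rw [this.eq, mul_assoc, mul_inv_cancel, mul_one]
    calc y ^ (i + 1) * m * (y ^ (i + 1))⁻¹
        = y * (y ^ i * m * (y ^ i)⁻¹) * y⁻¹ := by rw [pow_succ']; group
      _ = y * (m * c ^ i) * y⁻¹ := by rw [ih]
      _ = (y * m * y⁻¹) * (y * c ^ i * y⁻¹) := by group
      _ = m * c * c ^ i := by rw [hm, hci]
      _ = m * c ^ (i + 1) := by rw [pow_succ', mul_assoc]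

theorem conj_eq_of_odd {K : Type*} [Group K] [Finite K] (h : Hyp4 K) (M : Subgroup K) [M.Normal]
    (hM : IsPGroup 2 M) (y : K) (hy : Odd (orderOf y)) : ∀ m ∈ M, y * m * y⁻¹ = m := by
  haveI : Fact (Nat.Prime 2) := ⟨Nat.prime_two⟩
  set C := Subgroup.centralizer ({y} : Set K) with hC
  have memC : ∀ x : K, x ∈ C ↔ y * x = x * y := by
    intro x; rw [hC, Subgroup.mem_centralizer_iff]; simp
  have hdvd : C.relIndex M ∣ C.index := relIndex_dvd_index_right C M
  obtain ⟨j, hj⟩ : ∃ j, C.relIndex M = 2 ^ j := hM.index (C.subgroupOf M)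
  have hj1 : j ≤ 1 := by
    by_contra hcon
    push Not at hcon
    apply h y
    refine dvd_trans ?_ hdvd
    rw [hj]
    exact pow_dvd_pow 2 hcon
  intro m hm
  by_cases hmC : m ∈ C
  · rw [(memC m).1 hmC, mul_assoc, mul_inv_cancel, mul_one]
  exfalso
  have hj' : j = 1 := by
    rcases Nat.lt_or_ge j 1 with h0 | h0
    · exfalso
      have : j = 0 := by omega
      rw [this, pow_zero, Subgroup.relIndex_eq_one] at hj
      exact hmC (hj hm)
    · omega
  rw [hj', pow_one] at hj
  -- m' = y m y⁻¹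
  have hm' : y * m * y⁻¹ ∈ M := ‹M.Normal›.conj_mem m hm y
  have hm'C : y * m * y⁻¹ ∉ C := by
    intro hcon
    apply hmC
    rw [memC] at hcon ⊢
    have : y * (y * m) * y⁻¹ = y * (m * y) * y⁻¹ := by
      calc y * (y * m) * y⁻¹ = y * (y * m * y⁻¹) := by group
        _ = y * m * y⁻¹ * y := hcon
        _ = y * (m * y) * y⁻¹ := by group
    exact mul_left_cancel (mul_right_cancel this)
  have hidx : (C.subgroupOf M).index = 2 := hj
  have hcmem : (⟨m, hm⟩ : M)⁻¹ * ⟨y * m * y⁻¹, hm'⟩ ∈ C.subgroupOf M := by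
    rw [Subgroup.mul_mem_iff_of_index_two hidx]
    constructor
    · intro hh
      exfalso
      rw [inv_mem_iff, Subgroup.mem_subgroupOf] at hh
      exact hmC hh
    · intro hh
      exfalso
      rw [Subgroup.mem_subgroupOf] at hh
      exact hm'C hh
  rw [Subgroup.mem_subgroupOf] at hcmem
  set c : K := m⁻¹ * (y * m * y⁻¹) with hc
  have hcC : c ∈ C := by simpa using hcmem
  have hcM : c ∈ M := M.mul_mem (M.inv_mem hm) hm'
  have hconj : y * m * y⁻¹ = m * c := by rw [hc]; group
  have hpow := conj_pow_of_conj_eq_mul y m c ((memC c).1 hcC) hconj (orderOf y)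
  rw [pow_orderOf_eq_one, one_mul, inv_one, mul_one] at hpow
  have hc1 : c ^ orderOf y = 1 := by
    have : m * c ^ orderOf y = m * 1 := by rw [mul_one]; exact hpow.symm
    exact mul_left_cancel this
  obtain ⟨k, hk⟩ := hM ⟨c, hcM⟩
  have hk' : c ^ 2 ^ k = 1 := by
    have := congrArg Subtype.val hk
    simpa using this
  have hd1 : orderOf c ∣ orderOf y := orderOf_dvd_of_pow_eq_one hc1
  have hd2 : orderOf c ∣ 2 ^ k := orderOf_dvd_of_pow_eq_one hk'
  have hcop : Nat.Coprime (orderOf y) (2 ^ k) := by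
    apply Nat.Coprime.pow_right
    exact (Nat.coprime_comm.1 (Nat.coprime_two_left.2 hy))
  have : orderOf c = 1 := Nat.eq_one_of_dvd_coprimes hcop hd1 hd2
  rw [orderOf_eq_one_iff] at this
  apply hmC
  rw [memC]
  rw [this, mul_one] at hconj
  calc y * m = y * m * y⁻¹ * y := by group
    _ = m * y := by rw [hconj]



theorem hyp4_quotient' {G : Type*} [Group G] [Finite G] (h : Hyp4 G) (N : Subgroup G) [N.Normal] :
    Hyp4 (G ⧸ N) := by
  intro xbar hx
  obtain ⟨x, rfl⟩ := QuotientGroup.mk_surjective xbar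
  apply h x
  set C := Subgroup.centralizer ({x} : Set G) with hC
  have h1 : (C.map (QuotientGroup.mk' N)).index ∣ C.index :=
    Subgroup.index_map_dvd C (QuotientGroup.mk'_surjective N)
  have h2 : C.map (QuotientGroup.mk' N) ≤
      Subgroup.centralizer ({(x : G ⧸ N)} : Set (G ⧸ N)) := by
    rintro _ ⟨c, hc, rfl⟩
    rw [Subgroup.mem_centralizer_iff]
    intro z hz
    rw [Set.mem_singleton_iff] at hz
    subst hz
    have : x * c = c * x := by
      have := (Subgroup.mem_centralizer_iff.1 hc) x (Set.mem_singleton x)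
      exact this
    show (x : G ⧸ N) * (c : G ⧸ N) = (c : G ⧸ N) * (x : G ⧸ N)
    rw [← QuotientGroup.mk_mul, ← QuotientGroup.mk_mul, this]
  exact dvd_trans hx (dvd_trans (Subgroup.index_dvd_of_le h2) h1)

/-- In a group `G = N H` with `N` a normal `2`-group, `H` a complement of odd order centralizing `N`,
every element of odd order lies in `H`. -/
theorem mem_of_odd_of_complement {G : Type*} [Group G] [Finite G] (N H : Subgroup G)
    (a : ℕ) (hN : Nat.card N = 2 ^ a) (hc : Subgroup.IsComplement' N H)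
    (hcomm : ∀ h ∈ H, ∀ n ∈ N, h * n = n * h) (x : G) (hx : Odd (orderOf x)) : x ∈ H := by
  obtain ⟨⟨⟨n, hn⟩, ⟨h, hh⟩⟩, hnh, -⟩ := hc.existsUnique x
  simp only at hnh
  have hcm : Commute n h := (hcomm h hh n hn).symm
  have hn1 : n ^ 2 ^ a = 1 := by
    have := pow_card_eq_one' (G := N) (x := ⟨n, hn⟩)
    rw [hN] at this
    have := congrArg Subtype.val this
    simpa using this
  have hpow : x ^ 2 ^ a = h ^ 2 ^ a := by
    rw [← hnh, hcm.mul_pow, hn1, one_mul]
  have hcop : Nat.Coprime (2 ^ a) (orderOf x) :=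
    Nat.Coprime.pow_left a (Nat.coprime_two_left.2 hx)
  obtain ⟨m, hm⟩ := exists_pow_eq_self_of_coprime hcop
  rw [← hm, hpow]
  exact H.pow_mem (H.pow_mem hh _) _






/-- the `r`-primary part of a commutative subgroup -/
def primaryPart {K : Type*} [Group K] (A : Subgroup K) (hA : ∀ a ∈ A, ∀ b ∈ A, a * b = b * a)
    (r : ℕ) : Subgroup K where
  carrier := {x | x ∈ A ∧ ∃ k : ℕ, x ^ r ^ k = 1}
  one_mem' := ⟨A.one_mem, 0, by simp⟩
  mul_mem' := by
    rintro x x' ⟨hx, k, hk⟩ ⟨hx', k', hk'⟩
    refine ⟨A.mul_mem hx hx', k + k', ?_⟩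
    have hc : Commute x x' := hA x hx x' hx'
    rw [hc.mul_pow, pow_add, pow_mul, hk, one_pow, mul_comm (r ^ k) (r ^ k'), pow_mul, hk',
      one_pow, mul_one]
  inv_mem' := by
    rintro x ⟨hx, k, hk⟩
    exact ⟨A.inv_mem hx, k, by rw [inv_pow, hk, inv_one]⟩

theorem mem_primaryPart {K : Type*} [Group K] (A : Subgroup K)
    (hA : ∀ a ∈ A, ∀ b ∈ A, a * b = b * a) (r : ℕ) (x : K) :
    x ∈ primaryPart A hA r ↔ x ∈ A ∧ ∃ k : ℕ, x ^ r ^ k = 1 := Iff.rfl

theorem primaryPart_normal {K : Type*} [Group K] (A : Subgroup K) [hAn : A.Normal]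
    (hA : ∀ a ∈ A, ∀ b ∈ A, a * b = b * a) (r : ℕ) : (primaryPart A hA r).Normal := by
  constructor
  rintro x ⟨hx, k, hk⟩ g
  refine ⟨hAn.conj_mem x hx g, k, ?_⟩
  rw [conj_pow, hk, mul_one, mul_inv_cancel]

theorem primaryPart_isPGroup {K : Type*} [Group K] (A : Subgroup K)
    (hA : ∀ a ∈ A, ∀ b ∈ A, a * b = b * a) (r : ℕ) : IsPGroup r (primaryPart A hA r) := by
  rintro ⟨x, hx, k, hk⟩
  exact ⟨k, Subtype.ext (by simpa using hk)⟩

/-- a nontrivial finite solvable group has a nontrivial normal `r`-subgroup for some prime `r`. -/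
theorem exists_normal_pgroup {K : Type*} [Group K] [Finite K] [Nontrivial K] (hs : Group.IsSolvable K) :
    ∃ (r : ℕ) (M : Subgroup K), r.Prime ∧ M.Normal ∧ IsPGroup r M ∧ M ≠ ⊥ := by
  classical
  have hex : ∃ n, derivedSeries K n = ⊥ := hs.solvable
  set n := Nat.find hex with hn
  have hn_spec : derivedSeries K n = ⊥ := Nat.find_spec hex
  have hn0 : n ≠ 0 := by
    intro h0
    rw [h0, derivedSeries_zero] at hn_spec
    exact top_ne_bot hn_spec
  obtain ⟨k, hk⟩ : ∃ k, n = k + 1 := Nat.exists_eq_succ_of_ne_zero hn0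
  set A := derivedSeries K k with hAdef
  have hAne : A ≠ ⊥ := by
    intro hA
    have : n ≤ k := Nat.find_min' hex hA
    omega
  have hAcomm : ∀ a ∈ A, ∀ b ∈ A, a * b = b * a := by
    have h1 : ⁅A, A⁆ = ⊥ := by
      have := hn_spec
      rw [hk, derivedSeries_succ] at this
      exact this
    intro a ha b hb
    have h2 : A ≤ Subgroup.centralizer (A : Set K) :=
      Subgroup.commutator_eq_bot_iff_le_centralizer.1 h1
    exact ((Subgroup.mem_centralizer_iff.1 (h2 ha)) b hb).symm
  haveI hAn : A.Normal := derivedSeries_normal K k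
  obtain ⟨a, haA, ha1⟩ : ∃ a ∈ A, a ≠ 1 := by
    by_contra hcon
    push Not at hcon
    exact hAne ((Subgroup.eq_bot_iff_forall A).2 hcon)
  have hord : orderOf a ≠ 1 := by
    intro h; exact ha1 (orderOf_eq_one_iff.1 h)
  obtain ⟨r, hr, hrd⟩ := Nat.exists_prime_and_dvd hord
  refine ⟨r, primaryPart A hAcomm r, hr, primaryPart_normal A hAcomm r,
    primaryPart_isPGroup A hAcomm r, ?_⟩
  -- b = a^(orderOf a / r) has order r
  intro hbot
  have hpos : 0 < orderOf a := orderOf_pos a
  have hb : a ^ (orderOf a / r) ∈ primaryPart A hAcomm r := by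
    refine ⟨A.pow_mem haA _, 1, ?_⟩
    rw [pow_one, ← pow_mul, Nat.div_mul_cancel hrd, pow_orderOf_eq_one]
  rw [hbot, Subgroup.mem_bot] at hb
  have hdvd : orderOf a ∣ orderOf a / r := orderOf_dvd_of_pow_eq_one hb
  have hlt : orderOf a / r < orderOf a := Nat.div_lt_self hpos hr.one_lt
  have hpos' : 0 < orderOf a / r := Nat.div_pos (Nat.le_of_dvd hpos hrd) hr.pos
  exact absurd (Nat.le_of_dvd hpos' hdvd) (by omega)







theorem exists_normal_two_complement_aux.{u} : ∀ (n : ℕ) (K : Type u) [Group K] [Finite K],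
    Nat.card K = n → Group.IsSolvable K → Hyp4 K →
    ∃ M : Subgroup K, M.Normal ∧ Odd (Nat.card M) ∧ ∃ k : ℕ, M.index = 2 ^ k := by
  intro n
  induction n using Nat.strong_induction_on with
  | _ n ih =>
  intro K _ _ hn hs h
  by_cases htriv : Subsingleton K
  · refine ⟨⊥, inferInstance, by simp, 0, ?_⟩
    rw [Subgroup.index_bot, pow_zero]
    haveI := htriv
    exact Nat.card_of_subsingleton (1 : K)
  haveI : Nontrivial K := not_subsingleton_iff_nontrivial.1 htriv
  obtain ⟨r, M₀, hr, hM₀n, hM₀p, hM₀ne⟩ := exists_normal_pgroup hs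
  haveI := hM₀n
  haveI : Fact r.Prime := ⟨hr⟩
  -- quotient
  have hcardK : Nat.card K = Nat.card (K ⧸ M₀) * Nat.card M₀ :=
    Subgroup.card_eq_card_quotient_mul_card_subgroup M₀
  have hM₀card : 1 < Nat.card M₀ := (Subgroup.one_lt_card_iff_ne_bot M₀).2 hM₀ne
  have hQpos : 0 < Nat.card (K ⧸ M₀) := Nat.card_pos
  have hlt : Nat.card (K ⧸ M₀) < n := by
    rw [← hn, hcardK]
    nlinarith
  obtain ⟨Lbar, hLn, hLodd, k, hk⟩ := ih (Nat.card (K ⧸ M₀)) hlt (K ⧸ M₀) rfl
    inferInstance (hyp4_quotient' h M₀)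
  set L : Subgroup K := Lbar.comap (QuotientGroup.mk' M₀) with hLdef
  haveI hLnorm : L.Normal := hLn.comap _
  have hLidx : L.index = 2 ^ k := by
    rw [hLdef, Subgroup.index_comap_of_surjective Lbar (QuotientGroup.mk'_surjective M₀), hk]
  have hM₀L : M₀ ≤ L := by
    intro x hx
    rw [hLdef, Subgroup.mem_comap]
    have : (QuotientGroup.mk' M₀) x = 1 := by
      rw [QuotientGroup.mk'_apply, QuotientGroup.eq_one_iff]; exact hx
    rw [this]; exact Lbar.one_mem
  have hLcard : Nat.card L = Nat.card Lbar * Nat.card M₀ := by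
    have e1 : Nat.card L * L.index = Nat.card K := Subgroup.card_mul_index L
    have e2 : Nat.card Lbar * Lbar.index = Nat.card (K ⧸ M₀) := Subgroup.card_mul_index Lbar
    rw [hLidx] at e1
    rw [hk] at e2
    have hpos : 0 < 2 ^ k := by positivity
    have : Nat.card L * 2 ^ k = Nat.card Lbar * Nat.card M₀ * 2 ^ k := by
      rw [e1, hcardK, ← e2]; ring
    exact Nat.eq_of_mul_eq_mul_right hpos this
  obtain ⟨a, ha⟩ := hM₀p.exists_card_eq
  rcases hr.eq_two_or_odd' with h2 | hodd
  · -- r = 2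
    subst h2
    -- work in ↥L
    set N : Subgroup L := M₀.subgroupOf L with hNdef
    haveI : N.Normal := Subgroup.Normal.subgroupOf hM₀n L
    have hNcard : Nat.card N = 2 ^ a := by
      rw [← ha]
      exact Nat.card_congr (Subgroup.subgroupOfEquivOfLe hM₀L).toEquiv
    have hNidx : N.index = Nat.card Lbar := by
      have e := Subgroup.card_mul_index N
      rw [hNcard, hLcard, ha] at e
      have hpos : 0 < 2 ^ a := by positivity
      have : 2 ^ a * N.index = 2 ^ a * Nat.card Lbar := by rw [e]; ring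
      exact Nat.eq_of_mul_eq_mul_left hpos this
    have hcop : Nat.Coprime (Nat.card N) N.index := by
      rw [hNcard, hNidx]
      exact Nat.Coprime.pow_left a (Nat.coprime_two_left.2 hLodd)
    obtain ⟨H, hH⟩ := Subgroup.exists_right_complement'_of_coprime hcop
    have hHcard : Nat.card H = Nat.card Lbar := by
      have e := hH.card_mul_card
      rw [hNcard, hLcard, ha] at e
      have hpos : 0 < 2 ^ a := by positivity
      have : 2 ^ a * Nat.card H = 2 ^ a * Nat.card Lbar := by rw [e]; ring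
      exact Nat.eq_of_mul_eq_mul_left hpos this
    have hHodd : ∀ x ∈ H, Odd (orderOf (x : K)) := by
      intro x hx
      rw [Subgroup.orderOf_coe]
      have h1 : orderOf (⟨x, hx⟩ : H) ∣ Nat.card H := orderOf_dvd_natCard _
      rw [hHcard] at h1
      have h2 : orderOf (⟨x, hx⟩ : H) = orderOf x := Subgroup.orderOf_mk x hx
      rw [h2] at h1
      exact hLodd.of_dvd_nat h1
    have hcomm : ∀ x ∈ H, ∀ m ∈ N, x * m = m * x := by
      intro x hx m hm
      have hmM : (m : K) ∈ M₀ := by
        rw [hNdef, Subgroup.mem_subgroupOf] at hm; exact hm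
      have := conj_eq_of_odd h M₀ hM₀p (x : K) (hHodd x hx) (m : K) hmM
      apply Subtype.ext
      push_cast
      calc (x : K) * (m : K) = (x : K) * m * (x : K)⁻¹ * x := by group
        _ = m * x := by rw [this]
    have hchar : ∀ x : L, Odd (orderOf x) → x ∈ H :=
      mem_of_odd_of_complement N H a hNcard hH hcomm
    refine ⟨H.map L.subtype, ?_, ?_, a + k, ?_⟩
    · constructor
      rintro _ ⟨x, hx, rfl⟩ g
      have hgL : g * (x : K) * g⁻¹ ∈ L := hLnorm.conj_mem _ x.2 g
      refine ⟨⟨g * (x : K) * g⁻¹, hgL⟩, ?_, rfl⟩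
      apply hchar
      have : orderOf (⟨g * (x : K) * g⁻¹, hgL⟩ : L) = orderOf (x : K) := by
        rw [← Subgroup.orderOf_coe]
        have := MulEquiv.orderOf_eq (MulAut.conj g) (x : K)
        rwa [MulAut.conj_apply] at this
      rw [this]
      exact hHodd x hx
    · have : Nat.card (H.map L.subtype) = Nat.card H :=
        Subgroup.card_map_of_injective (Subgroup.subtype_injective L)
      rw [this, hHcard]; exact hLodd
    · have e1 : Nat.card (H.map L.subtype) * (H.map L.subtype).index = Nat.card K :=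
        Subgroup.card_mul_index _
      have e2 : Nat.card (H.map L.subtype) = Nat.card H :=
        Subgroup.card_map_of_injective (Subgroup.subtype_injective L)
      have e3 : Nat.card L * L.index = Nat.card K := Subgroup.card_mul_index L
      rw [e2, hHcard] at e1
      rw [hLcard, ha, hLidx] at e3
      have hpos : 0 < Nat.card Lbar := Nat.card_pos
      have : Nat.card Lbar * (H.map L.subtype).index = Nat.card Lbar * 2 ^ (a + k) := by
        rw [e1, ← e3, pow_add]; ring
      exact Nat.eq_of_mul_eq_mul_left hpos this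
  · -- r odd
    refine ⟨L, hLnorm, ?_, k, hLidx⟩
    rw [hLcard, ha]
    exact hLodd.mul (Odd.pow hodd)

/-- [LEMMA-L] -/
theorem exists_normal_two_complement {K : Type*} [Group K] [Finite K] (hs : Group.IsSolvable K)
    (h : Hyp4 K) (hab : AbSyl K) :
    ∃ M : Subgroup K, M.Normal ∧ Odd (Nat.card M) ∧ ∃ k : ℕ, M.index = 2 ^ k :=
  exists_normal_two_complement_aux (Nat.card K) K rfl hs h

end Cfsg.Agent.Lib.Helper20.CH4
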