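import Cfsg.Agent.Lib.Helper20.QDFusion4

/-!
Fusion in finite groups with quasi-dihedral Sylow 2-subgroups, part 5: subgroups of index two of
a normal subgroup of index two (helper20's library).
-/

set_option autoImplicit false
set_option linter.unusedSectionVars false

namespace Cfsg.Agent.Lib.Helper20.QDF

open Cfsg.Agent.Lib.Helper20 Cfsg.Agent.Lib.Helper20.QD

section general

variable {G : Type*} [Group G]

/-- Conjugacy in `G` of elements of a normal subgroup `K` of index two descends to `K` when some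
element outside `K` centralizes one of them. -/
theorem isConj_in_K {K : Subgroup G} (hK : K.index = 2) {a t u g : G} (ha : a ∈ K) (ht : t ∈ K)
    (hu : u ∉ K) (hua : u * a * u⁻¹ = a) (hg : g * a * g⁻¹ = t) :
    IsConj (⟨a, ha⟩ : K) ⟨t, ht⟩ := by
  by_cases hgK : g ∈ K
  · apply isConj_of_conj_eq (g := (⟨g, hgK⟩ : K))
    apply Subtype.ext
    exact hg
  · have hguK : g * u ∈ K := by
      rw [Subgroup.mul_mem_iff_of_index_two hK]
      exact ⟨fun h => absurd h hgK, fun h => absurd h hu⟩
    apply isConj_of_conj_eq (g := (⟨g * u, hguK⟩ : K))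
    apply Subtype.ext
    show (g * u) * a * (g * u)⁻¹ = t
    calc (g * u) * a * (g * u)⁻¹ = g * (u * a * u⁻¹) * g⁻¹ := by group
      _ = t := by rw [hua, hg]

/-- To show that the Sylow subgroup `S ∩ K` of `K` lies in `H ≤ K`. -/
theorem subgroupOf_le_of_forall {P K : Subgroup G} (H : Subgroup K)
    (h : ∀ s : P, ∀ hs : (s : G) ∈ K, (⟨(s : G), hs⟩ : K) ∈ H) : P.subgroupOf K ≤ H := by
  intro r hr
  have hrP : (r : G) ∈ P := Subgroup.mem_subgroupOf.mp hr
  exact h ⟨(r : G), hrP⟩ r.2

/-- A normal subgroup `K` with `S ∩ K` inside a subgroup `H` of index two of `K`: impossible. -/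
theorem false_of_sylow_le [Finite G] (S : Sylow 2 G) (K : Subgroup G) [K.Normal] (H : Subgroup K)
    (hH : H.index = 2) (hle : (S : Subgroup G).subgroupOf K ≤ H) : False := by
  have : Fact (Nat.Prime 2) := ⟨Nat.prime_two⟩
  obtain ⟨R, hR⟩ := exists_sylow_eq_subgroupOf_normal K S
  exact not_sylow_le_of_index_two R H hH (hR ▸ hle)

end general

section qd

variable {P : Type*} [Group P] [Finite P] {n : ℕ} {x y : P}

theorem x_not_mem_M2 (d : Data P n x y) : x ∉ M2 d := by
  intro h
  unfold M2 at h
  have := (f_mem_K d 1 1 1).mp (by rwa [f_one d])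
  rw [map_one] at this
  exact absurd this (by decide)

theorem x_not_mem_M3 (d : Data P n x y) : x ∉ M3 d := by
  intro h
  unfold M3 at h
  have := (f_mem_K d 1 0 1).mp (by rwa [f_one d])
  rw [map_one] at this
  exact absurd this (by decide)

theorem xy_not_mem_M1 (d : Data P n x y) : f x n 1 * y ∉ M1 d := by
  intro h
  obtain ⟨i, hi⟩ := (mem_M1 d _).mp h
  exact f_mul_y_ne_f d _ _ hi

theorem xy_not_mem_M3 (d : Data P n x y) : f x n 1 * y ∉ M3 d := by
  intro h
  unfold M3 at h
  have := (fy_mem_K d 1 0 1).mp h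
  rw [map_one] at this
  exact absurd this (by decide)

/-- `f (2j) = (f (2j+1) y) (f 1 y)⁻¹`. -/
theorem feven_eq_mul (d : Data P n x y) (j : ZMod (2 ^ n)) :
    f x n (2 * j) = (f x n (2 * j + 1) * y) * (f x n 1 * y)⁻¹ := by
  rw [fy_inv d, fy_mul_fy d]; congr 1
  have := ep_mul_ep (n := n) (by have := d.hn; omega)
  linear_combination this

end qd

end Cfsg.Agent.Lib.Helper20.QDF
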