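import Cfsg.Agent.Lib.Helper20.WrG8
import Cfsg.Agent.S1205

/-!
Centralizers of involutions in finite groups with quasi-dihedral or wreathed Sylow 2-subgroups and no
subgroup of index two (helper20's library).
-/

set_option autoImplicit false
set_option linter.unusedSectionVars false

namespace Cfsg.Agent.Lib.Helper20.CI

open Cfsg.Agent.Lib.Helper38 Cfsg.Agent.Lib.Helper33 Cfsg.Agent.Lib.Helper20
  Cfsg.Agent.Lib.Helper20.QDF Cfsg.Agent.Lib.Helper20.QD Cfsg.Agent.Lib.Helper20.Wr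

section transport

variable {S T : Type*} [Group S] [Group T]

theorem data_map {n : ℕ} {x y : S} (e : S ≃* T) (d : Data S n x y) : Data T n (e x) (e y) where
  hn := d.hn
  card := by rw [← Nat.card_congr e.toEquiv]; exact d.card
  ox := by rw [MulEquiv.orderOf_eq]; exact d.ox
  oy := by rw [MulEquiv.orderOf_eq]; exact d.oy
  rel := by rw [← map_inv, ← map_mul, ← map_mul, d.rel, map_pow]

theorem isWr_map {n : ℕ} {x y z : S} (e : S ≃* T) (h : IsWr x y z n) :
    IsWr (e x) (e y) (e z) n where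
  hn := h.hn
  card := by rw [← Nat.card_congr e.toEquiv]; exact h.card
  hx := by rw [MulEquiv.orderOf_eq]; exact h.hx
  hxy := by rw [← map_mul, h.hxy, map_mul]
  hinf := by
    have h1 : Subgroup.zpowers (e x) = (Subgroup.zpowers x).map e.toMonoidHom := by
      rw [MonoidHom.map_zpowers]; rfl
    have h2 : Subgroup.zpowers (e y) = (Subgroup.zpowers y).map e.toMonoidHom := by
      rw [MonoidHom.map_zpowers]; rfl
    rw [h1, h2, ← Subgroup.map_inf _ _ _ e.injective, h.hinf, Subgroup.map_bot]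
  hz := by rw [MulEquiv.orderOf_eq]; exact h.hz
  hzx := by rw [← map_inv, ← map_mul, ← map_mul, h.hzx]

theorem isQuasiDihedral_of_equiv (e : S ≃* T) (h : Cfsg.IsQuasiDihedral S) :
    Cfsg.IsQuasiDihedral T := by
  obtain ⟨n, x, y, d⟩ := exists_data h
  have d' := data_map e d
  exact ⟨n, d'.hn, d'.card, e x, e y, d'.ox, d'.oy, d'.rel⟩

theorem isWreathed_of_equiv (e : S ≃* T) (h : Cfsg.IsWreathed S) : Cfsg.IsWreathed T := by
  obtain ⟨n, x, y, z, hw⟩ := exists_isWr h
  have h' := isWr_map e hw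
  exact ⟨n, h'.hn, h'.card, e x, e y, e z, h'.hx, h'.hxy, h'.hinf, h'.hz, h'.hzx⟩

theorem al_map {x y : S} (e : S ≃* T) (i j : ℤ) : al (e x) (e y) i j = e (al x y i j) := by
  unfold al
  rw [map_mul, map_zpow, map_zpow]

theorem f_map {n : ℕ} {x : S} (e : S ≃* T) (i : ZMod (2 ^ n)) : f (e x) n i = e (f x n i) := by
  unfold f
  rw [map_pow]

end transport

section generic

variable {G : Type*} [Group G]

theorem isWeaklyClosed_of_forall_fixed (W P : Subgroup G) (hWP : W ≤ P)
    (h : ∀ g : G, W.map (MulAut.conj g).toMonoidHom ≤ P → ∀ ζ ∈ W, g * ζ * g⁻¹ = ζ) :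
    Cfsg.IsWeaklyClosed W P := by
  refine ⟨hWP, fun g hg => ?_⟩
  have key := h g hg
  ext t
  rw [Subgroup.mem_map]
  constructor
  · rintro ⟨ζ, hζ, rfl⟩
    show g * ζ * g⁻¹ ∈ W
    rw [key ζ hζ]; exact hζ
  · intro ht
    exact ⟨t, ht, key t ht⟩

theorem exists_index_two_of_surjective_zmod {n : ℕ} (hn : 1 ≤ n)
    (ϕ : G →* Multiplicative (ZMod (2 ^ n))) (hϕ : Function.Surjective ϕ) :
    ∃ H : Subgroup G, H.index = 2 := by
  have hdvd : 2 ∣ 2 ^ n := dvd_pow_self 2 (by omega)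
  let c : ZMod (2 ^ n) →+* ZMod 2 := ZMod.castHom hdvd (ZMod 2)
  have hc : Function.Surjective c := ZMod.ringHom_surjective c
  let ψ : G →* Multiplicative (ZMod 2) :=
    (AddMonoidHom.toMultiplicative c.toAddMonoidHom).comp ϕ
  have hψ : Function.Surjective ψ := by
    intro t
    obtain ⟨a, ha⟩ := hc (Multiplicative.toAdd t)
    obtain ⟨g, hg⟩ := hϕ (Multiplicative.ofAdd a)
    refine ⟨g, ?_⟩
    show (AddMonoidHom.toMultiplicative c.toAddMonoidHom) (ϕ g) = t
    rw [hg]
    exact congrArg Multiplicative.ofAdd ha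
  refine ⟨ψ.ker, ?_⟩
  rw [Subgroup.index_ker, MonoidHom.range_eq_top.mpr hψ, Subgroup.card_top,
    Nat.card_congr Multiplicative.toAdd, Nat.card_zmod]

/-- If `x` is conjugate to an element central in the Sylow subgroup `S`, then `x` is central in
a Sylow subgroup. -/
theorem exists_sylow_central [Finite G] (S : Sylow 2 G) {x ζ g : G} (hg : g * x * g⁻¹ = ζ)
    (hζS : ζ ∈ (S : Subgroup G)) (hζc : ∀ s ∈ (S : Subgroup G), s * ζ = ζ * s) :
    ∃ S' : Sylow 2 G, x ∈ (S' : Subgroup G) ∧ ∀ s ∈ (S' : Subgroup G), s * x = x * s := by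
  have hmem : ∀ t : G, t ∈ ((g⁻¹ • S : Sylow 2 G) : Subgroup G) ↔ g * t * g⁻¹ ∈ (S : Subgroup G) := by
    intro t
    rw [Sylow.coe_subgroup_smul, Subgroup.mem_pointwise_smul_iff_inv_smul_mem]
    simp [MulAut.smul_def, MulAut.conj_apply]
  refine ⟨g⁻¹ • S, ?_, ?_⟩
  · rw [hmem, hg]; exact hζS
  · intro s hs
    rw [hmem] at hs
    have := hζc _ hs
    rw [← hg] at this
    have h2 : g * (s * x) * g⁻¹ = g * (x * s) * g⁻¹ := by
      calc g * (s * x) * g⁻¹ = (g * s * g⁻¹) * (g * x * g⁻¹) := by group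
        _ = (g * x * g⁻¹) * (g * s * g⁻¹) := this
        _ = g * (x * s) * g⁻¹ := by group
    exact mul_left_cancel (mul_right_cancel h2)

end generic

section wreathed

variable {G : Type*} [Group G] [Finite G] (S : Sylow 2 G) {n : ℕ} {xs ys zs : (S : Subgroup G)}

local notation "MM" => ((2 ^ (n - 1) : ℕ) : ℤ)
local notation "𝐚" => ((al xs ys MM 0 : (S : Subgroup G)) : G)
local notation "𝐛" => ((al xs ys 0 MM : (S : Subgroup G)) : G)
local notation "𝐞" => ((al xs ys MM MM : (S : Subgroup G)) : G)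
local notation "𝐳" => ((zs : (S : Subgroup G)) : G)

theorem rU_six_of_no_index_two (h : IsWr xs ys zs n) (hG : ∀ H : Subgroup G, H.index ≠ 2) :
    (Subgroup.centralizer (UU S h : Set G)).relIndex
      (Subgroup.normalizer (UU S h : Set G)) = 6 := by
  rcases rU_two_or_six S h with h2 | h6
  · exfalso
    have hctrl := ctrlU_of_two S h h2
    obtain ⟨H, hH⟩ := exists_index_two_of_surjective_zmod (by have := h.hn; omega) _
      (transfer_lam_surjective S h hctrl)
    exact hG H hH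
  · exact h6

theorem rV_six_of_no_index_two (h : IsWr xs ys zs n) (hG : ∀ H : Subgroup G, H.index ≠ 2) :
    (VV S h ⊔ Subgroup.centralizer (VV S h : Set G)).relIndex
      (Subgroup.normalizer (VV S h : Set G)) = 6 := by
  rcases rV_two_or_six S h with h2 | h6
  · exfalso
    obtain ⟨K, _, hKi, _⟩ := exists_K_of_not_conj S h (z_not_conj_UU_of_rV_two S h h2)
    exact hG K hKi
  · exact h6

/-- In case `(6, 6)` every involution is conjugate to the central involution. -/
theorem isConj_e_of_six_six (h : IsWr xs ys zs n)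
    (h1 : (Subgroup.centralizer (UU S h : Set G)).relIndex
      (Subgroup.normalizer (UU S h : Set G)) = 6)
    (h2 : (VV S h ⊔ Subgroup.centralizer (VV S h : Set G)).relIndex
      (Subgroup.normalizer (VV S h : Set G)) = 6) (t : G) (ht : orderOf t = 2) : IsConj 𝐞 t := by
  rcases invol_class S h t ht with h3 | h3 | h3
  · exact ((isConj_a_e_of_six S h h1).symm).trans h3
  · exact h3
  · exact (((isConj_a_e_of_six S h h1).symm).trans (isConj_a_z_of_six S h h2)).trans h3

theorem wreathed_central (h : IsWr xs ys zs n) (hG : ∀ H : Subgroup G, H.index ≠ 2) (x : G)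
    (hx : orderOf x = 2) (hxS : x ∈ (S : Subgroup G))
    (hxc : ∀ s ∈ (S : Subgroup G), s * x = x * s) :
    ∃ R : Sylow 2 ↥(Subgroup.centralizer ({x} : Set G)), Nat.card R = Nat.card S ∧ (∃ K : Subgroup ↥(Subgroup.centralizer ({x} : Set G)), K.Normal ∧ (∃ a : ℕ, K.index = 2 ^ a) ∧ (∀ H : Subgroup ↥K, H.index ≠ 2) ∧ (∀ P : Sylow 2 ↥K, ∃ m : ℕ, 1 ≤ m ∧ Nonempty ((P : Subgroup ↥K) ≃* QuaternionGroup (2 ^ m)))) ∧ (∀ Z₀ : Subgroup ↥(Subgroup.centralizer ({x} : Set G)), Z₀ ≤ ((Subgroup.center (R : Subgroup ↥(Subgroup.centralizer ({x} : Set G)))).map (R : Subgroup ↥(Subgroup.centralizer ({x} : Set G))).subtype) → Cfsg.IsWeaklyClosed Z₀ (R : Subgroup ↥(Subgroup.centralizer ({x} : Set G)))) := by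
  have hSC : (S : Subgroup G) ≤ Subgroup.centralizer ({x} : Set G) := by
    intro s hs
    rw [Subgroup.mem_centralizer_iff]
    intro t ht
    rw [Set.mem_singleton_iff] at ht
    rw [ht]; exact (hxc s hs).symm
  set C := Subgroup.centralizer ({x} : Set G) with hC
  let R : Sylow 2 C := S.subtype hSC
  let e : (R : Subgroup C) ≃* (S : Subgroup G) := Subgroup.subgroupOfEquivOfLe hSC
  have h' : IsWr (e.symm xs) (e.symm ys) (e.symm zs) n := isWr_map e.symm h
  have hal : ∀ i j : ℤ, (((al (e.symm xs) (e.symm ys) i j : (R : Subgroup C)) : C) : G) =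
      ((al xs ys i j : (S : Subgroup G)) : G) := by
    intro i j; rw [al_map]; rfl
  have h1 := rU_six_of_no_index_two S h hG
  have h2 := rV_six_of_no_index_two S h hG
  -- `x = e`
  have hxe : x = 𝐞 := by
    have hc : (⟨x, hxS⟩ : (S : Subgroup G)) ∈ Subgroup.center (S : Subgroup G) := by
      rw [Subgroup.mem_center_iff]
      intro s
      apply Subtype.ext
      exact hxc s s.2
    have hsq : (⟨x, hxS⟩ : (S : Subgroup G)) * ⟨x, hxS⟩ = 1 := by
      apply Subtype.ext
      show x * x = 1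
      rw [← pow_two, ← hx]; exact pow_orderOf_eq_one x
    rcases center_sq_eq_one h hc hsq with h3 | h3
    · exfalso
      have : x = 1 := congrArg Subtype.val h3
      rw [this, orderOf_one] at hx; omega
    · exact congrArg Subtype.val h3
  -- the central involution of `R` is central in `C`
  have hcen : ∀ c : C, c * ((al (e.symm xs) (e.symm ys) MM MM : (R : Subgroup C)) : C) =
      ((al (e.symm xs) (e.symm ys) MM MM : (R : Subgroup C)) : C) * c := by
    intro c
    apply Subtype.ext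
    show (c : G) * _ = _ * (c : G)
    rw [hal, ← hxe]
    exact (Subgroup.mem_centralizer_iff.mp c.2 x rfl).symm
  have h1' : (Subgroup.centralizer (UU R h' : Set C)).relIndex
      (Subgroup.normalizer (UU R h' : Set C)) = 2 := by
    rcases rU_two_or_six R h' with h3 | h3
    · exact h3
    · exfalso
      obtain ⟨c, hc⟩ := isConj_iff.mp (isConj_a_e_of_six R h' h3)
      apply coe_a_ne_e R h'
      have : ((al (e.symm xs) (e.symm ys) MM 0 : (R : Subgroup C)) : C) =
          c⁻¹ * (c * ((al (e.symm xs) (e.symm ys) MM 0 : (R : Subgroup C)) : C) * c⁻¹) * c := by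
        group
      rw [this, hc, mul_assoc, ← hcen c, inv_mul_cancel_left]
  have h2' : (VV R h' ⊔ Subgroup.centralizer (VV R h' : Set C)).relIndex
      (Subgroup.normalizer (VV R h' : Set C)) = 6 := by
    rcases rV_two_or_six R h' with h3 | h3
    · exfalso
      obtain ⟨σ, hσN, hσ⟩ := exists_of_rV_six S h h2
      have hσe := conj_ZZ_of_mem_normalizer_VV S h hσN (e_mem_ZZ S h)
      have hσe' : σ⁻¹ * 𝐞 * σ = 𝐞 := by
        conv_lhs => rw [← hσe]
        group
      have hσC : σ ∈ C := by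
        rw [hC, Subgroup.mem_centralizer_iff]
        intro t ht
        rw [Set.mem_singleton_iff] at ht
        rw [ht, hxe]
        calc 𝐞 * σ = (σ * 𝐞 * σ⁻¹) * σ := by rw [hσe]
          _ = σ * 𝐞 := by group
      apply z_not_conj_UU_of_rV_two R h' h3 (⟨σ, hσC⟩ : C)⁻¹
      rcases hσ with hσ | hσ
      · have : (⟨σ, hσC⟩ : C)⁻¹ * ((e.symm zs : (R : Subgroup C)) : C) * (⟨σ, hσC⟩ : C)⁻¹⁻¹ =
            ((al (e.symm xs) (e.symm ys) MM 0 : (R : Subgroup C)) : C) := by
          apply Subtype.ext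
          show σ⁻¹ * (zs : G) * σ⁻¹⁻¹ = _
          rw [hal, ← hσ]; group
        rw [this]; exact (coe_mem_UU R h' _).mpr (h'.al_mem_A _ _)
      · have : (⟨σ, hσC⟩ : C)⁻¹ * ((e.symm zs : (R : Subgroup C)) : C) * (⟨σ, hσC⟩ : C)⁻¹⁻¹ =
            ((al (e.symm xs) (e.symm ys) 0 MM : (R : Subgroup C)) : C) := by
          apply Subtype.ext
          show σ⁻¹ * (zs : G) * σ⁻¹⁻¹ = _
          rw [hal, ← coe_a_mul_e S h]
          have hz : (zs : G) = σ * 𝐚 * σ⁻¹ * 𝐞 := by
            rw [hσ, mul_assoc, coe_e_sq S h, mul_one]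
          rw [hz]
          calc σ⁻¹ * (σ * 𝐚 * σ⁻¹ * 𝐞) * σ⁻¹⁻¹ = 𝐚 * (σ⁻¹ * 𝐞 * σ) := by group
            _ = 𝐚 * 𝐞 := by rw [hσe']
        rw [this]; exact (coe_mem_UU R h' _).mpr (h'.al_mem_A _ _)
    · exact h3
  have hctrl' := ctrlU_of_two R h' h1'
  refine ⟨R, Nat.card_congr e.toEquiv, ⟨KK R h', KK_normal R h', ⟨n, KK_index R h' hctrl'⟩,
    no_index_two_KK R h' hctrl' h2', sylow_KK R h' hctrl' h2'⟩,
    fun Z₀ hZ => isWeaklyClosed_of_le_ZZ R h' hctrl' h2' Z₀ hZ⟩

end wreathed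

section qd

variable {G : Type*} [Group G] [Finite G] (S : Sylow 2 G) {n : ℕ} {xs ys : (S : Subgroup G)}

theorem isConj_Z_Y_of_no_index_two (d : Data (S : Subgroup G) n xs ys)
    (hG : ∀ H : Subgroup G, H.index ≠ 2) :
    IsConj ((f xs n (hf n) : (S : Subgroup G)) : G) (ys : G) := by
  by_contra hZY
  obtain ⟨K, _, hKi, _⟩ := exists_K1 S d hZY
  exact hG K hKi

theorem isConj_V_W_of_no_index_two (d : Data (S : Subgroup G) n xs ys)
    (hG : ∀ H : Subgroup G, H.index ≠ 2) :
    IsConj ((f xs n (qt n) : (S : Subgroup G)) : G) ((f xs n 1 * ys : (S : Subgroup G)) : G) := by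
  by_contra hVW
  obtain ⟨K, _, hKi, _⟩ := exists_K2 S d hVW
  exact hG K hKi

theorem isConj_Z_of_no_index_two (d : Data (S : Subgroup G) n xs ys)
    (hG : ∀ H : Subgroup G, H.index ≠ 2) (t : G) (ht : orderOf t = 2) :
    IsConj ((f xs n (hf n) : (S : Subgroup G)) : G) t := by
  rcases QDF.invol_class S d t ht with h | h
  · exact h
  · exact (isConj_Z_Y_of_no_index_two S d hG).trans h

theorem qd_central (d : Data (S : Subgroup G) n xs ys) (hG : ∀ H : Subgroup G, H.index ≠ 2) (x : G)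
    (hx : orderOf x = 2) (hxS : x ∈ (S : Subgroup G))
    (hxc : ∀ s ∈ (S : Subgroup G), s * x = x * s) :
    ∃ R : Sylow 2 ↥(Subgroup.centralizer ({x} : Set G)), Nat.card R = Nat.card S ∧ (∃ K : Subgroup ↥(Subgroup.centralizer ({x} : Set G)), K.Normal ∧ (∃ a : ℕ, K.index = 2 ^ a) ∧ (∀ H : Subgroup ↥K, H.index ≠ 2) ∧ (∀ P : Sylow 2 ↥K, ∃ m : ℕ, 1 ≤ m ∧ Nonempty ((P : Subgroup ↥K) ≃* QuaternionGroup (2 ^ m)))) ∧ (∀ Z₀ : Subgroup ↥(Subgroup.centralizer ({x} : Set G)), Z₀ ≤ ((Subgroup.center (R : Subgroup ↥(Subgroup.centralizer ({x} : Set G)))).map (R : Subgroup ↥(Subgroup.centralizer ({x} : Set G))).subtype) → Cfsg.IsWeaklyClosed Z₀ (R : Subgroup ↥(Subgroup.centralizer ({x} : Set G)))) := by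
  have hn := d.hn
  have hSC : (S : Subgroup G) ≤ Subgroup.centralizer ({x} : Set G) := by
    intro s hs
    rw [Subgroup.mem_centralizer_iff]
    intro t ht
    rw [Set.mem_singleton_iff] at ht
    rw [ht]; exact (hxc s hs).symm
  set C := Subgroup.centralizer ({x} : Set G) with hC
  let R : Sylow 2 C := S.subtype hSC
  let e : (R : Subgroup C) ≃* (S : Subgroup G) := Subgroup.subgroupOfEquivOfLe hSC
  have d' : Data (R : Subgroup C) n (e.symm xs) (e.symm ys) := data_map e.symm d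
  have hf' : ∀ i : ZMod (2 ^ n), (((f (e.symm xs) n i : (R : Subgroup C)) : C) : G) =
      ((f xs n i : (S : Subgroup G)) : G) := by
    intro i; rw [f_map]; rfl
  -- `x = Z`
  have hxZ : x = ((f xs n (hf n) : (S : Subgroup G)) : G) := by
    have hc : (⟨x, hxS⟩ : (S : Subgroup G)) ∈ Subgroup.center (S : Subgroup G) := by
      rw [Subgroup.mem_center_iff]
      intro s
      apply Subtype.ext
      exact hxc s s.2
    rcases Cfsg.Agent.S1193.center_cases d _ hc with h3 | h3
    · exfalso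
      have : x = 1 := congrArg Subtype.val h3
      rw [this, orderOf_one] at hx; omega
    · exact congrArg Subtype.val h3
  have hcen : ∀ c : C, c * ((f (e.symm xs) n (hf n) : (R : Subgroup C)) : C) =
      ((f (e.symm xs) n (hf n) : (R : Subgroup C)) : C) * c := by
    intro c
    apply Subtype.ext
    show (c : G) * _ = _ * (c : G)
    rw [hf', ← hxZ]
    exact (Subgroup.mem_centralizer_iff.mp c.2 x rfl).symm
  have hZY' : ¬ IsConj ((f (e.symm xs) n (hf n) : (R : Subgroup C)) : C)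
      ((e.symm ys : (R : Subgroup C)) : C) := by
    intro hc
    obtain ⟨c, hc⟩ := isConj_iff.mp hc
    rw [hcen c, mul_inv_cancel_right] at hc
    exact y_ne_f d' (hf n) (Subtype.ext hc.symm)
  have hVW' : IsConj ((f (e.symm xs) n (qt n) : (R : Subgroup C)) : C)
      ((f (e.symm xs) n 1 * e.symm ys : (R : Subgroup C)) : C) := by
    obtain ⟨g, hg⟩ := isConj_iff.mp (isConj_V_W_of_no_index_two S d hG)
    have hVV : ((f xs n (qt n) : (S : Subgroup G)) : G) * ((f xs n (qt n) : (S : Subgroup G)) : G) =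
        ((f xs n (hf n) : (S : Subgroup G)) : G) := by
      rw [← Subgroup.coe_mul, ← f_add d, ← two_mul, two_mul_qt (by omega)]
    have hWW : ((f xs n 1 * ys : (S : Subgroup G)) : G) * ((f xs n 1 * ys : (S : Subgroup G)) : G) =
        ((f xs n (hf n) : (S : Subgroup G)) : G) := by
      rw [← Subgroup.coe_mul, fy_mul_self d, mul_one]
    have hgZ : g * ((f xs n (hf n) : (S : Subgroup G)) : G) * g⁻¹ =
        ((f xs n (hf n) : (S : Subgroup G)) : G) := by
      conv_lhs => rw [← hVV]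
      calc g * (((f xs n (qt n) : (S : Subgroup G)) : G) * ((f xs n (qt n) : (S : Subgroup G)) : G)) * g⁻¹
          = (g * ((f xs n (qt n) : (S : Subgroup G)) : G) * g⁻¹) *
            (g * ((f xs n (qt n) : (S : Subgroup G)) : G) * g⁻¹) := by group
        _ = _ := by rw [hg, hWW]
    have hgC : g ∈ C := by
      rw [hC, Subgroup.mem_centralizer_iff]
      intro t ht
      rw [Set.mem_singleton_iff] at ht
      rw [ht, hxZ]
      calc ((f xs n (hf n) : (S : Subgroup G)) : G) * g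
          = (g * ((f xs n (hf n) : (S : Subgroup G)) : G) * g⁻¹) * g := by rw [hgZ]
        _ = g * ((f xs n (hf n) : (S : Subgroup G)) : G) := by group
    refine isConj_iff.mpr ⟨⟨g, hgC⟩, Subtype.ext ?_⟩
    show g * (((f (e.symm xs) n (qt n) : (R : Subgroup C)) : C) : G) * g⁻¹ =
      (((f (e.symm xs) n 1 * e.symm ys : (R : Subgroup C)) : C) : G)
    rw [hf', hg]
    show _ = (((f (e.symm xs) n 1 : (R : Subgroup C)) : C) : G) * (ys : G)
    rw [hf']; rfl
  obtain ⟨K, hKn, hKi, hYK⟩ := exists_K1 R d' hZY'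
  have hKS := Cfsg.Agent.S1205.K1_inter R d' K hKi hYK hVW'
  refine ⟨R, Nat.card_congr e.toEquiv, ⟨K, hKn, ⟨1, by rw [hKi, pow_one]⟩,
    Cfsg.Agent.S1205.no_index_two_K R d' K hKi hKS hVW', ?_⟩, ?_⟩
  · intro P
    refine ⟨n - 2, by omega, ?_⟩
    obtain ⟨e1⟩ := sylow_iso_of_normal R K P
    obtain ⟨e2⟩ := M2_iso d'
    exact ⟨(e1.trans (MulEquiv.subgroupCongr hKS)).trans e2⟩
  · intro Z₀ hZ
    apply isWeaklyClosed_of_forall_fixed Z₀ R (hZ.trans (Subgroup.map_subtype_le _))
    intro g _ ζ hζ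
    rcases (Cfsg.Agent.S1205.mem_W0 R d' ζ).mp (hZ hζ) with h3 | h3
    · rw [h3]; group
    · rw [h3, hcen g, mul_inv_cancel_right]

end qd

end Cfsg.Agent.Lib.Helper20.CI
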