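import Mathlib

/-!
Counting conjugacy classes of elements with a given property (helper20's library).
-/

set_option autoImplicit false

namespace Cfsg.Agent.Lib.Helper20

variable {S : Type*} [Group S]

theorem card_classes_eq_one (P : S → Prop) (a : S) (ha : P a)
    (hall : ∀ t, P t → IsConj a t) :
    Nat.card {C : ConjClasses S // ∃ t : S, P t ∧ ConjClasses.mk t = C} = 1 := by
  rw [Nat.card_eq_one_iff_unique]
  refine ⟨⟨?_⟩, ⟨⟨ConjClasses.mk a, a, ha, rfl⟩⟩⟩
  rintro ⟨C, t, ht, rfl⟩ ⟨C', t', ht', rfl⟩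
  apply Subtype.ext
  show ConjClasses.mk t = ConjClasses.mk t'
  rw [ConjClasses.mk_eq_mk_iff_isConj]
  exact (hall t ht).symm.trans (hall t' ht')

theorem card_classes_eq_two (P : S → Prop) (a b : S) (ha : P a) (hb : P b)
    (hab : ¬ IsConj a b) (hall : ∀ t, P t → IsConj a t ∨ IsConj b t) :
    Nat.card {C : ConjClasses S // ∃ t : S, P t ∧ ConjClasses.mk t = C} = 2 := by
  rw [Nat.card_eq_two_iff]
  refine ⟨⟨ConjClasses.mk a, a, ha, rfl⟩, ⟨ConjClasses.mk b, b, hb, rfl⟩, ?_, ?_⟩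
  · intro h
    have := congrArg Subtype.val h
    exact hab (ConjClasses.mk_eq_mk_iff_isConj.mp this)
  · rw [Set.eq_univ_iff_forall]
    rintro ⟨C, t, ht, rfl⟩
    rcases hall t ht with h | h
    · left; apply Subtype.ext; exact (ConjClasses.mk_eq_mk_iff_isConj.mpr h).symm
    · right; apply Subtype.ext; exact (ConjClasses.mk_eq_mk_iff_isConj.mpr h).symm

theorem card_classes_eq_three (P : S → Prop) (a b c : S) (ha : P a) (hb : P b) (hc : P c)
    (hab : ¬ IsConj a b) (hac : ¬ IsConj a c) (hbc : ¬ IsConj b c)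
    (hall : ∀ t, P t → IsConj a t ∨ IsConj b t ∨ IsConj c t) :
    Nat.card {C : ConjClasses S // ∃ t : S, P t ∧ ConjClasses.mk t = C} = 3 := by
  let F : Fin 3 → {C : ConjClasses S // ∃ t : S, P t ∧ ConjClasses.mk t = C} :=
    ![⟨ConjClasses.mk a, a, ha, rfl⟩, ⟨ConjClasses.mk b, b, hb, rfl⟩, ⟨ConjClasses.mk c, c, hc, rfl⟩]
  have hab' : ConjClasses.mk a ≠ ConjClasses.mk b := fun h => hab (ConjClasses.mk_eq_mk_iff_isConj.mp h)
  have hac' : ConjClasses.mk a ≠ ConjClasses.mk c := fun h => hac (ConjClasses.mk_eq_mk_iff_isConj.mp h)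
  have hbc' : ConjClasses.mk b ≠ ConjClasses.mk c := fun h => hbc (ConjClasses.mk_eq_mk_iff_isConj.mp h)
  have hF : Function.Bijective F := by
    constructor
    · intro i j h
      have h' := congrArg Subtype.val h
      fin_cases i <;> fin_cases j <;> simp [F] at h' <;> first | rfl | (exfalso; first | exact hab' h' | exact hac' h' | exact hbc' h' | exact hab' h'.symm | exact hac' h'.symm | exact hbc' h'.symm)
    · rintro ⟨C, t, ht, rfl⟩
      rcases hall t ht with h | h | h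
      · exact ⟨0, Subtype.ext (ConjClasses.mk_eq_mk_iff_isConj.mpr h)⟩
      · exact ⟨1, Subtype.ext (ConjClasses.mk_eq_mk_iff_isConj.mpr h)⟩
      · exact ⟨2, Subtype.ext (ConjClasses.mk_eq_mk_iff_isConj.mpr h)⟩
  rw [← Nat.card_eq_of_bijective F hF, Nat.card_fin]

theorem isConj_of_conj_eq {a b g : S} (h : g * a * g⁻¹ = b) : IsConj a b :=
  isConj_iff.mpr ⟨g, h⟩

end Cfsg.Agent.Lib.Helper20
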