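import Mathlib
import Cfsg.Prelude.Def_CaseTheorems

/-!
Quasi-dihedral (semidihedral) 2-groups: normal form and multiplication rules (helper20's library).
Every element of `S` is `f i` or `f i * y` with `i : ZMod (2 ^ n)`, `f i = x ^ i.val`.
-/

set_option autoImplicit false

namespace Cfsg.Agent.Lib.Helper20.QD

/-! ### Arithmetic in `ZMod (2 ^ n)` -/

section arith

variable {n : ℕ}

/-- `2 ^ (n - 1)` in `ZMod (2 ^ n)`. -/
def hf (n : ℕ) : ZMod (2 ^ n) := ((2 ^ (n - 1) : ℕ) : ZMod (2 ^ n))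

/-- `2 ^ (n - 1) - 1` in `ZMod (2 ^ n)`. -/
def ep (n : ℕ) : ZMod (2 ^ n) := hf n - 1

theorem two_mul_hf (hn : 1 ≤ n) : 2 * hf n = 0 := by
  unfold hf
  have : (2 : ZMod (2 ^ n)) * ((2 ^ (n - 1) : ℕ) : ZMod (2 ^ n)) = ((2 ^ n : ℕ) : ZMod (2 ^ n)) := by
    have h : 2 ^ n = 2 * 2 ^ (n - 1) := by
      rw [← pow_succ']; congr 1; omega
    rw [h]; push_cast; ring
  rw [this]; exact ZMod.natCast_self _

theorem hf_mul_hf (hn : 2 ≤ n) : hf n * hf n = 0 := by
  unfold hf
  rw [← Nat.cast_mul, ZMod.natCast_eq_zero_iff]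
  have : 2 ^ (n - 1) * 2 ^ (n - 1) = 2 ^ n * 2 ^ (n - 2) := by
    rw [← pow_add, ← pow_add]; congr 1; omega
  rw [this]; exact dvd_mul_right _ _

theorem ep_mul_ep (hn : 2 ≤ n) : ep n * ep n = 1 := by
  unfold ep
  have h1 := two_mul_hf (n := n) (by omega)
  have h2 := hf_mul_hf hn
  linear_combination h2 - h1

theorem ep_add_one : ep n + 1 = hf n := by unfold ep; ring

theorem hf_ne_zero (hn : 1 ≤ n) : hf n ≠ 0 := by
  unfold hf
  rw [Ne, ZMod.natCast_eq_zero_iff]
  intro h
  have h1 : 2 ^ n ≤ 2 ^ (n - 1) := Nat.le_of_dvd (by positivity) h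
  have h2 : 2 ^ (n - 1) < 2 ^ n := Nat.pow_lt_pow_right (by norm_num) (by omega)
  omega

/-- Every element of `ZMod (2^n)` is `2 j` or `2 j + 1`. -/
theorem even_or_odd (i : ZMod (2 ^ n)) : (∃ j, i = 2 * j) ∨ (∃ j, i = 2 * j + 1) := by
  have hi : ((i.val : ℕ) : ZMod (2 ^ n)) = i := ZMod.natCast_zmod_val i
  rcases Nat.even_or_odd' i.val with ⟨k, hk | hk⟩
  · left; refine ⟨(k : ZMod (2 ^ n)), ?_⟩
    rw [← hi, hk]; push_cast; ring
  · right; refine ⟨(k : ZMod (2 ^ n)), ?_⟩
    rw [← hi, hk]; push_cast; ring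

theorem not_even_and_odd (hn : 1 ≤ n) (j k : ZMod (2 ^ n)) : 2 * j ≠ 2 * k + 1 := by
  intro h
  have hd : 2 ∣ 2 ^ n := dvd_pow_self 2 (by omega)
  have := congrArg (ZMod.castHom hd (ZMod 2)) h
  simp only [map_mul, map_add, map_one, map_ofNat] at this
  have h2 : (2 : ZMod 2) = 0 := by decide
  rw [h2, zero_mul, zero_mul, zero_add] at this
  exact absurd this (by decide)

theorem hf_mul_even (hn : 1 ≤ n) (j : ZMod (2 ^ n)) : hf n * (2 * j) = 0 := by
  have := two_mul_hf hn
  linear_combination j * this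

theorem hf_mul_odd (hn : 1 ≤ n) (j : ZMod (2 ^ n)) : hf n * (2 * j + 1) = hf n := by
  have := two_mul_hf hn
  linear_combination j * this

/-- Solutions of `2 i = 0`. -/
theorem two_mul_eq_zero_iff (hn : 1 ≤ n) (i : ZMod (2 ^ n)) : 2 * i = 0 ↔ i = 0 ∨ i = hf n := by
  constructor
  · intro h
    have hi : ((i.val : ℕ) : ZMod (2 ^ n)) = i := ZMod.natCast_zmod_val i
    have h' : ((2 * i.val : ℕ) : ZMod (2 ^ n)) = 0 := by
      push_cast; rw [hi]; exact h
    rw [ZMod.natCast_eq_zero_iff] at h'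
    have hlt : i.val < 2 ^ n := ZMod.val_lt i
    have hpow : 2 ^ n = 2 * 2 ^ (n - 1) := by
      rw [← pow_succ']; congr 1; omega
    have h'2 : 2 * 2 ^ (n - 1) ∣ 2 * i.val := by rw [← hpow]; exact h'
    have hlt2 : i.val < 2 * 2 ^ (n - 1) := by rw [← hpow]; exact hlt
    have h'' : 2 ^ (n - 1) ∣ i.val := (Nat.mul_dvd_mul_iff_left (by norm_num)).mp h'2
    obtain ⟨k, hk⟩ := h''
    have hk2 : k < 2 := by
      by_contra hc
      push_neg at hc
      have : 2 ^ (n - 1) * 2 ≤ 2 ^ (n - 1) * k := Nat.mul_le_mul_left _ hc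
      omega
    interval_cases k
    · left; rw [← hi, hk]; simp
    · right; rw [← hi, hk]; simp [hf]
  · rintro (h | h)
    · rw [h, mul_zero]
    · rw [h]; exact two_mul_hf hn

/-- `2 ^ (n - 2)` in `ZMod (2 ^ n)`. -/
def qt (n : ℕ) : ZMod (2 ^ n) := ((2 ^ (n - 2) : ℕ) : ZMod (2 ^ n))

theorem two_mul_qt (hn : 2 ≤ n) : 2 * qt n = hf n := by
  unfold qt hf
  have h : 2 ^ (n - 1) = 2 * 2 ^ (n - 2) := by
    rw [← pow_succ']; congr 1; omega
  rw [h]; push_cast; ring

theorem hf_mul_qt (hn : 3 ≤ n) : hf n * qt n = 0 := by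
  unfold qt hf
  rw [← Nat.cast_mul, ZMod.natCast_eq_zero_iff]
  have : 2 ^ (n - 1) * 2 ^ (n - 2) = 2 ^ n * 2 ^ (n - 3) := by
    rw [← pow_add, ← pow_add]; congr 1; omega
  rw [this]; exact dvd_mul_right _ _

theorem qt_even (hn : 3 ≤ n) : ∃ j : ZMod (2 ^ n), qt n = 2 * j := by
  refine ⟨((2 ^ (n - 3) : ℕ) : ZMod (2 ^ n)), ?_⟩
  unfold qt
  have h : 2 ^ (n - 2) = 2 * 2 ^ (n - 3) := by
    rw [← pow_succ']; congr 1; omega
  rw [h]; push_cast; ring

/-- `(2 - h) (1 + q) = 2`. -/
theorem two_sub_hf_mul (hn : 3 ≤ n) : (2 - hf n) * (1 + qt n) = 2 := by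
  have h1 := two_mul_qt (n := n) (by omega)
  have h2 := hf_mul_qt hn
  linear_combination h1 - h2

/-- Solutions of `2 i = h`. -/
theorem two_mul_eq_hf_iff (hn : 2 ≤ n) (i : ZMod (2 ^ n)) :
    2 * i = hf n ↔ i = qt n ∨ i = qt n + hf n := by
  have h1 := two_mul_qt hn
  have key := two_mul_eq_zero_iff (n := n) (by omega) (i - qt n)
  constructor
  · intro h
    have : 2 * (i - qt n) = 0 := by linear_combination h - h1
    rcases key.mp this with h' | h'
    · left; linear_combination h'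
    · right; linear_combination h'
  · rintro (h | h)
    · rw [h, h1]
    · rw [h]
      have := two_mul_hf (n := n) (by omega)
      linear_combination h1 + this

theorem neg_hf (hn : 1 ≤ n) : -hf n = hf n := by
  have := two_mul_hf hn
  linear_combination -this

end arith

/-! ### The data and the normal form -/

/-- Data of a quasi-dihedral presentation inside `S`. -/
structure Data (S : Type*) [Group S] (n : ℕ) (x y : S) : Prop where
  hn : 3 ≤ n
  card : Nat.card S = 2 ^ (n + 1)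
  ox : orderOf x = 2 ^ n
  oy : orderOf y = 2
  rel : y * x * y⁻¹ = x ^ (2 ^ (n - 1) - 1)

theorem exists_data {S : Type*} [Group S] (h : Cfsg.IsQuasiDihedral S) :
    ∃ (n : ℕ) (x y : S), Data S n x y := by
  obtain ⟨n, hn, hc, x, y, hx, hy, hr⟩ := h
  exact ⟨n, x, y, ⟨hn, hc, hx, hy, hr⟩⟩

section normalform

variable {S : Type*} [Group S] {n : ℕ} {x y : S}

/-- `f i = x ^ i`. -/
def f (x : S) (n : ℕ) (i : ZMod (2 ^ n)) : S := x ^ i.val

theorem pow_eq_one (d : Data S n x y) : x ^ (2 ^ n) = 1 := by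
  rw [← d.ox]; exact pow_orderOf_eq_one x

theorem f_natCast (d : Data S n x y) (k : ℕ) : f x n (k : ZMod (2 ^ n)) = x ^ k := by
  unfold f
  rw [ZMod.val_natCast, ← pow_eq_pow_mod k (pow_eq_one d)]

theorem f_zero (d : Data S n x y) : f x n 0 = 1 := by
  unfold f; simp

theorem f_add (d : Data S n x y) (i j : ZMod (2 ^ n)) : f x n (i + j) = f x n i * f x n j := by
  unfold f
  rw [ZMod.val_add, ← pow_eq_pow_mod _ (pow_eq_one d), pow_add]

theorem f_neg (d : Data S n x y) (i : ZMod (2 ^ n)) : f x n (-i) = (f x n i)⁻¹ := by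
  rw [eq_inv_iff_mul_eq_one, ← f_add d, neg_add_cancel, f_zero d]

theorem f_sub (d : Data S n x y) (i j : ZMod (2 ^ n)) : f x n (i - j) = f x n i * (f x n j)⁻¹ := by
  rw [sub_eq_add_neg, f_add d, f_neg d]

theorem f_pow (d : Data S n x y) (i : ZMod (2 ^ n)) (k : ℕ) :
    (f x n i) ^ k = f x n ((k : ZMod (2 ^ n)) * i) := by
  induction k with
  | zero => simp [f_zero d]
  | succ k ih =>
    rw [pow_succ, ih, ← f_add d]
    congr 1; push_cast; ring

theorem f_one (d : Data S n x y) : f x n 1 = x := by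
  have := f_natCast d 1
  simpa using this

theorem f_injective (d : Data S n x y) : Function.Injective (f x n) := by
  intro i j h
  unfold f at h
  have hi : i.val < orderOf x := by rw [d.ox]; exact ZMod.val_lt i
  have hj : j.val < orderOf x := by rw [d.ox]; exact ZMod.val_lt j
  have := pow_injOn_Iio_orderOf (Set.mem_Iio.mpr hi) (Set.mem_Iio.mpr hj) h
  exact ZMod.val_injective _ this

theorem f_eq_one_iff (d : Data S n x y) (i : ZMod (2 ^ n)) : f x n i = 1 ↔ i = 0 := by
  rw [← f_zero d]; exact (f_injective d).eq_iff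

theorem y_mul_self (d : Data S n x y) : y * y = 1 := by
  have := pow_orderOf_eq_one y
  rwa [d.oy, pow_two] at this

theorem y_inv (d : Data S n x y) : y⁻¹ = y := inv_eq_of_mul_eq_one_right (y_mul_self d)

theorem y_ne_one (d : Data S n x y) : y ≠ 1 := by
  intro h
  have := d.oy
  rw [h, orderOf_one] at this
  omega

/-- Conjugation by `y`. -/
theorem y_conj_f (d : Data S n x y) (i : ZMod (2 ^ n)) :
    y * f x n i * y⁻¹ = f x n (ep n * i) := by
  have h1 : y * f x n i * y⁻¹ = (y * x * y⁻¹) ^ i.val := by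
    unfold f; rw [conj_pow]
  rw [h1, d.rel, ← pow_mul, ← f_natCast d]
  congr 1
  have hpos : 1 ≤ 2 ^ (n - 1) := Nat.one_le_two_pow
  rw [Nat.cast_mul, Nat.cast_sub hpos, ZMod.natCast_zmod_val]
  simp [ep, hf]

theorem y_mul_f (d : Data S n x y) (i : ZMod (2 ^ n)) :
    y * f x n i = f x n (ep n * i) * y := by
  rw [← y_conj_f d]; group

/-- `y` is not a power of `x`. -/
theorem y_ne_f (d : Data S n x y) (i : ZMod (2 ^ n)) : y ≠ f x n i := by
  intro h
  -- y commutes with x
  have hcomm : y * f x n 1 * y⁻¹ = f x n 1 := by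
    rw [h, ← f_add d, ← f_sub d]; congr 1; ring
  rw [y_conj_f d, mul_one] at hcomm
  have h1 : ep n = 1 := f_injective d hcomm
  -- so hf n = 2
  have hn := d.hn
  have h2 : hf n = 2 := by
    have := ep_add_one (n := n); rw [h1] at this; rw [← this]; norm_num
  -- then 2 * hf = 4 = 0 in ZMod (2^n) with n ≥ 3
  have h3 := two_mul_hf (n := n) (by omega)
  rw [h2] at h3
  have h4 : ((4 : ℕ) : ZMod (2 ^ n)) = 0 := by push_cast; linear_combination h3
  rw [ZMod.natCast_eq_zero_iff] at h4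
  have h5 : 2 ^ 3 ≤ 2 ^ n := Nat.pow_le_pow_right (by norm_num) hn
  have := Nat.le_of_dvd (by norm_num) h4
  omega

theorem f_mul_y_ne_f (d : Data S n x y) (i j : ZMod (2 ^ n)) : f x n i * y ≠ f x n j := by
  intro h
  apply y_ne_f d (-i + j)
  rw [f_add d, f_neg d, ← h]; group

/-- Every element is `f i` or `f i * y`. -/
theorem normal_form [Finite S] (d : Data S n x y) (s : S) :
    (∃ i, s = f x n i) ∨ (∃ i, s = f x n i * y) := by
  have hcardH : Nat.card (Subgroup.zpowers x) = 2 ^ n := by rw [Nat.card_zpowers, d.ox]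
  have hidx : (Subgroup.zpowers x).index = 2 := by
    have := (Subgroup.zpowers x).card_mul_index
    rw [hcardH, d.card, pow_succ] at this
    exact Nat.eq_of_mul_eq_mul_left (by positivity) this
  have hmem : ∀ t : S, t ∈ Subgroup.zpowers x → ∃ i, t = f x n i := by
    intro t ht
    have hfin : IsOfFinOrder x := isOfFinOrder_of_finite x
    rw [← mem_powers_iff_mem_zpowers] at ht
    obtain ⟨k, rfl⟩ := ht
    exact ⟨(k : ZMod (2 ^ n)), (f_natCast d k).symm⟩
  have hy : y ∉ Subgroup.zpowers x := by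
    intro hy
    obtain ⟨i, hi⟩ := hmem y hy
    exact y_ne_f d i hi
  by_cases hs : s ∈ Subgroup.zpowers x
  · left; exact hmem s hs
  · right
    have : s * y ∈ Subgroup.zpowers x := by
      rw [Subgroup.mul_mem_iff_of_index_two hidx]
      exact ⟨fun h => absurd h hs, fun h => absurd h hy⟩
    obtain ⟨i, hi⟩ := hmem _ this
    refine ⟨i, ?_⟩
    rw [← hi, mul_assoc, y_mul_self d, mul_one]

/-! ### Multiplication rules -/

theorem fy_mul_f (d : Data S n x y) (i j : ZMod (2 ^ n)) :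
    (f x n i * y) * f x n j = f x n (i + ep n * j) * y := by
  rw [mul_assoc, y_mul_f d, ← mul_assoc, ← f_add d]

theorem fy_mul_fy (d : Data S n x y) (i j : ZMod (2 ^ n)) :
    (f x n i * y) * (f x n j * y) = f x n (i + ep n * j) := by
  rw [← mul_assoc, fy_mul_f d, mul_assoc, y_mul_self d, mul_one]

theorem f_mul_fy (d : Data S n x y) (i j : ZMod (2 ^ n)) :
    f x n i * (f x n j * y) = f x n (i + j) * y := by
  rw [← mul_assoc, ← f_add d]

theorem fy_inv (d : Data S n x y) (i : ZMod (2 ^ n)) :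
    (f x n i * y)⁻¹ = f x n (-(ep n * i)) * y := by
  rw [eq_comm, ← mul_eq_one_iff_eq_inv, fy_mul_fy d]
  rw [f_eq_one_iff d]
  ring

theorem fy_mul_self (d : Data S n x y) (i : ZMod (2 ^ n)) :
    (f x n i * y) * (f x n i * y) = f x n (hf n * i) := by
  rw [fy_mul_fy d]; congr 1
  have := ep_add_one (n := n)
  linear_combination i * this

/-- The central involution `z = x ^ (2 ^ (n - 1))`. -/
theorem fhf_mul_self (d : Data S n x y) : f x n (hf n) * f x n (hf n) = 1 := by
  rw [← f_add d, f_eq_one_iff d]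
  have := two_mul_hf (n := n) (by have := d.hn; omega)
  linear_combination this

theorem fhf_ne_one (d : Data S n x y) : f x n (hf n) ≠ 1 := by
  rw [Ne, f_eq_one_iff d]
  exact hf_ne_zero (by have := d.hn; omega)

theorem fhf_comm_y (d : Data S n x y) : y * f x n (hf n) = f x n (hf n) * y := by
  rw [y_mul_f d]; congr 2
  have hn := d.hn
  have h1 := hf_mul_hf (n := n) (by omega)
  unfold ep
  linear_combination h1 - (two_mul_hf (n := n) (by omega))

/-! ### Conjugation formulas -/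

theorem conj_f_f (d : Data S n x y) (i j : ZMod (2 ^ n)) :
    f x n j * f x n i * (f x n j)⁻¹ = f x n i := by
  rw [← f_neg d, ← f_add d, ← f_add d]; congr 1; ring

theorem conj_fy_f (d : Data S n x y) (i j : ZMod (2 ^ n)) :
    (f x n j * y) * f x n i * (f x n j * y)⁻¹ = f x n (ep n * i) := by
  rw [fy_inv d, fy_mul_f d, fy_mul_fy d]; congr 1
  have := ep_mul_ep (n := n) (by have := d.hn; omega)
  linear_combination (-j) * this

theorem conj_f_fy (d : Data S n x y) (i j : ZMod (2 ^ n)) :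
    f x n j * (f x n i * y) * (f x n j)⁻¹ = f x n (i + (2 - hf n) * j) * y := by
  rw [← f_neg d, f_mul_fy d, fy_mul_f d]; congr 2
  unfold ep; ring

theorem conj_fy_fy (d : Data S n x y) (i j : ZMod (2 ^ n)) :
    (f x n j * y) * (f x n i * y) * (f x n j * y)⁻¹ = f x n (j + ep n * i - ep n * j) * y := by
  rw [fy_inv d, fy_mul_fy d, f_mul_fy d]; congr 2; ring

/-! ### Orders -/

theorem fy_ne_one (d : Data S n x y) (i : ZMod (2 ^ n)) : f x n i * y ≠ 1 := by
  rw [← f_zero d]; exact f_mul_y_ne_f d i 0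

theorem orderOf_eq_two_iff {t : S} : orderOf t = 2 ↔ t * t = 1 ∧ t ≠ 1 := by
  rw [← pow_two]; exact orderOf_eq_prime_iff (p := 2)

theorem orderOf_eq_four_iff {t : S} : orderOf t = 4 ↔ t ^ 4 = 1 ∧ t ^ 2 ≠ 1 := by
  constructor
  · intro h
    refine ⟨by rw [← h]; exact pow_orderOf_eq_one t, ?_⟩
    exact pow_ne_one_of_lt_orderOf (by norm_num) (by rw [h]; norm_num)
  · rintro ⟨h4, h2⟩
    have : orderOf t = 2 ^ (1 + 1) := by
      apply orderOf_eq_prime_pow
      · simpa using h2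
      · simpa using h4
    simpa using this

theorem orderOf_fy_even (d : Data S n x y) (j : ZMod (2 ^ n)) : orderOf (f x n (2 * j) * y) = 2 := by
  rw [orderOf_eq_two_iff]
  refine ⟨?_, fy_ne_one d _⟩
  rw [fy_mul_self d, hf_mul_even (by have := d.hn; omega), f_zero d]

theorem orderOf_fy_odd (d : Data S n x y) (j : ZMod (2 ^ n)) :
    orderOf (f x n (2 * j + 1) * y) = 4 := by
  have hn := d.hn
  rw [orderOf_eq_four_iff]
  have h2 : (f x n (2 * j + 1) * y) ^ 2 = f x n (hf n) := by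
    rw [pow_two, fy_mul_self d, hf_mul_odd (by omega)]
  refine ⟨?_, ?_⟩
  · have : (f x n (2 * j + 1) * y) ^ 4 = ((f x n (2 * j + 1) * y) ^ 2) ^ 2 := by
      rw [← pow_mul]
    rw [this, h2, pow_two, fhf_mul_self d]
  · rw [h2]; exact fhf_ne_one d

theorem orderOf_f_eq_two_iff (d : Data S n x y) (i : ZMod (2 ^ n)) :
    orderOf (f x n i) = 2 ↔ i = hf n := by
  have hn := d.hn
  rw [orderOf_eq_two_iff, ← f_add d, f_eq_one_iff d, Ne, f_eq_one_iff d]
  have : i + i = 2 * i := by ring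
  rw [this, two_mul_eq_zero_iff (by omega)]
  constructor
  · rintro ⟨h | h, h0⟩
    · exact absurd h h0
    · exact h
  · intro h
    exact ⟨Or.inr h, h ▸ hf_ne_zero (by omega)⟩

theorem orderOf_f_eq_four_iff (d : Data S n x y) (i : ZMod (2 ^ n)) :
    orderOf (f x n i) = 4 ↔ 2 * i = hf n := by
  have hn := d.hn
  rw [orderOf_eq_four_iff, f_pow d, f_pow d, f_eq_one_iff d, Ne, f_eq_one_iff d]
  push_cast
  constructor
  · rintro ⟨h4, h2⟩
    have : 2 * (2 * i) = 0 := by linear_combination h4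
    rcases (two_mul_eq_zero_iff (by omega) _).mp this with h | h
    · exact absurd h h2
    · exact h
  · intro h
    refine ⟨?_, ?_⟩
    · have := two_mul_hf (n := n) (by omega)
      linear_combination 2 * h + this
    · rw [h]; exact hf_ne_zero (by omega)

end normalform

end Cfsg.Agent.Lib.Helper20.QD
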