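/-
helper20: module DSQW-[W-AUT] of helper84's S5248 project.
The automorphism group of a wreathed 2-group is a 2-group.
-/
import Mathlib
import Cfsg.Agent.Lib.Helper84.DSQW.Defs
import Cfsg.Agent.Lib.Helper38.WreathedInv
import Cfsg.Agent.Lib.Helper38.WreathedMore
import Cfsg.Agent.Lib.Helper98.OddAutTwoGroups

set_option autoImplicit false

namespace Cfsg.Agent.Lib.Helper20.DSQWAut

open Cfsg Cfsg.FusionSystem Cfsg.Agent.Lib.Helper84.DSQW Cfsg.Agent.Lib.Helper38

variable {X : Type*} [Group X] {x y z : X} {n : ℕ}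

theorem wr_isPGroup_mulAut (h : IsWr x y z n) : IsPGroup 2 (MulAut X) := by
  have := h.finite
  intro α
  have hpos : 0 < orderOf α := orderOf_pos α
  obtain ⟨k, m, hm, hkm⟩ := Nat.exists_eq_two_pow_mul_odd (n := orderOf α) hpos.ne'
  refine ⟨k, ?_⟩
  apply Cfsg.Agent.Lib.Helper98.OddAut.wr_aut_trivial h
  have h2 : (2 ^ k : ℕ) ∣ orderOf α := ⟨m, hkm⟩
  rw [orderOf_pow_of_dvd (by positivity) h2, hkm, Nat.mul_div_cancel_left _ (by positivity)]
  exact hm

end Cfsg.Agent.Lib.Helper20.DSQWAut
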