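import Mathlib

/-!
# Odd-order automorphisms of 2-groups (helper20)

Elementary fixed-point lemmas for an automorphism `α` with `α ^ m = 1`, `m` odd:
* `exists_odd_of_not_isPGroup`: a finite group that is not a 2-group has a nontrivial element of odd order;
* `fixed_of_sq`: `α (α u) = u → α u = u`;
* `fixed_of_stab`: if `g⁻¹ * α g` is fixed by `α` and has 2-power order then `α g = g`;
* `fixed_of_mem_zpowers`: if `c` has 2-power order and `α c ∈ ⟨c⟩` then `α c = c`;
* `fixed_of_isCyclic`: an `α`-invariant cyclic subgroup of a 2-group is fixed pointwise.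
-/

set_option autoImplicit false

namespace Cfsg.Agent.Lib.Helper20.OddAut

theorem exists_odd_of_not_isPGroup {A : Type*} [Group A] [Finite A] (h : ¬ IsPGroup 2 A) :
    ∃ (α : A) (m : ℕ), Odd m ∧ α ^ m = 1 ∧ α ≠ 1 := by
  unfold IsPGroup at h
  push Not at h
  obtain ⟨g, hg⟩ := h
  obtain ⟨k, m, hm, hkm⟩ := Nat.exists_eq_two_pow_mul_odd (n := orderOf g) (orderOf_pos g).ne'
  refine ⟨g ^ (2 ^ k), m, hm, ?_, hg k⟩
  rw [← pow_mul, ← hkm, pow_orderOf_eq_one]

variable {X : Type*} [Group X]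

theorem pow_apply_of_fixed (α : MulAut X) (g : X) (h : α g = g) (j : ℕ) : (α ^ j) g = g := by
  induction j with
  | zero => simp
  | succ j ih => rw [pow_succ, MulAut.mul_apply, h, ih]

theorem fixed_of_sq (α : MulAut X) (m : ℕ) (hm : Odd m) (hα : α ^ m = 1) (u : X)
    (h : α (α u) = u) : α u = u := by
  obtain ⟨k, rfl⟩ := hm
  have h2 : (α ^ 2) u = u := by rw [pow_two, MulAut.mul_apply, h]
  have h3 : (α ^ (2 * k)) u = u := by
    rw [pow_mul]; exact pow_apply_of_fixed (α ^ 2) u h2 k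
  have h4 : (α ^ (2 * k + 1)) u = α u := by
    rw [pow_succ', MulAut.mul_apply, h3]
  rw [hα] at h4
  simpa using h4.symm

theorem fixed_of_stab (α : MulAut X) (m : ℕ) (hm : Odd m) (hα : α ^ m = 1) (g : X) (k : ℕ)
    (hk : (g⁻¹ * α g) ^ (2 ^ k) = 1) (hc : α (g⁻¹ * α g) = g⁻¹ * α g) : α g = g := by
  set c := g⁻¹ * α g with hcdef
  have hg : α g = g * c := by rw [hcdef]; group
  have h1 : ∀ j : ℕ, (α ^ j) g = g * c ^ j := by
    intro j
    induction j with
    | zero => simp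
    | succ j ih =>
      rw [pow_succ', MulAut.mul_apply, ih, map_mul, map_pow, hc, hg, pow_succ', mul_assoc]
  have h2 := h1 m
  rw [hα] at h2
  have h3 : c ^ m = 1 := by
    have : g = g * c ^ m := by simpa using h2
    exact (mul_eq_left.mp this.symm)
  have h4 : orderOf c ∣ m := orderOf_dvd_of_pow_eq_one h3
  have h5 : orderOf c ∣ 2 ^ k := orderOf_dvd_of_pow_eq_one hk
  have hco : Nat.Coprime m (2 ^ k) := by
    apply Nat.Coprime.pow_right
    exact (Nat.coprime_comm.mp (Nat.coprime_two_left.mpr hm))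
  have h6 : orderOf c = 1 := Nat.eq_one_of_dvd_coprimes hco h4 h5
  have h7 : c = 1 := orderOf_eq_one_iff.mp h6
  rw [hg, h7, mul_one]

theorem fixed_of_mem_zpowers (α : MulAut X) (m : ℕ) (hm : Odd m) (hα : α ^ m = 1) :
    ∀ (s : ℕ) (c : X), c ^ (2 ^ s) = 1 → α c ∈ Subgroup.zpowers c → α c = c := by
  intro s
  induction s with
  | zero =>
    intro c hc _
    have : c = 1 := by simpa using hc
    subst this; simp
  | succ s ih =>
    intro c hc hmem
    obtain ⟨e, he⟩ := Subgroup.mem_zpowers_iff.mp hmem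
    have hsq : α (c ^ 2) = c ^ 2 := by
      apply ih
      · rw [← pow_mul, ← pow_succ']; exact hc
      · rw [map_pow, ← he]
        refine Subgroup.mem_zpowers_iff.mpr ⟨e, ?_⟩
        rw [← zpow_natCast, ← zpow_natCast, ← zpow_mul, ← zpow_mul, mul_comm]
    rcases Int.even_or_odd' e with ⟨f, hf | hf⟩
    · have h1 : α c = (c ^ 2) ^ f := by
        rw [← he, hf, ← zpow_natCast c 2, ← zpow_mul]; norm_num
      have h2 : α (α c) = α c := by rw [h1, map_zpow, hsq]
      exact α.injective h2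
    · have h1 : c⁻¹ * α c = (c ^ 2) ^ f := by
        rw [← he, hf, ← zpow_natCast c 2, ← zpow_mul, ← zpow_neg_one, ← zpow_add]
        congr 1; push_cast; ring
      apply fixed_of_stab α m hm hα c (s + 1)
      · rw [h1, ← zpow_natCast c 2, ← zpow_mul, ← zpow_natCast, ← zpow_mul]
        have : (((2 : ℕ) : ℤ) * f * ((2 ^ (s + 1) : ℕ) : ℤ)) = ((2 ^ (s + 1) : ℕ) : ℤ) * (2 * f) := by
          push_cast; ring
        rw [this, zpow_mul, zpow_natCast, hc, one_zpow]
      · rw [h1, map_zpow, hsq]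

theorem fixed_of_isCyclic (α : MulAut X) (m : ℕ) (hm : Odd m) (hα : α ^ m = 1)
    (hX : IsPGroup 2 X) (C : Subgroup X) [IsCyclic C] (hC : ∀ c ∈ C, α c ∈ C) :
    ∀ c ∈ C, α c = c := by
  obtain ⟨⟨c₁, hc₁⟩, hgen⟩ := IsCyclic.exists_generator (α := C)
  have hz : ∀ c ∈ C, c ∈ Subgroup.zpowers c₁ := by
    intro c hc
    obtain ⟨j, hj⟩ := Subgroup.mem_zpowers_iff.mp (hgen ⟨c, hc⟩)
    refine Subgroup.mem_zpowers_iff.mpr ⟨j, ?_⟩
    have := congrArg Subtype.val hj
    simpa using this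
  obtain ⟨s, hs⟩ := hX c₁
  have h1 : α c₁ = c₁ := fixed_of_mem_zpowers α m hm hα s c₁ hs (hz _ (hC c₁ hc₁))
  intro c hc
  obtain ⟨j, rfl⟩ := Subgroup.mem_zpowers_iff.mp (hz c hc)
  rw [map_zpow, h1]

end Cfsg.Agent.Lib.Helper20.OddAut
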