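import Mathlib
import Cfsg.Agent.Lib.Helper38.WreathedMore
import Cfsg.Agent.Lib.Helper20.OddAut

/-!
# Self-centralizing subgroups of wreathed 2-groups with an odd-order automorphism (helper20)
-/

set_option autoImplicit false

namespace Cfsg.Agent.Lib.Helper20.WrSC

open Cfsg.Agent.Lib.Helper38 Cfsg.Agent.Lib.Helper20.OddAut
open scoped commutatorElement

variable {S : Type*} [Group S] {x y z : S} {n : ℕ}

/-- the product of two noncentral elements of `A` of order at most 2 is central -/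
theorem inv_mul_inv_mem_center (h : IsWr x y z n) (i j k l : ℤ)
    (h1 : al x y i j ^ 2 = 1) (h2 : al x y k l ^ 2 = 1)
    (h3 : al x y i j ∉ Subgroup.center S) (h4 : al x y k l ∉ Subgroup.center S) :
    al x y i j * al x y k l ∈ Subgroup.center S := by
  rw [h.al_mem_center_iff] at h3 h4
  rw [h.al_pow, h.al_eq_one_iff] at h1 h2
  rw [Nat.cast_ofNat] at h1 h2
  have e1 : ((2 ^ n : ℕ) : ℤ) ∣ 2 * (i - j) := by
    obtain ⟨u, hu⟩ := h1.1
    obtain ⟨v, hv⟩ := h1.2
    exact ⟨u - v, by linear_combination hu - hv⟩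
  have e2 : ((2 ^ n : ℕ) : ℤ) ∣ 2 * (k - l) := by
    obtain ⟨u, hu⟩ := h2.1
    obtain ⟨v, hv⟩ := h2.2
    exact ⟨u - v, by linear_combination hu - hv⟩
  rw [h.N_dvd_two_mul_iff] at e1 e2
  have f1 := (h.dvd_or_dvd_sub e1).resolve_left h3
  have f2 := (h.dvd_or_dvd_sub e2).resolve_left h4
  rw [h.al_mul_al, h.al_mem_center_iff]
  obtain ⟨u, hu⟩ := f1
  obtain ⟨v, hv⟩ := f2
  refine ⟨u + v + 1, ?_⟩
  have := h.N_eq
  linear_combination hu + hv - this

theorem gp (h : IsWr x y z n) (X : Subgroup S) (α : MulAut X) (m : ℕ) (hm : Odd m)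
    (hα : α ^ m = 1) (hZX : Subgroup.center S ≤ X) (a b : ℤ) (ht : al x y a b * z ∈ X)
    (H1 : ∀ g : X, (g : S) ∈ h.A → ((α g : X) : S) ∈ h.A)
    (H2 : ∀ g : X, (g : S) ∈ Subgroup.center S → ((α g : X) : S) ∈ Subgroup.center S) :
    ∀ g : X, α g = g := by
  have hS2 : IsPGroup 2 S := IsPGroup.of_card h.card
  have hX2 : IsPGroup 2 X := hS2.to_subgroup X
  have stab : ∀ g : X, α (g⁻¹ * α g) = g⁻¹ * α g → α g = g := by
    intro g hg
    obtain ⟨k, hk⟩ := hX2 (g⁻¹ * α g)
    exact fixed_of_stab α m hm hα g k hk hg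
  -- (a) the center is fixed
  have hxyX : x * y ∈ X := hZX (by rw [h.center_eq]; exact Subgroup.mem_zpowers _)
  have hZ : ∀ g : X, (g : S) ∈ Subgroup.center S → α g = g := by
    set c₁ : X := ⟨x * y, hxyX⟩ with hc₁def
    have hc₁ : α c₁ = c₁ := by
      obtain ⟨s, hs⟩ := hX2 c₁
      apply fixed_of_mem_zpowers α m hm hα s c₁ hs
      have h1 := H2 c₁ (by rw [h.center_eq]; exact Subgroup.mem_zpowers _)
      rw [h.center_eq] at h1
      obtain ⟨j, hj⟩ := Subgroup.mem_zpowers_iff.mp h1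
      refine Subgroup.mem_zpowers_iff.mpr ⟨j, Subtype.ext ?_⟩
      rw [Subgroup.coe_zpow]; exact hj
    intro g hg
    rw [h.center_eq] at hg
    obtain ⟨j, hj⟩ := Subgroup.mem_zpowers_iff.mp hg
    have : g = c₁ ^ j := Subtype.ext (by rw [Subgroup.coe_zpow]; exact hj.symm)
    rw [this, map_zpow, hc₁]
  -- (a') the commutator subgroup is fixed
  have hD : ∀ g ∈ commutator X, α g = g := by
    have hle : (commutator X).map X.subtype ≤ commutator S := by
      rw [commutator_def, Subgroup.map_commutator, commutator_def]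
      exact Subgroup.commutator_mono le_top le_top
    have : IsCyclic (commutator S) := h.commutator_isCyclic
    let f : ↥(commutator X) →* ↥(commutator S) :=
      (X.subtype.comp (commutator X).subtype).codRestrict (commutator S)
        (fun g => hle ⟨g.1, g.2, rfl⟩)
    have hf : Function.Injective f := by
      intro g₁ g₂ hg
      have := congrArg Subtype.val hg
      exact Subtype.ext (Subtype.ext this)
    have : IsCyclic ↥(commutator X) := isCyclic_of_injective f hf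
    apply fixed_of_isCyclic α m hm hα hX2 (commutator X)
    intro c hc
    have hchar : (commutator X).Characteristic := by rw [commutator_def]; infer_instance
    have := Subgroup.characteristic_iff_map_eq.mp hchar α
    rw [← this]
    exact Subgroup.mem_map_of_mem _ hc
  set t : X := ⟨al x y a b * z, ht⟩ with htdef
  -- (b) squares of elements of `X ∩ A` are fixed
  have hsq : ∀ g : X, (g : S) ∈ h.A → α (g ^ 2) = g ^ 2 := by
    intro g hg
    obtain ⟨p, q, hpq⟩ := hg
    have hcomm : α ⁅g, t⁆ = ⁅g, t⁆ :=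
      hD _ (Subgroup.commutator_mem_commutator (Subgroup.mem_top g) (Subgroup.mem_top t))
    have hν : α (g * (t * g * t⁻¹)) = g * (t * g * t⁻¹) := by
      apply hZ
      simp only [Subgroup.coe_mul, Subgroup.coe_inv, htdef, hpq]
      rw [h.conj_al_by_alz, h.al_mul_al, h.al_mem_center_iff]
      exact ⟨0, by ring⟩
    have h1 : g ^ 2 = ⁅g, t⁆ * (g * (t * g * t⁻¹)) := by
      apply Subtype.ext
      simp only [Subgroup.coe_mul, Subgroup.coe_inv, Subgroup.coe_pow, htdef, hpq,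
        commutatorElement_def]
      rw [h.conj_al_by_alz, h.al_mul_al, h.al_mul_alz, h.al_inv, h.alz_mul_al, h.alz_inv,
        h.alz_mul_alz, h.al_mul_al, h.al_pow]
      congr 1 <;> push_cast <;> ring
    rw [h1, map_mul, hcomm, hν]
  -- (c) elements of order ≤ 2 in `X ∩ A` are fixed
  have hΩ : ∀ ω : X, (ω : S) ∈ h.A → ω ^ 2 = 1 → α ω = ω := by
    intro ω hω hω2
    by_cases hωc : (ω : S) ∈ Subgroup.center S
    · exact hZ ω hωc
    have hω' := H1 ω hω
    have hω'2 : (α ω) ^ 2 = 1 := by rw [← map_pow, hω2, map_one]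
    set u : X := ω⁻¹ * α ω with hudef
    have huA : (u : S) ∈ h.A := by
      rw [hudef, Subgroup.coe_mul, Subgroup.coe_inv]
      exact h.A.mul_mem (h.A.inv_mem hω) hω'
    have hu2 : u ^ 2 = 1 := by
      have hc : Commute ω⁻¹ (α ω) := by
        have : (ω : S)⁻¹ * (α ω : S) = (α ω : S) * (ω : S)⁻¹ :=
          h.A_comm (h.A.inv_mem hω) hω'
        exact Subtype.ext (by simpa using this)
      rw [hudef, hc.mul_pow, inv_pow, hω2, hω'2, inv_one, one_mul]
    by_cases huc : (u : S) ∈ Subgroup.center S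
    · exact stab ω (hZ u huc)
    · -- then `α ω = ω * u` is central
      have h1 : ((α ω : X) : S) ∈ Subgroup.center S := by
        obtain ⟨i, j, hij⟩ := hω
        obtain ⟨k, l, hkl⟩ := huA
        have e : ((α ω : X) : S) = (ω : S) * (u : S) := by
          rw [hudef, Subgroup.coe_mul, Subgroup.coe_inv]; group
        rw [e, hij, hkl]
        apply inv_mul_inv_mem_center h
        · rw [← hij, ← Subgroup.coe_pow, hω2]; rfl
        · rw [← hkl, ← Subgroup.coe_pow, hu2]; rfl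
        · rw [← hij]; exact hωc
        · rw [← hkl]; exact huc
      have h2 : α (α ω) = α ω := hZ _ h1
      exact α.injective h2
  -- all of `X ∩ A` is fixed
  have hM : ∀ g : X, (g : S) ∈ h.A → α g = g := by
    intro g hg
    apply stab
    have hg' := H1 g hg
    apply hΩ
    · rw [Subgroup.coe_mul, Subgroup.coe_inv]
      exact h.A.mul_mem (h.A.inv_mem hg) hg'
    · have hc : Commute g⁻¹ (α g) := by
        have : (g : S)⁻¹ * (α g : S) = (α g : S) * (g : S)⁻¹ :=
          h.A_comm (h.A.inv_mem hg) hg'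
        exact Subtype.ext (by simpa using this)
      rw [hc.mul_pow, inv_pow, ← map_pow, hsq g hg, inv_mul_cancel]
  -- (d) everything is fixed
  intro g
  by_cases hg : (g : S) ∈ h.A
  · exact hM g hg
  · have hg' : ((α g : X) : S) ∉ h.A := by
      intro hh
      have h2 : α (α g) = α g := hM _ hh
      have h3 : α g = g := α.injective h2
      rw [h3] at hh
      exact hg hh
    apply stab
    apply hM
    obtain ⟨p, q, hpq⟩ := h.notMem_A hg
    obtain ⟨p', q', hpq'⟩ := h.notMem_A hg'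
    rw [Subgroup.coe_mul, Subgroup.coe_inv, hpq, hpq', h.alz_inv, h.alz_mul_alz]
    exact h.al_mem_A _ _


theorem M_eq (h : IsWr x y z n) :
    ((2 ^ (n - 1) : ℕ) : ℤ) = 2 * ((2 ^ (n - 2) : ℕ) : ℤ) := by
  have hn := h.hn
  have : n - 1 = (n - 2) + 1 := by omega
  conv_lhs => rw [this, pow_succ]
  push_cast; ring

theorem mem_center_X_iff (h : IsWr x y z n) (X : Subgroup S) (a b : ℤ)
    (ht : al x y a b * z ∈ X) (p₀ q₀ : ℤ) (hp : al x y p₀ q₀ ∈ X)
    (hne : ¬ ((2 ^ n : ℕ) : ℤ) ∣ p₀ - q₀) (g : X) :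
    g ∈ Subgroup.center X ↔ (g : S) ∈ Subgroup.center S := by
  constructor
  · intro hg
    rw [Subgroup.mem_center_iff] at hg
    rcases h.exists_rep (g : S) with ⟨p, q, hpq⟩ | ⟨p, q, hpq⟩
    · have h1 := hg ⟨al x y a b * z, ht⟩
      have h2 := congrArg Subtype.val h1
      simp only [Subgroup.coe_mul] at h2
      rw [hpq, eq_comm, h.al_comm_alz_iff] at h2
      rw [hpq, h.al_mem_center_iff]; exact h2
    · have h1 := hg ⟨al x y p₀ q₀, hp⟩
      have h2 := congrArg Subtype.val h1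
      simp only [Subgroup.coe_mul] at h2
      rw [hpq, h.al_comm_alz_iff] at h2
      exact absurd h2 hne
  · intro hg
    rw [Subgroup.mem_center_iff] at hg ⊢
    intro k
    exact Subtype.ext (by simpa using hg (k : S))

theorem H2iff (h : IsWr x y z n) (X : Subgroup S) (a b : ℤ)
    (ht : al x y a b * z ∈ X) (p₀ q₀ : ℤ) (hp : al x y p₀ q₀ ∈ X)
    (hne : ¬ ((2 ^ n : ℕ) : ℤ) ∣ p₀ - q₀) (β : MulAut X) (g : X) :
    ((β g : X) : S) ∈ Subgroup.center S ↔ (g : S) ∈ Subgroup.center S := by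
  rw [← mem_center_X_iff h X a b ht p₀ q₀ hp hne, ← mem_center_X_iff h X a b ht p₀ q₀ hp hne]
  have hchar := Subgroup.characteristic_iff_comap_eq.mp
    (inferInstance : (Subgroup.center X).Characteristic) β
  constructor
  · intro hh
    have : g ∈ (Subgroup.center X).comap β.toMonoidHom := hh
    rwa [hchar] at this
  · intro hh
    rw [← hchar] at hh
    exact hh

theorem H1_case3 (h : IsWr x y z n) (X : Subgroup S) (a b : ℤ)
    (ht : al x y a b * z ∈ X) (i₀ j₀ : ℤ) (h0 : al x y i₀ j₀ ∈ X)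
    (hne : ¬ ((2 ^ n : ℕ) : ℤ) ∣ 2 * (i₀ - j₀)) (β : MulAut X) (g : X)
    (hg : (g : S) ∈ h.A) : ((β g : X) : S) ∈ h.A := by
  have hne' : ¬ ((2 ^ n : ℕ) : ℤ) ∣ i₀ - j₀ := fun hh => hne (Dvd.dvd.mul_left hh 2)
  have key : ∀ g : X, (g : S) ^ 2 ∉ Subgroup.center S → ((β g : X) : S) ∈ h.A := by
    intro g hg2
    by_contra hnot
    obtain ⟨p, q, hpq⟩ := h.notMem_A hnot
    apply hg2
    rw [← Subgroup.coe_pow, ← H2iff h X a b ht i₀ j₀ h0 hne' β, map_pow, Subgroup.coe_pow, hpq,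
      h.alz_sq, h.al_mem_center_iff]
    exact ⟨0, by ring⟩
  obtain ⟨p, q, hpq⟩ := hg
  by_cases hd : ((2 ^ n : ℕ) : ℤ) ∣ 2 * (p - q)
  · set g₀ : X := ⟨al x y i₀ j₀, h0⟩ with hg₀
    have h1 : ((β (g * g₀) : X) : S) ∈ h.A := by
      apply key
      rw [Subgroup.coe_mul, hpq, hg₀, h.al_mul_al, h.al_pow, h.al_mem_center_iff, Nat.cast_ofNat]
      intro hh
      apply hne
      obtain ⟨u, hu⟩ := hd
      obtain ⟨v, hv⟩ := hh
      exact ⟨v - u, by linear_combination hv - hu⟩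
    have h2 : ((β g₀ : X) : S) ∈ h.A := by
      apply key
      rw [hg₀, h.al_pow, h.al_mem_center_iff, Nat.cast_ofNat]
      intro hh
      apply hne
      obtain ⟨v, hv⟩ := hh
      exact ⟨v, by linear_combination hv⟩
    have h3 : β g = β (g * g₀) * (β g₀)⁻¹ := by rw [map_mul]; group
    rw [h3, Subgroup.coe_mul, Subgroup.coe_inv]
    exact h.A.mul_mem h1 (h.A.inv_mem h2)
  · apply key
    rw [hpq, h.al_pow, h.al_mem_center_iff, Nat.cast_ofNat]
    intro hh
    apply hd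
    obtain ⟨v, hv⟩ := hh
    exact ⟨v, by linear_combination hv⟩

theorem H1_odd (h : IsWr x y z n) (X : Subgroup S) (a b : ℤ)
    (ht : al x y a b * z ∈ X) (hodd : Odd (a + b))
    (h3 : ∀ i j, al x y i j ∈ X → ((2 ^ n : ℕ) : ℤ) ∣ 2 * (i - j)) (β : MulAut X) (g : X)
    (hg : (g : S) ∈ h.A) : ((β g : X) : S) ∈ h.A := by
  by_contra hnot
  obtain ⟨p, q, hpq⟩ := h.notMem_A hnot
  have hmem : al x y p q * z * (al x y a b * z)⁻¹ ∈ X := by
    rw [← hpq]; exact X.mul_mem (β g).2 (X.inv_mem ht)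
  rw [h.alz_inv, h.alz_mul_alz] at hmem
  have h4 := h3 _ _ hmem
  rw [h.N_dvd_two_mul_iff] at h4
  -- `p + q` is odd
  have hpq_odd : Odd (p + q) := by
    obtain ⟨u, hu⟩ := h4
    obtain ⟨v, hv⟩ := hodd
    have hM := M_eq h
    refine ⟨q - b + ((2 ^ (n - 2) : ℕ) : ℤ) * u + v, ?_⟩
    rw [hM] at hu
    linear_combination hu + hv
  -- `g ^ N = 1`
  obtain ⟨i, j, hij⟩ := hg
  have h5 : g ^ (2 ^ n) = 1 := by
    apply Subtype.ext
    rw [Subgroup.coe_pow, hij, h.al_pow, Subgroup.coe_one, h.al_eq_one_iff]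
    exact ⟨Dvd.intro_left _ rfl, Dvd.intro_left _ rfl⟩
  have h6 : (β g) ^ (2 ^ n) = 1 := by rw [← map_pow, h5, map_one]
  have h7 := congrArg Subtype.val h6
  have hn : n = (n - 1) + 1 := by have := h.hn; omega
  rw [Subgroup.coe_pow, Subgroup.coe_one, hpq, hn, pow_succ', pow_mul, h.alz_sq, h.al_pow,
    h.al_eq_one_iff] at h7
  obtain ⟨w, hw⟩ := hpq_odd
  apply h.not_N_dvd_M
  obtain ⟨v, hv⟩ := h7.1
  have hN := h.N_eq
  refine ⟨v - w, ?_⟩
  rw [hw] at hv
  linear_combination hv + w * hN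


theorem abelian_case (h : IsWr x y z n) (X : Subgroup S) (α : MulAut X) (m : ℕ) (hm : Odd m)
    (hα : α ^ m = 1) (hZX : Subgroup.center S ≤ X) (a b : ℤ) (ht : al x y a b * z ∈ X)
    (heven : Even (a + b)) (hZ' : ∀ p q, al x y p q ∈ X → ((2 ^ n : ℕ) : ℤ) ∣ p - q) :
    ∀ g : X, α g = g := by
  have hS2 : IsPGroup 2 S := IsPGroup.of_card h.card
  have hX2 : IsPGroup 2 X := hS2.to_subgroup X
  have stab : ∀ g : X, α (g⁻¹ * α g) = g⁻¹ * α g → α g = g := by
    intro g hg
    obtain ⟨k, hk⟩ := hX2 (g⁻¹ * α g)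
    exact fixed_of_stab α m hm hα g k hk hg
  have hout : ∀ p q, al x y p q * z ∈ X → ((2 ^ n : ℕ) : ℤ) ∣ (p - q) - (a - b) := by
    intro p q hpq
    have hmem : al x y p q * z * (al x y a b * z)⁻¹ ∈ X := X.mul_mem hpq (X.inv_mem ht)
    rw [h.alz_inv, h.alz_mul_alz] at hmem
    obtain ⟨u, hu⟩ := hZ' _ _ hmem
    exact ⟨u, by linear_combination hu⟩
  have hcomm : ∀ g₁ g₂ : X, g₁ * g₂ = g₂ * g₁ := by
    intro g₁ g₂
    apply Subtype.ext
    rw [Subgroup.coe_mul, Subgroup.coe_mul]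
    rcases h.exists_rep (g₁ : S) with ⟨p, q, h1⟩ | ⟨p, q, h1⟩
    · have : (g₁ : S) ∈ Subgroup.center S := by
        rw [h1, h.al_mem_center_iff]; exact hZ' p q (by rw [← h1]; exact g₁.2)
      exact (Subgroup.mem_center_iff.mp this (g₂ : S)).symm
    · rcases h.exists_rep (g₂ : S) with ⟨p', q', h2⟩ | ⟨p', q', h2⟩
      · have : (g₂ : S) ∈ Subgroup.center S := by
          rw [h2, h.al_mem_center_iff]; exact hZ' p' q' (by rw [← h2]; exact g₂.2)
        exact (Subgroup.mem_center_iff.mp this (g₁ : S))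
      · rw [h1, h2, h.alz_comm_alz_iff]
        obtain ⟨u, hu⟩ := hout p q (by rw [← h1]; exact g₁.2)
        obtain ⟨v, hv⟩ := hout p' q' (by rw [← h2]; exact g₂.2)
        exact ⟨u - v, by linear_combination hu - hv⟩
  have hsqform : ∀ g : X, ∃ j : ℤ, (g : S) ^ 2 = al x y (2 * j) (2 * j) := by
    intro g
    rcases h.exists_rep (g : S) with ⟨p, q, h1⟩ | ⟨p, q, h1⟩
    · obtain ⟨u, hu⟩ := hZ' p q (by rw [← h1]; exact g.2)
      refine ⟨p, ?_⟩
      rw [h1, h.al_pow, h.al_eq_al_iff, Nat.cast_ofNat]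
      exact ⟨⟨0, by ring⟩, ⟨-2 * u, by linear_combination (-2) * hu⟩⟩
    · obtain ⟨u, hu⟩ := hout p q (by rw [← h1]; exact g.2)
      obtain ⟨v, hv⟩ := heven
      refine ⟨v - b + ((2 ^ (n - 1) : ℕ) : ℤ) * u + q, ?_⟩
      rw [h1, h.alz_sq]
      have hN := h.N_eq
      have : p + q = 2 * (v - b + ((2 ^ (n - 1) : ℕ) : ℤ) * u + q) := by
        linear_combination hu + hv + u * hN
      rw [this]
  have hxyX : x * y ∈ X := hZX (by rw [h.center_eq]; exact Subgroup.mem_zpowers _)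
  set c₁ : X := ⟨x * y, hxyX⟩ with hc₁
  have hcz : ∀ j : ℤ, (((c₁ ^ 2) ^ j : X) : S) = al x y (2 * j) (2 * j) := by
    intro j
    rw [Subgroup.coe_zpow, Subgroup.coe_pow, hc₁]
    show ((x * y) ^ 2) ^ j = _
    rw [IsWr.xy_eq, h.al_pow, h.al_zpow]
    congr 1
  have hc : α (c₁ ^ 2) = c₁ ^ 2 := by
    obtain ⟨s, hs⟩ := hX2 (c₁ ^ 2)
    apply fixed_of_mem_zpowers α m hm hα s (c₁ ^ 2) hs
    obtain ⟨j, hj⟩ := hsqform (α c₁)
    refine Subgroup.mem_zpowers_iff.mpr ⟨j, Subtype.ext ?_⟩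
    rw [hcz, map_pow, Subgroup.coe_pow, hj]
  have hsqfix : ∀ g : X, α (g ^ 2) = g ^ 2 := by
    intro g
    obtain ⟨j, hj⟩ := hsqform g
    have : g ^ 2 = (c₁ ^ 2) ^ j := Subtype.ext (by rw [hcz, Subgroup.coe_pow, hj])
    rw [this, map_zpow, hc]
  have hΩA : ∀ u : X, (u : S) ∈ h.A → u ^ 2 = 1 → α u = u := by
    intro u huA hu2
    obtain ⟨p, q, hpq⟩ := huA
    obtain ⟨u', hu'⟩ := hZ' p q (by rw [← hpq]; exact u.2)
    have h2 : (u : S) ^ 2 = 1 := by rw [← Subgroup.coe_pow, hu2]; rfl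
    rw [hpq, h.al_pow, h.al_eq_one_iff, Nat.cast_ofNat] at h2
    have hp : ((2 ^ (n - 1) : ℕ) : ℤ) ∣ p := by
      rw [← h.N_dvd_two_mul_iff]
      obtain ⟨w, hw⟩ := h2.1
      exact ⟨w, by linear_combination hw⟩
    obtain ⟨w, hw⟩ := hp
    have hM := M_eq h
    have : u = (c₁ ^ 2) ^ (((2 ^ (n - 2) : ℕ) : ℤ) * w) := by
      apply Subtype.ext
      rw [hcz, hpq, h.al_eq_al_iff]
      constructor
      · exact ⟨0, by rw [hw, hM]; ring⟩
      · exact ⟨-u', by rw [hM] at hw; linear_combination hw - hu'⟩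
    rw [this, map_zpow, hc]
  have hΩ : ∀ u : X, u ^ 2 = 1 → α u = u := by
    intro u hu2
    by_cases huA : (u : S) ∈ h.A
    · exact hΩA u huA hu2
    · have hu'A : ((α u : X) : S) ∉ h.A := by
        intro hh
        have h2 : α (α u) = α u := hΩA _ hh (by rw [← map_pow, hu2, map_one])
        have h3 := α.injective h2
        rw [h3] at hh; exact huA hh
      apply stab
      apply hΩA
      · obtain ⟨p, q, hpq⟩ := h.notMem_A huA
        obtain ⟨p', q', hpq'⟩ := h.notMem_A hu'A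
        rw [Subgroup.coe_mul, Subgroup.coe_inv, hpq, hpq', h.alz_inv, h.alz_mul_alz]
        exact h.al_mem_A _ _
      · have hc' : Commute u⁻¹ (α u) := hcomm _ _
        rw [hc'.mul_pow, inv_pow, ← map_pow, hu2, map_one, inv_one, one_mul]
  intro g
  apply stab
  apply hΩ
  have hc' : Commute g⁻¹ (α g) := hcomm _ _
  rw [hc'.mul_pow, inv_pow, ← map_pow, hsqfix, inv_mul_cancel]

/-- the membership predicate of the subgroups `Q * Z(S)`, `Q ≅ Q₈` -/
def PX (x y z : S) (n : ℕ) (c : ℤ) (g : S) : Prop :=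
  (∃ i j : ℤ, g = al x y i j ∧ ((2 ^ (n - 1) : ℕ) : ℤ) ∣ i - j) ∨
    (∃ i j : ℤ, g = al x y i j * z ∧ ((2 ^ (n - 1) : ℕ) : ℤ) ∣ i - j - c)

theorem classify (h : IsWr x y z n) (X : Subgroup S)
    (hC : Subgroup.centralizer (X : Set S) ≤ X) (α : MulAut X) (m : ℕ) (hm : Odd m)
    (hα : α ^ m = 1) (hne1 : α ≠ 1) :
    X = h.A ∨ ∃ c : ℤ, Even c ∧ ∀ g, g ∈ X ↔ PX x y z n c g := by
  have hZX : Subgroup.center S ≤ X := le_trans (Subgroup.center_le_centralizer _) hC
  by_cases hXA : X ≤ h.A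
  · left
    apply le_antisymm hXA
    intro s hs
    apply hC
    rw [Subgroup.mem_centralizer_iff]
    intro g hg
    exact h.A_comm (hXA hg) hs
  right
  obtain ⟨t, htX, htA⟩ := SetLike.not_le_iff_exists.mp hXA
  obtain ⟨a, b, rfl⟩ := h.notMem_A htA
  have hfix : (∀ g : X, α g = g) → False := fun hh => hne1 (by ext g; rw [hh g]; rfl)
  by_cases h3 : ∃ i j, al x y i j ∈ X ∧ ¬ ((2 ^ n : ℕ) : ℤ) ∣ 2 * (i - j)
  · exfalso
    obtain ⟨i₀, j₀, h0, hne⟩ := h3
    have hne' : ¬ ((2 ^ n : ℕ) : ℤ) ∣ i₀ - j₀ := fun hh => hne (Dvd.dvd.mul_left hh 2)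
    exact hfix (gp h X α m hm hα hZX a b htX
      (fun g hg => H1_case3 h X a b htX i₀ j₀ h0 hne α g hg)
      (fun g hg => (H2iff h X a b htX i₀ j₀ h0 hne' α g).mpr hg))
  push Not at h3
  by_cases hodd : Odd (a + b)
  · exfalso
    have H1 := fun g hg => H1_odd h X a b htX hodd h3 α g hg
    by_cases hnc : ∃ p q, al x y p q ∈ X ∧ ¬ ((2 ^ n : ℕ) : ℤ) ∣ p - q
    · obtain ⟨p₀, q₀, hp, hne'⟩ := hnc
      exact hfix (gp h X α m hm hα hZX a b htX H1
        (fun g hg => (H2iff h X a b htX p₀ q₀ hp hne' α g).mpr hg))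
    · push Not at hnc
      refine hfix (gp h X α m hm hα hZX a b htX H1 ?_)
      intro g hg
      obtain ⟨p, q, hpq⟩ := H1 g (h.center_le_A hg)
      rw [hpq, h.al_mem_center_iff]
      exact hnc p q (by rw [← hpq]; exact (α g).2)
  · have heven : Even (a + b) := Int.not_odd_iff_even.mp hodd
    by_cases hnc : ∃ p q, al x y p q ∈ X ∧ ¬ ((2 ^ n : ℕ) : ℤ) ∣ p - q
    · obtain ⟨p₀, q₀, hp, hne'⟩ := hnc
      refine ⟨a - b, ?_, ?_⟩
      · obtain ⟨v, hv⟩ := heven
        exact ⟨v - b, by linear_combination hv⟩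
      · have hA_mem : ∀ i j, ((2 ^ (n - 1) : ℕ) : ℤ) ∣ i - j → al x y i j ∈ X := by
          intro i j hd
          rcases h.dvd_or_dvd_sub hd with h1 | h1
          · exact hZX ((h.al_mem_center_iff i j).mpr h1)
          · have h4 := h3 p₀ q₀ hp
            rw [h.N_dvd_two_mul_iff] at h4
            have h5 := (h.dvd_or_dvd_sub h4).resolve_left hne'
            have : al x y i j = al x y p₀ q₀ * al x y (i - p₀) (j - q₀) := by
              rw [h.al_mul_al]; congr 1 <;> ring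
            rw [this]
            apply X.mul_mem hp
            apply hZX
            rw [h.al_mem_center_iff]
            obtain ⟨u, hu⟩ := h1
            obtain ⟨v, hv⟩ := h5
            exact ⟨u - v, by linear_combination hu - hv⟩
        intro g
        constructor
        · intro hg
          rcases h.exists_rep g with ⟨i, j, rfl⟩ | ⟨i, j, rfl⟩
          · left
            refine ⟨i, j, rfl, ?_⟩
            have := h3 i j hg
            rwa [h.N_dvd_two_mul_iff] at this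
          · right
            refine ⟨i, j, rfl, ?_⟩
            have hmem : al x y i j * z * (al x y a b * z)⁻¹ ∈ X := X.mul_mem hg (X.inv_mem htX)
            rw [h.alz_inv, h.alz_mul_alz] at hmem
            have := h3 _ _ hmem
            rw [h.N_dvd_two_mul_iff] at this
            obtain ⟨u, hu⟩ := this
            exact ⟨u, by linear_combination hu⟩
        · rintro (⟨i, j, rfl, hd⟩ | ⟨i, j, rfl, hd⟩)
          · exact hA_mem i j hd
          · have : al x y i j * z = al x y (i - a) (j - b) * (al x y a b * z) := by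
              rw [h.al_mul_alz]; congr 2 <;> ring
            rw [this]
            apply X.mul_mem _ htX
            apply hA_mem
            obtain ⟨u, hu⟩ := hd
            exact ⟨u, by linear_combination hu⟩
    · exfalso
      push Not at hnc
      exact hfix (abelian_case h X α m hm hα hZX a b htX heven hnc)

end Cfsg.Agent.Lib.Helper20.WrSC
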