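import Mathlib
import Cfsg.Agent.Lib.Helper20.WrSC
import Cfsg.Agent.Lib.Helper95.QuaternionRecog

/-!
# The subgroups `Q * Z(S)` of a wreathed 2-group (helper20)

`X` with membership predicate `WrSC.PX x y z n c`: index in the normalizer, decomposition as `Q ⊔ Z(S)`
with `Q ≅ Q₈`, conjugacy.
-/

set_option autoImplicit false

namespace Cfsg.Agent.Lib.Helper20.WrSC

open Cfsg.Agent.Lib.Helper38 Cfsg.Agent.Lib.Helper20.OddAut

variable {S : Type*} [Group S] {x y z : S} {n : ℕ}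

theorem al_mem_iff (h : IsWr x y z n) (X : Subgroup S) (c : ℤ)
    (hX : ∀ g, g ∈ X ↔ PX x y z n c g) (i j : ℤ) :
    al x y i j ∈ X ↔ ((2 ^ (n - 1) : ℕ) : ℤ) ∣ i - j := by
  rw [hX]
  constructor
  · rintro (⟨i', j', he, hd⟩ | ⟨i', j', he, _⟩)
    · rw [h.al_eq_al_iff] at he
      obtain ⟨u, hu⟩ := he.1
      obtain ⟨v, hv⟩ := he.2
      obtain ⟨w, hw⟩ := hd
      have hN := h.N_eq
      rw [hN] at hu hv
      exact ⟨w + 2 * u - 2 * v, by linear_combination hw + hu - hv⟩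
    · exact absurd he (h.al_ne_alz _ _ _ _)
  · intro hd
    left
    exact ⟨i, j, rfl, hd⟩

theorem alz_mem_iff (h : IsWr x y z n) (X : Subgroup S) (c : ℤ)
    (hX : ∀ g, g ∈ X ↔ PX x y z n c g) (i j : ℤ) :
    al x y i j * z ∈ X ↔ ((2 ^ (n - 1) : ℕ) : ℤ) ∣ i - j - c := by
  rw [hX]
  constructor
  · rintro (⟨i', j', he, _⟩ | ⟨i', j', he, hd⟩)
    · exact absurd he.symm (h.al_ne_alz _ _ _ _)
    · rw [h.alz_eq_alz_iff] at he
      obtain ⟨u, hu⟩ := he.1
      obtain ⟨v, hv⟩ := he.2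
      obtain ⟨w, hw⟩ := hd
      have hN := h.N_eq
      rw [hN] at hu hv
      exact ⟨w + 2 * u - 2 * v, by linear_combination hw + hu - hv⟩
  · intro hd
    right
    exact ⟨i, j, rfl, hd⟩

theorem K_pos : (0 : ℤ) < ((2 ^ (n - 2) : ℕ) : ℤ) := by positivity

theorem relIndex_normalizer (h : IsWr x y z n) (X : Subgroup S) (c : ℤ)
    (hX : ∀ g, g ∈ X ↔ PX x y z n c g) :
    X.relIndex (Subgroup.normalizer (X : Set S)) = 2 := by
  have hM := M_eq h
  have hK := @K_pos n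
  rw [Subgroup.relIndex_eq_two_iff_exists_notMem_and]
  refine ⟨al x y ((2 ^ (n - 2) : ℕ) : ℤ) 0, ?_, ?_, ?_⟩
  · rw [Subgroup.mem_normalizer_iff]
    intro g
    rcases h.exists_rep g with ⟨i, j, rfl⟩ | ⟨i, j, rfl⟩
    · rw [h.conj_al_by_al]
    · rw [h.conj_alz_by_al, alz_mem_iff h X c hX, alz_mem_iff h X c hX]
      constructor
      · rintro ⟨u, hu⟩
        exact ⟨u + 1, by rw [hM] at hu ⊢; linear_combination hu⟩
      · rintro ⟨u, hu⟩
        exact ⟨u - 1, by rw [hM] at hu ⊢; linear_combination hu⟩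
  · rw [al_mem_iff h X c hX]
    intro hd
    have := Int.le_of_dvd (by simp) hd
    rw [hM] at this
    simp only [sub_zero] at this
    omega
  · intro b hb
    rw [Subgroup.mem_normalizer_iff] at hb
    have ht₀ : al x y c 0 * z ∈ X := by
      rw [alz_mem_iff h X c hX]; exact ⟨0, by ring⟩
    have hb' := (hb _).mp ht₀
    rcases h.exists_rep b with ⟨k, l, rfl⟩ | ⟨k, l, rfl⟩
    · rw [h.conj_alz_by_al, alz_mem_iff h X c hX] at hb'
      obtain ⟨u, hu⟩ := hb'
      rw [hM] at hu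
      have hu' : k - l = ((2 ^ (n - 2) : ℕ) : ℤ) * u := by
        have : (2 : ℤ) * (k - l) = 2 * (((2 ^ (n - 2) : ℕ) : ℤ) * u) := by linear_combination hu
        exact mul_left_cancel₀ two_ne_zero this
      rw [h.al_mul_al, al_mem_iff h X c hX, al_mem_iff h X c hX]
      rcases Int.even_or_odd' u with ⟨v, rfl | rfl⟩
      · right
        exact ⟨v, by rw [hM]; linear_combination hu'⟩
      · left
        exact ⟨v + 1, by rw [hM]; linear_combination hu'⟩
    · rw [h.conj_alz_by_alz, alz_mem_iff h X c hX] at hb'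
      obtain ⟨u, hu⟩ := hb'
      rw [hM] at hu
      have hu' : k - l - c = ((2 ^ (n - 2) : ℕ) : ℤ) * u := by
        have : (2 : ℤ) * (k - l - c) = 2 * (((2 ^ (n - 2) : ℕ) : ℤ) * u) := by
          linear_combination hu
        exact mul_left_cancel₀ two_ne_zero this
      rw [h.alz_mul_al, alz_mem_iff h X c hX, alz_mem_iff h X c hX]
      rcases Int.even_or_odd' u with ⟨v, rfl | rfl⟩
      · right
        exact ⟨v, by rw [hM]; linear_combination hu'⟩
      · left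
        exact ⟨v, by rw [hM]; linear_combination hu'⟩

theorem exists_quaternion (h : IsWr x y z n) (X : Subgroup S) (c : ℤ) (hc : Even c)
    (hX : ∀ g, g ∈ X ↔ PX x y z n c g) :
    ∃ Q : Subgroup S, Nonempty (Q ≃* QuaternionGroup 2) ∧ X = Q ⊔ Subgroup.center S := by
  have hM := M_eq h
  have hN := h.N_eq
  have hK := @K_pos n
  obtain ⟨e', he'⟩ := hc
  obtain ⟨K, hKdef⟩ : ∃ K : ℤ, K = ((2 ^ (n - 2) : ℕ) : ℤ) := ⟨_, rfl⟩
  rw [← hKdef] at hM hK
  obtain ⟨w₁, hw₁⟩ : ∃ w₁ : S, w₁ = al x y (3 * K) K := ⟨_, rfl⟩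
  obtain ⟨t₁, ht₁⟩ : ∃ t₁ : S, t₁ = al x y (e' + K) (K - e') * z := ⟨_, rfl⟩
  have hnotN : ¬ ((2 ^ n : ℕ) : ℤ) ∣ 2 * K := by
    intro hd
    have := Int.le_of_dvd (by positivity) hd
    rw [hN, hM] at this
    omega
  have hw2 : w₁ ^ 2 = al x y (2 * K) (2 * K) := by
    rw [hw₁, h.al_pow, h.al_eq_al_iff, Nat.cast_ofNat]
    constructor
    · exact ⟨1, by rw [hN, hM]; ring⟩
    · exact ⟨0, by ring⟩
  have ho : orderOf w₁ = 2 * 2 := by
    have : Fact (Nat.Prime 2) := ⟨Nat.prime_two⟩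
    have h1 : ¬ w₁ ^ 2 ^ 1 = 1 := by
      rw [pow_one, hw2, h.al_eq_one_iff]
      exact fun hh => hnotN hh.1
    have h2 : w₁ ^ 2 ^ (1 + 1) = 1 := by
      have : (2 : ℕ) ^ (1 + 1) = 2 * 2 := by norm_num
      rw [this, pow_mul, hw2, h.al_pow, h.al_eq_one_iff, Nat.cast_ofNat]
      exact ⟨⟨1, by rw [hN, hM]; ring⟩, ⟨1, by rw [hN, hM]; ring⟩⟩
    have := orderOf_eq_prime_pow h1 h2
    rw [this]; norm_num
  have ht2 : t₁ ^ 2 = w₁ ^ 2 := by
    rw [hw2, ht₁, h.alz_sq]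
    congr 1 <;> ring
  have hconj : t₁ * w₁ * t₁⁻¹ = w₁⁻¹ := by
    rw [ht₁, hw₁, h.conj_al_by_alz, h.al_inv, h.al_eq_al_iff]
    exact ⟨⟨1, by rw [hN, hM]; ring⟩, ⟨1, by rw [hN, hM]; ring⟩⟩
  refine ⟨Subgroup.closure {w₁, t₁},
    Cfsg.Agent.Lib.Helper95.closure_equiv_quaternionGroup (n := 2) le_rfl ho ht2 hconj, ?_⟩
  apply le_antisymm
  · have hA : ∀ i j, ((2 ^ (n - 1) : ℕ) : ℤ) ∣ i - j →
        al x y i j ∈ Subgroup.closure {w₁, t₁} ⊔ Subgroup.center S := by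
      rintro i j ⟨u, hu⟩
      have : al x y i j = w₁ ^ u * al x y (i - 3 * K * u) (j - K * u) := by
        rw [hw₁, h.al_zpow, h.al_mul_al]; congr 1 <;> ring
      rw [this]
      apply Subgroup.mul_mem
      · exact Subgroup.mem_sup_left
          (Subgroup.zpow_mem _ (Subgroup.subset_closure (by simp)) _)
      · apply Subgroup.mem_sup_right
        rw [h.al_mem_center_iff]
        exact ⟨0, by rw [hM] at hu; linear_combination hu⟩
    intro g hg
    rcases h.exists_rep g with ⟨i, j, rfl⟩ | ⟨i, j, rfl⟩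
    · exact hA i j ((al_mem_iff h X _ hX i j).mp hg)
    · have hd := (alz_mem_iff h X _ hX i j).mp hg
      have : al x y i j * z = al x y (i - (e' + K)) (j - (K - e')) * t₁ := by
        rw [ht₁, h.al_mul_alz]; congr 2 <;> ring
      rw [this]
      apply Subgroup.mul_mem
      · apply hA
        obtain ⟨u, hu⟩ := hd
        exact ⟨u, by rw [he'] at hu; linear_combination hu⟩
      · exact Subgroup.mem_sup_left (Subgroup.subset_closure (by simp))
  · apply sup_le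
    · rw [Subgroup.closure_le]
      rintro g (rfl | rfl)
      · show g ∈ X
        rw [hw₁, al_mem_iff h X _ hX]
        exact ⟨1, by rw [hM]; ring⟩
      · show g ∈ X
        rw [ht₁, alz_mem_iff h X _ hX]
        exact ⟨0, by rw [he']; ring⟩
    · intro g hg
      obtain ⟨i, rfl⟩ := (h.mem_center_iff g).mp hg
      rw [al_mem_iff h X _ hX]
      exact ⟨0, by ring⟩

theorem conj_eq (h : IsWr x y z n) (X X' : Subgroup S) (c c' : ℤ) (hc : Even c)
    (hc' : Even c') (hX : ∀ g, g ∈ X ↔ PX x y z n c g)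
    (hX' : ∀ g, g ∈ X' ↔ PX x y z n c' g) :
    ∃ s : S, X.map (MulAut.conj s).toMonoidHom = X' := by
  obtain ⟨e, he⟩ := hc
  obtain ⟨e', he'⟩ := hc'
  refine ⟨al x y (e' - e) 0, ?_⟩
  ext g
  rw [Subgroup.mem_map]
  constructor
  · rintro ⟨g₀, hg₀, rfl⟩
    simp only [MulEquiv.coe_toMonoidHom, MulAut.conj_apply]
    rcases h.exists_rep g₀ with ⟨i, j, rfl⟩ | ⟨i, j, rfl⟩
    · rw [h.conj_al_by_al, al_mem_iff h X' c' hX']
      exact (al_mem_iff h X c hX i j).mp hg₀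
    · rw [h.conj_alz_by_al, alz_mem_iff h X' c' hX']
      obtain ⟨u, hu⟩ := (alz_mem_iff h X c hX i j).mp hg₀
      exact ⟨u, by rw [he']; rw [he] at hu; linear_combination hu⟩
  · intro hg
    rcases h.exists_rep g with ⟨i, j, rfl⟩ | ⟨i, j, rfl⟩
    · refine ⟨al x y i j, ?_, ?_⟩
      · rw [al_mem_iff h X c hX]
        exact (al_mem_iff h X' c' hX' i j).mp hg
      · simp only [MulEquiv.coe_toMonoidHom, MulAut.conj_apply]
        rw [h.conj_al_by_al]
    · refine ⟨al x y (i - (e' - e)) (j + (e' - e)) * z, ?_, ?_⟩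
      · rw [alz_mem_iff h X c hX]
        obtain ⟨u, hu⟩ := (alz_mem_iff h X' c' hX' i j).mp hg
        exact ⟨u, by rw [he]; rw [he'] at hu; linear_combination hu⟩
      · simp only [MulEquiv.coe_toMonoidHom, MulAut.conj_apply]
        rw [h.conj_alz_by_al]; congr 2 <;> ring

end Cfsg.Agent.Lib.Helper20.WrSC
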