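/-
helper20: module DSQW-[W-CAND] of helper84's S5248 project.
The candidates for essential subgroups of a wreathed 2-group: glue from S1202 + S1196.
-/
import Mathlib
import Cfsg.Agent.Lib.Helper84.DSQW.Defs
import Cfsg.Agent.Lib.Helper38.WreathedInv
import Cfsg.Agent.Lib.Helper38.WreathedMore
import Cfsg.Agent.S1202
import Cfsg.Agent.S1196

set_option autoImplicit false

namespace Cfsg.Agent.Lib.Helper20.DSQWCand

open Cfsg Cfsg.FusionSystem Cfsg.Agent.Lib.Helper84.DSQW Cfsg.Agent.Lib.Helper38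

variable {X : Type*} [Group X] {x y z : X} {n : ℕ}

/-- the non-commutative candidates -/
def WrE (E : Subgroup X) : Prop :=
  E ≠ ⊤ ∧ Subgroup.centralizer (E : Set X) ≤ E ∧ ¬ IsPGroup 2 (MulAut E) ∧ ¬ IsMulCommutative E

theorem wr_isWreathed' (h : IsWr x y z n) : Cfsg.IsWreathed X :=
  ⟨n, h.hn, h.card, x, y, z, h.hx, h.hxy, h.hinf, h.hz, h.hzx⟩

theorem A_isMulCommutative (h : IsWr x y z n) : IsMulCommutative h.A :=
  ⟨⟨fun a b => Subtype.ext (h.A_comm a.2 b.2)⟩⟩

theorem eq_A_of_comm_card (h : IsWr x y z n) (U : Subgroup X) (hU : IsMulCommutative U)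
    (hc : Nat.card U = 2 ^ (2 * n)) : U = h.A := by
  have := h.finite
  obtain ⟨⟨V, _, hV⟩, _⟩ := Cfsg.Agent.S1196.result (wr_isWreathed' h) n h.card
  rw [hV U ⟨hU, hc⟩, hV h.A ⟨A_isMulCommutative h, h.card_A⟩]

theorem quaternion_two_not_comm : ¬ ∀ a b : QuaternionGroup 2, a * b = b * a := by
  intro hc
  have := hc (QuaternionGroup.a 1) (QuaternionGroup.xa 0)
  revert this
  decide

theorem wr_cand (h : IsWr x y z n) (E : Subgroup X) (hE : E ≠ ⊤)
    (hC : Subgroup.centralizer (E : Set X) ≤ E) (hA : ¬ IsPGroup 2 (MulAut E)) :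
    E = h.A ∨ WrE E := by
  have := h.finite
  obtain ⟨_, h2, _⟩ := Cfsg.Agent.S1202.result (wr_isWreathed' h) n h.card E hC hA
  rcases h2 with ⟨hc, hcard⟩ | ⟨Q, ⟨e⟩, hQ⟩
  · left; exact eq_A_of_comm_card h E hc hcard
  · right
    refine ⟨hE, hC, hA, ?_⟩
    intro hcomm
    apply quaternion_two_not_comm
    intro a b
    have hQE : Q ≤ E := by rw [hQ]; exact le_sup_left
    have h1 : ∀ u v : Q, u * v = v * u := by
      intro u v
      have := hcomm.is_comm.comm ⟨u, hQE u.2⟩ ⟨v, hQE v.2⟩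
      apply Subtype.ext
      have h2 := congrArg (Subtype.val) this
      simpa using h2
    have := h1 (e.symm a) (e.symm b)
    rw [← map_mul, ← map_mul] at this
    exact e.symm.injective this

theorem wr_cand_conj (h : IsWr x y z n) (E E' : Subgroup X) (hE : WrE E) (hE' : WrE E') :
    ∃ s : X, E.map (MulAut.conj s).toMonoidHom = E' := by
  have := h.finite
  obtain ⟨_, _, h3⟩ := Cfsg.Agent.S1202.result (wr_isWreathed' h) n h.card E hE.2.1 hE.2.2.1
  exact h3 E' hE'.2.1 hE'.2.2.1 hE.2.2.2 hE'.2.2.2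

theorem wr_A_eq (h : IsWr x y z n) {x' y' z' : X} (h' : IsWr x' y' z' n) : h'.A = h.A :=
  eq_A_of_comm_card h h'.A (A_isMulCommutative h') h'.card_A

theorem wr_centralizer_A (h : IsWr x y z n) : Subgroup.centralizer (h.A : Set X) = h.A := by
  apply le_antisymm
  · intro s hs
    by_contra hsA
    obtain ⟨k, l, rfl⟩ := h.notMem_A hsA
    have hx : al x y 1 0 ∈ h.A := h.al_mem_A 1 0
    have h1 := hs (al x y 1 0) hx
    have h2 := (h.al_comm_alz_iff 1 0 k l).mp h1
    apply h.not_dvd_one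
    simpa using h2
  · intro s hs t ht
    exact h.A_comm ht hs

end Cfsg.Agent.Lib.Helper20.DSQWCand
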