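/-
helper20: module DSQW-[W-ISO] of helper84's S5248 project.
Two wreathed 2-groups with the same parameter are isomorphic, matching the generators.
-/
import Mathlib
import Cfsg.Agent.Lib.Helper84.DSQW.Defs
import Cfsg.Agent.Lib.Helper38.WreathedInv
import Cfsg.Agent.Lib.Helper38.WreathedMore

set_option autoImplicit false

namespace Cfsg.Agent.Lib.Helper20.DSQWIso

open Cfsg Cfsg.FusionSystem Cfsg.Agent.Lib.Helper84.DSQW Cfsg.Agent.Lib.Helper38

variable {X : Type*} [Group X] {x y z : X} {n : ℕ}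

/-- the coordinate bijection -/
noncomputable def parEquiv (h : IsWr x y z n) : (Fin (2 ^ n) × Fin (2 ^ n) × Bool) ≃ X :=
  Equiv.ofBijective (IsWr.par x y z n) ⟨h.par_injective, h.par_surjective⟩

/-- the transport map -/
noncomputable def tr {X' : Type*} [Group X'] {x' y' z' : X'} (h : IsWr x y z n)
    (h' : IsWr x' y' z' n) : X ≃ X' :=
  (parEquiv h).symm.trans (parEquiv h')

theorem tr_par {X' : Type*} [Group X'] {x' y' z' : X'} (h : IsWr x y z n)
    (h' : IsWr x' y' z' n) (p : Fin (2 ^ n) × Fin (2 ^ n) × Bool) :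
    tr h h' (IsWr.par x y z n p) = IsWr.par x' y' z' n p := by
  unfold tr
  have : IsWr.par x y z n p = parEquiv h p := rfl
  rw [this, Equiv.trans_apply, Equiv.symm_apply_apply]
  rfl

theorem tr_al {X' : Type*} [Group X'] {x' y' z' : X'} (h : IsWr x y z n)
    (h' : IsWr x' y' z' n) (i j : ℤ) : tr h h' (al x y i j) = al x' y' i j := by
  obtain ⟨⟨k, l, e⟩, hp⟩ := h.par_surjective (al x y i j)
  rw [← hp, tr_par]
  cases e
  · simp only [IsWr.par, Bool.false_eq_true, if_false, mul_one] at hp ⊢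
    rw [h.al_eq_al_iff] at hp
    rw [h'.al_eq_al_iff]
    exact hp
  · simp only [IsWr.par, if_true] at hp
    exact absurd hp.symm (h.al_ne_alz _ _ _ _)

theorem tr_alz {X' : Type*} [Group X'] {x' y' z' : X'} (h : IsWr x y z n)
    (h' : IsWr x' y' z' n) (i j : ℤ) : tr h h' (al x y i j * z) = al x' y' i j * z' := by
  obtain ⟨⟨k, l, e⟩, hp⟩ := h.par_surjective (al x y i j * z)
  rw [← hp, tr_par]
  cases e
  · simp only [IsWr.par, Bool.false_eq_true, if_false, mul_one] at hp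
    exact absurd hp (h.al_ne_alz _ _ _ _)
  · simp only [IsWr.par, if_true] at hp ⊢
    rw [h.alz_eq_alz_iff] at hp
    rw [h'.alz_eq_alz_iff]
    exact hp

theorem tr_mul {X' : Type*} [Group X'] {x' y' z' : X'} (h : IsWr x y z n)
    (h' : IsWr x' y' z' n) (s t : X) : tr h h' (s * t) = tr h h' s * tr h h' t := by
  rcases h.exists_rep s with ⟨i, j, rfl⟩ | ⟨i, j, rfl⟩ <;>
  rcases h.exists_rep t with ⟨k, l, rfl⟩ | ⟨k, l, rfl⟩
  · rw [h.al_mul_al, tr_al, tr_al, tr_al, h'.al_mul_al]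
  · rw [h.al_mul_alz, tr_alz, tr_al, tr_alz, h'.al_mul_alz]
  · rw [h.alz_mul_al, tr_alz, tr_alz, tr_al, h'.alz_mul_al]
  · rw [h.alz_mul_alz, tr_al, tr_alz, tr_alz, h'.alz_mul_alz]

theorem wr_exists_equiv {X' : Type*} [Group X'] {x' y' z' : X'} (h : IsWr x y z n)
    (h' : IsWr x' y' z' n) : ∃ e : X ≃* X', e x = x' ∧ e y = y' ∧ e z = z' := by
  refine ⟨MulEquiv.mk' (tr h h') (tr_mul h h'), ?_, ?_, ?_⟩
  · have h1 := tr_al h h' 1 0
    show tr h h' x = x'
    simpa [al] using h1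
  · have h1 := tr_al h h' 0 1
    show tr h h' y = y'
    simpa [al] using h1
  · have h1 := tr_alz h h' 0 0
    show tr h h' z = z'
    simpa [al] using h1

end Cfsg.Agent.Lib.Helper20.DSQWIso
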