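import Mathlib
import Cfsg.Agent.S4023
import Cfsg.Agent.S0215

/-!
# Groups whose `p`-subgroups of equal order are conjugate: the extraspecial case dies

If, for every prime, `p`-subgroups of equal order are conjugate, then no Sylow subgroup is
non-abelian of order `p ^ 3` and exponent `p` (`p` odd).  Together with statement S4023 this
gives S4020.
-/

namespace Cfsg.Agent.Lib.Helper20.EqOrd

open Subgroup

section Center

variable {P : Type*} [Group P] [Finite P] {p : ℕ} [Fact p.Prime]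

/-- The centre of a non-abelian group of order `p ^ 3` has order `p` and contains all
commutators. -/
theorem center_of_card_cube (hcard : Nat.card P = p ^ 3) (hna : ¬ IsMulCommutative P) :
    Nat.card (center P) = p ∧ ∀ a b : P, a * b * a⁻¹ * b⁻¹ ∈ center P := by
  have hp : p.Prime := Fact.out
  have hP : IsPGroup p P := IsPGroup.of_card hcard
  have hnt : Nontrivial P := by
    rw [← Finite.one_lt_card_iff_nontrivial, hcard]
    exact Nat.one_lt_pow (by norm_num) hp.one_lt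
  have hcn : Nontrivial (center P) := hP.center_nontrivial
  have hmul := Subgroup.card_eq_card_quotient_mul_card_subgroup (center P)
  obtain ⟨k, hk3, hk⟩ : ∃ k, k ≤ 3 ∧ Nat.card (center P) = p ^ k := by
    have hdvd : Nat.card (center P) ∣ p ^ 3 := hcard ▸ Subgroup.card_subgroup_dvd_card _
    exact (Nat.dvd_prime_pow hp).1 hdvd
  have hk0 : k ≠ 0 := by
    rintro rfl
    rw [pow_zero] at hk
    have := Finite.one_lt_card_iff_nontrivial.2 hcn
    omega
  have hq : Nat.card (P ⧸ center P) = p ^ (3 - k) := by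
    have h1 : Nat.card (P ⧸ center P) * p ^ k = p ^ (3 - k) * p ^ k := by
      rw [← pow_add, Nat.sub_add_cancel hk3, ← hk, ← hmul, hcard]
    exact Nat.eq_of_mul_eq_mul_right (pow_pos hp.pos k) h1
  have hker : (QuotientGroup.mk' (center P)).ker ≤ center P := by
    rw [QuotientGroup.ker_mk']
  have hk1 : k = 1 := by
    by_contra hne
    have hk23 : k = 2 ∨ k = 3 := by omega
    rcases hk23 with rfl | rfl
    · have hcyc : IsCyclic (P ⧸ center P) := isCyclic_of_prime_card (p := p) (by simpa using hq)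
      exact hna ((QuotientGroup.mk' (center P)).isMulCommutative_of_isCyclic_of_ker_le_center hker)
    · have hcyc : IsCyclic (P ⧸ center P) := by
        have h1 : Nat.card (P ⧸ center P) = 1 := by simpa using hq
        have : Subsingleton (P ⧸ center P) := (Nat.card_eq_one_iff_unique.1 h1).1
        exact isCyclic_of_subsingleton
      exact hna ((QuotientGroup.mk' (center P)).isMulCommutative_of_isCyclic_of_ker_le_center hker)
  subst hk1
  refine ⟨by simpa using hk, fun a b => ?_⟩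
  have hcomm : IsMulCommutative (P ⧸ center P) :=
    IsPGroup.isMulCommutative_of_card_eq_prime_sq (p := p) (by simpa using hq)
  rw [← QuotientGroup.eq_one_iff]
  have hc : ∀ x y : P ⧸ center P, x * y = y * x := fun x y => hcomm.is_comm.comm x y
  rw [QuotientGroup.mk_mul, QuotientGroup.mk_mul, QuotientGroup.mk_mul, QuotientGroup.mk_inv,
    QuotientGroup.mk_inv, hc (a : P ⧸ center P) (b : P ⧸ center P)]
  group

end Center

section Sub

variable {G : Type*} [Group G]

/-- Subgroup version of `center_of_card_cube`, stated with elements of the ambient group. -/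
theorem sub_facts [Finite G] {p : ℕ} [Fact p.Prime] (P : Subgroup G) (hcard : Nat.card P = p ^ 3)
    (hna : ¬ IsMulCommutative P) :
    (∀ a ∈ P, ∀ b ∈ P, ∀ c ∈ P, (a * b * a⁻¹ * b⁻¹) * c = c * (a * b * a⁻¹ * b⁻¹)) ∧
    (∀ u ∈ P, (∀ c ∈ P, u * c = c * u) → u ≠ 1 → ∀ v ∈ P, (∀ c ∈ P, v * c = c * v) →
      v ∈ zpowers u) := by
  obtain ⟨hc, hcomm⟩ := center_of_card_cube (P := ↥P) hcard hna
  refine ⟨fun a ha b hb c hcP => ?_, fun u hu hucen hu1 v hv hvcen => ?_⟩
  · have h := hcomm ⟨a, ha⟩ ⟨b, hb⟩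
    rw [mem_center_iff] at h
    have h2 := congrArg Subtype.val (h ⟨c, hcP⟩)
    exact h2.symm
  · have hu' : (⟨u, hu⟩ : P) ∈ center P := by
      rw [mem_center_iff]
      intro g
      exact Subtype.ext (hucen g g.2).symm
    have hv' : (⟨v, hv⟩ : P) ∈ center P := by
      rw [mem_center_iff]
      intro g
      exact Subtype.ext (hvcen g g.2).symm
    have hne : (⟨⟨u, hu⟩, hu'⟩ : center P) ≠ 1 := by
      intro h
      apply hu1
      have := congrArg (fun x : center P => ((x : P) : G)) h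
      simpa using this
    have htop := zpowers_eq_top_of_prime_card (p := p) hc hne
    have hmem : (⟨⟨v, hv⟩, hv'⟩ : center P) ∈ zpowers (⟨⟨u, hu⟩, hu'⟩ : center P) := by
      rw [htop]; exact mem_top _
    obtain ⟨k, hk⟩ := mem_zpowers_iff.1 hmem
    rw [mem_zpowers_iff]
    refine ⟨k, ?_⟩
    have := congrArg (fun x : center P => ((x : P) : G)) hk
    simpa using this

/-- The word `y * y₂ * y` acts on `⟨z, b⟩` as the matrix `[[0, 1], [-1, 0]]`. -/
theorem word_conj {z b y y2 : G} (hzb : z * b = b * z) (hyz : y * z = z * y)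
    (hyb : y * b * y⁻¹ = b * z) (hy2b : y2 * b = b * y2) (hy2z : y2 * z * y2⁻¹ = z * b⁻¹) :
    MulAut.conj (y * y2 * y) z = b⁻¹ ∧ MulAut.conj (y * y2 * y) b = z := by
  have h1 : MulAut.conj y z = z := by
    rw [MulAut.conj_apply, hyz, mul_inv_cancel_right]
  have h2 : MulAut.conj y b = b * z := by rw [MulAut.conj_apply, hyb]
  have h3 : MulAut.conj y2 b = b := by
    rw [MulAut.conj_apply, hy2b, mul_inv_cancel_right]
  have h4 : MulAut.conj y2 z = z * b⁻¹ := by rw [MulAut.conj_apply, hy2z]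
  constructor
  · rw [map_mul, map_mul, MulAut.mul_apply, MulAut.mul_apply, h1, h4, map_mul, map_inv, h1, h2,
      mul_inv_rev, mul_inv_cancel_left]
  · rw [map_mul, map_mul, MulAut.mul_apply, MulAut.mul_apply, h2, map_mul, h3, h4, ← mul_assoc,
      ← hzb, mul_inv_cancel_right, h1]

/-- If `σ z = z⁻¹` then odd powers of `σ` invert `z`. -/
theorem odd_pow_inv (σ : MulAut G) {z : G} (hσ : σ z = z⁻¹) {m : ℕ} (hm : Odd m) :
    (σ ^ m) z = z⁻¹ := by
  have h2 : (σ ^ 2) z = z := by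
    rw [pow_two, MulAut.mul_apply, hσ, map_inv, hσ, inv_inv]
  have h2k : ∀ k : ℕ, ((σ ^ 2) ^ k) z = z := by
    intro k
    induction k with
    | zero => simp
    | succ k ih => rw [pow_succ, MulAut.mul_apply, h2, ih]
  obtain ⟨k, rfl⟩ := hm
  rw [pow_succ, pow_mul, MulAut.mul_apply, hσ, map_inv, h2k, ]

/-- If `σ z' = w * z'` and `σ w = w` then `σ ^ n` maps `z'` to `w ^ n * z'`. -/
theorem pow_shift (σ : MulAut G) {z' w : G} (h1 : σ z' = w * z') (h2 : σ w = w) (n : ℕ) :
    (σ ^ n) z' = w ^ n * z' ∧ (σ ^ n) w = w := by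
  induction n with
  | zero => simp
  | succ n ih =>
    rw [pow_succ, MulAut.mul_apply, MulAut.mul_apply, h1, h2, map_mul, ih.1, ih.2]
    refine ⟨?_, rfl⟩
    rw [pow_succ', mul_assoc]

end Sub

section Main

variable {G : Type*} [Group G] [Finite G]

omit [Finite G] in
/-- If all subgroups of order `p` are conjugate, a normal subgroup containing one element of
order `p` contains them all. -/
theorem mem_normal_of_conj
    (hD : ∀ q : ℕ, q.Prime → ∀ H K : Subgroup G, IsPGroup q H → IsPGroup q K →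
      Nat.card H = Nat.card K → ∃ g : G, K = H.map (MulAut.conj g).toMonoidHom)
    {p : ℕ} [Fact p.Prime] {z x : G} (hz1 : z ≠ 1) (hzp : z ^ p = 1) (hx1 : x ≠ 1)
    (hxp : x ^ p = 1) (N : Subgroup G) [hN : N.Normal] (hzN : z ∈ N) : x ∈ N := by
  have hp : p.Prime := Fact.out
  have hoz : orderOf z = p := orderOf_eq_prime hzp hz1
  have hox : orderOf x = p := orderOf_eq_prime hxp hx1
  have hZ : IsPGroup p (zpowers z) :=
    IsPGroup.of_card (n := 1) (by rw [Nat.card_zpowers, hoz, pow_one])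
  have hX : IsPGroup p (zpowers x) :=
    IsPGroup.of_card (n := 1) (by rw [Nat.card_zpowers, hox, pow_one])
  obtain ⟨g, hg⟩ := hD p hp (zpowers z) (zpowers x) hZ hX
    (by rw [Nat.card_zpowers, Nat.card_zpowers, hoz, hox])
  have hx : x ∈ (zpowers z).map (MulAut.conj g).toMonoidHom := hg ▸ mem_zpowers x
  obtain ⟨w, hw, rfl⟩ := Subgroup.mem_map.1 hx
  obtain ⟨k, rfl⟩ := mem_zpowers_iff.1 hw
  show (MulAut.conj g) (z ^ k) ∈ N
  rw [MulAut.conj_apply]
  exact hN.conj_mem _ (N.zpow_mem hzN k) g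

/-- The configuration inside a group with a non-abelian Sylow `p`-subgroup of order `p ^ 3` and
exponent `p` all of whose subgroups of order `p` are conjugate. -/
theorem exists_config
    (hD : ∀ q : ℕ, q.Prime → ∀ H K : Subgroup G, IsPGroup q H → IsPGroup q K →
      Nat.card H = Nat.card K → ∃ g : G, K = H.map (MulAut.conj g).toMonoidHom)
    {p : ℕ} [Fact p.Prime] (P : Sylow p G)
    (hna : ¬ IsMulCommutative P) (hcard : Nat.card P = p ^ 3) (hexp : Monoid.exponent P = p) :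
    ∃ (z b y y' k : G) (n : ℕ), z ≠ 1 ∧ z ^ p = 1 ∧ y ≠ 1 ∧ y ^ p = 1 ∧ y' ≠ 1 ∧ y' ^ p = 1 ∧
      z * b = b * z ∧ y * z = z * y ∧ y * b * y⁻¹ = b * z ∧
      (k * y' ^ n * k⁻¹) * b = b * (k * y' ^ n * k⁻¹) ∧
      (k * y' ^ n * k⁻¹) * z * (k * y' ^ n * k⁻¹)⁻¹ = z * b⁻¹ := by
  have hp : p.Prime := Fact.out
  obtain ⟨hcomm, hcen⟩ := sub_facts (P : Subgroup G) hcard hna
  have hpow : ∀ x ∈ (P : Subgroup G), x ^ p = 1 := by
    intro x hx
    have h := Monoid.pow_exponent_eq_one (⟨x, hx⟩ : (P : Subgroup G))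
    rw [hexp] at h
    have := congrArg Subtype.val h
    simpa using this
  -- a noncommuting pair
  obtain ⟨y, b, hyb⟩ : ∃ y b : (P : Subgroup G), y * b ≠ b * y := by
    by_contra h
    simp only [not_exists, ne_eq, not_not] at h
    exact hna ⟨⟨h⟩⟩
  obtain ⟨y0, hy0P⟩ := y
  obtain ⟨b0, hb0P⟩ := b
  have hyb0 : y0 * b0 ≠ b0 * y0 := fun h => hyb (Subtype.ext h)
  set z : G := y0 * b0 * y0⁻¹ * b0⁻¹ with hz
  have hzP : z ∈ (P : Subgroup G) :=
    mul_mem (mul_mem (mul_mem hy0P hb0P) (inv_mem hy0P)) (inv_mem hb0P)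
  have hzcen : ∀ c ∈ (P : Subgroup G), z * c = c * z := fun c hc => hcomm y0 hy0P b0 hb0P c hc
  have hz1 : z ≠ 1 := by
    intro h
    apply hyb0
    calc y0 * b0 = (y0 * b0 * y0⁻¹ * b0⁻¹) * (b0 * y0) := by group
      _ = b0 * y0 := by rw [← hz, h, one_mul]
  have hb01 : b0 ≠ 1 := by
    rintro rfl
    exact hyb0 (by rw [mul_one, one_mul])
  have hy01 : y0 ≠ 1 := by
    rintro rfl
    exact hyb0 (by rw [mul_one, one_mul])
  have hzp := hpow z hzP
  have hb0p := hpow b0 hb0P
  have hzb : z * b0 = b0 * z := hzcen b0 hb0P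
  have hyz : y0 * z = z * y0 := (hzcen y0 hy0P).symm
  have hyb' : y0 * b0 * y0⁻¹ = b0 * z := by
    rw [← hzb, hz]; group
  -- `b0` is conjugate to a power of `z`
  have hoz : orderOf z = p := orderOf_eq_prime hzp hz1
  have hob : orderOf b0 = p := orderOf_eq_prime hb0p hb01
  have hZ : IsPGroup p (zpowers z) :=
    IsPGroup.of_card (n := 1) (by rw [Nat.card_zpowers, hoz, pow_one])
  have hB : IsPGroup p (zpowers b0) :=
    IsPGroup.of_card (n := 1) (by rw [Nat.card_zpowers, hob, pow_one])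
  obtain ⟨h, hh⟩ := hD p hp (zpowers z) (zpowers b0) hZ hB
    (by rw [Nat.card_zpowers, Nat.card_zpowers, hoz, hob])
  obtain ⟨i, hi⟩ : ∃ i : ℤ, b0 = h * z ^ i * h⁻¹ := by
    have hx : b0 ∈ (zpowers z).map (MulAut.conj h).toMonoidHom := hh ▸ mem_zpowers b0
    obtain ⟨w, hw, hwb⟩ := Subgroup.mem_map.1 hx
    obtain ⟨i, rfl⟩ := mem_zpowers_iff.1 hw
    refine ⟨i, ?_⟩
    rw [← hwb]
    show (MulAut.conj h) (z ^ i) = _
    rw [MulAut.conj_apply]
  have hziP : z ^ i ∈ (P : Subgroup G) := (P : Subgroup G).zpow_mem hzP i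
  have hzicen : ∀ c ∈ (P : Subgroup G), z ^ i * c = c * z ^ i := by
    intro c hc
    have : Commute z c := hzcen c hc
    exact (this.zpow_left i).eq
  -- the centralizer of `b0` contains `h P h⁻¹` and `z`
  let C : Subgroup G := centralizer ({b0} : Set G)
  have hP1C : ((h • P : Sylow p G) : Subgroup G) ≤ C := by
    intro x hx
    rw [Sylow.smul_def, Sylow.pointwise_smul_def, mem_pointwise_smul_iff_inv_smul_mem,
      MulAut.smul_def, ← map_inv, MulAut.conj_apply, inv_inv] at hx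
    show x ∈ centralizer ({b0} : Set G)
    rw [mem_centralizer_singleton_iff, hi]
    have h1 := hzicen _ hx
    symm
    calc h * z ^ i * h⁻¹ * x = h * (z ^ i * (h⁻¹ * x * h)) * h⁻¹ := by group
      _ = h * ((h⁻¹ * x * h) * z ^ i) * h⁻¹ := by rw [h1]
      _ = x * (h * z ^ i * h⁻¹) := by group
  have hzC : z ∈ C := by
    show z ∈ centralizer ({b0} : Set G)
    rw [mem_centralizer_singleton_iff]
    exact hzb
  let Q1 : Sylow p C := (h • P : Sylow p G).subtype hP1C
  have hzCp : IsPGroup p (zpowers (⟨z, hzC⟩ : C)) := by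
    refine IsPGroup.of_card (n := 1) ?_
    rw [Nat.card_zpowers, pow_one, ← hoz]
    exact Subgroup.orderOf_mk z hzC
  obtain ⟨Q2, hQ2⟩ := hzCp.exists_le_sylow
  obtain ⟨c, hc⟩ := MulAction.exists_smul_eq C Q1 Q2
  have hzQ : (⟨z, hzC⟩ : C) ∈ (Q2 : Subgroup C) := hQ2 (mem_zpowers _)
  rw [← hc, Sylow.smul_def, Sylow.pointwise_smul_def, mem_pointwise_smul_iff_inv_smul_mem,
    MulAut.smul_def, ← map_inv, MulAut.conj_apply, inv_inv] at hzQ
  have hzQ' : ((c⁻¹ * ⟨z, hzC⟩ * c : C) : G) ∈ ((h • P : Sylow p G) : Subgroup G) := by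
    have := hzQ
    rw [Sylow.coe_subtype, mem_subgroupOf] at this
    exact this
  rw [Sylow.smul_def, Sylow.pointwise_smul_def, mem_pointwise_smul_iff_inv_smul_mem,
    MulAut.smul_def, ← map_inv, MulAut.conj_apply, inv_inv] at hzQ'
  -- `k = c * h`
  have hcb : (c : G) * b0 = b0 * (c : G) := by
    have := c.2
    rw [mem_centralizer_singleton_iff] at this
    exact this
  set k : G := (c : G) * h with hk
  set z' : G := k⁻¹ * z * k with hz'
  have hz'P : z' ∈ (P : Subgroup G) := by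
    have : z' = h⁻¹ * ((c⁻¹ * ⟨z, hzC⟩ * c : C) : G) * h := by
      rw [hz', hk]; simp only [Subgroup.coe_mul, Subgroup.coe_inv]; group
    rw [this]; exact hzQ'
  have hbk : b0 = k * z ^ i * k⁻¹ := by
    have h1 : (c : G) * b0 * (c : G)⁻¹ = b0 := by rw [hcb, mul_inv_cancel_right]
    calc b0 = (c : G) * b0 * (c : G)⁻¹ := h1.symm
      _ = (c : G) * (h * z ^ i * h⁻¹) * (c : G)⁻¹ := by rw [← hi]
      _ = k * z ^ i * k⁻¹ := by rw [hk]; group
  have hzk : z = k * z' * k⁻¹ := by rw [hz']; group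
  have hz'1 : z' ≠ 1 := by
    intro h1
    apply hz1
    rw [hzk, h1]; group
  -- `z'` is not central in `P`
  have hz'nc : ∃ y' ∈ (P : Subgroup G), y' * z' ≠ z' * y' := by
    by_contra hcon
    simp only [not_exists, not_and, ne_eq, not_not] at hcon
    have hz'cen : ∀ c ∈ (P : Subgroup G), z' * c = c * z' := fun c hc => (hcon c hc).symm
    obtain ⟨n, hn⟩ := mem_zpowers_iff.1 (hcen z' hz'P hz'cen hz'1 (z ^ i) hziP hzicen)
    -- `b0 = z ^ n`
    have hb : b0 = z ^ n := by
      rw [hbk, ← hn, ← conj_zpow, ← hzk]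
    apply hyb0
    rw [hb]
    exact ((Commute.zpow_right (show Commute y0 z from hyz) n)).eq
  obtain ⟨y', hy'P, hy'z'⟩ := hz'nc
  set w : G := y' * z' * y'⁻¹ * z'⁻¹ with hw
  have hwP : w ∈ (P : Subgroup G) :=
    mul_mem (mul_mem (mul_mem hy'P hz'P) (inv_mem hy'P)) (inv_mem hz'P)
  have hwcen : ∀ c ∈ (P : Subgroup G), w * c = c * w := fun c hc => hcomm y' hy'P z' hz'P c hc
  have hw1 : w ≠ 1 := by
    intro h1
    apply hy'z'
    calc y' * z' = (y' * z' * y'⁻¹ * z'⁻¹) * (z' * y') := by group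
      _ = z' * y' := by rw [← hw, h1, one_mul]
  have hy'1 : y' ≠ 1 := by
    rintro rfl
    exact hy'z' (by rw [mul_one, one_mul])
  -- `(z ^ i)⁻¹` is a natural power of `w`
  have hvP : (z ^ i)⁻¹ ∈ (P : Subgroup G) := inv_mem hziP
  have hvcen : ∀ c ∈ (P : Subgroup G), (z ^ i)⁻¹ * c = c * (z ^ i)⁻¹ := by
    intro c hc
    have : Commute (z ^ i) c := hzicen c hc
    exact this.inv_left.eq
  have hvw : (z ^ i)⁻¹ ∈ zpowers w := hcen w hwP hwcen hw1 _ hvP hvcen
  rw [← mem_powers_iff_mem_zpowers] at hvw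
  obtain ⟨n, hn⟩ := (Submonoid.mem_powers_iff _ _).1 hvw
  -- conjugation by `y' ^ n`
  have hσ1 : MulAut.conj y' z' = w * z' := by
    rw [MulAut.conj_apply, hw]; group
  have hσ2 : MulAut.conj y' w = w := by
    rw [MulAut.conj_apply, ← hwcen y' hy'P, mul_inv_cancel_right]
  have hshift := (pow_shift (MulAut.conj y') hσ1 hσ2 n).1
  rw [← map_pow, MulAut.conj_apply, hn] at hshift
  -- assemble
  refine ⟨z, b0, y0, y', k, n, hz1, hzp, hy01, hpow y0 hy0P, hy'1, hpow y' hy'P, hzb, hyz, hyb',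
    ?_, ?_⟩
  · -- commutes with `b0`
    have hynP : y' ^ n ∈ (P : Subgroup G) := pow_mem hy'P n
    have h1 := hzicen _ hynP
    rw [hbk]
    calc k * y' ^ n * k⁻¹ * (k * z ^ i * k⁻¹) = k * (y' ^ n * z ^ i) * k⁻¹ := by group
      _ = k * (z ^ i * y' ^ n) * k⁻¹ := by rw [h1]
      _ = k * z ^ i * k⁻¹ * (k * y' ^ n * k⁻¹) := by group
  · calc k * y' ^ n * k⁻¹ * z * (k * y' ^ n * k⁻¹)⁻¹
        = k * (y' ^ n * (k⁻¹ * z * k) * (y' ^ n)⁻¹) * k⁻¹ := by group
      _ = k * ((z ^ i)⁻¹ * z') * k⁻¹ := by rw [← hz', hshift]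
      _ = (k * z ^ i * k⁻¹)⁻¹ * (k * z' * k⁻¹) := by group
      _ = b0⁻¹ * z := by rw [← hbk, ← hzk]
      _ = z * b0⁻¹ := by
        have : Commute z b0 := hzb
        exact (this.inv_right.eq).symm

/-- No Sylow subgroup is non-abelian of order `p ^ 3` and exponent `p` (`p` odd) when, for every
prime, subgroups of equal prime-power order are conjugate. -/
theorem false_of_extraspecial
    (hD : ∀ q : ℕ, q.Prime → ∀ H K : Subgroup G, IsPGroup q H → IsPGroup q K →
      Nat.card H = Nat.card K → ∃ g : G, K = H.map (MulAut.conj g).toMonoidHom)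
    {p : ℕ} [Fact p.Prime] (P : Sylow p G) (hp2 : p ≠ 2)
    (hna : ¬ IsMulCommutative P) (hcard : Nat.card P = p ^ 3) (hexp : Monoid.exponent P = p) :
    False := by
  have hp : p.Prime := Fact.out
  obtain ⟨z, b, y, y', k, n, hz1, hzp, hy1, hyp, hy'1, hy'p, hzb, hyz, hyb, hy2b, hy2z⟩ :=
    exists_config hD P hna hcard hexp
  set y2 : G := k * y' ^ n * k⁻¹ with hy2
  set g : G := y * y2 * y with hg
  obtain ⟨hgz, hgb⟩ := word_conj hzb hyz hyb hy2b hy2z
  have hy2p : y2 ^ p = 1 := by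
    rw [hy2, conj_pow, ← pow_mul, mul_comm, pow_mul, hy'p, one_pow]; group
  -- `g ^ 2` inverts `z`
  have hσ : MulAut.conj (g ^ 2) z = z⁻¹ := by
    rw [pow_two, map_mul, MulAut.mul_apply, hgz, map_inv, hgb]
  have hzz : z ≠ z⁻¹ := by
    intro h
    have h2 : z ^ 2 = 1 := by rw [pow_two]; nth_rewrite 2 [h]; exact mul_inv_cancel z
    have hoz : orderOf z = p := orderOf_eq_prime hzp hz1
    have := orderOf_dvd_of_pow_eq_one h2
    rw [hoz] at this
    exact hp2 ((Nat.prime_dvd_prime_iff_eq hp Nat.prime_two).1 this)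
  -- the 2-part of `g`
  obtain ⟨a, m, hm, hord⟩ := Nat.exists_eq_two_pow_mul_odd (orderOf_pos g).ne'
  set t : G := g ^ m with ht
  have ht2a : t ^ 2 ^ a = 1 := by
    rw [ht, ← pow_mul, mul_comm, ← hord, pow_orderOf_eq_one]
  have htσ : MulAut.conj (t ^ 2) z = z⁻¹ := by
    have : t ^ 2 = (g ^ 2) ^ m := by rw [ht, ← pow_mul, ← pow_mul, mul_comm]
    rw [this, map_pow]
    exact odd_pow_inv _ hσ hm
  have ht21 : t ^ 2 ≠ 1 := by
    intro h
    rw [h, map_one, MulAut.one_apply] at htσ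
    exact hzz htσ
  have ht1 : t ≠ 1 := by
    rintro h
    exact ht21 (by rw [h, one_pow])
  have hot : ∃ j, orderOf t = 2 ^ j := by
    have := orderOf_dvd_of_pow_eq_one ht2a
    obtain ⟨j, -, hj⟩ := (Nat.dvd_prime_pow Nat.prime_two).1 this
    exact ⟨j, hj⟩
  obtain ⟨j, hj⟩ := hot
  have h2t : 2 ∣ orderOf t := by
    rw [hj]
    rcases j with _ | j
    · exfalso
      rw [pow_zero, orderOf_eq_one_iff] at hj
      exact ht1 hj
    · exact dvd_pow_self 2 (Nat.succ_ne_zero j)
  have : Fact (Nat.Prime 2) := ⟨Nat.prime_two⟩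
  have htP : IsPGroup 2 (zpowers t) := IsPGroup.of_card (n := j) (by rw [Nat.card_zpowers, hj])
  obtain ⟨S, hS⟩ := htP.exists_le_sylow
  have htS : t ∈ (S : Subgroup G) := hS (mem_zpowers t)
  have ht2S : t ^ 2 ∈ (S : Subgroup G) := pow_mem htS 2
  rcases Cfsg.Agent.S4023.result (p := 2) (hD 2 Nat.prime_two) S with
    hcyc | hel | ⟨-, ⟨e⟩⟩ | ⟨h22, -⟩
  · -- cyclic Sylow 2-subgroup: normal 2-complement
    have h2G : 2 ∣ Nat.card G := h2t.trans (orderOf_dvd_natCard t)
    have hmin : (Nat.card G).minFac = 2 := (Nat.minFac_eq_two_iff _).2 h2G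
    have hNC : normalizer ((S : Subgroup G) : Set G) ≤ centralizer ((S : Subgroup G) : Set G) :=
      IsCyclic.normalizer_le_centralizer hmin hcyc
    set φ := MonoidHom.transferSylow S hNC with hφ
    have hker : ∀ x : G, x ^ p = 1 → φ x = 1 := by
      intro x hx
      have h1 : (φ x) ^ p = 1 := by rw [← map_pow, hx, map_one]
      obtain ⟨r, hr⟩ := S.2 (φ x)
      have hd1 := orderOf_dvd_of_pow_eq_one h1
      have hd2 := orderOf_dvd_of_pow_eq_one hr
      have hcop : Nat.Coprime p (2 ^ r) :=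
        Nat.Coprime.pow_right r ((Nat.coprime_primes hp Nat.prime_two).2 hp2)
      have := Nat.eq_one_of_dvd_coprimes hcop hd1 hd2
      exact orderOf_eq_one_iff.1 this
    have hgk : φ g = 1 := by
      rw [hg, map_mul, map_mul, hker y hyp, hker y2 hy2p, one_mul, one_mul]
    have htk : t ∈ φ.ker := by
      rw [MonoidHom.mem_ker, ht, map_pow, hgk, one_pow]
    have hdvd : orderOf t ∣ Nat.card φ.ker := by
      have := orderOf_dvd_natCard (⟨t, htk⟩ : φ.ker)
      rwa [Subgroup.orderOf_mk] at this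
    exact MonoidHom.not_dvd_card_ker_transferSylow S hNC (h2t.trans hdvd)
  · -- elementary abelian Sylow 2-subgroup
    exact ht21 (hel.2 t htS)
  · -- quaternion Sylow 2-subgroup
    have hq4 : ∀ q : QuaternionGroup 2, q ^ 4 = 1 := by decide
    have hqi : ∀ q : QuaternionGroup 2, q ^ 2 = 1 → q ≠ 1 → q = QuaternionGroup.a 2 := by decide
    have hS4 : ∀ x ∈ (S : Subgroup G), x ^ 4 = 1 := by
      intro x hx
      have h1 := hq4 (e ⟨x, hx⟩)
      rw [← map_pow, map_eq_one_iff e e.injective] at h1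
      have := congrArg Subtype.val h1
      simpa using this
    have hinv : ∀ x ∈ (S : Subgroup G), x ^ 2 = 1 → x ≠ 1 → x = t ^ 2 := by
      have key : ∀ x (hx : x ∈ (S : Subgroup G)), x ^ 2 = 1 → x ≠ 1 →
          e ⟨x, hx⟩ = QuaternionGroup.a 2 := by
        intro x hx hx2 hx1
        apply hqi
        · rw [← map_pow]
          have : (⟨x, hx⟩ : (S : Subgroup G)) ^ 2 = 1 := Subtype.ext (by simpa using hx2)
          rw [this, map_one]
        · intro h
          rw [map_eq_one_iff e e.injective] at h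
          exact hx1 (by simpa using congrArg Subtype.val h)
      intro x hx hx2 hx1
      have hu2 : (t ^ 2) ^ 2 = 1 := by rw [← pow_mul]; exact hS4 t htS
      have h1 := key x hx hx2 hx1
      have h2 := key (t ^ 2) ht2S hu2 ht21
      have := e.injective (h1.trans h2.symm)
      exact congrArg Subtype.val this
    have hu2 : (t ^ 2) ^ 2 = 1 := by rw [← pow_mul]; exact hS4 t htS
    have hou : orderOf (t ^ 2) = 2 := orderOf_eq_prime hu2 ht21
    have hiso : ∀ g' : G, g' * t ^ 2 * g'⁻¹ ∈ S → g' * t ^ 2 * g'⁻¹ = t ^ 2 := by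
      intro g' hg'
      apply hinv _ hg'
      · rw [conj_pow, hu2]; group
      · intro h
        apply ht21
        have : t ^ 2 = g'⁻¹ * (g' * t ^ 2 * g'⁻¹) * g' := by group
        rw [this, h]; group
    obtain ⟨N, hN, hodd, hcomm⟩ := Cfsg.Agent.S0215.result S (t ^ 2) hou ht2S hiso
    -- `z ∈ N`
    have hz2 : z ^ 2 ∈ N := by
      have h1 := hcomm z
      have h2 : t ^ 2 * z * (t ^ 2)⁻¹ = z⁻¹ := by rw [← MulAut.conj_apply]; exact htσ
      rw [h2] at h1
      have : z ^ 2 = (z⁻¹ * z⁻¹)⁻¹ := by rw [mul_inv_rev, inv_inv, pow_two]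
      rw [this]
      exact N.inv_mem h1
    have hzN : z ∈ N := by
      obtain ⟨r, hr⟩ := hp.odd_of_ne_two hp2
      have : z = (z ^ 2) ^ (r + 1) := by
        rw [← pow_mul, show 2 * (r + 1) = p + 1 by omega, pow_succ, hzp, one_mul]
      rw [this]
      exact N.pow_mem hz2 _
    have hyN : y ∈ N := mem_normal_of_conj hD hz1 hzp hy1 hyp N hzN
    have hy'N : y' ∈ N := mem_normal_of_conj hD hz1 hzp hy'1 hy'p N hzN
    have hy2N : y2 ∈ N := hN.conj_mem _ (N.pow_mem hy'N n) k
    have hgN : g ∈ N := N.mul_mem (N.mul_mem hyN hy2N) hyN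
    have huN : t ^ 2 ∈ N := N.pow_mem (N.pow_mem hgN m) 2
    have hdvd : orderOf (t ^ 2) ∣ Nat.card N := by
      have := orderOf_dvd_natCard (⟨t ^ 2, huN⟩ : N)
      rwa [Subgroup.orderOf_mk] at this
    rw [hou] at hdvd
    exact (Nat.not_even_iff_odd.2 hodd) (even_iff_two_dvd.2 hdvd)
  · exact h22 rfl

end Main

end Cfsg.Agent.Lib.Helper20.EqOrd
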