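import Cfsg.Agent.Lib.Helper20.Isolated
import Cfsg.Agent.Lib.Helper20.QuatProd

/-!
Involutions whose centralizer contains at most three involutions (helper20's library for S3279).
-/

set_option autoImplicit false

namespace Cfsg.Agent.Lib.Helper20.FewInv

open Cfsg.Agent.Lib.Helper33 Cfsg.Agent.Lib.Helper20

variable {G : Type*} [Group G]

theorem sq_of_orderOf_two {u : G} (hu : orderOf u = 2) : u * u = 1 := by
  have := pow_orderOf_eq_one u
  rwa [hu, pow_two] at this

theorem ne_one_of_orderOf_two {u : G} (hu : orderOf u = 2) : u ≠ 1 := by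
  intro h
  rw [h, orderOf_one] at hu
  omega

theorem orderOf_two_of_sq {u : G} (h2 : u * u = 1) (h1 : u ≠ 1) : orderOf u = 2 :=
  orderOf_eq_prime (by rw [pow_two]; exact h2) h1

theorem orderOf_conj_two {u : G} (hu : orderOf u = 2) (g : G) : orderOf (g * u * g⁻¹) = 2 := by
  have := (MulAut.conj g).orderOf_eq u
  rw [MulAut.conj_apply] at this
  rw [this, hu]

/-- Involutions with a product of odd order are conjugate. -/
theorem isConj_of_odd_mul {s t : G} (hs : s * s = 1) (ht : t * t = 1)
    (hodd : Odd (orderOf (s * t))) : IsConj s t := by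
  obtain ⟨k, hk⟩ := hodd
  rw [isConj_iff]
  refine ⟨((s * t) ^ (k + 1))⁻¹, ?_⟩
  rw [dih_conj_even hs ht]
  have h1 : (s * t) ^ (k + 1 + (k + 1)) = s * t := by
    have : k + 1 + (k + 1) = (2 * k + 1) + 1 := by ring
    rw [this, pow_succ, ← hk, pow_orderOf_eq_one, one_mul]
  rw [h1, ← mul_assoc, hs, one_mul]

/-- The central involution of a dihedral group generated by two involutions with a product of even
order. -/
theorem exists_central_involution [Finite G] {s t : G} (hs : s * s = 1) (ht : t * t = 1)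
    (heven : Even (orderOf (s * t))) :
    ∃ c : G, orderOf c = 2 ∧ c * s = s * c ∧ c * t = t * c := by
  obtain ⟨k, hk⟩ := heven
  have hpos : 0 < orderOf (s * t) := orderOf_pos _
  have hk0 : 0 < k := by omega
  have hklt : k < orderOf (s * t) := by omega
  have hsi : s⁻¹ = s := inv_eq_of_mul_eq_one_right hs
  have hti : t⁻¹ = t := inv_eq_of_mul_eq_one_right ht
  set c := (s * t) ^ k with hc
  have hc1 : c ≠ 1 := pow_ne_one_of_lt_orderOf hk0.ne' hklt
  have hcc : c * c = 1 := by rw [hc, ← pow_add, ← hk, pow_orderOf_eq_one]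
  have hci : c⁻¹ = c := inv_eq_of_mul_eq_one_right hcc
  have hc' : c = (t * s) ^ k := by
    rw [← hci, hc, ← inv_pow, mul_inv_rev, hsi, hti]
  refine ⟨c, orderOf_two_of_sq hcc hc1, ?_, ?_⟩
  · have := dih_mul_pow hs ht k
    rw [← hc, hci] at this
    exact this.symm
  · have := dih_mul_pow ht hs k
    rw [← hc', hci] at this
    exact this.symm

section finite

variable [Finite G]

/-- If every involution of `C(x)` is conjugate to `x`, then `x` is `2`-central and `G` has one class of
involutions. -/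
theorem central_of_all_conj (x : G) (hx : orderOf x = 2)
    (hA : ∀ u : G, orderOf u = 2 → x * u = u * x → IsConj x u) :
    (∃ S : Sylow 2 G, (S : Subgroup G) ≤ Subgroup.centralizer ({x} : Set G)) ∧
      ∀ u v : G, orderOf u = 2 → orderOf v = 2 → IsConj u v := by
  have hfact : Fact (Nat.Prime 2) := ⟨Nat.prime_two⟩
  have h2grp : ∀ u : G, orderOf u = 2 → IsPGroup 2 (Subgroup.zpowers u) := by
    intro u hu
    apply IsPGroup.of_card (n := 1)
    rw [Nat.card_zpowers, hu, pow_one]
  obtain ⟨S, hS⟩ := (h2grp x hx).exists_le_sylow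
  have hxS : x ∈ S := hS (Subgroup.mem_zpowers x)
  -- an involution in the centre of S
  have hnt : Nontrivial ↥(S : Subgroup G) :=
    ⟨⟨⟨x, hxS⟩, 1, fun h => ne_one_of_orderOf_two hx (congrArg Subtype.val h)⟩⟩
  have hcnt : Nontrivial (Subgroup.center ↥(S : Subgroup G)) := S.isPGroup'.center_nontrivial
  have hcp : IsPGroup 2 (Subgroup.center ↥(S : Subgroup G)) := S.isPGroup'.to_subgroup _
  have hdvd : 2 ∣ Nat.card (Subgroup.center ↥(S : Subgroup G)) := by
    rcases hcp.card_eq_or_dvd with h | h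
    · have := Finite.one_lt_card (α := Subgroup.center ↥(S : Subgroup G))
      omega
    · exact h
  obtain ⟨z, hz⟩ := exists_prime_orderOf_dvd_card' 2 hdvd
  set zG : G := ((z : ↥(S : Subgroup G)) : G) with hzG
  have hzG2 : orderOf zG = 2 := by
    rw [hzG, Subgroup.orderOf_coe, Subgroup.orderOf_coe, hz]
  have hzGc : ∀ s ∈ (S : Subgroup G), zG * s = s * zG := by
    intro s hs
    have := Subgroup.mem_center_iff.mp z.2 ⟨s, hs⟩
    exact (congrArg Subtype.val this).symm
  obtain ⟨g, hg⟩ := isConj_iff.mp (hA zG hzG2 (hzGc x hxS).symm)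
  have h1 : SylIn 2 (cj g⁻¹ (S : Subgroup G)) ⊤ := by
    have := (sylIn_top S).cj g⁻¹
    rwa [cj_top] at this
  have hS'C : (h1.toSylowTop : Subgroup G) ≤ Subgroup.centralizer ({x} : Set G) := by
    intro y hy
    rw [SylIn.coe_toSylowTop, mem_cj, inv_inv] at hy
    rw [Subgroup.mem_centralizer_iff]
    intro h hh
    rw [Set.mem_singleton_iff.mp hh]
    have := hzGc _ hy
    rw [← hg] at this
    calc x * y = g⁻¹ * (g * x * g⁻¹ * (g * y * g⁻¹)) * g := by group
      _ = g⁻¹ * (g * y * g⁻¹ * (g * x * g⁻¹)) * g := by rw [this]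
      _ = y * x := by group
  refine ⟨⟨h1.toSylowTop, hS'C⟩, ?_⟩
  have key : ∀ u : G, orderOf u = 2 → IsConj x u := by
    intro u hu
    obtain ⟨P, hP⟩ := (h2grp u hu).exists_le_sylow
    have huP : u ∈ P := hP (Subgroup.mem_zpowers u)
    obtain ⟨h, -, hh⟩ := (sylIn_top h1.toSylowTop).exists_cj_eq (sylIn_top P)
    have h2 : h * u * h⁻¹ ∈ (h1.toSylowTop : Subgroup G) := by
      rw [← hh]; exact conj_mem_cj huP
    have h3 := hS'C h2
    rw [Subgroup.mem_centralizer_iff] at h3
    have h4 := hA _ (orderOf_conj_two hu h) (h3 x rfl)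
    exact h4.trans (isConj_iff.mpr ⟨h, rfl⟩).symm
  intro u v hu hv
  exact (key u hu).symm.trans (key v hv)

/-- Exactly one of `a`, `x * a` conjugate to `x`: impossible in a simple group. -/
theorem caseB [IsSimpleGroup G] (x a : G) (hx : orderOf x = 2) (ha : orderOf a = 2)
    (hxa : x * a = a * x)
    (hI : ∀ u : G, orderOf u = 2 → x * u = u * x → u = x ∨ u = a ∨ u = x * a)
    (hna : ¬ IsConj x a) (hb : IsConj x (x * a)) : False := by
  have hx2 := sq_of_orderOf_two hx
  have ha2 := sq_of_orderOf_two ha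
  -- conjugated form of `hI`
  have hIg : ∀ g u : G, orderOf u = 2 → (g * x * g⁻¹) * u = u * (g * x * g⁻¹) →
      u = g * x * g⁻¹ ∨ u = g * a * g⁻¹ ∨ u = g * (x * a) * g⁻¹ := by
    intro g u hu hc
    have h1 : orderOf (g⁻¹ * u * g) = 2 := by
      have := orderOf_conj_two hu g⁻¹
      rwa [inv_inv] at this
    have h2 : x * (g⁻¹ * u * g) = (g⁻¹ * u * g) * x := by
      calc x * (g⁻¹ * u * g) = g⁻¹ * ((g * x * g⁻¹) * u) * g := by group
        _ = g⁻¹ * (u * (g * x * g⁻¹)) * g := by rw [hc]
        _ = (g⁻¹ * u * g) * x := by group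
    rcases hI _ h1 h2 with h | h | h
    · left; rw [← h]; group
    · right; left; rw [← h]; group
    · right; right; rw [← h]; group
  obtain ⟨k₀, hk₀⟩ := isConj_iff.mp hb
  have hnonX : ∀ g u : G, orderOf u = 2 → (g * x * g⁻¹) * u = u * (g * x * g⁻¹) →
      ¬ IsConj x u → u = g * a * g⁻¹ := by
    intro g u hu hc hn
    rcases hIg g u hu hc with h | h | h
    · exact absurd (isConj_iff.mpr ⟨g, h.symm⟩) hn
    · exact h
    · exfalso
      apply hn
      rw [h, ← hk₀]
      exact isConj_iff.mpr ⟨g * k₀, by group⟩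
  have hnag : ∀ g : G, ¬ IsConj x (g * a * g⁻¹) := by
    intro g h
    exact hna (h.trans (isConj_iff.mpr ⟨g, rfl⟩).symm)
  -- all conjugates of `a` commute with `a`
  have claim : ∀ g : G, (g * a * g⁻¹) * a = a * (g * a * g⁻¹) := by
    intro g
    set d := g * x * g⁻¹ with hd
    have hd2 : d * d = 1 := conj_mul_self hx2 g
    have hdo : orderOf d = 2 := orderOf_conj_two hx g
    have hnda : ¬ IsConj d a := by
      intro h
      exact hna ((isConj_iff.mpr ⟨g, rfl⟩).trans h)
    have heven : Even (orderOf (d * a)) := by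
      rcases Nat.even_or_odd (orderOf (d * a)) with h | h
      · exact h
      · exact absurd (isConj_of_odd_mul hd2 ha2 h) hnda
    obtain ⟨c, hc2, hcd, hca⟩ := exists_central_involution hd2 ha2 heven
    rcases hIg g c hc2 hcd.symm with h | h | h
    · -- c = d: d commutes with a
      have h1 : d * a = a * d := by rw [hd, ← h]; exact hca
      have h2 := hnonX g a ha h1 hna
      rw [← h2]
    · rw [← h]; exact hca
    · -- c = g (x a) g⁻¹ = (g k₀) x (g k₀)⁻¹
      have he : c = (g * k₀) * x * (g * k₀)⁻¹ := by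
        rw [h, ← hk₀]; group
      have h1 : ((g * k₀) * x * (g * k₀)⁻¹) * a = a * ((g * k₀) * x * (g * k₀)⁻¹) := by
        rw [← he]; exact hca
      have h2 := hnonX (g * k₀) a ha h1 hna
      have h3 : ((g * k₀) * x * (g * k₀)⁻¹) * (g * a * g⁻¹) =
          (g * a * g⁻¹) * ((g * k₀) * x * (g * k₀)⁻¹) := by
        rw [← he, h]
        calc g * (x * a) * g⁻¹ * (g * a * g⁻¹) = g * ((x * a) * a) * g⁻¹ := by group
          _ = g * ((a * x) * a) * g⁻¹ := by rw [hxa]
          _ = g * a * g⁻¹ * (g * (x * a) * g⁻¹) := by group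
      have h4 := hnonX (g * k₀) (g * a * g⁻¹) (orderOf_conj_two ha g) h3 (hnag g)
      rw [h4, ← h2]
  have claim2 : ∀ g h : G, (g * a * g⁻¹) * (h * a * h⁻¹) = (h * a * h⁻¹) * (g * a * g⁻¹) := by
    intro g h
    have := claim (h⁻¹ * g)
    calc (g * a * g⁻¹) * (h * a * h⁻¹) = h * ((h⁻¹ * g) * a * (h⁻¹ * g)⁻¹ * a) * h⁻¹ := by group
      _ = h * (a * ((h⁻¹ * g) * a * (h⁻¹ * g)⁻¹)) * h⁻¹ := by rw [this]
      _ = (h * a * h⁻¹) * (g * a * g⁻¹) := by group
  -- the normal closure of `a` is commutative, hence so is `G`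
  have hcomm : ∀ y ∈ Group.conjugatesOfSet ({a} : Set G), ∀ z ∈ Group.conjugatesOfSet ({a} : Set G),
      y * z = z * y := by
    intro y hy z hz
    rw [Group.mem_conjugatesOfSet_iff] at hy hz
    obtain ⟨_, rfl, hy⟩ := hy
    obtain ⟨_, rfl, hz⟩ := hz
    obtain ⟨g, rfl⟩ := isConj_iff.mp hy
    obtain ⟨h, rfl⟩ := isConj_iff.mp hz
    exact claim2 g h
  have hmc : IsMulCommutative (Subgroup.closure (Group.conjugatesOfSet ({a} : Set G))) :=
    Subgroup.isMulCommutative_closure hcomm
  have htop : Subgroup.normalClosure ({a} : Set G) = ⊤ := by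
    rcases (Subgroup.normalClosure_normal (s := ({a} : Set G))).eq_bot_or_eq_top with h | h
    · exfalso
      have : a ∈ Subgroup.normalClosure ({a} : Set G) :=
        Subgroup.subset_normalClosure (Set.mem_singleton a)
      rw [h, Subgroup.mem_bot] at this
      exact ne_one_of_orderOf_two ha this
    · exact h
  have hall : ∀ y z : G, y * z = z * y := by
    intro y z
    have hy : y ∈ Subgroup.closure (Group.conjugatesOfSet ({a} : Set G)) := by
      show y ∈ Subgroup.normalClosure ({a} : Set G)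
      rw [htop]; trivial
    have hz : z ∈ Subgroup.closure (Group.conjugatesOfSet ({a} : Set G)) := by
      show z ∈ Subgroup.normalClosure ({a} : Set G)
      rw [htop]; trivial
    exact setLike_mul_comm hy hz
  have : x * a = x := by
    rw [← hk₀, hall k₀ x, mul_inv_cancel_right]
  have : a = 1 := by
    have h := mul_left_cancel (a := x) (b := a) (c := 1) (by rw [this, mul_one])
    exact h
  exact ne_one_of_orderOf_two ha this

/-- Neither `a` nor `x * a` conjugate to `x`: `x` is isolated, contradicting the `Z*`-theorem. -/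
theorem caseC [IsSimpleGroup G] (x a : G) (hx : orderOf x = 2) (ha : orderOf a = 2)
    (hax : a ≠ x)
    (hI : ∀ u : G, orderOf u = 2 → x * u = u * x → u = x ∨ u = a ∨ u = x * a)
    (hna : ¬ IsConj x a) (hnb : ¬ IsConj x (x * a))
    (hZ : ∀ (P : Sylow 2 G) (u : G), orderOf u = 2 → u ∈ P →
      (∀ g : G, g * u * g⁻¹ ∈ P → g * u * g⁻¹ = u) →
      ∃ N : Subgroup G, N.Normal ∧ Odd (Nat.card N) ∧ ∀ g : G, (u * g * u⁻¹ * g⁻¹) ∈ N) : False := by
  have hfact : Fact (Nat.Prime 2) := ⟨Nat.prime_two⟩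
  have hiso : Cfsg.IsIsolatedInvolution x := by
    refine ⟨hx, fun g hc => ?_⟩
    rcases hI _ (orderOf_conj_two hx g) hc.eq with h | h | h
    · exact h
    · exact absurd (isConj_iff.mpr ⟨g, h⟩) hna
    · exact absurd (isConj_iff.mpr ⟨g, h⟩) hnb
  have h2grp : IsPGroup 2 (Subgroup.zpowers x) := by
    apply IsPGroup.of_card (n := 1)
    rw [Nat.card_zpowers, hx, pow_one]
  obtain ⟨P, hP⟩ := h2grp.exists_le_sylow
  have hxP : x ∈ P := hP (Subgroup.mem_zpowers x)
  have hisoP : ∀ g : G, g * x * g⁻¹ ∈ P → g * x * g⁻¹ = x := by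
    intro g hg
    have hodd := iso_odd_order_mul hiso g
    have hmem : x * (g * x * g⁻¹) ∈ (P : Subgroup G) := mul_mem hxP hg
    obtain ⟨k, hk⟩ := P.isPGroup' ⟨_, hmem⟩
    have hk' : (x * (g * x * g⁻¹)) ^ (2 ^ k) = 1 := by
      have := congrArg Subtype.val hk
      simpa using this
    have hdvd : orderOf (x * (g * x * g⁻¹)) ∣ 2 ^ k := orderOf_dvd_of_pow_eq_one hk'
    have hcop : Nat.Coprime (orderOf (x * (g * x * g⁻¹))) (2 ^ k) :=
      (Nat.coprime_two_right.mpr hodd).pow_right k
    have h1 : orderOf (x * (g * x * g⁻¹)) = 1 := Nat.Coprime.eq_one_of_dvd hcop hdvd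
    rw [orderOf_eq_one_iff] at h1
    have h2 : g * x * g⁻¹ = x⁻¹ := eq_inv_of_mul_eq_one_right h1
    rw [h2, iso_inv hiso]
  have hN := hZ P x hx hxP hisoP
  have hcard : 2 < Nat.card ↥(⊤ : Subgroup G) := by
    rw [Subgroup.card_top]
    haveI : Fintype G := Fintype.ofFinite G
    rw [Nat.card_eq_fintype_card, Fintype.two_lt_card_iff]
    exact ⟨1, x, a, (ne_one_of_orderOf_two hx).symm, (ne_one_of_orderOf_two ha).symm, hax.symm⟩
  exact QuatProd.not_simple_of_zstar x hx ⊤ hcard hN inferInstance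

/-- S3279, conditional on the `Z*`-theorem for `G`. -/
theorem few_involutions [IsSimpleGroup G] (x : G) (hx : orderOf x = 2)
    (h3 : Nat.card {u : ↥(Subgroup.centralizer ({x} : Set G)) // orderOf u = 2} ≤ 3)
    (hZ : ∀ (P : Sylow 2 G) (u : G), orderOf u = 2 → u ∈ P →
      (∀ g : G, g * u * g⁻¹ ∈ P → g * u * g⁻¹ = u) →
      ∃ N : Subgroup G, N.Normal ∧ Odd (Nat.card N) ∧ ∀ g : G, (u * g * u⁻¹ * g⁻¹) ∈ N) :
    (∃ S : Sylow 2 G, (S : Subgroup G) ≤ Subgroup.centralizer ({x} : Set G)) ∧
      ∀ u v : G, orderOf u = 2 → orderOf v = 2 → IsConj u v := by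
  by_cases hA : ∀ u : G, orderOf u = 2 → x * u = u * x → IsConj x u
  · exact central_of_all_conj x hx hA
  exfalso
  push Not at hA
  obtain ⟨a, ha, hxa, hna⟩ := hA
  have hx2 := sq_of_orderOf_two hx
  have ha2 := sq_of_orderOf_two ha
  have hx1 := ne_one_of_orderOf_two hx
  have ha1 := ne_one_of_orderOf_two ha
  have hax : a ≠ x := fun h => hna (h ▸ IsConj.refl x)
  obtain ⟨b, hb⟩ : ∃ b : G, b = x * a := ⟨_, rfl⟩
  have hb2 : b * b = 1 := by
    calc b * b = x * (a * x) * a := by rw [hb]; group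
      _ = x * (x * a) * a := by rw [hxa]
      _ = (x * x) * (a * a) := by group
      _ = 1 := by rw [hx2, ha2, one_mul]
  have hb1 : b ≠ 1 := by
    intro h
    apply hax
    have : a = x⁻¹ := eq_inv_of_mul_eq_one_right (hb ▸ h)
    rw [this, inv_eq_of_mul_eq_one_right hx2]
  have hbo : orderOf b = 2 := orderOf_two_of_sq hb2 hb1
  have hbx : b ≠ x := by
    intro h
    apply ha1
    have : x * a = x * 1 := by rw [mul_one, ← hb]; exact h
    exact mul_left_cancel this
  have hba : b ≠ a := by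
    intro h
    apply hx1
    have : x * a = 1 * a := by rw [one_mul, ← hb]; exact h
    exact mul_right_cancel this
  have hxb : x * b = b * x := by
    rw [hb, ← mul_assoc, hx2, one_mul, mul_assoc, ← hxa, ← mul_assoc, hx2, one_mul]
  -- the involutions commuting with `x` are `x`, `a`, `b`
  have hI : ∀ u : G, orderOf u = 2 → x * u = u * x → u = x ∨ u = a ∨ u = b := by
    intro u hu hxu
    by_contra hcon
    rw [not_or, not_or] at hcon
    obtain ⟨hux, hua, hub⟩ := hcon
    have hmemC : ∀ v : G, x * v = v * x → v ∈ Subgroup.centralizer ({x} : Set G) := by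
      intro v hv
      rw [Subgroup.mem_centralizer_iff]
      rintro _ rfl
      exact hv
    let mk : ∀ v : G, orderOf v = 2 → x * v = v * x →
        {u : ↥(Subgroup.centralizer ({x} : Set G)) // orderOf u = 2} := fun v hv hc =>
      ⟨⟨v, hmemC v hc⟩, by rw [← hv]; exact Subgroup.orderOf_mk v (hmemC v hc)⟩
    let f : Fin 4 → {u : ↥(Subgroup.centralizer ({x} : Set G)) // orderOf u = 2} :=
      ![mk x hx rfl, mk a ha hxa, mk b hbo hxb, mk u hu hxu]
    have hval : ∀ i, ((f i : ↥(Subgroup.centralizer ({x} : Set G))) : G) = ![x, a, b, u] i := by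
      intro i
      fin_cases i <;> rfl
    have hf : Function.Injective f := by
      intro i j hij
      have h1 : ![x, a, b, u] i = ![x, a, b, u] j := by
        rw [← hval i, ← hval j, hij]
      fin_cases i <;> fin_cases j <;> first | rfl | (exfalso; simp at h1; first | exact hax h1 | exact hax h1.symm | exact hbx h1 | exact hbx h1.symm | exact hba h1 | exact hba h1.symm | exact hux h1 | exact hux h1.symm | exact hua h1 | exact hua h1.symm | exact hub h1 | exact hub h1.symm)
    have := Nat.card_le_card_of_injective f hf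
    rw [Nat.card_fin] at this
    omega
  subst hb
  by_cases hbc : IsConj x (x * a)
  · exact caseB x a hx ha hxa hI hna hbc
  · exact caseC x a hx ha hax hI hna hbc hZ

end finite

end Cfsg.Agent.Lib.Helper20.FewInv
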