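import Mathlib

/-!
Counting solutions of `x ^ n = 1` in direct products, powers, kernels of sign homomorphisms,
fibre products over a sign and products with the product sign.  Used for S4376.
-/

namespace Cfsg.Agent.Lib.Helper20.OT

/-- number of solutions of `x ^ n = 1` -/
noncomputable def tot (X : Type*) [Monoid X] (n : ℕ) : ℕ := Nat.card {x : X // x ^ n = 1}

/-- number of solutions of `x ^ n = 1` of sign `e` -/
noncomputable def cnt {X : Type*} [Group X] (σ : X →* ℤˣ) (e : ℤˣ) (n : ℕ) : ℕ :=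
  Nat.card {x : X // x ^ n = 1 ∧ σ x = e}

theorem tot_prod (X Y : Type*) [Monoid X] [Monoid Y] (n : ℕ) :
    tot (X × Y) n = tot X n * tot Y n := by
  unfold tot
  rw [← Nat.card_prod]
  apply Nat.card_congr
  exact
    { toFun := fun p =>
        (⟨p.1.1, by have := congrArg Prod.fst p.2; simpa using this⟩,
         ⟨p.1.2, by have := congrArg Prod.snd p.2; simpa using this⟩)
      invFun := fun q => ⟨(q.1.1, q.2.1), by
        apply Prod.ext
        · simpa using q.1.2
        · simpa using q.2.2⟩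
      left_inv := fun p => by ext <;> rfl
      right_inv := fun q => by ext <;> rfl }

theorem tot_pi (k : ℕ) (X : Type*) [Monoid X] (n : ℕ) :
    tot (Fin k → X) n = tot X n ^ k := by
  unfold tot
  have h : Nat.card (Fin k → {x : X // x ^ n = 1}) = Nat.card {x : X // x ^ n = 1} ^ k := by
    rw [Nat.card_fun]; simp
  rw [← h]
  apply Nat.card_congr
  exact
    { toFun := fun f i => ⟨f.1 i, by have := congrFun f.2 i; simpa using this⟩
      invFun := fun g => ⟨fun i => (g i).1, by
        funext i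
        simpa using (g i).2⟩
      left_inv := fun f => by ext; rfl
      right_inv := fun g => by funext i; rfl }

theorem tot_eq_cnt {X : Type*} [Group X] [Finite X] (σ : X →* ℤˣ) (n : ℕ) :
    tot X n = cnt σ 1 n + cnt σ (-1) n := by
  classical
  unfold tot cnt
  rw [← Nat.card_sum]
  apply Nat.card_congr
  exact
    { toFun := fun x =>
        if h : σ x.1 = 1 then Sum.inl ⟨x.1, x.2, h⟩
        else Sum.inr ⟨x.1, x.2, (Int.units_eq_one_or (σ x.1)).resolve_left h⟩
      invFun := fun s => Sum.elim (fun y => ⟨y.1, y.2.1⟩) (fun y => ⟨y.1, y.2.1⟩) s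
      left_inv := by
        intro x
        by_cases h : σ x.1 = 1 <;> simp [h]
      right_inv := by
        rintro (y | y)
        · simp [y.2.2]
        · have h : σ y.1 ≠ 1 := by rw [y.2.2]; decide
          simp [h] }

section fib
variable {X Y : Type*} [Group X] [Group Y]

/-- fibre product over the sign -/
def Fib (σ : X →* ℤˣ) (τ : Y →* ℤˣ) : Subgroup (X × Y) :=
  (σ.comp (MonoidHom.fst X Y)).eqLocus (τ.comp (MonoidHom.snd X Y))

/-- the common sign on the fibre product -/
def fibSign (σ : X →* ℤˣ) (τ : Y →* ℤˣ) : ↥(Fib σ τ) →* ℤˣ :=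
  (σ.comp (MonoidHom.fst X Y)).comp (Fib σ τ).subtype

/-- the product sign on the direct product -/
def pmSign (σ : X →* ℤˣ) (τ : Y →* ℤˣ) : X × Y →* ℤˣ :=
  (σ.comp (MonoidHom.fst X Y)) * (τ.comp (MonoidHom.snd X Y))

theorem mem_Fib (σ : X →* ℤˣ) (τ : Y →* ℤˣ) (p : X × Y) : p ∈ Fib σ τ ↔ σ p.1 = τ p.2 :=
  Iff.rfl

theorem fibSign_apply (σ : X →* ℤˣ) (τ : Y →* ℤˣ) (z : ↥(Fib σ τ)) :
    fibSign σ τ z = σ z.1.1 := rfl

theorem pmSign_apply (σ : X →* ℤˣ) (τ : Y →* ℤˣ) (p : X × Y) :
    pmSign σ τ p = σ p.1 * τ p.2 := rfl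

theorem cnt_fib (σ : X →* ℤˣ) (τ : Y →* ℤˣ) (e : ℤˣ) (n : ℕ) :
    cnt (fibSign σ τ) e n = cnt σ e n * cnt τ e n := by
  unfold cnt
  rw [← Nat.card_prod]
  apply Nat.card_congr
  exact
    { toFun := fun z =>
        (⟨z.1.1.1, by
            have h1 : ((z.1 ^ n : ↥(Fib σ τ)) : X × Y) = 1 := by rw [z.2.1]; rfl
            have := congrArg Prod.fst h1
            simpa using this, z.2.2⟩,
         ⟨z.1.1.2, by
            have h1 : ((z.1 ^ n : ↥(Fib σ τ)) : X × Y) = 1 := by rw [z.2.1]; rfl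
            have := congrArg Prod.snd h1
            simpa using this, by
            have hm := (mem_Fib σ τ z.1.1).1 z.1.2
            rw [← hm]; exact z.2.2⟩)
      invFun := fun q =>
        ⟨⟨(q.1.1, q.2.1), (mem_Fib σ τ _).2 (by rw [q.1.2.2, q.2.2.2])⟩, by
          constructor
          · apply Subtype.ext
            apply Prod.ext
            · simpa using q.1.2.1
            · simpa using q.2.2.1
          · exact q.1.2.2⟩
      left_inv := fun z => by ext <;> rfl
      right_inv := fun q => by ext <;> rfl }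

theorem neg_one_mul_eq_iff (a e : ℤˣ) : (-1 : ℤˣ) * a = e ↔ a = -e := by
  rcases Int.units_eq_one_or a with rfl | rfl <;> rcases Int.units_eq_one_or e with rfl | rfl <;>
    decide

theorem cnt_pm [Finite X] [Finite Y] (σ : X →* ℤˣ) (τ : Y →* ℤˣ) (e : ℤˣ) (n : ℕ) :
    cnt (pmSign σ τ) e n = cnt σ 1 n * cnt τ e n + cnt σ (-1) n * cnt τ (-e) n := by
  classical
  unfold cnt
  rw [← Nat.card_prod, ← Nat.card_prod, ← Nat.card_sum]
  apply Nat.card_congr
  have hp : ∀ p : X × Y, p ^ n = 1 → p.1 ^ n = 1 ∧ p.2 ^ n = 1 := by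
    intro p h
    exact ⟨by simpa using congrArg Prod.fst h, by simpa using congrArg Prod.snd h⟩
  exact
    { toFun := fun p =>
        if h : σ p.1.1 = 1 then
          Sum.inl (⟨p.1.1, (hp _ p.2.1).1, h⟩, ⟨p.1.2, (hp _ p.2.1).2, by
            have := p.2.2
            rw [pmSign_apply, h, one_mul] at this
            exact this⟩)
        else
          Sum.inr (⟨p.1.1, (hp _ p.2.1).1, (Int.units_eq_one_or _).resolve_left h⟩,
            ⟨p.1.2, (hp _ p.2.1).2, by
              have := p.2.2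
              rw [pmSign_apply, (Int.units_eq_one_or _).resolve_left h] at this
              exact (neg_one_mul_eq_iff _ _).1 this⟩)
      invFun := fun s =>
        Sum.elim
          (fun q => ⟨(q.1.1, q.2.1), by
            refine ⟨Prod.ext (by simpa using q.1.2.1) (by simpa using q.2.2.1), ?_⟩
            rw [pmSign_apply]
            simp only [q.1.2.2, q.2.2.2, one_mul]⟩)
          (fun q => ⟨(q.1.1, q.2.1), by
            refine ⟨Prod.ext (by simpa using q.1.2.1) (by simpa using q.2.2.1), ?_⟩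
            rw [pmSign_apply]
            simp only [q.1.2.2, q.2.2.2]
            exact (neg_one_mul_eq_iff _ _).2 rfl⟩) s
      left_inv := by
        intro p
        by_cases h : σ p.1.1 = 1 <;> simp [h]
      right_inv := by
        rintro (q | q)
        · simp [q.1.2.2]
        · have h : σ q.1.1 ≠ 1 := by rw [q.1.2.2]; decide
          simp [h] }

theorem tot_ker (σ : X →* ℤˣ) (n : ℕ) : tot ↥σ.ker n = cnt σ 1 n := by
  unfold tot cnt
  apply Nat.card_congr
  exact
    { toFun := fun k => ⟨k.1.1, by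
          have h1 : ((k.1 ^ n : ↥σ.ker) : X) = 1 := by rw [k.2]; rfl
          simpa using h1, (MonoidHom.mem_ker).1 k.1.2⟩
      invFun := fun x => ⟨⟨x.1, (MonoidHom.mem_ker).2 x.2.2⟩, by
          apply Subtype.ext
          simpa using x.2.1⟩
      left_inv := fun k => by ext; rfl
      right_inv := fun x => by ext; rfl }

end fib

theorem pow_eq_one_iff_gcd {X : Type*} [Monoid X] (e : ℕ) (x : X) (h : x ^ e = 1) (n : ℕ) :
    x ^ n = 1 ↔ x ^ (Nat.gcd n e) = 1 := by
  constructor
  · intro hn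
    rw [← orderOf_dvd_iff_pow_eq_one] at hn h ⊢
    exact Nat.dvd_gcd hn h
  · intro hg
    obtain ⟨k, hk⟩ := Nat.gcd_dvd_left n e
    rw [hk, pow_mul, hg, one_pow]

theorem tot_gcd {X : Type*} [Monoid X] (e : ℕ) (h : ∀ x : X, x ^ e = 1) (n : ℕ) :
    tot X n = tot X (Nat.gcd n e) := by
  unfold tot
  apply Nat.card_congr
  exact Equiv.subtypeEquivRight (fun x => pow_eq_one_iff_gcd e x (h x) n)

theorem exp_prod {X Y : Type*} [Monoid X] [Monoid Y] {e : ℕ} (hX : ∀ x : X, x ^ e = 1)
    (hY : ∀ y : Y, y ^ e = 1) : ∀ p : X × Y, p ^ e = 1 := fun _ => Prod.ext (hX _) (hY _)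

theorem exp_pi {X : Type*} [Monoid X] {e : ℕ} (k : ℕ) (hX : ∀ x : X, x ^ e = 1) :
    ∀ f : Fin k → X, f ^ e = 1 := fun f => funext fun i => hX (f i)

theorem exp_subgroup {X : Type*} [Group X] {e : ℕ} (K : Subgroup X) (hX : ∀ x : X, x ^ e = 1) :
    ∀ k : ↥K, k ^ e = 1 := fun k => Subtype.ext (by simpa using hX k.1)

theorem isSolvable_pi (k : ℕ) (X : Type*) [Group X] [hX : Group.IsSolvable X] :
    Group.IsSolvable (Fin k → X) := by
  obtain ⟨n, hn⟩ := hX
  refine ⟨⟨n, ?_⟩⟩
  rw [eq_bot_iff]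
  intro f hf
  rw [Subgroup.mem_bot]
  funext i
  have h1 : (Pi.evalMonoidHom (fun _ : Fin k => X) i) f ∈
      (derivedSeries (Fin k → X) n).map (Pi.evalMonoidHom (fun _ : Fin k => X) i) :=
    Subgroup.mem_map_of_mem _ hf
  have h2 := map_derivedSeries_le_derivedSeries (Pi.evalMonoidHom (fun _ : Fin k => X) i) n h1
  rw [hn, Subgroup.mem_bot] at h2
  exact h2

end Cfsg.Agent.Lib.Helper20.OT
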