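import Mathlib
import Cfsg.Agent.Lib.Helper20.OrderTypeA

/-!
Concrete small groups ("atoms") for S4376 with their sign homomorphisms:
`ℤˣ`, `C4`, dihedral groups, `S4`, the affine groups `F42 = AGL(1,7)`, `F21`, and
`B = AΓL(1,8) = 2^3 : 7 : 3`, all as explicit decidable finite types.
-/

namespace Cfsg.Agent.Lib.Helper20.OT

theorem cnt_eq_card {X : Type*} [Group X] [Fintype X] [DecidableEq X] (σ : X →* ℤˣ) (e : ℤˣ)
    (n : ℕ) : cnt σ e n = (Finset.univ.filter (fun x : X => x ^ n = 1 ∧ σ x = e)).card := by
  unfold cnt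
  rw [Nat.card_eq_fintype_card, Fintype.card_subtype]

theorem tot_eq_card {X : Type*} [Monoid X] [Fintype X] [DecidableEq X] (n : ℕ) :
    tot X n = (Finset.univ.filter (fun x : X => x ^ n = 1)).card := by
  unfold tot
  rw [Nat.card_eq_fintype_card, Fintype.card_subtype]

/-! ### a generic split extension `V ⋊ K` with `V` written additively -/

/-- `act` is an action of `K` on the additive group `V` by automorphisms -/
class IsAct {V K : Type*} [AddCommGroup V] [Group K] (act : K → V → V) : Prop where
  add : ∀ k v w, act k (v + w) = act k v + act k w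
  mul : ∀ k l v, act (k * l) v = act k (act l v)
  one : ∀ v, act 1 v = v

/-- the split extension of `V` by `K` -/
structure SD (V K : Type*) (act : K → V → V) where
  v : V
  k : K
deriving DecidableEq, Fintype

namespace SD
variable {V K : Type*} [AddCommGroup V] [Group K] {act : K → V → V}

instance : Mul (SD V K act) := ⟨fun x y => ⟨x.v + act x.k y.v, x.k * y.k⟩⟩
instance : One (SD V K act) := ⟨⟨0, 1⟩⟩
instance : Inv (SD V K act) := ⟨fun x => ⟨-(act x.k⁻¹ x.v), x.k⁻¹⟩⟩

theorem mul_def (x y : SD V K act) : x * y = ⟨x.v + act x.k y.v, x.k * y.k⟩ := rfl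
theorem one_def : (1 : SD V K act) = ⟨0, 1⟩ := rfl
theorem inv_def (x : SD V K act) : x⁻¹ = ⟨-(act x.k⁻¹ x.v), x.k⁻¹⟩ := rfl

instance [IsAct act] : Group (SD V K act) :=
  Group.ofLeftAxioms
    (by
      intro x y z
      simp only [mul_def, IsAct.add, IsAct.mul, add_assoc, mul_assoc])
    (by
      intro x
      cases x
      simp only [mul_def, one_def, IsAct.one, zero_add, one_mul])
    (by
      intro x
      cases x
      simp only [mul_def, inv_def, one_def, neg_add_cancel, inv_mul_cancel])

/-- projection to the complement -/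
def proj [IsAct act] : SD V K act →* K where
  toFun x := x.k
  map_one' := rfl
  map_mul' _ _ := rfl

/-- inclusion of the kernel -/
def incl [IsAct act] : Multiplicative V →* SD V K act where
  toFun w := ⟨Multiplicative.toAdd w, 1⟩
  map_one' := rfl
  map_mul' a b := by
    simp only [mul_def, IsAct.one, one_mul]
    rfl

instance [IsAct act] [Group.IsSolvable K] : Group.IsSolvable (SD V K act) := by
  apply Group.isSolvable_of_ker_le_range (incl (act := act)) (proj (act := act))
  intro x hx
  rw [MonoidHom.mem_ker] at hx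
  refine ⟨Multiplicative.ofAdd x.v, ?_⟩
  cases x
  simp only [proj, MonoidHom.coe_mk, OneHom.coe_mk] at hx
  subst hx
  rfl

end SD

/-! ### sign homomorphisms -/

/-- sign on `C4` -/
def sgn4 : Multiplicative (ZMod 4) →* ℤˣ where
  toFun x := if (Multiplicative.toAdd x).val % 2 = 0 then 1 else -1
  map_one' := by decide
  map_mul' := by decide

/-- sign on `C6` -/
def sgn6 : Multiplicative (ZMod 6) →* ℤˣ where
  toFun x := if (Multiplicative.toAdd x).val % 2 = 0 then 1 else -1
  map_one' := by decide
  map_mul' := by decide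

/-- reflections are odd -/
def sgnD (n : ℕ) : DihedralGroup n →* ℤˣ where
  toFun x := match x with
    | DihedralGroup.r _ => 1
    | DihedralGroup.sr _ => -1
  map_one' := rfl
  map_mul' := by
    rintro (a | a) (b | b) <;> rfl

/-- the other sign on `D8` (kernel a four-group) -/
def sgnV : DihedralGroup 4 →* ℤˣ where
  toFun x := match x with
    | DihedralGroup.r i => if i.val % 2 = 0 then 1 else -1
    | DihedralGroup.sr i => if i.val % 2 = 0 then 1 else -1
  map_one' := by decide
  map_mul' := by decide

/-! ### the affine groups -/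

/-- multiplication by powers of `3` on `ZMod 7` -/
def act42 : Multiplicative (ZMod 6) → ZMod 7 → ZMod 7 :=
  fun a b => (3 : ZMod 7) ^ (Multiplicative.toAdd a).val * b

instance : IsAct act42 := ⟨by decide, by decide, by decide⟩

/-- `AGL(1,7)` -/
abbrev F42 := SD (ZMod 7) (Multiplicative (ZMod 6)) act42

/-- sign on `F42` -/
def sgn42 : F42 →* ℤˣ := sgn6.comp SD.proj

/-- multiplication by powers of `2` on `ZMod 7` -/
def act21 : Multiplicative (ZMod 3) → ZMod 7 → ZMod 7 :=
  fun a b => (2 : ZMod 7) ^ (Multiplicative.toAdd a).val * b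

instance : IsAct act21 := ⟨by decide, by decide, by decide⟩

/-- the Frobenius group of order 21 -/
abbrev F21c := SD (ZMod 7) (Multiplicative (ZMod 3)) act21

/-- the vector space `F_2^3` -/
abbrev V8 := ZMod 2 × ZMod 2 × ZMod 2

/-- multiplication by a generator of `F_8^*` -/
def mulC : V8 → V8 := fun v => (v.2.2, v.1 + v.2.2, v.2.1)

/-- the Frobenius map of `F_8` -/
def frobF : V8 → V8 := fun v => (v.1, v.2.2, v.2.1 + v.2.2)

/-- the action of `F21c = ΓL(1,8)` on `F_8` -/
def actB : F21c → V8 → V8 :=
  fun k v => mulC^[k.v.val] (frobF^[(Multiplicative.toAdd k.k).val] v)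

instance : IsAct actB := ⟨by decide, by decide, by decide⟩

/-- `AΓL(1,8)` of order 168 -/
abbrev BB := SD V8 F21c actB

end Cfsg.Agent.Lib.Helper20.OT
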