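import Mathlib
import Cfsg.Agent.Lib.Helper20.OrderTypeB

/-!
The homothety-translation groups `Y j = F_11^j ⋊ F_11^×` (maps `x ↦ a • x + v`): every element
has order `1, 2, 5, 10` or `11`, and for `j ≥ 1` the orders `1, 10, 11` occur.
-/

namespace Cfsg.Agent.Lib.Helper20.HT

open Cfsg.Agent.Lib.Helper20.OT

instance fact11 : Fact (Nat.Prime 11) := ⟨by norm_num⟩

/-- scalar action of `F_11^×` on `F_11^j` -/
def actY (j : ℕ) : (ZMod 11)ˣ → (Fin j → ZMod 11) → (Fin j → ZMod 11) :=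
  fun a v => (a : ZMod 11) • v

instance (j : ℕ) : IsAct (actY j) :=
  ⟨fun k v w => by simp only [actY, smul_add],
   fun k l v => by simp only [actY, Units.val_mul, mul_smul],
   fun v => by simp only [actY, Units.val_one, one_smul]⟩

/-- the group `F_11^j ⋊ F_11^×` -/
abbrev Y (j : ℕ) : Type := SD (Fin j → ZMod 11) (ZMod 11)ˣ (actY j)

theorem pow_eq {j : ℕ} (x : Y j) (n : ℕ) :
    x ^ n = ⟨(∑ i ∈ Finset.range n, ((x.k : (ZMod 11)ˣ) : ZMod 11) ^ i) • x.v, x.k ^ n⟩ := by
  induction n with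
  | zero =>
    simp only [pow_zero, Finset.range_zero, Finset.sum_empty, zero_smul]
    rfl
  | succ n ih =>
    rw [pow_succ, ih, SD.mul_def]
    simp only [actY, Units.val_pow_eq_pow_val, Finset.sum_range_succ, add_smul, pow_succ]

theorem pow_ten_eq_one {j : ℕ} (x : Y j) (h : x.k ≠ 1) : x ^ 10 = 1 := by
  rw [pow_eq, SD.one_def]
  have h10 : x.k ^ 10 = 1 := ZMod.units_pow_card_sub_one_eq_one 11 x.k
  have hs : (∑ i ∈ Finset.range 10, ((x.k : (ZMod 11)ˣ) : ZMod 11) ^ i) = 0 := by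
    have h1 := geom_sum_mul ((x.k : (ZMod 11)ˣ) : ZMod 11) 10
    have h2 : ((x.k : (ZMod 11)ˣ) : ZMod 11) ^ 10 = 1 := by
      rw [← Units.val_pow_eq_pow_val, h10, Units.val_one]
    rw [h2, sub_self] at h1
    rcases mul_eq_zero.1 h1 with h3 | h3
    · exact h3
    · exfalso
      apply h
      apply Units.ext
      rw [Units.val_one]
      exact sub_eq_zero.1 h3
  rw [hs, zero_smul, h10]

theorem pow_eleven_eq_one {j : ℕ} (x : Y j) (h : x.k = 1) : x ^ 11 = 1 := by
  rw [pow_eq, SD.one_def, h]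
  simp only [Units.val_one, one_pow, Finset.sum_const, Finset.card_range, nsmul_eq_mul, mul_one]
  have : ((11 : ℕ) : ZMod 11) = 0 := by decide
  rw [this, zero_smul]

theorem orderOf_mem {j : ℕ} (x : Y j) : orderOf x ∈ ({1, 2, 5, 10, 11} : Finset ℕ) := by
  by_cases h : x.k = 1
  · have h1 : orderOf x ∣ 11 := orderOf_dvd_of_pow_eq_one (pow_eleven_eq_one x h)
    have h2 : orderOf x ∈ Nat.divisors 11 := Nat.mem_divisors.2 ⟨h1, by norm_num⟩
    have h3 : Nat.divisors 11 ⊆ ({1, 2, 5, 10, 11} : Finset ℕ) := by decide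
    exact h3 h2
  · have h1 : orderOf x ∣ 10 := orderOf_dvd_of_pow_eq_one (pow_ten_eq_one x h)
    have h2 : orderOf x ∈ Nat.divisors 10 := Nat.mem_divisors.2 ⟨h1, by norm_num⟩
    have h3 : Nat.divisors 10 ⊆ ({1, 2, 5, 10, 11} : Finset ℕ) := by decide
    exact h3 h2

/-- the unit `2` of `ZMod 11`, a primitive root -/
def u2 : (ZMod 11)ˣ := Units.mk0 2 (by decide)

theorem exists_orderOf_ten (j : ℕ) : ∃ x : Y j, orderOf x = 10 := by
  refine ⟨⟨0, u2⟩, ?_⟩
  have hp : ∀ n : ℕ, (⟨0, u2⟩ : Y j) ^ n = ⟨0, u2 ^ n⟩ := by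
    intro n
    rw [pow_eq]
    simp only [smul_zero]
  apply orderOf_eq_of_pow_and_pow_div_prime (by norm_num)
  · rw [hp, SD.one_def]
    have : u2 ^ 10 = 1 := by decide
    rw [this]
  · intro p hp1 hp2
    have hp3 : p = 2 ∨ p = 5 := by
      have hle : p ≤ 10 := Nat.le_of_dvd (by norm_num) hp2
      interval_cases p <;>
        first
        | (left; rfl)
        | (right; rfl)
        | (exfalso; omega)
        | (exfalso; norm_num at hp1)
    rw [hp, SD.one_def]
    intro h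
    have h2 : u2 ^ (10 / p) = 1 := congrArg SD.k h
    rcases hp3 with rfl | rfl
    · revert h2
      decide
    · revert h2
      decide

theorem exists_orderOf_eleven (j : ℕ) (hj : 0 < j) : ∃ x : Y j, orderOf x = 11 := by
  refine ⟨⟨fun _ => 1, 1⟩, ?_⟩
  apply orderOf_eq_prime
  · exact pow_eleven_eq_one _ rfl
  · intro h
    have h2 : (fun _ : Fin j => (1 : ZMod 11)) = 0 := congrArg SD.v h
    have h3 := congrFun h2 ⟨0, hj⟩
    simp at h3

theorem exists_orderOf (j : ℕ) (hj : 0 < j) (n : ℕ) (hn : n ∈ ({1, 10, 11} : Finset ℕ)) :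
    ∃ x : Y j, orderOf x = n := by
  simp only [Finset.mem_insert, Finset.mem_singleton] at hn
  rcases hn with rfl | rfl | rfl
  · exact ⟨1, orderOf_one⟩
  · exact exists_orderOf_ten j
  · exact exists_orderOf_eleven j hj

theorem lt_card (N : ℕ) : N < Fintype.card (Y N) := by
  have h1 : Fintype.card (Fin N → ZMod 11) ≤ Fintype.card (Y N) :=
    Fintype.card_le_of_injective (fun v => (⟨v, 1⟩ : Y N)) (fun v w h => congrArg SD.v h)
  have h2 : Fintype.card (Fin N → ZMod 11) = 11 ^ N := by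
    rw [Fintype.card_fun, ZMod.card, Fintype.card_fin]
  have h3 : N < 11 ^ N := Nat.lt_pow_self (by norm_num)
  omega

end Cfsg.Agent.Lib.Helper20.HT
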