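import Cfsg.Agent.Lib.Helper20.QuasiDihedral
import Cfsg.Agent.Lib.Helper20.DihQuatLift

/-!
Quasi-dihedral groups: the degree map `S → (ZMod 2)²`, the three maximal subgroups and the
Frattini subgroup (helper20's library).
-/

set_option autoImplicit false

namespace Cfsg.Agent.Lib.Helper20.QD

theorem isCoatom_of_index_two {G : Type*} [Group G] {H : Subgroup G} (h : H.index = 2) :
    IsCoatom H := by
  constructor
  · intro ht
    rw [ht, Subgroup.index_top] at h; omega
  · intro K hK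
    have hdvd : K.index ∣ H.index := Subgroup.index_dvd_of_le hK.le
    rw [h] at hdvd
    rcases (Nat.dvd_prime Nat.prime_two).mp hdvd with h1 | h2
    · exact Subgroup.index_eq_one.mp h1
    · exfalso
      have := Subgroup.relIndex_mul_index hK.le
      rw [h, h2] at this
      have h1 : H.relIndex K = 1 := by omega
      rw [Subgroup.relIndex_eq_one] at h1
      exact (not_le_of_gt hK) h1

section

variable {S : Type*} [Group S] {n : ℕ} {x y : S}

/-- Parity `ZMod (2 ^ n) → ZMod 2`. -/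
def par (d : Data S n x y) : ZMod (2 ^ n) →+* ZMod 2 :=
  ZMod.castHom (dvd_pow_self 2 (by have := d.hn; omega)) (ZMod 2)

theorem par_two (d : Data S n x y) : par d 2 = 0 := by
  rw [map_ofNat]; decide

theorem par_even (d : Data S n x y) (j : ZMod (2 ^ n)) : par d (2 * j) = 0 := by
  rw [map_mul, par_two, zero_mul]

theorem par_odd (d : Data S n x y) (j : ZMod (2 ^ n)) : par d (2 * j + 1) = 1 := by
  rw [map_add, par_even, map_one, zero_add]

theorem par_eq_zero_iff (d : Data S n x y) (i : ZMod (2 ^ n)) : par d i = 0 ↔ ∃ j, i = 2 * j := by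
  constructor
  · intro h
    rcases even_or_odd i with ⟨j, rfl⟩ | ⟨j, rfl⟩
    · exact ⟨j, rfl⟩
    · rw [par_odd] at h; exact absurd h (by decide)
  · rintro ⟨j, rfl⟩; exact par_even d j

theorem par_eq_one_iff (d : Data S n x y) (i : ZMod (2 ^ n)) :
    par d i = 1 ↔ ∃ j, i = 2 * j + 1 := by
  constructor
  · intro h
    rcases even_or_odd i with ⟨j, rfl⟩ | ⟨j, rfl⟩
    · rw [par_even] at h; exact absurd h (by decide)
    · exact ⟨j, rfl⟩
  · rintro ⟨j, rfl⟩; exact par_odd d j

theorem par_hf (d : Data S n x y) : par d (hf n) = 0 := by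
  rw [← two_mul_qt (n := n) (by have := d.hn; omega)]; exact par_even d _

theorem par_ep (d : Data S n x y) : par d (ep n) = 1 := by
  unfold ep; rw [map_sub, par_hf, map_one]; decide

open Classical in
/-- The degree of an element: `f i ↦ (par i, 0)`, `f i * y ↦ (par i, 1)`. -/
noncomputable def deg (d : Data S n x y) (s : S) : ZMod 2 × ZMod 2 :=
  if h : ∃ i, s = f x n i then (par d h.choose, 0)
  else if h' : ∃ i, s = f x n i * y then (par d h'.choose, 1) else 0

theorem deg_f (d : Data S n x y) (i : ZMod (2 ^ n)) : deg d (f x n i) = (par d i, 0) := by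
  have h : ∃ i', f x n i = f x n i' := ⟨i, rfl⟩
  unfold deg
  rw [dif_pos h]
  have := f_injective d h.choose_spec
  rw [← this]

theorem deg_fy (d : Data S n x y) (i : ZMod (2 ^ n)) : deg d (f x n i * y) = (par d i, 1) := by
  have h : ¬ ∃ i', f x n i * y = f x n i' := by
    rintro ⟨i', hi'⟩; exact f_mul_y_ne_f d i i' hi'
  have h' : ∃ i', f x n i * y = f x n i' * y := ⟨i, rfl⟩
  unfold deg
  rw [dif_neg h, dif_pos h']
  have := f_injective d (mul_right_cancel h'.choose_spec)
  rw [← this]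

theorem deg_one (d : Data S n x y) : deg d 1 = 0 := by
  rw [← f_zero d, deg_f, map_zero]; rfl

theorem deg_x (d : Data S n x y) : deg d x = (1, 0) := by
  have := deg_f d 1
  rwa [f_one d, map_one] at this

theorem deg_y (d : Data S n x y) : deg d y = (0, 1) := by
  have := deg_fy d 0
  rwa [f_zero d, one_mul, map_zero] at this

variable [Finite S]

theorem deg_mul (d : Data S n x y) (s t : S) : deg d (s * t) = deg d s + deg d t := by
  rcases normal_form d s with ⟨i, rfl⟩ | ⟨i, rfl⟩ <;>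
    rcases normal_form d t with ⟨j, rfl⟩ | ⟨j, rfl⟩
  · rw [← f_add d, deg_f, deg_f, deg_f, map_add]; simp
  · rw [f_mul_fy d, deg_fy, deg_f, deg_fy, map_add]; simp
  · rw [fy_mul_f d, deg_fy, deg_fy, deg_f, map_add, map_mul, par_ep, one_mul]; simp
  · rw [fy_mul_fy d, deg_f, deg_fy, deg_fy, map_add, map_mul, par_ep, one_mul]
    simp only [Prod.mk_add_mk, Prod.mk.injEq, true_and]; decide

theorem deg_inv (d : Data S n x y) (s : S) : deg d s⁻¹ = deg d s := by
  have h := deg_mul d s⁻¹ s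
  rw [inv_mul_cancel, deg_one] at h
  have key : ∀ u v : ZMod 2 × ZMod 2, 0 = u + v → u = v := by decide
  exact key _ _ h

theorem deg_conj (d : Data S n x y) (g s : S) : deg d (g * s * g⁻¹) = deg d s := by
  rw [deg_mul, deg_mul, deg_inv]
  have key : ∀ u v : ZMod 2 × ZMod 2, u + v + u = v := by decide
  exact key _ _

/-- The subgroup cut out by the linear functional `(a, b)` on the degree. -/
noncomputable def K (d : Data S n x y) (a b : ZMod 2) : Subgroup S where
  carrier := {s | a * (deg d s).1 + b * (deg d s).2 = 0}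
  one_mem' := by
    simp only [Set.mem_ofPred_eq, deg_one]; simp
  mul_mem' := by
    intro s t hs ht
    simp only [Set.mem_ofPred_eq] at hs ht ⊢
    rw [deg_mul, Prod.fst_add, Prod.snd_add]
    linear_combination hs + ht
  inv_mem' := by
    intro s hs
    simp only [Set.mem_ofPred_eq] at hs ⊢
    rw [deg_inv]; exact hs

theorem mem_K (d : Data S n x y) (a b : ZMod 2) (s : S) :
    s ∈ K d a b ↔ a * (deg d s).1 + b * (deg d s).2 = 0 := Iff.rfl

theorem f_mem_K (d : Data S n x y) (a b : ZMod 2) (i : ZMod (2 ^ n)) :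
    f x n i ∈ K d a b ↔ a * par d i = 0 := by
  rw [mem_K, deg_f]; simp

theorem fy_mem_K (d : Data S n x y) (a b : ZMod 2) (i : ZMod (2 ^ n)) :
    f x n i * y ∈ K d a b ↔ a * par d i + b = 0 := by
  rw [mem_K, deg_fy]; simp

theorem K_normal (d : Data S n x y) (a b : ZMod 2) : (K d a b).Normal := by
  constructor
  intro s hs g
  rw [mem_K] at hs ⊢
  rw [deg_conj]; exact hs

theorem K_index (d : Data S n x y) (a b : ZMod 2) (g : S)
    (hg : a * (deg d g).1 + b * (deg d g).2 = 1) : (K d a b).index = 2 := by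
  rw [Subgroup.index_eq_two_iff]
  refine ⟨g, fun s => ?_⟩
  rw [mem_K, mem_K, deg_mul, Prod.fst_add, Prod.snd_add]
  have e : a * ((deg d s).1 + (deg d g).1) + b * ((deg d s).2 + (deg d g).2) =
      (a * (deg d s).1 + b * (deg d s).2) + 1 := by
    rw [← hg]; ring
  rw [e]
  have key : ∀ v : ZMod 2, Xor (v + 1 = 0) (v = 0) := by
    intro v; unfold Xor; revert v; decide
  exact key _

/-- The cyclic maximal subgroup. -/
noncomputable def M1 (d : Data S n x y) : Subgroup S := K d 0 1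
/-- The quaternion maximal subgroup. -/
noncomputable def M2 (d : Data S n x y) : Subgroup S := K d 1 1
/-- The dihedral maximal subgroup. -/
noncomputable def M3 (d : Data S n x y) : Subgroup S := K d 1 0
/-- The Frattini subgroup. -/
noncomputable def Phi (d : Data S n x y) : Subgroup S := M1 d ⊓ M3 d

theorem M1_index (d : Data S n x y) : (M1 d).index = 2 :=
  K_index d 0 1 y (by rw [deg_y]; simp)

theorem M2_index (d : Data S n x y) : (M2 d).index = 2 :=
  K_index d 1 1 y (by rw [deg_y]; simp)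

theorem M3_index (d : Data S n x y) : (M3 d).index = 2 :=
  K_index d 1 0 x (by rw [deg_x]; simp)

theorem mem_M1 (d : Data S n x y) (s : S) : s ∈ M1 d ↔ ∃ i, s = f x n i := by
  constructor
  · intro hs
    rcases normal_form d s with ⟨i, rfl⟩ | ⟨i, rfl⟩
    · exact ⟨i, rfl⟩
    · exfalso
      unfold M1 at hs
      rw [fy_mem_K] at hs
      simp at hs
  · rintro ⟨i, rfl⟩
    unfold M1; rw [f_mem_K]; simp

theorem mem_M3 (d : Data S n x y) (s : S) :
    s ∈ M3 d ↔ (∃ j, s = f x n (2 * j)) ∨ (∃ j, s = f x n (2 * j) * y) := by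
  constructor
  · intro hs
    unfold M3 at hs
    rcases normal_form d s with ⟨i, rfl⟩ | ⟨i, rfl⟩
    · left
      rw [f_mem_K, one_mul, par_eq_zero_iff] at hs
      obtain ⟨j, rfl⟩ := hs
      exact ⟨j, rfl⟩
    · right
      rw [fy_mem_K, one_mul, add_zero, par_eq_zero_iff] at hs
      obtain ⟨j, rfl⟩ := hs
      exact ⟨j, rfl⟩
  · unfold M3
    rintro (⟨j, rfl⟩ | ⟨j, rfl⟩)
    · rw [f_mem_K, par_even, mul_zero]
    · rw [fy_mem_K, par_even, mul_zero, add_zero]

theorem mem_M2 (d : Data S n x y) (s : S) :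
    s ∈ M2 d ↔ (∃ j, s = f x n (2 * j)) ∨ (∃ j, s = f x n (2 * j + 1) * y) := by
  constructor
  · intro hs
    unfold M2 at hs
    rcases normal_form d s with ⟨i, rfl⟩ | ⟨i, rfl⟩
    · left
      rw [f_mem_K, one_mul, par_eq_zero_iff] at hs
      obtain ⟨j, rfl⟩ := hs
      exact ⟨j, rfl⟩
    · right
      rw [fy_mem_K, one_mul] at hs
      have h1 : par d i = 1 := by
        have key : ∀ v : ZMod 2, v + 1 = 0 → v = 1 := by decide
        exact key _ hs
      rw [par_eq_one_iff] at h1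
      obtain ⟨j, rfl⟩ := h1
      exact ⟨j, rfl⟩
  · unfold M2
    rintro (⟨j, rfl⟩ | ⟨j, rfl⟩)
    · rw [f_mem_K, par_even, mul_zero]
    · rw [fy_mem_K, par_odd, mul_one]; decide

theorem mem_Phi (d : Data S n x y) (s : S) : s ∈ Phi d ↔ ∃ j, s = f x n (2 * j) := by
  unfold Phi
  rw [Subgroup.mem_inf, mem_M1, mem_M3]
  constructor
  · rintro ⟨⟨i, rfl⟩, ⟨j, hj⟩ | ⟨j, hj⟩⟩
    · exact ⟨j, hj⟩
    · exact absurd hj.symm (f_mul_y_ne_f d _ _)
  · rintro ⟨j, rfl⟩
    exact ⟨⟨_, rfl⟩, Or.inl ⟨j, rfl⟩⟩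

theorem Phi_normal (d : Data S n x y) : (Phi d).Normal := by
  unfold Phi M1 M3
  have := K_normal d 0 1
  have := K_normal d 1 0
  infer_instance

theorem Phi_le_M2 (d : Data S n x y) : Phi d ≤ M2 d := by
  intro s hs
  rw [mem_Phi] at hs
  rw [mem_M2]; exact Or.inl hs

/-- Every subgroup of index two contains `Phi`. -/
theorem Phi_le_of_index_two (d : Data S n x y) (M : Subgroup S) (hM : M.index = 2) :
    Phi d ≤ M := by
  intro s hs
  rw [mem_Phi] at hs
  obtain ⟨j, rfl⟩ := hs
  have : f x n (2 * j) = f x n j * f x n j := by rw [← f_add d]; congr 1; ring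
  rw [this]
  exact Subgroup.mul_self_mem_of_index_two hM _

/-- Classification of the subgroups of index two. -/
theorem index_two_cases (d : Data S n x y) (M : Subgroup S) (hM : M.index = 2) :
    M = M1 d ∨ M = M2 d ∨ M = M3 d := by
  have hPhi := Phi_le_of_index_two d M hM
  have hco : IsCoatom M := isCoatom_of_index_two hM
  have hfe : ∀ j, f x n (2 * j) ∈ M := fun j => hPhi ((mem_Phi d _).mpr ⟨j, rfl⟩)
  by_cases hx : x ∈ M
  · left
    have hle : M1 d ≤ M := by
      intro s hs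
      rw [mem_M1] at hs
      obtain ⟨i, rfl⟩ := hs
      unfold f; exact Subgroup.pow_mem _ hx _
    rcases (isCoatom_of_index_two (M1_index d)).le_iff.mp hle with h | h
    · exact absurd h hco.1
    · exact h
  by_cases hy : y ∈ M
  · right; right
    have hle : M3 d ≤ M := by
      intro s hs
      rw [mem_M3] at hs
      rcases hs with ⟨j, rfl⟩ | ⟨j, rfl⟩
      · exact hfe j
      · exact mul_mem (hfe j) hy
    rcases (isCoatom_of_index_two (M3_index d)).le_iff.mp hle with h | h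
    · exact absurd h hco.1
    · exact h
  · right; left
    have hxy : x * y ∈ M := by
      rw [Subgroup.mul_mem_iff_of_index_two hM]
      exact ⟨fun h => absurd h hx, fun h => absurd h hy⟩
    have hle : M2 d ≤ M := by
      intro s hs
      rw [mem_M2] at hs
      rcases hs with ⟨j, rfl⟩ | ⟨j, rfl⟩
      · exact hfe j
      · have : f x n (2 * j + 1) * y = f x n (2 * j) * (x * y) := by
          rw [f_add d, f_one d, mul_assoc]
        rw [this]
        exact mul_mem (hfe j) hxy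
    rcases (isCoatom_of_index_two (M2_index d)).le_iff.mp hle with h | h
    · exact absurd h hco.1
    · exact h

theorem x_mem_M1 (d : Data S n x y) : x ∈ M1 d := (mem_M1 d x).mpr ⟨1, (f_one d).symm⟩

theorem y_not_mem_M1 (d : Data S n x y) : y ∉ M1 d := by
  intro h
  obtain ⟨i, hi⟩ := (mem_M1 d y).mp h
  exact y_ne_f d i hi

theorem y_mem_M3 (d : Data S n x y) : y ∈ M3 d :=
  (mem_M3 d y).mpr (Or.inr ⟨0, by rw [mul_zero, f_zero d, one_mul]⟩)

theorem y_not_mem_M2 (d : Data S n x y) : y ∉ M2 d := by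
  intro h
  unfold M2 at h
  have := (fy_mem_K d 1 1 0).mp (by rwa [f_zero d, one_mul])
  rw [map_zero] at this
  exact absurd this (by decide)

theorem M1_ne_M2 (d : Data S n x y) : M1 d ≠ M2 d := by
  intro h
  have hx := x_mem_M1 d
  rw [h] at hx
  unfold M2 at hx
  have := (f_mem_K d 1 1 1).mp (by rwa [f_one d])
  rw [map_one] at this
  exact absurd this (by decide)

theorem M1_ne_M3 (d : Data S n x y) : M1 d ≠ M3 d := by
  intro h
  apply y_not_mem_M1 d
  rw [h]; exact y_mem_M3 d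

theorem M2_ne_M3 (d : Data S n x y) : M2 d ≠ M3 d := by
  intro h
  apply y_not_mem_M2 d
  rw [h]; exact y_mem_M3 d

end

/-! ### The isomorphism types of the maximal subgroups -/

section iso

variable {S : Type*} [Group S] {n : ℕ} {x y : S}

theorem two_mul_pow_pred (d : Data S n x y) : 2 * 2 ^ (n - 1) = 2 ^ n := by
  have := d.hn
  rw [← pow_succ']; congr 1; omega

theorem two_mul_pow_pred2 (d : Data S n x y) : 2 * 2 ^ (n - 2) = 2 ^ (n - 1) := by
  have := d.hn
  rw [← pow_succ']; congr 1; omega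

theorem sq_pow (d : Data S n x y) : (x ^ 2) ^ (2 ^ (n - 1)) = 1 := by
  rw [← pow_mul, two_mul_pow_pred d]; exact pow_eq_one d

theorem orderOf_sq (d : Data S n x y) : orderOf (x ^ 2) = 2 ^ (n - 1) := by
  have hn := d.hn
  rw [orderOf_pow_of_dvd (by norm_num) (by rw [d.ox]; exact dvd_pow_self 2 (by omega)), d.ox,
    ← two_mul_pow_pred d]
  exact Nat.mul_div_cancel_left _ (by norm_num)

theorem sq_eq_f (d : Data S n x y) : x ^ 2 = f x n 2 := by
  have := f_natCast d 2
  rw [← this]; congr 1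

theorem pw_sq (d : Data S n x y) (m : ℕ) (i : ZMod m) :
    pw (x ^ 2) m i = f x n (2 * ((i.val : ℕ) : ZMod (2 ^ n))) := by
  unfold pw
  rw [← pow_mul, ← f_natCast d]; congr 1; push_cast; rfl

theorem f_even_eq_pw (d : Data S n x y) (m : ℕ) [NeZero m] (hm : (x ^ 2) ^ m = 1)
    (j : ZMod (2 ^ n)) : f x n (2 * j) = pw (x ^ 2) m ((j.val : ℕ) : ZMod m) := by
  rw [pw_natCast hm, ← pow_mul, ← f_natCast d]; congr 1; push_cast
  rw [ZMod.natCast_zmod_val]

/-- `(f c * y) * f (2k) = f (2(-k) + c) * y`. -/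
theorem fy_mul_feven (d : Data S n x y) (c k : ZMod (2 ^ n)) :
    (f x n c * y) * f x n (2 * k) = f x n (2 * (-k) + c) * y := by
  rw [fy_mul_f d]; congr 2
  have := two_mul_hf (n := n) (by have := d.hn; omega)
  unfold ep; linear_combination k * this

theorem y_mul_feven (d : Data S n x y) (k : ZMod (2 ^ n)) :
    y * f x n (2 * k) = f x n (2 * (-k)) * y := by
  have := fy_mul_feven d 0 k
  rwa [f_zero d, one_mul, add_zero] at this

/-- Any `f c * y` inverts `x ^ 2`. -/
theorem fy_conj_sq (d : Data S n x y) (c : ZMod (2 ^ n)) :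
    (f x n c * y) * x ^ 2 * (f x n c * y)⁻¹ = (x ^ 2)⁻¹ := by
  rw [sq_eq_f d, conj_fy_f d, ← f_neg d]; congr 1
  have := two_mul_hf (n := n) (by have := d.hn; omega)
  unfold ep; linear_combination this

theorem y_conj_sq (d : Data S n x y) : y * x ^ 2 * y⁻¹ = (x ^ 2)⁻¹ := by
  have := fy_conj_sq d 0
  rwa [f_zero d, one_mul] at this

theorem fy_not_mem_zpowers_sq (d : Data S n x y) (c : ZMod (2 ^ n)) :
    f x n c * y ∉ Subgroup.zpowers (x ^ 2) := by
  intro h
  have : NeZero (2 ^ (n - 1)) := ⟨by positivity⟩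
  obtain ⟨i, hi⟩ := exists_pw_of_mem_zpowers (N := 2 ^ (n - 1)) (sq_pow d) h
  rw [pw_sq d] at hi
  exact f_mul_y_ne_f d _ _ hi

theorem y_not_mem_zpowers_sq (d : Data S n x y) : y ∉ Subgroup.zpowers (x ^ 2) := by
  have := fy_not_mem_zpowers_sq d 0
  rwa [f_zero d, one_mul] at this

variable [Finite S]

theorem M1_eq_zpowers (d : Data S n x y) : M1 d = Subgroup.zpowers x := by
  ext s
  rw [mem_M1]
  constructor
  · rintro ⟨i, rfl⟩
    unfold f; exact Subgroup.pow_mem _ (Subgroup.mem_zpowers x) _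
  · intro h
    have : NeZero (2 ^ n) := ⟨by positivity⟩
    obtain ⟨i, hi⟩ := exists_pw_of_mem_zpowers (N := 2 ^ n) (pow_eq_one d) h
    exact ⟨i, hi⟩

theorem M1_isCyclic (d : Data S n x y) : IsCyclic (M1 d) := by
  rw [M1_eq_zpowers d]; infer_instance

theorem Phi_eq_zpowers (d : Data S n x y) : Phi d = Subgroup.zpowers (x ^ 2) := by
  have : NeZero (2 ^ (n - 1)) := ⟨by positivity⟩
  ext s
  rw [mem_Phi]
  constructor
  · rintro ⟨j, rfl⟩
    rw [f_even_eq_pw d (2 ^ (n - 1)) (sq_pow d)]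
    exact pw_mem_zpowers _
  · intro h
    obtain ⟨i, hi⟩ := exists_pw_of_mem_zpowers (N := 2 ^ (n - 1)) (sq_pow d) h
    rw [pw_sq d] at hi
    exact ⟨_, hi⟩

theorem Phi_isCyclic (d : Data S n x y) : IsCyclic (Phi d) := by
  rw [Phi_eq_zpowers d]; infer_instance

theorem Phi_card (d : Data S n x y) : Nat.card (Phi d) = 2 ^ (n - 1) := by
  rw [Phi_eq_zpowers d, Nat.card_zpowers, orderOf_sq d]

theorem M3_iso (d : Data S n x y) : Nonempty (M3 d ≃* DihedralGroup (2 ^ (n - 1))) := by
  have : NeZero (2 ^ (n - 1)) := ⟨by positivity⟩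
  apply nonempty_mulEquiv_dihedral (x ^ 2) y (2 ^ (n - 1)) (sq_pow d) (y_mul_self d)
    (y_conj_sq d) (orderOf_sq d) (y_not_mem_zpowers_sq d)
  intro g
  rw [mem_M3]
  constructor
  · rintro (⟨j, rfl⟩ | ⟨j, rfl⟩)
    · left; exact ⟨_, f_even_eq_pw d _ (sq_pow d) j⟩
    · right
      refine ⟨((-j).val : ZMod (2 ^ (n - 1))), ?_⟩
      rw [← f_even_eq_pw d _ (sq_pow d), y_mul_feven d, neg_neg]
  · rintro (⟨i, rfl⟩ | ⟨i, rfl⟩)
    · left; exact ⟨_, pw_sq d _ i⟩
    · right
      rw [pw_sq d, y_mul_feven d]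
      exact ⟨_, rfl⟩

theorem M2_iso (d : Data S n x y) : Nonempty (M2 d ≃* QuaternionGroup (2 ^ (n - 2))) := by
  have : NeZero (2 ^ (n - 2)) := ⟨by positivity⟩
  have hx1 : x * y = f x n 1 * y := by rw [f_one d]
  have ha : (x ^ 2) ^ (2 * 2 ^ (n - 2)) = 1 := by
    rw [two_mul_pow_pred2 d]; exact sq_pow d
  have hw : (x * y) * (x * y) = (x ^ 2) ^ (2 ^ (n - 2)) := by
    rw [hx1, fy_mul_self d, mul_one, ← pow_mul, two_mul_pow_pred2 d]
    unfold hf; rw [f_natCast d]
  have hwa : (x * y) * x ^ 2 * (x * y)⁻¹ = (x ^ 2)⁻¹ := by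
    rw [hx1]; exact fy_conj_sq d 1
  have ho : orderOf (x ^ 2) = 2 * 2 ^ (n - 2) := by
    rw [two_mul_pow_pred2 d]; exact orderOf_sq d
  have hwz : x * y ∉ Subgroup.zpowers (x ^ 2) := by
    rw [hx1]; exact fy_not_mem_zpowers_sq d 1
  apply nonempty_mulEquiv_quaternion (x ^ 2) (x * y) (2 ^ (n - 2)) ha hw hwa ho hwz
  intro g
  rw [mem_M2]
  constructor
  · rintro (⟨j, rfl⟩ | ⟨j, rfl⟩)
    · left; exact ⟨_, f_even_eq_pw d _ ha j⟩
    · right
      refine ⟨((-j).val : ZMod (2 * 2 ^ (n - 2))), ?_⟩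
      rw [← f_even_eq_pw d _ ha, hx1, fy_mul_feven d, neg_neg]
  · rintro (⟨i, rfl⟩ | ⟨i, rfl⟩)
    · left; exact ⟨_, pw_sq d _ i⟩
    · right
      rw [pw_sq d, hx1, fy_mul_feven d]
      exact ⟨_, rfl⟩

end iso

end Cfsg.Agent.Lib.Helper20.QD
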