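import Cfsg.Agent.Lib.Helper20.WrG8
import Cfsg.Agent.S1193
import Cfsg.Agent.Lib.Helper29.ZStarElement

/-!
Groups with quasi-dihedral or wreathed Sylow 2-subgroups `S` and an isolated involution:
every element of `Z(S)` is weakly closed in `S`, hence (Z*-theorem for 2-elements, helper29)
`O(G) Z(S)` is normal (helper20's library).
-/

set_option autoImplicit false
set_option linter.unusedSectionVars false

namespace Cfsg.Agent.Lib.Helper20.IsoCenter

open Cfsg.Agent.Lib.Helper38 Cfsg.Agent.Lib.Helper33 Cfsg.Agent.Lib.Helper20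
  Cfsg.Agent.Lib.Helper20.QDF Cfsg.Agent.Lib.Helper20.Wr

universe u

variable {G : Type u} [Group G] [Finite G] (S : Sylow 2 G)

/-- An isolated involution of `S` lies in `Z(S)` (as an element of `ZZ S`). -/
theorem isolated_mem_ZZ {t : G} (htS : t ∈ (S : Subgroup G))
    (hiso : ∀ g : G, g * t * g⁻¹ ∈ (S : Subgroup G) → g * t * g⁻¹ = t) : t ∈ ZZ S := by
  refine ⟨⟨t, htS⟩, ?_, rfl⟩
  rw [SetLike.mem_coe, Subgroup.mem_center_iff]
  intro s
  apply Subtype.ext
  have h1 := hiso (s : G) ((S : Subgroup G).mul_mem ((S : Subgroup G).mul_mem s.2 htS)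
    ((S : Subgroup G).inv_mem s.2))
  show (s : G) * t = t * (s : G)
  calc (s : G) * t = ((s : G) * t * (s : G)⁻¹) * (s : G) := by group
    _ = t * (s : G) := by rw [h1]

/-- With a normal 2-complement, elements of `Z(S)` are weakly closed in `S`. -/
theorem weakly_closed_of_hasNormalPComplement (hc : Cfsg.HasNormalPComplement 2 G)
    {ζ : G} (hζ : ζ ∈ ZZ S) (g : G) (hg : g * ζ * g⁻¹ ∈ (S : Subgroup G)) : g * ζ * g⁻¹ = ζ := by
  have : Fact (Nat.Prime 2) := ⟨Nat.prime_two⟩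
  obtain ⟨P, N, hN, hNP⟩ := hc
  have hcop : (Nat.card N).Coprime 2 :=
    Cfsg.Agent.Lib.Helper34.card_coprime_of_isComplement' P N hNP
  have hcard : Nat.card N * Nat.card (S : Subgroup G) = Nat.card G := by
    have h1 := hNP.card_mul_card
    have h2 : Nat.card (P : Subgroup G) = Nat.card (S : Subgroup G) := by
      rw [P.card_eq_multiplicity, S.card_eq_multiplicity]
    rw [← h2]; exact h1
  have hcop2 : (Nat.card N).Coprime (Nat.card (S : Subgroup G)) := by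
    rw [S.card_eq_multiplicity]; exact Nat.Coprime.pow_right _ hcop
  have hNS : N.IsComplement' (S : Subgroup G) := Subgroup.isComplement'_of_coprime hcard hcop2
  obtain ⟨⟨k, s⟩, hks, -⟩ := hNS.existsUnique g
  simp only at hks
  have hζS : ζ ∈ (S : Subgroup G) := ZZ_le S hζ
  have h1 : (s : G) * ζ * (s : G)⁻¹ = ζ := by
    rw [← ZZ_comm S hζ s.2, mul_inv_cancel_right]
  have h2 : g * ζ * g⁻¹ = (k : G) * ζ * (k : G)⁻¹ := by
    rw [← hks]
    calc (k : G) * (s : G) * ζ * ((k : G) * (s : G))⁻¹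
        = (k : G) * ((s : G) * ζ * (s : G)⁻¹) * (k : G)⁻¹ := by group
      _ = _ := by rw [h1]
  -- the commutator lies in `N ⊓ S = ⊥`
  have h3 : (k : G) * ζ * (k : G)⁻¹ * ζ⁻¹ ∈ N := by
    have := hN.conj_mem _ (N.inv_mem k.2) ζ
    have h4 : (k : G) * ζ * (k : G)⁻¹ * ζ⁻¹ = (k : G) * (ζ * (k : G)⁻¹ * ζ⁻¹) := by group
    rw [h4]; exact N.mul_mem k.2 this
  have h5 : (k : G) * ζ * (k : G)⁻¹ * ζ⁻¹ ∈ (S : Subgroup G) := by
    rw [← h2]; exact (S : Subgroup G).mul_mem hg ((S : Subgroup G).inv_mem hζS)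
  have hdisj : Disjoint N (S : Subgroup G) := hNS.disjoint
  have h6 : (k : G) * ζ * (k : G)⁻¹ * ζ⁻¹ = 1 := by
    have := (Subgroup.disjoint_def.mp hdisj) h3 h5
    exact this
  rw [h2]
  exact mul_inv_eq_one.mp h6

/-- Wreathed case: every element of `Z(S)` is weakly closed in `S`. -/
theorem wr_center_weakly_closed (hS : Cfsg.IsWreathed (S : Subgroup G)) (t : G)
    (htS : t ∈ (S : Subgroup G)) (ht : Cfsg.IsIsolatedInvolution t)
    {ζ : G} (hζ : ζ ∈ ZZ S) (g : G) (hg : g * ζ * g⁻¹ ∈ (S : Subgroup G)) : g * ζ * g⁻¹ = ζ := by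
  obtain ⟨n, -, hcard, -⟩ := id hS
  obtain ⟨x, y, z, h⟩ := exists_isWr_of_card hS n hcard
  have hiso := Cfsg.Agent.Lib.Helper29.isolated_unique_in_sylow ht S htS
  have htZ : t ∈ ZZ S := isolated_mem_ZZ S htS hiso
  have ht2 : t * t = 1 := by
    rw [← pow_two, ← ht.1]; exact pow_orderOf_eq_one t
  have ht1 : t ≠ 1 := by
    intro h1
    have := ht.1
    rw [h1, orderOf_one] at this
    omega
  have hte : t = ((al x y ((2 ^ (n - 1) : ℕ) : ℤ) ((2 ^ (n - 1) : ℕ) : ℤ) : (S : Subgroup G)) : G) :=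
    (ZZ_sq_eq_one S h htZ ht2).resolve_left ht1
  have hU2 : (Subgroup.centralizer (UU S h : Set G)).relIndex
      (Subgroup.normalizer (UU S h : Set G)) = 2 := by
    rcases rU_two_or_six S h with h1 | h6
    · exact h1
    · exfalso
      obtain ⟨c, hc⟩ := isConj_iff.mp (isConj_a_e_of_six S h h6)
      have haS : ((al x y ((2 ^ (n - 1) : ℕ) : ℤ) 0 : (S : Subgroup G)) : G) ∈ (S : Subgroup G) :=
        (al x y ((2 ^ (n - 1) : ℕ) : ℤ) 0 : (S : Subgroup G)).2
      have h7 : c⁻¹ * t * c⁻¹⁻¹ =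
          ((al x y ((2 ^ (n - 1) : ℕ) : ℤ) 0 : (S : Subgroup G)) : G) := by
        rw [hte, ← hc]; group
      have h8 := hiso c⁻¹ (by rw [h7]; exact haS)
      rw [h7, hte] at h8
      exact coe_a_ne_e S h h8
  have hctrl := ctrlU_of_two S h hU2
  rcases rV_two_or_six S h with h2 | h6
  · exact weakly_closed_of_hasNormalPComplement S
      (hasNormalPComplement_of_ctrl S h hctrl (z_not_conj_UU_of_rV_two S h h2)) hζ g hg
  · exact conj_ZZ_eq_of_mem S h hctrl h6 hζ g hg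

/-- Quasi-dihedral case: every element of `Z(S)` is weakly closed in `S`. -/
theorem qd_center_weakly_closed (hS : Cfsg.IsQuasiDihedral (S : Subgroup G)) (t : G)
    (htS : t ∈ (S : Subgroup G)) (ht : Cfsg.IsIsolatedInvolution t)
    {ζ : G} (hζ : ζ ∈ ZZ S) (g : G) (hg : g * ζ * g⁻¹ ∈ (S : Subgroup G)) : g * ζ * g⁻¹ = ζ := by
  obtain ⟨n, x, y, d⟩ := Cfsg.Agent.Lib.Helper20.QD.exists_data hS
  have hiso := Cfsg.Agent.Lib.Helper29.isolated_unique_in_sylow ht S htS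
  obtain ⟨c, hc, rfl⟩ := isolated_mem_ZZ S htS hiso
  obtain ⟨e, he, rfl⟩ := hζ
  simp only [Subgroup.coe_subtype] at *
  have hc1 : c ≠ 1 := by
    intro h1
    have := ht.1
    rw [h1, Subgroup.coe_one, orderOf_one] at this
    omega
  have hcz := (Cfsg.Agent.S1193.center_cases d c hc).resolve_left hc1
  rcases Cfsg.Agent.S1193.center_cases d e he with h1 | h1
  · rw [h1, Subgroup.coe_one, mul_one, mul_inv_cancel]
  · rw [h1, ← hcz] at hg ⊢
    exact hiso g hg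

/-- If every element of `Z(S)` is weakly closed in `S`, then `O(G) Z(S)` is normal in `G`
(given the Z*-theorem). -/
theorem normal_of_weakly_closed (hZ : Cfsg.Agent.Lib.Helper29.ZStarStatement.{u})
    (hw : ∀ ζ ∈ ZZ S, ∀ g : G, g * ζ * g⁻¹ ∈ (S : Subgroup G) → g * ζ * g⁻¹ = ζ) :
    (Cfsg.oddCore G ⊔ ZZ S).Normal := by
  have hOn : (Cfsg.oddCore G).Normal := Cfsg.Agent.Lib.Helper97.pPrimeCore_normal 2
  have hc : ∀ ζ ∈ ZZ S, ∀ g : G, ζ * g * ζ⁻¹ * g⁻¹ ∈ Cfsg.oddCore G := fun ζ hζ =>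
    Cfsg.Agent.Lib.Helper29.zstar_element hZ S ζ (ZZ_le S hζ) (hw ζ hζ)
  refine ⟨fun a ha g => ?_⟩
  rw [← SetLike.mem_coe, Subgroup.normal_mul] at ha
  obtain ⟨o, ho, ζ, hζ, rfl⟩ := ha
  have h1 : g * (o * ζ) * g⁻¹ = (g * o * g⁻¹) * (ζ * g * ζ⁻¹ * g⁻¹)⁻¹ * ζ := by group
  rw [h1]
  exact Subgroup.mul_mem _ (Subgroup.mul_mem _ (Subgroup.mem_sup_left (hOn.conj_mem o ho g))
    (Subgroup.mem_sup_left (Subgroup.inv_mem _ (hc ζ hζ g)))) (Subgroup.mem_sup_right hζ)

/-- S1239 modulo the Z*-theorem. -/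
theorem normal_oddCore_sup_center (hZ : Cfsg.Agent.Lib.Helper29.ZStarStatement.{u})
    (hS : Cfsg.IsQuasiDihedral (S : Subgroup G) ∨ Cfsg.IsWreathed (S : Subgroup G)) (t : G)
    (htS : t ∈ (S : Subgroup G)) (ht : Cfsg.IsIsolatedInvolution t) :
    (Cfsg.oddCore G ⊔ (Subgroup.center (S : Subgroup G)).map (S : Subgroup G).subtype).Normal := by
  apply normal_of_weakly_closed S hZ
  intro ζ hζ g hg
  rcases hS with hS | hS
  · exact qd_center_weakly_closed S hS t htS ht hζ g hg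
  · exact wr_center_weakly_closed S hS t htS ht hζ g hg

end Cfsg.Agent.Lib.Helper20.IsoCenter
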