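import Mathlib
import Cfsg.Prelude.Def_TwoFusion

/-!
Basic facts on isolated involutions (helper20's library; used by S1180–S1187).
-/

set_option autoImplicit false

namespace Cfsg.Agent.Lib.Helper20

variable {G : Type*} [Group G]

/-! ### Dihedral computations: `s`, `t` involutions, `r = s * t`. -/

theorem dih_mul_pow {s t : G} (hs : s * s = 1) (ht : t * t = 1) (i : ℕ) :
    s * (s * t) ^ i = ((s * t) ^ i)⁻¹ * s := by
  have hsi : s⁻¹ = s := inv_eq_of_mul_eq_one_right hs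
  have hti : t⁻¹ = t := inv_eq_of_mul_eq_one_right ht
  induction i with
  | zero => simp
  | succ i ih =>
    have h1 : s * (s * t) = (s * t)⁻¹ * s := by
      rw [mul_inv_rev, hsi, hti, ← mul_assoc, hs, one_mul, mul_assoc, hs, mul_one]
    calc s * (s * t) ^ (i + 1) = (s * (s * t) ^ i) * (s * t) := by rw [pow_succ, mul_assoc]
      _ = ((s * t) ^ i)⁻¹ * (s * (s * t)) := by rw [ih, mul_assoc]
      _ = ((s * t) ^ i)⁻¹ * ((s * t)⁻¹ * s) := by rw [h1]
      _ = ((s * t) ^ (i + 1))⁻¹ * s := by rw [← mul_assoc, ← mul_inv_rev, ← pow_succ']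

theorem dih_conj_even {s t : G} (hs : s * s = 1) (ht : t * t = 1) (j : ℕ) :
    ((s * t) ^ j)⁻¹ * s * (((s * t) ^ j)⁻¹)⁻¹ = s * (s * t) ^ (j + j) := by
  rw [inv_inv, ← dih_mul_pow hs ht, mul_assoc, ← pow_add]

theorem dih_conj_odd {s t : G} (hs : s * s = 1) (ht : t * t = 1) (j : ℕ) :
    ((s * t) ^ j)⁻¹ * t * (((s * t) ^ j)⁻¹)⁻¹ = s * (s * t) ^ (j + j + 1) := by
  have ht' : t = s * (s * t) := by rw [← mul_assoc, hs, one_mul]
  have e : ((s * t) ^ j)⁻¹ * t = s * (s * t) ^ (j + 1) := by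
    calc ((s * t) ^ j)⁻¹ * t = ((s * t) ^ j)⁻¹ * (s * (s * t)) := by rw [← ht']
      _ = (((s * t) ^ j)⁻¹ * s) * (s * t) := by rw [mul_assoc]
      _ = (s * (s * t) ^ j) * (s * t) := by rw [← dih_mul_pow hs ht]
      _ = s * (s * t) ^ (j + 1) := by rw [mul_assoc, ← pow_succ]
  rw [inv_inv, e, mul_assoc, ← pow_add]
  congr 2
  omega

/-! ### Isolated involutions -/

theorem iso_mul_self {z : G} (hz : Cfsg.IsIsolatedInvolution z) : z * z = 1 := by
  have := pow_orderOf_eq_one z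
  rw [hz.1, pow_two] at this
  exact this

theorem iso_inv {z : G} (hz : Cfsg.IsIsolatedInvolution z) : z⁻¹ = z :=
  inv_eq_of_mul_eq_one_right (iso_mul_self hz)

theorem iso_ne_one {z : G} (hz : Cfsg.IsIsolatedInvolution z) : z ≠ 1 := by
  intro h
  have := hz.1
  rw [h, orderOf_one] at this
  omega

theorem conj_mul_self {z : G} (hz : z * z = 1) (g : G) : (g * z * g⁻¹) * (g * z * g⁻¹) = 1 := by
  calc (g * z * g⁻¹) * (g * z * g⁻¹) = g * (z * z) * g⁻¹ := by group
    _ = 1 := by rw [hz]; group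

/-- A conjugate of an isolated involution is an isolated involution. -/
theorem iso_conj {z : G} (hz : Cfsg.IsIsolatedInvolution z) (g : G) :
    Cfsg.IsIsolatedInvolution (g * z * g⁻¹) := by
  refine ⟨?_, ?_⟩
  · have := (MulAut.conj g).orderOf_eq z
    rw [MulAut.conj_apply] at this
    rw [this, hz.1]
  · intro h hc
    have h1 : Commute z ((g⁻¹ * h * g) * z * (g⁻¹ * h * g)⁻¹) := by
      have e : (g⁻¹ * h * g) * z * (g⁻¹ * h * g)⁻¹ = g⁻¹ * (h * (g * z * g⁻¹) * h⁻¹) * g := by group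
      rw [e]
      have hc' : (g * z * g⁻¹) * (h * (g * z * g⁻¹) * h⁻¹) = (h * (g * z * g⁻¹) * h⁻¹) * (g * z * g⁻¹) := hc
      show z * (g⁻¹ * (h * (g * z * g⁻¹) * h⁻¹) * g) = (g⁻¹ * (h * (g * z * g⁻¹) * h⁻¹) * g) * z
      calc z * (g⁻¹ * (h * (g * z * g⁻¹) * h⁻¹) * g)
          = g⁻¹ * ((g * z * g⁻¹) * (h * (g * z * g⁻¹) * h⁻¹)) * g := by group
        _ = g⁻¹ * ((h * (g * z * g⁻¹) * h⁻¹) * (g * z * g⁻¹)) * g := by rw [hc']
        _ = (g⁻¹ * (h * (g * z * g⁻¹) * h⁻¹) * g) * z := by group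
    have h2 := hz.2 _ h1
    calc h * (g * z * g⁻¹) * h⁻¹ = g * ((g⁻¹ * h * g) * z * (g⁻¹ * h * g)⁻¹) * g⁻¹ := by group
      _ = g * z * g⁻¹ := by rw [h2]

/-- For an isolated involution `z` and a conjugate `w`, the product `z * w` has odd order. -/
theorem iso_odd_order_mul [Finite G] {z : G} (hz : Cfsg.IsIsolatedInvolution z) (g : G) :
    Odd (orderOf (z * (g * z * g⁻¹))) := by
  set w := g * z * g⁻¹ with hw
  have hzz := iso_mul_self hz
  have hww : w * w = 1 := conj_mul_self hzz g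
  rw [← Nat.not_even_iff_odd]
  intro heven
  obtain ⟨k, hk⟩ := heven
  have hpos : 0 < orderOf (z * w) := orderOf_pos _
  have hk0 : 0 < k := by omega
  have hklt : k < orderOf (z * w) := by omega
  have hu1 : (z * w) ^ k ≠ 1 := pow_ne_one_of_lt_orderOf hk0.ne' hklt
  have huu : (z * w) ^ k * (z * w) ^ k = 1 := by
    rw [← pow_add, ← hk, pow_orderOf_eq_one]
  have hui : ((z * w) ^ k)⁻¹ = (z * w) ^ k := inv_eq_of_mul_eq_one_right huu
  have hcomm : z * (z * w) ^ k = (z * w) ^ k * z := by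
    rw [dih_mul_pow hzz hww, hui]
  -- z * u is a conjugate of z commuting with z
  have hconj : ∃ c : G, c * z * c⁻¹ = z * (z * w) ^ k := by
    rcases Nat.even_or_odd' k with ⟨j, hj | hj⟩
    · refine ⟨((z * w) ^ j)⁻¹, ?_⟩
      rw [dih_conj_even hzz hww, hj, two_mul]
    · refine ⟨((z * w) ^ j)⁻¹ * g, ?_⟩
      have := dih_conj_odd hzz hww j
      rw [hj, two_mul, ← this, hw]
      group
  obtain ⟨c, hc⟩ := hconj
  have hcm : Commute z (c * z * c⁻¹) := by
    rw [hc]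
    show z * (z * (z * w) ^ k) = (z * (z * w) ^ k) * z
    rw [mul_assoc, ← hcomm]
  have := hz.2 c hcm
  rw [hc] at this
  exact hu1 (mul_left_cancel (this.trans (mul_one z).symm))

/-- For an isolated involution `z` and a conjugate `w = g z g⁻¹`, some power `l` of `w * z` conjugates
`z` to `w`. -/
theorem iso_conj_by_pow [Finite G] {z : G} (hz : Cfsg.IsIsolatedInvolution z) (g : G) :
    ∃ m : ℕ, ((g * z * g⁻¹) * z) ^ m * z * (((g * z * g⁻¹) * z) ^ m)⁻¹ = g * z * g⁻¹ := by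
  set w := g * z * g⁻¹ with hw
  have hzz := iso_mul_self hz
  have hww : w * w = 1 := conj_mul_self hzz g
  have hzi := iso_inv hz
  have hwi : w⁻¹ = w := inv_eq_of_mul_eq_one_right hww
  have hinv : w * z = (z * w)⁻¹ := by rw [mul_inv_rev, hzi, hwi]
  have hodd : Odd (orderOf (w * z)) := by
    rw [hinv, orderOf_inv]
    exact iso_odd_order_mul hz g
  obtain ⟨j, hj⟩ := hodd
  refine ⟨j + 1, ?_⟩
  -- l z l⁻¹ = l * l * z  since z l⁻¹ = l z
  have h1 : z * ((w * z) ^ (j + 1))⁻¹ = (w * z) ^ (j + 1) * z := by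
    have := dih_mul_pow hzz hww (j + 1)
    -- z * (z*w)^(j+1) = ((z*w)^(j+1))⁻¹ * z
    rw [hinv, inv_pow, inv_inv, this]
  calc (w * z) ^ (j + 1) * z * ((w * z) ^ (j + 1))⁻¹
      = (w * z) ^ (j + 1) * (z * ((w * z) ^ (j + 1))⁻¹) := by rw [mul_assoc]
    _ = (w * z) ^ (j + 1) * ((w * z) ^ (j + 1) * z) := by rw [h1]
    _ = (w * z) ^ (2 * j + 1 + 1) * z := by rw [← mul_assoc, ← pow_add]; congr 2; omega
    _ = w := by rw [← hj, pow_succ, pow_orderOf_eq_one, one_mul, mul_assoc, hzz, mul_one]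

/-! ### The set `K` of elements of odd order inverted by `z` -/

/-- Squaring is injective on elements of odd order. -/
theorem sq_inj_of_odd {a b : G} (ha : Odd (orderOf a)) (hb : Odd (orderOf b))
    (h : a * a = b * b) : a = b := by
  obtain ⟨i, hi⟩ := ha
  obtain ⟨j, hj⟩ := hb
  have ha' : a = (a * a) ^ (i + 1) := by
    rw [← pow_two, ← pow_mul]
    have : 2 * (i + 1) = orderOf a + 1 := by omega
    rw [this, pow_succ, pow_orderOf_eq_one, one_mul]
  have hb' : b = (a * a) ^ (j + 1) := by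
    rw [h, ← pow_two, ← pow_mul]
    have : 2 * (j + 1) = orderOf b + 1 := by omega
    rw [this, pow_succ, pow_orderOf_eq_one, one_mul]
  have hcomm : Commute a b := by
    rw [ha', hb']
    exact (Commute.refl (a * a)).pow_pow _ _
  have hcomm' : Commute a b⁻¹ := hcomm.inv_right
  have hsq : (a * b⁻¹) ^ 2 = 1 := by
    rw [hcomm'.mul_pow, pow_two, pow_two, h]
    group
  have h2 : orderOf (a * b⁻¹) ∣ 2 := orderOf_dvd_of_pow_eq_one hsq
  have hl : orderOf (a * b⁻¹) ∣ Nat.lcm (orderOf a) (orderOf b⁻¹) := hcomm'.orderOf_mul_dvd_lcm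
  have hoddl : Odd (Nat.lcm (orderOf a) (orderOf b⁻¹)) := by
    rw [orderOf_inv, hi, hj]
    rw [← Nat.not_even_iff_odd]
    intro he
    have h2l : 2 ∣ Nat.lcm (2 * i + 1) (2 * j + 1) := even_iff_two_dvd.mp he
    have hc : Nat.Coprime 2 (2 * i + 1) := by
      rw [Nat.coprime_two_left]; exact ⟨i, rfl⟩
    have hc' : Nat.Coprime 2 (2 * j + 1) := by
      rw [Nat.coprime_two_left]; exact ⟨j, rfl⟩
    have := Nat.Coprime.dvd_of_dvd_mul_left hc (dvd_trans h2l (Nat.lcm_dvd_mul _ _))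
    omega
  have h1 : orderOf (a * b⁻¹) = 1 := by
    rcases (Nat.dvd_prime Nat.prime_two).mp h2 with h' | h'
    · exact h'
    · rw [h'] at hl
      exact absurd (even_iff_two_dvd.mpr hl) (Nat.not_even_iff_odd.mpr hoddl)
  exact mul_inv_eq_one.mp (orderOf_eq_one_iff.mp h1)

/-- If `z` (an involution) inverts `k`, then `k z k⁻¹ = k² z`. -/
theorem conj_of_inverted {z k : G} (hk : z * k * z⁻¹ = k⁻¹) : k * z * k⁻¹ = k * k * z := by
  have : z * k⁻¹ = k * z := by
    calc z * k⁻¹ = (z * k * z⁻¹)⁻¹ * z := by group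
      _ = k * z := by rw [hk, inv_inv]
  rw [mul_assoc k z, this, mul_assoc]

/-- Existence of an element of `K` in each coset `g C`. -/
theorem iso_K_exists [Finite G] {z : G} (hz : Cfsg.IsIsolatedInvolution z) (g : G) :
    ∃ k : G, Odd (orderOf k) ∧ z * k * z⁻¹ = k⁻¹ ∧ k * z * k⁻¹ = g * z * g⁻¹ ∧
      k ∈ Subgroup.zpowers ((g * z * g⁻¹) * z) := by
  obtain ⟨m, hm⟩ := iso_conj_by_pow hz g
  have hzz := iso_mul_self hz
  have hzi := iso_inv hz
  have hww : (g * z * g⁻¹) * (g * z * g⁻¹) = 1 := conj_mul_self hzz g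
  have hwi : (g * z * g⁻¹)⁻¹ = g * z * g⁻¹ := inv_eq_of_mul_eq_one_right hww
  have hinv : (g * z * g⁻¹) * z = (z * (g * z * g⁻¹))⁻¹ := by rw [mul_inv_rev, hzi, hwi]
  refine ⟨((g * z * g⁻¹) * z) ^ m, ?_, ?_, hm, Subgroup.pow_mem _ (Subgroup.mem_zpowers _) m⟩
  · have hodd : Odd (orderOf ((g * z * g⁻¹) * z)) := by
      rw [hinv, orderOf_inv]
      exact iso_odd_order_mul hz g
    exact Odd.of_dvd_nat hodd (orderOf_pow_dvd m)
  · have : z * ((g * z * g⁻¹) * z) * z⁻¹ = ((g * z * g⁻¹) * z)⁻¹ := by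
      rw [mul_inv_rev, hwi, hzi, mul_assoc, mul_assoc, hzz, mul_one]
    rw [← conj_pow, this, inv_pow]

/-- Uniqueness: two elements of `K` giving the same conjugate of `z` are equal. -/
theorem iso_K_unique {z k k' : G} (hk : Odd (orderOf k)) (hkz : z * k * z⁻¹ = k⁻¹)
    (hk' : Odd (orderOf k')) (hkz' : z * k' * z⁻¹ = k'⁻¹)
    (h : k * z * k⁻¹ = k' * z * k'⁻¹) : k = k' := by
  rw [conj_of_inverted hkz, conj_of_inverted hkz'] at h
  exact sq_inj_of_odd hk hk' (mul_right_cancel h)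

theorem mem_centralizer_iff_conj {z c : G} :
    c ∈ Subgroup.centralizer ({z} : Set G) ↔ c * z * c⁻¹ = z := by
  rw [Subgroup.mem_centralizer_singleton_iff]
  constructor
  · intro h; rw [h]; group
  · intro h
    calc c * z = (c * z * c⁻¹) * c := by group
      _ = z * c := by rw [h]

end Cfsg.Agent.Lib.Helper20
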