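import Mathlib
import Cfsg.Agent.Lib.Helper57.J1

/-!
Element orders of the Janko group `J₁` (explicit matrix group of the Prelude), on top of the checked
table of helper57: a Boolean test on codes saying that one of the powers
`g^6, g^10, g^15, g^7, g^11, g^19` is the identity, and its soundness.
-/

namespace Cfsg.Agent.Lib.Helper20.J1Spec

open Cfsg.Agent.Lib.Helper57 Cfsg.Agent.Lib.Helper57.J1

/-- one of `c^6, c^10, c^15, c^7, c^11, c^19` is the identity code -/
def ordOK (c : ℕ) : Bool :=
  natForce c fun c =>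
  natForce (mulR c c) fun c2 =>
  natForce (mulR c2 c) fun c3 =>
  cond (Nat.beq (mulR c3 c3) J1.oneC) true <|
  natForce (mulR c3 c2) fun c5 =>
  natForce (mulR c5 c5) fun c10 =>
  cond (Nat.beq c10 J1.oneC) true <|
  cond (Nat.beq (mulR c10 c5) J1.oneC) true <|
  cond (Nat.beq (mulR c5 c2) J1.oneC) true <|
  cond (Nat.beq (mulR c10 c) J1.oneC) true <|
  natForce (mulR (mulR c10 c5) c2) fun c17 =>
  Nat.beq (mulR c17 c2) J1.oneC

theorem ordOK_spec {c : ℕ} (h : ordOK c = true) :
    mulR (mulR (mulR c c) c) (mulR (mulR c c) c) = J1.oneC ∨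
    mulR (mulR (mulR (mulR c c) c) (mulR c c)) (mulR (mulR (mulR c c) c) (mulR c c)) = J1.oneC ∨
    mulR (mulR (mulR (mulR (mulR c c) c) (mulR c c)) (mulR (mulR (mulR c c) c) (mulR c c)))
      (mulR (mulR (mulR c c) c) (mulR c c)) = J1.oneC ∨
    mulR (mulR (mulR (mulR c c) c) (mulR c c)) (mulR c c) = J1.oneC ∨
    mulR (mulR (mulR (mulR (mulR c c) c) (mulR c c)) (mulR (mulR (mulR c c) c) (mulR c c))) c
      = J1.oneC ∨
    mulR (mulR (mulR (mulR (mulR (mulR (mulR c c) c) (mulR c c))
      (mulR (mulR (mulR c c) c) (mulR c c))) (mulR (mulR (mulR c c) c) (mulR c c))) (mulR c c))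
      (mulR c c) = J1.oneC := by
  simp only [ordOK, natForce_eq] at h
  by_cases h1 : Nat.beq (mulR (mulR (mulR c c) c) (mulR (mulR c c) c)) J1.oneC = true
  · exact Or.inl (Nat.eq_of_beq_eq_true h1)
  rw [Bool.not_eq_true] at h1
  rw [h1, cond_false] at h
  by_cases h2 : Nat.beq (mulR (mulR (mulR (mulR c c) c) (mulR c c))
      (mulR (mulR (mulR c c) c) (mulR c c))) J1.oneC = true
  · exact Or.inr (Or.inl (Nat.eq_of_beq_eq_true h2))
  rw [Bool.not_eq_true] at h2
  rw [h2, cond_false] at h
  by_cases h3 : Nat.beq (mulR (mulR (mulR (mulR (mulR c c) c) (mulR c c))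
      (mulR (mulR (mulR c c) c) (mulR c c))) (mulR (mulR (mulR c c) c) (mulR c c))) J1.oneC = true
  · exact Or.inr (Or.inr (Or.inl (Nat.eq_of_beq_eq_true h3)))
  rw [Bool.not_eq_true] at h3
  rw [h3, cond_false] at h
  by_cases h4 : Nat.beq (mulR (mulR (mulR (mulR c c) c) (mulR c c)) (mulR c c)) J1.oneC = true
  · exact Or.inr (Or.inr (Or.inr (Or.inl (Nat.eq_of_beq_eq_true h4))))
  rw [Bool.not_eq_true] at h4
  rw [h4, cond_false] at h
  by_cases h5 : Nat.beq (mulR (mulR (mulR (mulR (mulR c c) c) (mulR c c))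
      (mulR (mulR (mulR c c) c) (mulR c c))) c) J1.oneC = true
  · exact Or.inr (Or.inr (Or.inr (Or.inr (Or.inl (Nat.eq_of_beq_eq_true h5)))))
  rw [Bool.not_eq_true] at h5
  rw [h5, cond_false] at h
  exact Or.inr (Or.inr (Or.inr (Or.inr (Or.inr (Nat.eq_of_beq_eq_true h)))))

theorem coded_eq_one {u : GL (Fin 7) (ZMod 11)} (h : Coded u J1.oneC) : u = 1 :=
  h.ext coded_one

/-- soundness of the test -/
theorem pow_eq_one_of_ordOK {u : GL (Fin 7) (ZMod 11)} {c : ℕ} (hu : Coded u c)
    (h : ordOK c = true) :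
    u ^ 6 = 1 ∨ u ^ 10 = 1 ∨ u ^ 15 = 1 ∨ u ^ 7 = 1 ∨ u ^ 11 = 1 ∨ u ^ 19 = 1 := by
  have h2 : Coded (u ^ 2) (mulR c c) := by
    have := hu.mul hu
    rwa [← pow_two] at this
  have h3 : Coded (u ^ 3) (mulR (mulR c c) c) := by
    have := h2.mul hu
    rwa [← pow_succ] at this
  have h5 : Coded (u ^ 5) (mulR (mulR (mulR c c) c) (mulR c c)) := by
    have := h3.mul h2
    rwa [← pow_add] at this
  have h10 : Coded (u ^ 10) (mulR (mulR (mulR (mulR c c) c) (mulR c c))
      (mulR (mulR (mulR c c) c) (mulR c c))) := by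
    have := h5.mul h5
    rwa [← pow_add] at this
  rcases ordOK_spec h with e | e | e | e | e | e
  · left
    have := h3.mul h3
    rw [← pow_add, e] at this
    exact coded_eq_one this
  · right; left
    rw [e] at h10
    exact coded_eq_one h10
  · right; right; left
    have := h10.mul h5
    rw [← pow_add, e] at this
    exact coded_eq_one this
  · right; right; right; left
    have := h5.mul h2
    rw [← pow_add, e] at this
    exact coded_eq_one this
  · right; right; right; right; left
    have := h10.mul hu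
    rw [← pow_succ, e] at this
    exact coded_eq_one this
  · right; right; right; right; right
    have := ((h10.mul h5).mul h2).mul h2
    rw [← pow_add, ← pow_add, ← pow_add, e] at this
    exact coded_eq_one this

/-- the test on the table entry `i` -/
def ordAt (i : ℕ) : Bool := ordOK (D.T i)

end Cfsg.Agent.Lib.Helper20.J1Spec
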