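import Cfsg.Agent.Lib.Helper20.J1SpecA

set_option autoImplicit false
set_option maxHeartbeats 4000000

/-!
Element orders of `J₁`: the test `ordAt` on the table entries 0 .. 5015
(chunks of 456 entries to keep the memory of the kernel evaluation small).
-/

namespace Cfsg.Agent.Lib.Helper20.J1Spec

open Cfsg.Agent.Lib.Helper57 Cfsg.Agent.Lib.Helper57.J1

theorem ord_0 : allFrom 0 456 ordAt = true := by decide +kernel

theorem ord_1 : allFrom 456 456 ordAt = true := by decide +kernel

theorem ord_2 : allFrom 912 456 ordAt = true := by decide +kernel

theorem ord_3 : allFrom 1368 456 ordAt = true := by decide +kernel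

theorem ord_4 : allFrom 1824 456 ordAt = true := by decide +kernel

theorem ord_5 : allFrom 2280 456 ordAt = true := by decide +kernel

theorem ord_6 : allFrom 2736 456 ordAt = true := by decide +kernel

theorem ord_7 : allFrom 3192 456 ordAt = true := by decide +kernel

theorem ord_8 : allFrom 3648 456 ordAt = true := by decide +kernel

theorem ord_9 : allFrom 4104 456 ordAt = true := by decide +kernel

theorem ord_10 : allFrom 4560 456 ordAt = true := by decide +kernel

theorem ord_part_0 (i : ℕ) (h1 : 0 ≤ i) (h2 : i < 5016) : ordAt i = true := by
  by_cases h0 : i < 456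
  · exact allFrom_spec ord_0 i (by omega) (by omega)
  by_cases h1 : i < 912
  · exact allFrom_spec ord_1 i (by omega) (by omega)
  by_cases h2 : i < 1368
  · exact allFrom_spec ord_2 i (by omega) (by omega)
  by_cases h3 : i < 1824
  · exact allFrom_spec ord_3 i (by omega) (by omega)
  by_cases h4 : i < 2280
  · exact allFrom_spec ord_4 i (by omega) (by omega)
  by_cases h5 : i < 2736
  · exact allFrom_spec ord_5 i (by omega) (by omega)
  by_cases h6 : i < 3192
  · exact allFrom_spec ord_6 i (by omega) (by omega)
  by_cases h7 : i < 3648
  · exact allFrom_spec ord_7 i (by omega) (by omega)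
  by_cases h8 : i < 4104
  · exact allFrom_spec ord_8 i (by omega) (by omega)
  by_cases h9 : i < 4560
  · exact allFrom_spec ord_9 i (by omega) (by omega)
  exact allFrom_spec ord_10 i (by omega) (by omega)

end Cfsg.Agent.Lib.Helper20.J1Spec
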