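import Cfsg.Agent.Lib.Helper20.J1SpecA

set_option autoImplicit false
set_option maxHeartbeats 4000000

/-!
Element orders of `J₁`: the test `ordAt` on the table entries 5016 .. 10031
(chunks of 456 entries to keep the memory of the kernel evaluation small).
-/

namespace Cfsg.Agent.Lib.Helper20.J1Spec

open Cfsg.Agent.Lib.Helper57 Cfsg.Agent.Lib.Helper57.J1

theorem ord_11 : allFrom 5016 456 ordAt = true := by decide +kernel

theorem ord_12 : allFrom 5472 456 ordAt = true := by decide +kernel

theorem ord_13 : allFrom 5928 456 ordAt = true := by decide +kernel

theorem ord_14 : allFrom 6384 456 ordAt = true := by decide +kernel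

theorem ord_15 : allFrom 6840 456 ordAt = true := by decide +kernel

theorem ord_16 : allFrom 7296 456 ordAt = true := by decide +kernel

theorem ord_17 : allFrom 7752 456 ordAt = true := by decide +kernel

theorem ord_18 : allFrom 8208 456 ordAt = true := by decide +kernel

theorem ord_19 : allFrom 8664 456 ordAt = true := by decide +kernel

theorem ord_20 : allFrom 9120 456 ordAt = true := by decide +kernel

theorem ord_21 : allFrom 9576 456 ordAt = true := by decide +kernel

theorem ord_part_1 (i : ℕ) (h1 : 5016 ≤ i) (h2 : i < 10032) : ordAt i = true := by
  by_cases h11 : i < 5472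
  · exact allFrom_spec ord_11 i (by omega) (by omega)
  by_cases h12 : i < 5928
  · exact allFrom_spec ord_12 i (by omega) (by omega)
  by_cases h13 : i < 6384
  · exact allFrom_spec ord_13 i (by omega) (by omega)
  by_cases h14 : i < 6840
  · exact allFrom_spec ord_14 i (by omega) (by omega)
  by_cases h15 : i < 7296
  · exact allFrom_spec ord_15 i (by omega) (by omega)
  by_cases h16 : i < 7752
  · exact allFrom_spec ord_16 i (by omega) (by omega)
  by_cases h17 : i < 8208
  · exact allFrom_spec ord_17 i (by omega) (by omega)
  by_cases h18 : i < 8664
  · exact allFrom_spec ord_18 i (by omega) (by omega)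
  by_cases h19 : i < 9120
  · exact allFrom_spec ord_19 i (by omega) (by omega)
  by_cases h20 : i < 9576
  · exact allFrom_spec ord_20 i (by omega) (by omega)
  exact allFrom_spec ord_21 i (by omega) (by omega)

end Cfsg.Agent.Lib.Helper20.J1Spec
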