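import Cfsg.Agent.Lib.Helper20.J1SpecA

set_option autoImplicit false
set_option maxHeartbeats 4000000

/-!
Element orders of `J₁`: the test `ordAt` on the table entries 50160 .. 55175
(chunks of 456 entries to keep the memory of the kernel evaluation small).
-/

namespace Cfsg.Agent.Lib.Helper20.J1Spec

open Cfsg.Agent.Lib.Helper57 Cfsg.Agent.Lib.Helper57.J1

theorem ord_110 : allFrom 50160 456 ordAt = true := by decide +kernel

theorem ord_111 : allFrom 50616 456 ordAt = true := by decide +kernel

theorem ord_112 : allFrom 51072 456 ordAt = true := by decide +kernel

theorem ord_113 : allFrom 51528 456 ordAt = true := by decide +kernel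

theorem ord_114 : allFrom 51984 456 ordAt = true := by decide +kernel

theorem ord_115 : allFrom 52440 456 ordAt = true := by decide +kernel

theorem ord_116 : allFrom 52896 456 ordAt = true := by decide +kernel

theorem ord_117 : allFrom 53352 456 ordAt = true := by decide +kernel

theorem ord_118 : allFrom 53808 456 ordAt = true := by decide +kernel

theorem ord_119 : allFrom 54264 456 ordAt = true := by decide +kernel

theorem ord_120 : allFrom 54720 456 ordAt = true := by decide +kernel

theorem ord_part_10 (i : ℕ) (h1 : 50160 ≤ i) (h2 : i < 55176) : ordAt i = true := by
  by_cases h110 : i < 50616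
  · exact allFrom_spec ord_110 i (by omega) (by omega)
  by_cases h111 : i < 51072
  · exact allFrom_spec ord_111 i (by omega) (by omega)
  by_cases h112 : i < 51528
  · exact allFrom_spec ord_112 i (by omega) (by omega)
  by_cases h113 : i < 51984
  · exact allFrom_spec ord_113 i (by omega) (by omega)
  by_cases h114 : i < 52440
  · exact allFrom_spec ord_114 i (by omega) (by omega)
  by_cases h115 : i < 52896
  · exact allFrom_spec ord_115 i (by omega) (by omega)
  by_cases h116 : i < 53352
  · exact allFrom_spec ord_116 i (by omega) (by omega)
  by_cases h117 : i < 53808
  · exact allFrom_spec ord_117 i (by omega) (by omega)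
  by_cases h118 : i < 54264
  · exact allFrom_spec ord_118 i (by omega) (by omega)
  by_cases h119 : i < 54720
  · exact allFrom_spec ord_119 i (by omega) (by omega)
  exact allFrom_spec ord_120 i (by omega) (by omega)

end Cfsg.Agent.Lib.Helper20.J1Spec
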