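import Cfsg.Agent.Lib.Helper20.J1SpecA

set_option autoImplicit false
set_option maxHeartbeats 4000000

/-!
Element orders of `J₁`: the test `ordAt` on the table entries 60192 .. 65207
(chunks of 456 entries to keep the memory of the kernel evaluation small).
-/

namespace Cfsg.Agent.Lib.Helper20.J1Spec

open Cfsg.Agent.Lib.Helper57 Cfsg.Agent.Lib.Helper57.J1

theorem ord_132 : allFrom 60192 456 ordAt = true := by decide +kernel

theorem ord_133 : allFrom 60648 456 ordAt = true := by decide +kernel

theorem ord_134 : allFrom 61104 456 ordAt = true := by decide +kernel

theorem ord_135 : allFrom 61560 456 ordAt = true := by decide +kernel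

theorem ord_136 : allFrom 62016 456 ordAt = true := by decide +kernel

theorem ord_137 : allFrom 62472 456 ordAt = true := by decide +kernel

theorem ord_138 : allFrom 62928 456 ordAt = true := by decide +kernel

theorem ord_139 : allFrom 63384 456 ordAt = true := by decide +kernel

theorem ord_140 : allFrom 63840 456 ordAt = true := by decide +kernel

theorem ord_141 : allFrom 64296 456 ordAt = true := by decide +kernel

theorem ord_142 : allFrom 64752 456 ordAt = true := by decide +kernel

theorem ord_part_12 (i : ℕ) (h1 : 60192 ≤ i) (h2 : i < 65208) : ordAt i = true := by
  by_cases h132 : i < 60648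
  · exact allFrom_spec ord_132 i (by omega) (by omega)
  by_cases h133 : i < 61104
  · exact allFrom_spec ord_133 i (by omega) (by omega)
  by_cases h134 : i < 61560
  · exact allFrom_spec ord_134 i (by omega) (by omega)
  by_cases h135 : i < 62016
  · exact allFrom_spec ord_135 i (by omega) (by omega)
  by_cases h136 : i < 62472
  · exact allFrom_spec ord_136 i (by omega) (by omega)
  by_cases h137 : i < 62928
  · exact allFrom_spec ord_137 i (by omega) (by omega)
  by_cases h138 : i < 63384
  · exact allFrom_spec ord_138 i (by omega) (by omega)
  by_cases h139 : i < 63840
  · exact allFrom_spec ord_139 i (by omega) (by omega)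
  by_cases h140 : i < 64296
  · exact allFrom_spec ord_140 i (by omega) (by omega)
  by_cases h141 : i < 64752
  · exact allFrom_spec ord_141 i (by omega) (by omega)
  exact allFrom_spec ord_142 i (by omega) (by omega)

end Cfsg.Agent.Lib.Helper20.J1Spec
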