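import Cfsg.Agent.Lib.Helper20.J1SpecA

set_option autoImplicit false
set_option maxHeartbeats 4000000

/-!
Element orders of `J₁`: the test `ordAt` on the table entries 65208 .. 70223
(chunks of 456 entries to keep the memory of the kernel evaluation small).
-/

namespace Cfsg.Agent.Lib.Helper20.J1Spec

open Cfsg.Agent.Lib.Helper57 Cfsg.Agent.Lib.Helper57.J1

theorem ord_143 : allFrom 65208 456 ordAt = true := by decide +kernel

theorem ord_144 : allFrom 65664 456 ordAt = true := by decide +kernel

theorem ord_145 : allFrom 66120 456 ordAt = true := by decide +kernel

theorem ord_146 : allFrom 66576 456 ordAt = true := by decide +kernel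

theorem ord_147 : allFrom 67032 456 ordAt = true := by decide +kernel

theorem ord_148 : allFrom 67488 456 ordAt = true := by decide +kernel

theorem ord_149 : allFrom 67944 456 ordAt = true := by decide +kernel

theorem ord_150 : allFrom 68400 456 ordAt = true := by decide +kernel

theorem ord_151 : allFrom 68856 456 ordAt = true := by decide +kernel

theorem ord_152 : allFrom 69312 456 ordAt = true := by decide +kernel

theorem ord_153 : allFrom 69768 456 ordAt = true := by decide +kernel

theorem ord_part_13 (i : ℕ) (h1 : 65208 ≤ i) (h2 : i < 70224) : ordAt i = true := by
  by_cases h143 : i < 65664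
  · exact allFrom_spec ord_143 i (by omega) (by omega)
  by_cases h144 : i < 66120
  · exact allFrom_spec ord_144 i (by omega) (by omega)
  by_cases h145 : i < 66576
  · exact allFrom_spec ord_145 i (by omega) (by omega)
  by_cases h146 : i < 67032
  · exact allFrom_spec ord_146 i (by omega) (by omega)
  by_cases h147 : i < 67488
  · exact allFrom_spec ord_147 i (by omega) (by omega)
  by_cases h148 : i < 67944
  · exact allFrom_spec ord_148 i (by omega) (by omega)
  by_cases h149 : i < 68400
  · exact allFrom_spec ord_149 i (by omega) (by omega)
  by_cases h150 : i < 68856
  · exact allFrom_spec ord_150 i (by omega) (by omega)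
  by_cases h151 : i < 69312
  · exact allFrom_spec ord_151 i (by omega) (by omega)
  by_cases h152 : i < 69768
  · exact allFrom_spec ord_152 i (by omega) (by omega)
  exact allFrom_spec ord_153 i (by omega) (by omega)

end Cfsg.Agent.Lib.Helper20.J1Spec
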