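import Cfsg.Agent.Lib.Helper20.J1SpecA

set_option autoImplicit false
set_option maxHeartbeats 4000000

/-!
Element orders of `J₁`: the test `ordAt` on the table entries 70224 .. 75239
(chunks of 456 entries to keep the memory of the kernel evaluation small).
-/

namespace Cfsg.Agent.Lib.Helper20.J1Spec

open Cfsg.Agent.Lib.Helper57 Cfsg.Agent.Lib.Helper57.J1

theorem ord_154 : allFrom 70224 456 ordAt = true := by decide +kernel

theorem ord_155 : allFrom 70680 456 ordAt = true := by decide +kernel

theorem ord_156 : allFrom 71136 456 ordAt = true := by decide +kernel

theorem ord_157 : allFrom 71592 456 ordAt = true := by decide +kernel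

theorem ord_158 : allFrom 72048 456 ordAt = true := by decide +kernel

theorem ord_159 : allFrom 72504 456 ordAt = true := by decide +kernel

theorem ord_160 : allFrom 72960 456 ordAt = true := by decide +kernel

theorem ord_161 : allFrom 73416 456 ordAt = true := by decide +kernel

theorem ord_162 : allFrom 73872 456 ordAt = true := by decide +kernel

theorem ord_163 : allFrom 74328 456 ordAt = true := by decide +kernel

theorem ord_164 : allFrom 74784 456 ordAt = true := by decide +kernel

theorem ord_part_14 (i : ℕ) (h1 : 70224 ≤ i) (h2 : i < 75240) : ordAt i = true := by
  by_cases h154 : i < 70680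
  · exact allFrom_spec ord_154 i (by omega) (by omega)
  by_cases h155 : i < 71136
  · exact allFrom_spec ord_155 i (by omega) (by omega)
  by_cases h156 : i < 71592
  · exact allFrom_spec ord_156 i (by omega) (by omega)
  by_cases h157 : i < 72048
  · exact allFrom_spec ord_157 i (by omega) (by omega)
  by_cases h158 : i < 72504
  · exact allFrom_spec ord_158 i (by omega) (by omega)
  by_cases h159 : i < 72960
  · exact allFrom_spec ord_159 i (by omega) (by omega)
  by_cases h160 : i < 73416
  · exact allFrom_spec ord_160 i (by omega) (by omega)
  by_cases h161 : i < 73872
  · exact allFrom_spec ord_161 i (by omega) (by omega)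
  by_cases h162 : i < 74328
  · exact allFrom_spec ord_162 i (by omega) (by omega)
  by_cases h163 : i < 74784
  · exact allFrom_spec ord_163 i (by omega) (by omega)
  exact allFrom_spec ord_164 i (by omega) (by omega)

end Cfsg.Agent.Lib.Helper20.J1Spec
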