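import Cfsg.Agent.Lib.Helper20.J1SpecA

set_option autoImplicit false
set_option maxHeartbeats 4000000

/-!
Element orders of `J₁`: the test `ordAt` on the table entries 75240 .. 80255
(chunks of 456 entries to keep the memory of the kernel evaluation small).
-/

namespace Cfsg.Agent.Lib.Helper20.J1Spec

open Cfsg.Agent.Lib.Helper57 Cfsg.Agent.Lib.Helper57.J1

theorem ord_165 : allFrom 75240 456 ordAt = true := by decide +kernel

theorem ord_166 : allFrom 75696 456 ordAt = true := by decide +kernel

theorem ord_167 : allFrom 76152 456 ordAt = true := by decide +kernel

theorem ord_168 : allFrom 76608 456 ordAt = true := by decide +kernel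

theorem ord_169 : allFrom 77064 456 ordAt = true := by decide +kernel

theorem ord_170 : allFrom 77520 456 ordAt = true := by decide +kernel

theorem ord_171 : allFrom 77976 456 ordAt = true := by decide +kernel

theorem ord_172 : allFrom 78432 456 ordAt = true := by decide +kernel

theorem ord_173 : allFrom 78888 456 ordAt = true := by decide +kernel

theorem ord_174 : allFrom 79344 456 ordAt = true := by decide +kernel

theorem ord_175 : allFrom 79800 456 ordAt = true := by decide +kernel

theorem ord_part_15 (i : ℕ) (h1 : 75240 ≤ i) (h2 : i < 80256) : ordAt i = true := by
  by_cases h165 : i < 75696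
  · exact allFrom_spec ord_165 i (by omega) (by omega)
  by_cases h166 : i < 76152
  · exact allFrom_spec ord_166 i (by omega) (by omega)
  by_cases h167 : i < 76608
  · exact allFrom_spec ord_167 i (by omega) (by omega)
  by_cases h168 : i < 77064
  · exact allFrom_spec ord_168 i (by omega) (by omega)
  by_cases h169 : i < 77520
  · exact allFrom_spec ord_169 i (by omega) (by omega)
  by_cases h170 : i < 77976
  · exact allFrom_spec ord_170 i (by omega) (by omega)
  by_cases h171 : i < 78432
  · exact allFrom_spec ord_171 i (by omega) (by omega)
  by_cases h172 : i < 78888
  · exact allFrom_spec ord_172 i (by omega) (by omega)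
  by_cases h173 : i < 79344
  · exact allFrom_spec ord_173 i (by omega) (by omega)
  by_cases h174 : i < 79800
  · exact allFrom_spec ord_174 i (by omega) (by omega)
  exact allFrom_spec ord_175 i (by omega) (by omega)

end Cfsg.Agent.Lib.Helper20.J1Spec
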