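import Cfsg.Agent.Lib.Helper20.J1SpecA

set_option autoImplicit false
set_option maxHeartbeats 4000000

/-!
Element orders of `J₁`: the test `ordAt` on the table entries 80256 .. 85271
(chunks of 456 entries to keep the memory of the kernel evaluation small).
-/

namespace Cfsg.Agent.Lib.Helper20.J1Spec

open Cfsg.Agent.Lib.Helper57 Cfsg.Agent.Lib.Helper57.J1

theorem ord_176 : allFrom 80256 456 ordAt = true := by decide +kernel

theorem ord_177 : allFrom 80712 456 ordAt = true := by decide +kernel

theorem ord_178 : allFrom 81168 456 ordAt = true := by decide +kernel

theorem ord_179 : allFrom 81624 456 ordAt = true := by decide +kernel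

theorem ord_180 : allFrom 82080 456 ordAt = true := by decide +kernel

theorem ord_181 : allFrom 82536 456 ordAt = true := by decide +kernel

theorem ord_182 : allFrom 82992 456 ordAt = true := by decide +kernel

theorem ord_183 : allFrom 83448 456 ordAt = true := by decide +kernel

theorem ord_184 : allFrom 83904 456 ordAt = true := by decide +kernel

theorem ord_185 : allFrom 84360 456 ordAt = true := by decide +kernel

theorem ord_186 : allFrom 84816 456 ordAt = true := by decide +kernel

theorem ord_part_16 (i : ℕ) (h1 : 80256 ≤ i) (h2 : i < 85272) : ordAt i = true := by
  by_cases h176 : i < 80712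
  · exact allFrom_spec ord_176 i (by omega) (by omega)
  by_cases h177 : i < 81168
  · exact allFrom_spec ord_177 i (by omega) (by omega)
  by_cases h178 : i < 81624
  · exact allFrom_spec ord_178 i (by omega) (by omega)
  by_cases h179 : i < 82080
  · exact allFrom_spec ord_179 i (by omega) (by omega)
  by_cases h180 : i < 82536
  · exact allFrom_spec ord_180 i (by omega) (by omega)
  by_cases h181 : i < 82992
  · exact allFrom_spec ord_181 i (by omega) (by omega)
  by_cases h182 : i < 83448
  · exact allFrom_spec ord_182 i (by omega) (by omega)
  by_cases h183 : i < 83904
  · exact allFrom_spec ord_183 i (by omega) (by omega)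
  by_cases h184 : i < 84360
  · exact allFrom_spec ord_184 i (by omega) (by omega)
  by_cases h185 : i < 84816
  · exact allFrom_spec ord_185 i (by omega) (by omega)
  exact allFrom_spec ord_186 i (by omega) (by omega)

end Cfsg.Agent.Lib.Helper20.J1Spec
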