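import Cfsg.Agent.Lib.Helper20.J1SpecA

set_option autoImplicit false
set_option maxHeartbeats 4000000

/-!
Element orders of `J₁`: the test `ordAt` on the table entries 85272 .. 90287
(chunks of 456 entries to keep the memory of the kernel evaluation small).
-/

namespace Cfsg.Agent.Lib.Helper20.J1Spec

open Cfsg.Agent.Lib.Helper57 Cfsg.Agent.Lib.Helper57.J1

theorem ord_187 : allFrom 85272 456 ordAt = true := by decide +kernel

theorem ord_188 : allFrom 85728 456 ordAt = true := by decide +kernel

theorem ord_189 : allFrom 86184 456 ordAt = true := by decide +kernel

theorem ord_190 : allFrom 86640 456 ordAt = true := by decide +kernel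

theorem ord_191 : allFrom 87096 456 ordAt = true := by decide +kernel

theorem ord_192 : allFrom 87552 456 ordAt = true := by decide +kernel

theorem ord_193 : allFrom 88008 456 ordAt = true := by decide +kernel

theorem ord_194 : allFrom 88464 456 ordAt = true := by decide +kernel

theorem ord_195 : allFrom 88920 456 ordAt = true := by decide +kernel

theorem ord_196 : allFrom 89376 456 ordAt = true := by decide +kernel

theorem ord_197 : allFrom 89832 456 ordAt = true := by decide +kernel

theorem ord_part_17 (i : ℕ) (h1 : 85272 ≤ i) (h2 : i < 90288) : ordAt i = true := by
  by_cases h187 : i < 85728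
  · exact allFrom_spec ord_187 i (by omega) (by omega)
  by_cases h188 : i < 86184
  · exact allFrom_spec ord_188 i (by omega) (by omega)
  by_cases h189 : i < 86640
  · exact allFrom_spec ord_189 i (by omega) (by omega)
  by_cases h190 : i < 87096
  · exact allFrom_spec ord_190 i (by omega) (by omega)
  by_cases h191 : i < 87552
  · exact allFrom_spec ord_191 i (by omega) (by omega)
  by_cases h192 : i < 88008
  · exact allFrom_spec ord_192 i (by omega) (by omega)
  by_cases h193 : i < 88464
  · exact allFrom_spec ord_193 i (by omega) (by omega)
  by_cases h194 : i < 88920
  · exact allFrom_spec ord_194 i (by omega) (by omega)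
  by_cases h195 : i < 89376
  · exact allFrom_spec ord_195 i (by omega) (by omega)
  by_cases h196 : i < 89832
  · exact allFrom_spec ord_196 i (by omega) (by omega)
  exact allFrom_spec ord_197 i (by omega) (by omega)

end Cfsg.Agent.Lib.Helper20.J1Spec
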