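import Cfsg.Agent.Lib.Helper20.J1SpecA

set_option autoImplicit false
set_option maxHeartbeats 4000000

/-!
Element orders of `J₁`: the test `ordAt` on the table entries 90288 .. 95303
(chunks of 456 entries to keep the memory of the kernel evaluation small).
-/

namespace Cfsg.Agent.Lib.Helper20.J1Spec

open Cfsg.Agent.Lib.Helper57 Cfsg.Agent.Lib.Helper57.J1

theorem ord_198 : allFrom 90288 456 ordAt = true := by decide +kernel

theorem ord_199 : allFrom 90744 456 ordAt = true := by decide +kernel

theorem ord_200 : allFrom 91200 456 ordAt = true := by decide +kernel

theorem ord_201 : allFrom 91656 456 ordAt = true := by decide +kernel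

theorem ord_202 : allFrom 92112 456 ordAt = true := by decide +kernel

theorem ord_203 : allFrom 92568 456 ordAt = true := by decide +kernel

theorem ord_204 : allFrom 93024 456 ordAt = true := by decide +kernel

theorem ord_205 : allFrom 93480 456 ordAt = true := by decide +kernel

theorem ord_206 : allFrom 93936 456 ordAt = true := by decide +kernel

theorem ord_207 : allFrom 94392 456 ordAt = true := by decide +kernel

theorem ord_208 : allFrom 94848 456 ordAt = true := by decide +kernel

theorem ord_part_18 (i : ℕ) (h1 : 90288 ≤ i) (h2 : i < 95304) : ordAt i = true := by
  by_cases h198 : i < 90744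
  · exact allFrom_spec ord_198 i (by omega) (by omega)
  by_cases h199 : i < 91200
  · exact allFrom_spec ord_199 i (by omega) (by omega)
  by_cases h200 : i < 91656
  · exact allFrom_spec ord_200 i (by omega) (by omega)
  by_cases h201 : i < 92112
  · exact allFrom_spec ord_201 i (by omega) (by omega)
  by_cases h202 : i < 92568
  · exact allFrom_spec ord_202 i (by omega) (by omega)
  by_cases h203 : i < 93024
  · exact allFrom_spec ord_203 i (by omega) (by omega)
  by_cases h204 : i < 93480
  · exact allFrom_spec ord_204 i (by omega) (by omega)
  by_cases h205 : i < 93936
  · exact allFrom_spec ord_205 i (by omega) (by omega)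
  by_cases h206 : i < 94392
  · exact allFrom_spec ord_206 i (by omega) (by omega)
  by_cases h207 : i < 94848
  · exact allFrom_spec ord_207 i (by omega) (by omega)
  exact allFrom_spec ord_208 i (by omega) (by omega)

end Cfsg.Agent.Lib.Helper20.J1Spec
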