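import Cfsg.Agent.Lib.Helper20.J1SpecA

set_option autoImplicit false
set_option maxHeartbeats 4000000

/-!
Element orders of `J₁`: the test `ordAt` on the table entries 95304 .. 100319
(chunks of 456 entries to keep the memory of the kernel evaluation small).
-/

namespace Cfsg.Agent.Lib.Helper20.J1Spec

open Cfsg.Agent.Lib.Helper57 Cfsg.Agent.Lib.Helper57.J1

theorem ord_209 : allFrom 95304 456 ordAt = true := by decide +kernel

theorem ord_210 : allFrom 95760 456 ordAt = true := by decide +kernel

theorem ord_211 : allFrom 96216 456 ordAt = true := by decide +kernel

theorem ord_212 : allFrom 96672 456 ordAt = true := by decide +kernel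

theorem ord_213 : allFrom 97128 456 ordAt = true := by decide +kernel

theorem ord_214 : allFrom 97584 456 ordAt = true := by decide +kernel

theorem ord_215 : allFrom 98040 456 ordAt = true := by decide +kernel

theorem ord_216 : allFrom 98496 456 ordAt = true := by decide +kernel

theorem ord_217 : allFrom 98952 456 ordAt = true := by decide +kernel

theorem ord_218 : allFrom 99408 456 ordAt = true := by decide +kernel

theorem ord_219 : allFrom 99864 456 ordAt = true := by decide +kernel

theorem ord_part_19 (i : ℕ) (h1 : 95304 ≤ i) (h2 : i < 100320) : ordAt i = true := by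
  by_cases h209 : i < 95760
  · exact allFrom_spec ord_209 i (by omega) (by omega)
  by_cases h210 : i < 96216
  · exact allFrom_spec ord_210 i (by omega) (by omega)
  by_cases h211 : i < 96672
  · exact allFrom_spec ord_211 i (by omega) (by omega)
  by_cases h212 : i < 97128
  · exact allFrom_spec ord_212 i (by omega) (by omega)
  by_cases h213 : i < 97584
  · exact allFrom_spec ord_213 i (by omega) (by omega)
  by_cases h214 : i < 98040
  · exact allFrom_spec ord_214 i (by omega) (by omega)
  by_cases h215 : i < 98496
  · exact allFrom_spec ord_215 i (by omega) (by omega)
  by_cases h216 : i < 98952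
  · exact allFrom_spec ord_216 i (by omega) (by omega)
  by_cases h217 : i < 99408
  · exact allFrom_spec ord_217 i (by omega) (by omega)
  by_cases h218 : i < 99864
  · exact allFrom_spec ord_218 i (by omega) (by omega)
  exact allFrom_spec ord_219 i (by omega) (by omega)

end Cfsg.Agent.Lib.Helper20.J1Spec
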