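import Cfsg.Agent.Lib.Helper20.J1SpecA

set_option autoImplicit false
set_option maxHeartbeats 4000000

/-!
Element orders of `J₁`: the test `ordAt` on the table entries 10032 .. 15047
(chunks of 456 entries to keep the memory of the kernel evaluation small).
-/

namespace Cfsg.Agent.Lib.Helper20.J1Spec

open Cfsg.Agent.Lib.Helper57 Cfsg.Agent.Lib.Helper57.J1

theorem ord_22 : allFrom 10032 456 ordAt = true := by decide +kernel

theorem ord_23 : allFrom 10488 456 ordAt = true := by decide +kernel

theorem ord_24 : allFrom 10944 456 ordAt = true := by decide +kernel

theorem ord_25 : allFrom 11400 456 ordAt = true := by decide +kernel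

theorem ord_26 : allFrom 11856 456 ordAt = true := by decide +kernel

theorem ord_27 : allFrom 12312 456 ordAt = true := by decide +kernel

theorem ord_28 : allFrom 12768 456 ordAt = true := by decide +kernel

theorem ord_29 : allFrom 13224 456 ordAt = true := by decide +kernel

theorem ord_30 : allFrom 13680 456 ordAt = true := by decide +kernel

theorem ord_31 : allFrom 14136 456 ordAt = true := by decide +kernel

theorem ord_32 : allFrom 14592 456 ordAt = true := by decide +kernel

theorem ord_part_2 (i : ℕ) (h1 : 10032 ≤ i) (h2 : i < 15048) : ordAt i = true := by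
  by_cases h22 : i < 10488
  · exact allFrom_spec ord_22 i (by omega) (by omega)
  by_cases h23 : i < 10944
  · exact allFrom_spec ord_23 i (by omega) (by omega)
  by_cases h24 : i < 11400
  · exact allFrom_spec ord_24 i (by omega) (by omega)
  by_cases h25 : i < 11856
  · exact allFrom_spec ord_25 i (by omega) (by omega)
  by_cases h26 : i < 12312
  · exact allFrom_spec ord_26 i (by omega) (by omega)
  by_cases h27 : i < 12768
  · exact allFrom_spec ord_27 i (by omega) (by omega)
  by_cases h28 : i < 13224
  · exact allFrom_spec ord_28 i (by omega) (by omega)
  by_cases h29 : i < 13680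
  · exact allFrom_spec ord_29 i (by omega) (by omega)
  by_cases h30 : i < 14136
  · exact allFrom_spec ord_30 i (by omega) (by omega)
  by_cases h31 : i < 14592
  · exact allFrom_spec ord_31 i (by omega) (by omega)
  exact allFrom_spec ord_32 i (by omega) (by omega)

end Cfsg.Agent.Lib.Helper20.J1Spec
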