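import Cfsg.Agent.Lib.Helper20.J1SpecA

set_option autoImplicit false
set_option maxHeartbeats 4000000

/-!
Element orders of `J₁`: the test `ordAt` on the table entries 100320 .. 105335
(chunks of 456 entries to keep the memory of the kernel evaluation small).
-/

namespace Cfsg.Agent.Lib.Helper20.J1Spec

open Cfsg.Agent.Lib.Helper57 Cfsg.Agent.Lib.Helper57.J1

theorem ord_220 : allFrom 100320 456 ordAt = true := by decide +kernel

theorem ord_221 : allFrom 100776 456 ordAt = true := by decide +kernel

theorem ord_222 : allFrom 101232 456 ordAt = true := by decide +kernel

theorem ord_223 : allFrom 101688 456 ordAt = true := by decide +kernel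

theorem ord_224 : allFrom 102144 456 ordAt = true := by decide +kernel

theorem ord_225 : allFrom 102600 456 ordAt = true := by decide +kernel

theorem ord_226 : allFrom 103056 456 ordAt = true := by decide +kernel

theorem ord_227 : allFrom 103512 456 ordAt = true := by decide +kernel

theorem ord_228 : allFrom 103968 456 ordAt = true := by decide +kernel

theorem ord_229 : allFrom 104424 456 ordAt = true := by decide +kernel

theorem ord_230 : allFrom 104880 456 ordAt = true := by decide +kernel

theorem ord_part_20 (i : ℕ) (h1 : 100320 ≤ i) (h2 : i < 105336) : ordAt i = true := by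
  by_cases h220 : i < 100776
  · exact allFrom_spec ord_220 i (by omega) (by omega)
  by_cases h221 : i < 101232
  · exact allFrom_spec ord_221 i (by omega) (by omega)
  by_cases h222 : i < 101688
  · exact allFrom_spec ord_222 i (by omega) (by omega)
  by_cases h223 : i < 102144
  · exact allFrom_spec ord_223 i (by omega) (by omega)
  by_cases h224 : i < 102600
  · exact allFrom_spec ord_224 i (by omega) (by omega)
  by_cases h225 : i < 103056
  · exact allFrom_spec ord_225 i (by omega) (by omega)
  by_cases h226 : i < 103512
  · exact allFrom_spec ord_226 i (by omega) (by omega)
  by_cases h227 : i < 103968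
  · exact allFrom_spec ord_227 i (by omega) (by omega)
  by_cases h228 : i < 104424
  · exact allFrom_spec ord_228 i (by omega) (by omega)
  by_cases h229 : i < 104880
  · exact allFrom_spec ord_229 i (by omega) (by omega)
  exact allFrom_spec ord_230 i (by omega) (by omega)

end Cfsg.Agent.Lib.Helper20.J1Spec
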