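import Cfsg.Agent.Lib.Helper20.J1SpecA

set_option autoImplicit false
set_option maxHeartbeats 4000000

/-!
Element orders of `J₁`: the test `ordAt` on the table entries 105336 .. 110351
(chunks of 456 entries to keep the memory of the kernel evaluation small).
-/

namespace Cfsg.Agent.Lib.Helper20.J1Spec

open Cfsg.Agent.Lib.Helper57 Cfsg.Agent.Lib.Helper57.J1

theorem ord_231 : allFrom 105336 456 ordAt = true := by decide +kernel

theorem ord_232 : allFrom 105792 456 ordAt = true := by decide +kernel

theorem ord_233 : allFrom 106248 456 ordAt = true := by decide +kernel

theorem ord_234 : allFrom 106704 456 ordAt = true := by decide +kernel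

theorem ord_235 : allFrom 107160 456 ordAt = true := by decide +kernel

theorem ord_236 : allFrom 107616 456 ordAt = true := by decide +kernel

theorem ord_237 : allFrom 108072 456 ordAt = true := by decide +kernel

theorem ord_238 : allFrom 108528 456 ordAt = true := by decide +kernel

theorem ord_239 : allFrom 108984 456 ordAt = true := by decide +kernel

theorem ord_240 : allFrom 109440 456 ordAt = true := by decide +kernel

theorem ord_241 : allFrom 109896 456 ordAt = true := by decide +kernel

theorem ord_part_21 (i : ℕ) (h1 : 105336 ≤ i) (h2 : i < 110352) : ordAt i = true := by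
  by_cases h231 : i < 105792
  · exact allFrom_spec ord_231 i (by omega) (by omega)
  by_cases h232 : i < 106248
  · exact allFrom_spec ord_232 i (by omega) (by omega)
  by_cases h233 : i < 106704
  · exact allFrom_spec ord_233 i (by omega) (by omega)
  by_cases h234 : i < 107160
  · exact allFrom_spec ord_234 i (by omega) (by omega)
  by_cases h235 : i < 107616
  · exact allFrom_spec ord_235 i (by omega) (by omega)
  by_cases h236 : i < 108072
  · exact allFrom_spec ord_236 i (by omega) (by omega)
  by_cases h237 : i < 108528
  · exact allFrom_spec ord_237 i (by omega) (by omega)
  by_cases h238 : i < 108984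
  · exact allFrom_spec ord_238 i (by omega) (by omega)
  by_cases h239 : i < 109440
  · exact allFrom_spec ord_239 i (by omega) (by omega)
  by_cases h240 : i < 109896
  · exact allFrom_spec ord_240 i (by omega) (by omega)
  exact allFrom_spec ord_241 i (by omega) (by omega)

end Cfsg.Agent.Lib.Helper20.J1Spec
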