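import Cfsg.Agent.Lib.Helper20.J1SpecA

set_option autoImplicit false
set_option maxHeartbeats 4000000

/-!
Element orders of `J₁`: the test `ordAt` on the table entries 110352 .. 115367
(chunks of 456 entries to keep the memory of the kernel evaluation small).
-/

namespace Cfsg.Agent.Lib.Helper20.J1Spec

open Cfsg.Agent.Lib.Helper57 Cfsg.Agent.Lib.Helper57.J1

theorem ord_242 : allFrom 110352 456 ordAt = true := by decide +kernel

theorem ord_243 : allFrom 110808 456 ordAt = true := by decide +kernel

theorem ord_244 : allFrom 111264 456 ordAt = true := by decide +kernel

theorem ord_245 : allFrom 111720 456 ordAt = true := by decide +kernel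

theorem ord_246 : allFrom 112176 456 ordAt = true := by decide +kernel

theorem ord_247 : allFrom 112632 456 ordAt = true := by decide +kernel

theorem ord_248 : allFrom 113088 456 ordAt = true := by decide +kernel

theorem ord_249 : allFrom 113544 456 ordAt = true := by decide +kernel

theorem ord_250 : allFrom 114000 456 ordAt = true := by decide +kernel

theorem ord_251 : allFrom 114456 456 ordAt = true := by decide +kernel

theorem ord_252 : allFrom 114912 456 ordAt = true := by decide +kernel

theorem ord_part_22 (i : ℕ) (h1 : 110352 ≤ i) (h2 : i < 115368) : ordAt i = true := by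
  by_cases h242 : i < 110808
  · exact allFrom_spec ord_242 i (by omega) (by omega)
  by_cases h243 : i < 111264
  · exact allFrom_spec ord_243 i (by omega) (by omega)
  by_cases h244 : i < 111720
  · exact allFrom_spec ord_244 i (by omega) (by omega)
  by_cases h245 : i < 112176
  · exact allFrom_spec ord_245 i (by omega) (by omega)
  by_cases h246 : i < 112632
  · exact allFrom_spec ord_246 i (by omega) (by omega)
  by_cases h247 : i < 113088
  · exact allFrom_spec ord_247 i (by omega) (by omega)
  by_cases h248 : i < 113544
  · exact allFrom_spec ord_248 i (by omega) (by omega)
  by_cases h249 : i < 114000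
  · exact allFrom_spec ord_249 i (by omega) (by omega)
  by_cases h250 : i < 114456
  · exact allFrom_spec ord_250 i (by omega) (by omega)
  by_cases h251 : i < 114912
  · exact allFrom_spec ord_251 i (by omega) (by omega)
  exact allFrom_spec ord_252 i (by omega) (by omega)

end Cfsg.Agent.Lib.Helper20.J1Spec
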