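import Cfsg.Agent.Lib.Helper20.J1SpecA

set_option autoImplicit false
set_option maxHeartbeats 4000000

/-!
Element orders of `J₁`: the test `ordAt` on the table entries 120384 .. 125399
(chunks of 456 entries to keep the memory of the kernel evaluation small).
-/

namespace Cfsg.Agent.Lib.Helper20.J1Spec

open Cfsg.Agent.Lib.Helper57 Cfsg.Agent.Lib.Helper57.J1

theorem ord_264 : allFrom 120384 456 ordAt = true := by decide +kernel

theorem ord_265 : allFrom 120840 456 ordAt = true := by decide +kernel

theorem ord_266 : allFrom 121296 456 ordAt = true := by decide +kernel

theorem ord_267 : allFrom 121752 456 ordAt = true := by decide +kernel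

theorem ord_268 : allFrom 122208 456 ordAt = true := by decide +kernel

theorem ord_269 : allFrom 122664 456 ordAt = true := by decide +kernel

theorem ord_270 : allFrom 123120 456 ordAt = true := by decide +kernel

theorem ord_271 : allFrom 123576 456 ordAt = true := by decide +kernel

theorem ord_272 : allFrom 124032 456 ordAt = true := by decide +kernel

theorem ord_273 : allFrom 124488 456 ordAt = true := by decide +kernel

theorem ord_274 : allFrom 124944 456 ordAt = true := by decide +kernel

theorem ord_part_24 (i : ℕ) (h1 : 120384 ≤ i) (h2 : i < 125400) : ordAt i = true := by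
  by_cases h264 : i < 120840
  · exact allFrom_spec ord_264 i (by omega) (by omega)
  by_cases h265 : i < 121296
  · exact allFrom_spec ord_265 i (by omega) (by omega)
  by_cases h266 : i < 121752
  · exact allFrom_spec ord_266 i (by omega) (by omega)
  by_cases h267 : i < 122208
  · exact allFrom_spec ord_267 i (by omega) (by omega)
  by_cases h268 : i < 122664
  · exact allFrom_spec ord_268 i (by omega) (by omega)
  by_cases h269 : i < 123120
  · exact allFrom_spec ord_269 i (by omega) (by omega)
  by_cases h270 : i < 123576
  · exact allFrom_spec ord_270 i (by omega) (by omega)
  by_cases h271 : i < 124032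
  · exact allFrom_spec ord_271 i (by omega) (by omega)
  by_cases h272 : i < 124488
  · exact allFrom_spec ord_272 i (by omega) (by omega)
  by_cases h273 : i < 124944
  · exact allFrom_spec ord_273 i (by omega) (by omega)
  exact allFrom_spec ord_274 i (by omega) (by omega)

end Cfsg.Agent.Lib.Helper20.J1Spec
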