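import Cfsg.Agent.Lib.Helper20.J1SpecA

set_option autoImplicit false
set_option maxHeartbeats 4000000

/-!
Element orders of `J₁`: the test `ordAt` on the table entries 125400 .. 130415
(chunks of 456 entries to keep the memory of the kernel evaluation small).
-/

namespace Cfsg.Agent.Lib.Helper20.J1Spec

open Cfsg.Agent.Lib.Helper57 Cfsg.Agent.Lib.Helper57.J1

theorem ord_275 : allFrom 125400 456 ordAt = true := by decide +kernel

theorem ord_276 : allFrom 125856 456 ordAt = true := by decide +kernel

theorem ord_277 : allFrom 126312 456 ordAt = true := by decide +kernel

theorem ord_278 : allFrom 126768 456 ordAt = true := by decide +kernel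

theorem ord_279 : allFrom 127224 456 ordAt = true := by decide +kernel

theorem ord_280 : allFrom 127680 456 ordAt = true := by decide +kernel

theorem ord_281 : allFrom 128136 456 ordAt = true := by decide +kernel

theorem ord_282 : allFrom 128592 456 ordAt = true := by decide +kernel

theorem ord_283 : allFrom 129048 456 ordAt = true := by decide +kernel

theorem ord_284 : allFrom 129504 456 ordAt = true := by decide +kernel

theorem ord_285 : allFrom 129960 456 ordAt = true := by decide +kernel

theorem ord_part_25 (i : ℕ) (h1 : 125400 ≤ i) (h2 : i < 130416) : ordAt i = true := by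
  by_cases h275 : i < 125856
  · exact allFrom_spec ord_275 i (by omega) (by omega)
  by_cases h276 : i < 126312
  · exact allFrom_spec ord_276 i (by omega) (by omega)
  by_cases h277 : i < 126768
  · exact allFrom_spec ord_277 i (by omega) (by omega)
  by_cases h278 : i < 127224
  · exact allFrom_spec ord_278 i (by omega) (by omega)
  by_cases h279 : i < 127680
  · exact allFrom_spec ord_279 i (by omega) (by omega)
  by_cases h280 : i < 128136
  · exact allFrom_spec ord_280 i (by omega) (by omega)
  by_cases h281 : i < 128592
  · exact allFrom_spec ord_281 i (by omega) (by omega)
  by_cases h282 : i < 129048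
  · exact allFrom_spec ord_282 i (by omega) (by omega)
  by_cases h283 : i < 129504
  · exact allFrom_spec ord_283 i (by omega) (by omega)
  by_cases h284 : i < 129960
  · exact allFrom_spec ord_284 i (by omega) (by omega)
  exact allFrom_spec ord_285 i (by omega) (by omega)

end Cfsg.Agent.Lib.Helper20.J1Spec
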