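import Cfsg.Agent.Lib.Helper20.J1SpecA

set_option autoImplicit false
set_option maxHeartbeats 4000000

/-!
Element orders of `J₁`: the test `ordAt` on the table entries 130416 .. 135431
(chunks of 456 entries to keep the memory of the kernel evaluation small).
-/

namespace Cfsg.Agent.Lib.Helper20.J1Spec

open Cfsg.Agent.Lib.Helper57 Cfsg.Agent.Lib.Helper57.J1

theorem ord_286 : allFrom 130416 456 ordAt = true := by decide +kernel

theorem ord_287 : allFrom 130872 456 ordAt = true := by decide +kernel

theorem ord_288 : allFrom 131328 456 ordAt = true := by decide +kernel

theorem ord_289 : allFrom 131784 456 ordAt = true := by decide +kernel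

theorem ord_290 : allFrom 132240 456 ordAt = true := by decide +kernel

theorem ord_291 : allFrom 132696 456 ordAt = true := by decide +kernel

theorem ord_292 : allFrom 133152 456 ordAt = true := by decide +kernel

theorem ord_293 : allFrom 133608 456 ordAt = true := by decide +kernel

theorem ord_294 : allFrom 134064 456 ordAt = true := by decide +kernel

theorem ord_295 : allFrom 134520 456 ordAt = true := by decide +kernel

theorem ord_296 : allFrom 134976 456 ordAt = true := by decide +kernel

theorem ord_part_26 (i : ℕ) (h1 : 130416 ≤ i) (h2 : i < 135432) : ordAt i = true := by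
  by_cases h286 : i < 130872
  · exact allFrom_spec ord_286 i (by omega) (by omega)
  by_cases h287 : i < 131328
  · exact allFrom_spec ord_287 i (by omega) (by omega)
  by_cases h288 : i < 131784
  · exact allFrom_spec ord_288 i (by omega) (by omega)
  by_cases h289 : i < 132240
  · exact allFrom_spec ord_289 i (by omega) (by omega)
  by_cases h290 : i < 132696
  · exact allFrom_spec ord_290 i (by omega) (by omega)
  by_cases h291 : i < 133152
  · exact allFrom_spec ord_291 i (by omega) (by omega)
  by_cases h292 : i < 133608
  · exact allFrom_spec ord_292 i (by omega) (by omega)
  by_cases h293 : i < 134064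
  · exact allFrom_spec ord_293 i (by omega) (by omega)
  by_cases h294 : i < 134520
  · exact allFrom_spec ord_294 i (by omega) (by omega)
  by_cases h295 : i < 134976
  · exact allFrom_spec ord_295 i (by omega) (by omega)
  exact allFrom_spec ord_296 i (by omega) (by omega)

end Cfsg.Agent.Lib.Helper20.J1Spec
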