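import Cfsg.Agent.Lib.Helper20.J1SpecA

set_option autoImplicit false
set_option maxHeartbeats 4000000

/-!
Element orders of `J₁`: the test `ordAt` on the table entries 135432 .. 140447
(chunks of 456 entries to keep the memory of the kernel evaluation small).
-/

namespace Cfsg.Agent.Lib.Helper20.J1Spec

open Cfsg.Agent.Lib.Helper57 Cfsg.Agent.Lib.Helper57.J1

theorem ord_297 : allFrom 135432 456 ordAt = true := by decide +kernel

theorem ord_298 : allFrom 135888 456 ordAt = true := by decide +kernel

theorem ord_299 : allFrom 136344 456 ordAt = true := by decide +kernel

theorem ord_300 : allFrom 136800 456 ordAt = true := by decide +kernel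

theorem ord_301 : allFrom 137256 456 ordAt = true := by decide +kernel

theorem ord_302 : allFrom 137712 456 ordAt = true := by decide +kernel

theorem ord_303 : allFrom 138168 456 ordAt = true := by decide +kernel

theorem ord_304 : allFrom 138624 456 ordAt = true := by decide +kernel

theorem ord_305 : allFrom 139080 456 ordAt = true := by decide +kernel

theorem ord_306 : allFrom 139536 456 ordAt = true := by decide +kernel

theorem ord_307 : allFrom 139992 456 ordAt = true := by decide +kernel

theorem ord_part_27 (i : ℕ) (h1 : 135432 ≤ i) (h2 : i < 140448) : ordAt i = true := by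
  by_cases h297 : i < 135888
  · exact allFrom_spec ord_297 i (by omega) (by omega)
  by_cases h298 : i < 136344
  · exact allFrom_spec ord_298 i (by omega) (by omega)
  by_cases h299 : i < 136800
  · exact allFrom_spec ord_299 i (by omega) (by omega)
  by_cases h300 : i < 137256
  · exact allFrom_spec ord_300 i (by omega) (by omega)
  by_cases h301 : i < 137712
  · exact allFrom_spec ord_301 i (by omega) (by omega)
  by_cases h302 : i < 138168
  · exact allFrom_spec ord_302 i (by omega) (by omega)
  by_cases h303 : i < 138624
  · exact allFrom_spec ord_303 i (by omega) (by omega)
  by_cases h304 : i < 139080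
  · exact allFrom_spec ord_304 i (by omega) (by omega)
  by_cases h305 : i < 139536
  · exact allFrom_spec ord_305 i (by omega) (by omega)
  by_cases h306 : i < 139992
  · exact allFrom_spec ord_306 i (by omega) (by omega)
  exact allFrom_spec ord_307 i (by omega) (by omega)

end Cfsg.Agent.Lib.Helper20.J1Spec
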