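import Cfsg.Agent.Lib.Helper20.J1SpecA

set_option autoImplicit false
set_option maxHeartbeats 4000000

/-!
Element orders of `J₁`: the test `ordAt` on the table entries 140448 .. 145463
(chunks of 456 entries to keep the memory of the kernel evaluation small).
-/

namespace Cfsg.Agent.Lib.Helper20.J1Spec

open Cfsg.Agent.Lib.Helper57 Cfsg.Agent.Lib.Helper57.J1

theorem ord_308 : allFrom 140448 456 ordAt = true := by decide +kernel

theorem ord_309 : allFrom 140904 456 ordAt = true := by decide +kernel

theorem ord_310 : allFrom 141360 456 ordAt = true := by decide +kernel

theorem ord_311 : allFrom 141816 456 ordAt = true := by decide +kernel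

theorem ord_312 : allFrom 142272 456 ordAt = true := by decide +kernel

theorem ord_313 : allFrom 142728 456 ordAt = true := by decide +kernel

theorem ord_314 : allFrom 143184 456 ordAt = true := by decide +kernel

theorem ord_315 : allFrom 143640 456 ordAt = true := by decide +kernel

theorem ord_316 : allFrom 144096 456 ordAt = true := by decide +kernel

theorem ord_317 : allFrom 144552 456 ordAt = true := by decide +kernel

theorem ord_318 : allFrom 145008 456 ordAt = true := by decide +kernel

theorem ord_part_28 (i : ℕ) (h1 : 140448 ≤ i) (h2 : i < 145464) : ordAt i = true := by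
  by_cases h308 : i < 140904
  · exact allFrom_spec ord_308 i (by omega) (by omega)
  by_cases h309 : i < 141360
  · exact allFrom_spec ord_309 i (by omega) (by omega)
  by_cases h310 : i < 141816
  · exact allFrom_spec ord_310 i (by omega) (by omega)
  by_cases h311 : i < 142272
  · exact allFrom_spec ord_311 i (by omega) (by omega)
  by_cases h312 : i < 142728
  · exact allFrom_spec ord_312 i (by omega) (by omega)
  by_cases h313 : i < 143184
  · exact allFrom_spec ord_313 i (by omega) (by omega)
  by_cases h314 : i < 143640
  · exact allFrom_spec ord_314 i (by omega) (by omega)
  by_cases h315 : i < 144096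
  · exact allFrom_spec ord_315 i (by omega) (by omega)
  by_cases h316 : i < 144552
  · exact allFrom_spec ord_316 i (by omega) (by omega)
  by_cases h317 : i < 145008
  · exact allFrom_spec ord_317 i (by omega) (by omega)
  exact allFrom_spec ord_318 i (by omega) (by omega)

end Cfsg.Agent.Lib.Helper20.J1Spec
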