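import Cfsg.Agent.Lib.Helper20.J1SpecA

set_option autoImplicit false
set_option maxHeartbeats 4000000

/-!
Element orders of `J₁`: the test `ordAt` on the table entries 145464 .. 150479
(chunks of 456 entries to keep the memory of the kernel evaluation small).
-/

namespace Cfsg.Agent.Lib.Helper20.J1Spec

open Cfsg.Agent.Lib.Helper57 Cfsg.Agent.Lib.Helper57.J1

theorem ord_319 : allFrom 145464 456 ordAt = true := by decide +kernel

theorem ord_320 : allFrom 145920 456 ordAt = true := by decide +kernel

theorem ord_321 : allFrom 146376 456 ordAt = true := by decide +kernel

theorem ord_322 : allFrom 146832 456 ordAt = true := by decide +kernel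

theorem ord_323 : allFrom 147288 456 ordAt = true := by decide +kernel

theorem ord_324 : allFrom 147744 456 ordAt = true := by decide +kernel

theorem ord_325 : allFrom 148200 456 ordAt = true := by decide +kernel

theorem ord_326 : allFrom 148656 456 ordAt = true := by decide +kernel

theorem ord_327 : allFrom 149112 456 ordAt = true := by decide +kernel

theorem ord_328 : allFrom 149568 456 ordAt = true := by decide +kernel

theorem ord_329 : allFrom 150024 456 ordAt = true := by decide +kernel

theorem ord_part_29 (i : ℕ) (h1 : 145464 ≤ i) (h2 : i < 150480) : ordAt i = true := by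
  by_cases h319 : i < 145920
  · exact allFrom_spec ord_319 i (by omega) (by omega)
  by_cases h320 : i < 146376
  · exact allFrom_spec ord_320 i (by omega) (by omega)
  by_cases h321 : i < 146832
  · exact allFrom_spec ord_321 i (by omega) (by omega)
  by_cases h322 : i < 147288
  · exact allFrom_spec ord_322 i (by omega) (by omega)
  by_cases h323 : i < 147744
  · exact allFrom_spec ord_323 i (by omega) (by omega)
  by_cases h324 : i < 148200
  · exact allFrom_spec ord_324 i (by omega) (by omega)
  by_cases h325 : i < 148656
  · exact allFrom_spec ord_325 i (by omega) (by omega)
  by_cases h326 : i < 149112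
  · exact allFrom_spec ord_326 i (by omega) (by omega)
  by_cases h327 : i < 149568
  · exact allFrom_spec ord_327 i (by omega) (by omega)
  by_cases h328 : i < 150024
  · exact allFrom_spec ord_328 i (by omega) (by omega)
  exact allFrom_spec ord_329 i (by omega) (by omega)

end Cfsg.Agent.Lib.Helper20.J1Spec
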