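import Cfsg.Agent.Lib.Helper20.J1SpecA

set_option autoImplicit false
set_option maxHeartbeats 4000000

/-!
Element orders of `J₁`: the test `ordAt` on the table entries 15048 .. 20063
(chunks of 456 entries to keep the memory of the kernel evaluation small).
-/

namespace Cfsg.Agent.Lib.Helper20.J1Spec

open Cfsg.Agent.Lib.Helper57 Cfsg.Agent.Lib.Helper57.J1

theorem ord_33 : allFrom 15048 456 ordAt = true := by decide +kernel

theorem ord_34 : allFrom 15504 456 ordAt = true := by decide +kernel

theorem ord_35 : allFrom 15960 456 ordAt = true := by decide +kernel

theorem ord_36 : allFrom 16416 456 ordAt = true := by decide +kernel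

theorem ord_37 : allFrom 16872 456 ordAt = true := by decide +kernel

theorem ord_38 : allFrom 17328 456 ordAt = true := by decide +kernel

theorem ord_39 : allFrom 17784 456 ordAt = true := by decide +kernel

theorem ord_40 : allFrom 18240 456 ordAt = true := by decide +kernel

theorem ord_41 : allFrom 18696 456 ordAt = true := by decide +kernel

theorem ord_42 : allFrom 19152 456 ordAt = true := by decide +kernel

theorem ord_43 : allFrom 19608 456 ordAt = true := by decide +kernel

theorem ord_part_3 (i : ℕ) (h1 : 15048 ≤ i) (h2 : i < 20064) : ordAt i = true := by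
  by_cases h33 : i < 15504
  · exact allFrom_spec ord_33 i (by omega) (by omega)
  by_cases h34 : i < 15960
  · exact allFrom_spec ord_34 i (by omega) (by omega)
  by_cases h35 : i < 16416
  · exact allFrom_spec ord_35 i (by omega) (by omega)
  by_cases h36 : i < 16872
  · exact allFrom_spec ord_36 i (by omega) (by omega)
  by_cases h37 : i < 17328
  · exact allFrom_spec ord_37 i (by omega) (by omega)
  by_cases h38 : i < 17784
  · exact allFrom_spec ord_38 i (by omega) (by omega)
  by_cases h39 : i < 18240
  · exact allFrom_spec ord_39 i (by omega) (by omega)
  by_cases h40 : i < 18696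
  · exact allFrom_spec ord_40 i (by omega) (by omega)
  by_cases h41 : i < 19152
  · exact allFrom_spec ord_41 i (by omega) (by omega)
  by_cases h42 : i < 19608
  · exact allFrom_spec ord_42 i (by omega) (by omega)
  exact allFrom_spec ord_43 i (by omega) (by omega)

end Cfsg.Agent.Lib.Helper20.J1Spec
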