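import Cfsg.Agent.Lib.Helper20.J1SpecA

set_option autoImplicit false
set_option maxHeartbeats 4000000

/-!
Element orders of `J₁`: the test `ordAt` on the table entries 150480 .. 155495
(chunks of 456 entries to keep the memory of the kernel evaluation small).
-/

namespace Cfsg.Agent.Lib.Helper20.J1Spec

open Cfsg.Agent.Lib.Helper57 Cfsg.Agent.Lib.Helper57.J1

theorem ord_330 : allFrom 150480 456 ordAt = true := by decide +kernel

theorem ord_331 : allFrom 150936 456 ordAt = true := by decide +kernel

theorem ord_332 : allFrom 151392 456 ordAt = true := by decide +kernel

theorem ord_333 : allFrom 151848 456 ordAt = true := by decide +kernel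

theorem ord_334 : allFrom 152304 456 ordAt = true := by decide +kernel

theorem ord_335 : allFrom 152760 456 ordAt = true := by decide +kernel

theorem ord_336 : allFrom 153216 456 ordAt = true := by decide +kernel

theorem ord_337 : allFrom 153672 456 ordAt = true := by decide +kernel

theorem ord_338 : allFrom 154128 456 ordAt = true := by decide +kernel

theorem ord_339 : allFrom 154584 456 ordAt = true := by decide +kernel

theorem ord_340 : allFrom 155040 456 ordAt = true := by decide +kernel

theorem ord_part_30 (i : ℕ) (h1 : 150480 ≤ i) (h2 : i < 155496) : ordAt i = true := by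
  by_cases h330 : i < 150936
  · exact allFrom_spec ord_330 i (by omega) (by omega)
  by_cases h331 : i < 151392
  · exact allFrom_spec ord_331 i (by omega) (by omega)
  by_cases h332 : i < 151848
  · exact allFrom_spec ord_332 i (by omega) (by omega)
  by_cases h333 : i < 152304
  · exact allFrom_spec ord_333 i (by omega) (by omega)
  by_cases h334 : i < 152760
  · exact allFrom_spec ord_334 i (by omega) (by omega)
  by_cases h335 : i < 153216
  · exact allFrom_spec ord_335 i (by omega) (by omega)
  by_cases h336 : i < 153672
  · exact allFrom_spec ord_336 i (by omega) (by omega)
  by_cases h337 : i < 154128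
  · exact allFrom_spec ord_337 i (by omega) (by omega)
  by_cases h338 : i < 154584
  · exact allFrom_spec ord_338 i (by omega) (by omega)
  by_cases h339 : i < 155040
  · exact allFrom_spec ord_339 i (by omega) (by omega)
  exact allFrom_spec ord_340 i (by omega) (by omega)

end Cfsg.Agent.Lib.Helper20.J1Spec
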