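import Cfsg.Agent.Lib.Helper20.J1SpecA

set_option autoImplicit false
set_option maxHeartbeats 4000000

/-!
Element orders of `J₁`: the test `ordAt` on the table entries 155496 .. 160511
(chunks of 456 entries to keep the memory of the kernel evaluation small).
-/

namespace Cfsg.Agent.Lib.Helper20.J1Spec

open Cfsg.Agent.Lib.Helper57 Cfsg.Agent.Lib.Helper57.J1

theorem ord_341 : allFrom 155496 456 ordAt = true := by decide +kernel

theorem ord_342 : allFrom 155952 456 ordAt = true := by decide +kernel

theorem ord_343 : allFrom 156408 456 ordAt = true := by decide +kernel

theorem ord_344 : allFrom 156864 456 ordAt = true := by decide +kernel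

theorem ord_345 : allFrom 157320 456 ordAt = true := by decide +kernel

theorem ord_346 : allFrom 157776 456 ordAt = true := by decide +kernel

theorem ord_347 : allFrom 158232 456 ordAt = true := by decide +kernel

theorem ord_348 : allFrom 158688 456 ordAt = true := by decide +kernel

theorem ord_349 : allFrom 159144 456 ordAt = true := by decide +kernel

theorem ord_350 : allFrom 159600 456 ordAt = true := by decide +kernel

theorem ord_351 : allFrom 160056 456 ordAt = true := by decide +kernel

theorem ord_part_31 (i : ℕ) (h1 : 155496 ≤ i) (h2 : i < 160512) : ordAt i = true := by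
  by_cases h341 : i < 155952
  · exact allFrom_spec ord_341 i (by omega) (by omega)
  by_cases h342 : i < 156408
  · exact allFrom_spec ord_342 i (by omega) (by omega)
  by_cases h343 : i < 156864
  · exact allFrom_spec ord_343 i (by omega) (by omega)
  by_cases h344 : i < 157320
  · exact allFrom_spec ord_344 i (by omega) (by omega)
  by_cases h345 : i < 157776
  · exact allFrom_spec ord_345 i (by omega) (by omega)
  by_cases h346 : i < 158232
  · exact allFrom_spec ord_346 i (by omega) (by omega)
  by_cases h347 : i < 158688
  · exact allFrom_spec ord_347 i (by omega) (by omega)
  by_cases h348 : i < 159144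
  · exact allFrom_spec ord_348 i (by omega) (by omega)
  by_cases h349 : i < 159600
  · exact allFrom_spec ord_349 i (by omega) (by omega)
  by_cases h350 : i < 160056
  · exact allFrom_spec ord_350 i (by omega) (by omega)
  exact allFrom_spec ord_351 i (by omega) (by omega)

end Cfsg.Agent.Lib.Helper20.J1Spec
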