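import Cfsg.Agent.Lib.Helper20.J1SpecA

set_option autoImplicit false
set_option maxHeartbeats 4000000

/-!
Element orders of `J₁`: the test `ordAt` on the table entries 160512 .. 165527
(chunks of 456 entries to keep the memory of the kernel evaluation small).
-/

namespace Cfsg.Agent.Lib.Helper20.J1Spec

open Cfsg.Agent.Lib.Helper57 Cfsg.Agent.Lib.Helper57.J1

theorem ord_352 : allFrom 160512 456 ordAt = true := by decide +kernel

theorem ord_353 : allFrom 160968 456 ordAt = true := by decide +kernel

theorem ord_354 : allFrom 161424 456 ordAt = true := by decide +kernel

theorem ord_355 : allFrom 161880 456 ordAt = true := by decide +kernel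

theorem ord_356 : allFrom 162336 456 ordAt = true := by decide +kernel

theorem ord_357 : allFrom 162792 456 ordAt = true := by decide +kernel

theorem ord_358 : allFrom 163248 456 ordAt = true := by decide +kernel

theorem ord_359 : allFrom 163704 456 ordAt = true := by decide +kernel

theorem ord_360 : allFrom 164160 456 ordAt = true := by decide +kernel

theorem ord_361 : allFrom 164616 456 ordAt = true := by decide +kernel

theorem ord_362 : allFrom 165072 456 ordAt = true := by decide +kernel

theorem ord_part_32 (i : ℕ) (h1 : 160512 ≤ i) (h2 : i < 165528) : ordAt i = true := by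
  by_cases h352 : i < 160968
  · exact allFrom_spec ord_352 i (by omega) (by omega)
  by_cases h353 : i < 161424
  · exact allFrom_spec ord_353 i (by omega) (by omega)
  by_cases h354 : i < 161880
  · exact allFrom_spec ord_354 i (by omega) (by omega)
  by_cases h355 : i < 162336
  · exact allFrom_spec ord_355 i (by omega) (by omega)
  by_cases h356 : i < 162792
  · exact allFrom_spec ord_356 i (by omega) (by omega)
  by_cases h357 : i < 163248
  · exact allFrom_spec ord_357 i (by omega) (by omega)
  by_cases h358 : i < 163704
  · exact allFrom_spec ord_358 i (by omega) (by omega)
  by_cases h359 : i < 164160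
  · exact allFrom_spec ord_359 i (by omega) (by omega)
  by_cases h360 : i < 164616
  · exact allFrom_spec ord_360 i (by omega) (by omega)
  by_cases h361 : i < 165072
  · exact allFrom_spec ord_361 i (by omega) (by omega)
  exact allFrom_spec ord_362 i (by omega) (by omega)

end Cfsg.Agent.Lib.Helper20.J1Spec
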