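import Cfsg.Agent.Lib.Helper20.J1SpecA

set_option autoImplicit false
set_option maxHeartbeats 4000000

/-!
Element orders of `J₁`: the test `ordAt` on the table entries 165528 .. 170543
(chunks of 456 entries to keep the memory of the kernel evaluation small).
-/

namespace Cfsg.Agent.Lib.Helper20.J1Spec

open Cfsg.Agent.Lib.Helper57 Cfsg.Agent.Lib.Helper57.J1

theorem ord_363 : allFrom 165528 456 ordAt = true := by decide +kernel

theorem ord_364 : allFrom 165984 456 ordAt = true := by decide +kernel

theorem ord_365 : allFrom 166440 456 ordAt = true := by decide +kernel

theorem ord_366 : allFrom 166896 456 ordAt = true := by decide +kernel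

theorem ord_367 : allFrom 167352 456 ordAt = true := by decide +kernel

theorem ord_368 : allFrom 167808 456 ordAt = true := by decide +kernel

theorem ord_369 : allFrom 168264 456 ordAt = true := by decide +kernel

theorem ord_370 : allFrom 168720 456 ordAt = true := by decide +kernel

theorem ord_371 : allFrom 169176 456 ordAt = true := by decide +kernel

theorem ord_372 : allFrom 169632 456 ordAt = true := by decide +kernel

theorem ord_373 : allFrom 170088 456 ordAt = true := by decide +kernel

theorem ord_part_33 (i : ℕ) (h1 : 165528 ≤ i) (h2 : i < 170544) : ordAt i = true := by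
  by_cases h363 : i < 165984
  · exact allFrom_spec ord_363 i (by omega) (by omega)
  by_cases h364 : i < 166440
  · exact allFrom_spec ord_364 i (by omega) (by omega)
  by_cases h365 : i < 166896
  · exact allFrom_spec ord_365 i (by omega) (by omega)
  by_cases h366 : i < 167352
  · exact allFrom_spec ord_366 i (by omega) (by omega)
  by_cases h367 : i < 167808
  · exact allFrom_spec ord_367 i (by omega) (by omega)
  by_cases h368 : i < 168264
  · exact allFrom_spec ord_368 i (by omega) (by omega)
  by_cases h369 : i < 168720
  · exact allFrom_spec ord_369 i (by omega) (by omega)
  by_cases h370 : i < 169176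
  · exact allFrom_spec ord_370 i (by omega) (by omega)
  by_cases h371 : i < 169632
  · exact allFrom_spec ord_371 i (by omega) (by omega)
  by_cases h372 : i < 170088
  · exact allFrom_spec ord_372 i (by omega) (by omega)
  exact allFrom_spec ord_373 i (by omega) (by omega)

end Cfsg.Agent.Lib.Helper20.J1Spec
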