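import Cfsg.Agent.Lib.Helper20.J1SpecA

set_option autoImplicit false
set_option maxHeartbeats 4000000

/-!
Element orders of `J₁`: the test `ordAt` on the table entries 170544 .. 175559
(chunks of 456 entries to keep the memory of the kernel evaluation small).
-/

namespace Cfsg.Agent.Lib.Helper20.J1Spec

open Cfsg.Agent.Lib.Helper57 Cfsg.Agent.Lib.Helper57.J1

theorem ord_374 : allFrom 170544 456 ordAt = true := by decide +kernel

theorem ord_375 : allFrom 171000 456 ordAt = true := by decide +kernel

theorem ord_376 : allFrom 171456 456 ordAt = true := by decide +kernel

theorem ord_377 : allFrom 171912 456 ordAt = true := by decide +kernel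

theorem ord_378 : allFrom 172368 456 ordAt = true := by decide +kernel

theorem ord_379 : allFrom 172824 456 ordAt = true := by decide +kernel

theorem ord_380 : allFrom 173280 456 ordAt = true := by decide +kernel

theorem ord_381 : allFrom 173736 456 ordAt = true := by decide +kernel

theorem ord_382 : allFrom 174192 456 ordAt = true := by decide +kernel

theorem ord_383 : allFrom 174648 456 ordAt = true := by decide +kernel

theorem ord_384 : allFrom 175104 456 ordAt = true := by decide +kernel

theorem ord_part_34 (i : ℕ) (h1 : 170544 ≤ i) (h2 : i < 175560) : ordAt i = true := by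
  by_cases h374 : i < 171000
  · exact allFrom_spec ord_374 i (by omega) (by omega)
  by_cases h375 : i < 171456
  · exact allFrom_spec ord_375 i (by omega) (by omega)
  by_cases h376 : i < 171912
  · exact allFrom_spec ord_376 i (by omega) (by omega)
  by_cases h377 : i < 172368
  · exact allFrom_spec ord_377 i (by omega) (by omega)
  by_cases h378 : i < 172824
  · exact allFrom_spec ord_378 i (by omega) (by omega)
  by_cases h379 : i < 173280
  · exact allFrom_spec ord_379 i (by omega) (by omega)
  by_cases h380 : i < 173736
  · exact allFrom_spec ord_380 i (by omega) (by omega)
  by_cases h381 : i < 174192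
  · exact allFrom_spec ord_381 i (by omega) (by omega)
  by_cases h382 : i < 174648
  · exact allFrom_spec ord_382 i (by omega) (by omega)
  by_cases h383 : i < 175104
  · exact allFrom_spec ord_383 i (by omega) (by omega)
  exact allFrom_spec ord_384 i (by omega) (by omega)

end Cfsg.Agent.Lib.Helper20.J1Spec
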