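import Cfsg.Agent.Lib.Helper20.J1SpecA

set_option autoImplicit false
set_option maxHeartbeats 4000000

/-!
Element orders of `J₁`: the test `ordAt` on the table entries 20064 .. 25079
(chunks of 456 entries to keep the memory of the kernel evaluation small).
-/

namespace Cfsg.Agent.Lib.Helper20.J1Spec

open Cfsg.Agent.Lib.Helper57 Cfsg.Agent.Lib.Helper57.J1

theorem ord_44 : allFrom 20064 456 ordAt = true := by decide +kernel

theorem ord_45 : allFrom 20520 456 ordAt = true := by decide +kernel

theorem ord_46 : allFrom 20976 456 ordAt = true := by decide +kernel

theorem ord_47 : allFrom 21432 456 ordAt = true := by decide +kernel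

theorem ord_48 : allFrom 21888 456 ordAt = true := by decide +kernel

theorem ord_49 : allFrom 22344 456 ordAt = true := by decide +kernel

theorem ord_50 : allFrom 22800 456 ordAt = true := by decide +kernel

theorem ord_51 : allFrom 23256 456 ordAt = true := by decide +kernel

theorem ord_52 : allFrom 23712 456 ordAt = true := by decide +kernel

theorem ord_53 : allFrom 24168 456 ordAt = true := by decide +kernel

theorem ord_54 : allFrom 24624 456 ordAt = true := by decide +kernel

theorem ord_part_4 (i : ℕ) (h1 : 20064 ≤ i) (h2 : i < 25080) : ordAt i = true := by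
  by_cases h44 : i < 20520
  · exact allFrom_spec ord_44 i (by omega) (by omega)
  by_cases h45 : i < 20976
  · exact allFrom_spec ord_45 i (by omega) (by omega)
  by_cases h46 : i < 21432
  · exact allFrom_spec ord_46 i (by omega) (by omega)
  by_cases h47 : i < 21888
  · exact allFrom_spec ord_47 i (by omega) (by omega)
  by_cases h48 : i < 22344
  · exact allFrom_spec ord_48 i (by omega) (by omega)
  by_cases h49 : i < 22800
  · exact allFrom_spec ord_49 i (by omega) (by omega)
  by_cases h50 : i < 23256
  · exact allFrom_spec ord_50 i (by omega) (by omega)
  by_cases h51 : i < 23712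
  · exact allFrom_spec ord_51 i (by omega) (by omega)
  by_cases h52 : i < 24168
  · exact allFrom_spec ord_52 i (by omega) (by omega)
  by_cases h53 : i < 24624
  · exact allFrom_spec ord_53 i (by omega) (by omega)
  exact allFrom_spec ord_54 i (by omega) (by omega)

end Cfsg.Agent.Lib.Helper20.J1Spec
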