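import Cfsg.Agent.Lib.Helper20.J1SpecA

set_option autoImplicit false
set_option maxHeartbeats 4000000

/-!
Element orders of `J₁`: the test `ordAt` on the table entries 25080 .. 30095
(chunks of 456 entries to keep the memory of the kernel evaluation small).
-/

namespace Cfsg.Agent.Lib.Helper20.J1Spec

open Cfsg.Agent.Lib.Helper57 Cfsg.Agent.Lib.Helper57.J1

theorem ord_55 : allFrom 25080 456 ordAt = true := by decide +kernel

theorem ord_56 : allFrom 25536 456 ordAt = true := by decide +kernel

theorem ord_57 : allFrom 25992 456 ordAt = true := by decide +kernel

theorem ord_58 : allFrom 26448 456 ordAt = true := by decide +kernel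

theorem ord_59 : allFrom 26904 456 ordAt = true := by decide +kernel

theorem ord_60 : allFrom 27360 456 ordAt = true := by decide +kernel

theorem ord_61 : allFrom 27816 456 ordAt = true := by decide +kernel

theorem ord_62 : allFrom 28272 456 ordAt = true := by decide +kernel

theorem ord_63 : allFrom 28728 456 ordAt = true := by decide +kernel

theorem ord_64 : allFrom 29184 456 ordAt = true := by decide +kernel

theorem ord_65 : allFrom 29640 456 ordAt = true := by decide +kernel

theorem ord_part_5 (i : ℕ) (h1 : 25080 ≤ i) (h2 : i < 30096) : ordAt i = true := by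
  by_cases h55 : i < 25536
  · exact allFrom_spec ord_55 i (by omega) (by omega)
  by_cases h56 : i < 25992
  · exact allFrom_spec ord_56 i (by omega) (by omega)
  by_cases h57 : i < 26448
  · exact allFrom_spec ord_57 i (by omega) (by omega)
  by_cases h58 : i < 26904
  · exact allFrom_spec ord_58 i (by omega) (by omega)
  by_cases h59 : i < 27360
  · exact allFrom_spec ord_59 i (by omega) (by omega)
  by_cases h60 : i < 27816
  · exact allFrom_spec ord_60 i (by omega) (by omega)
  by_cases h61 : i < 28272
  · exact allFrom_spec ord_61 i (by omega) (by omega)
  by_cases h62 : i < 28728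
  · exact allFrom_spec ord_62 i (by omega) (by omega)
  by_cases h63 : i < 29184
  · exact allFrom_spec ord_63 i (by omega) (by omega)
  by_cases h64 : i < 29640
  · exact allFrom_spec ord_64 i (by omega) (by omega)
  exact allFrom_spec ord_65 i (by omega) (by omega)

end Cfsg.Agent.Lib.Helper20.J1Spec
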