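import Cfsg.Agent.Lib.Helper20.J1SpecA

set_option autoImplicit false
set_option maxHeartbeats 4000000

/-!
Element orders of `J₁`: the test `ordAt` on the table entries 30096 .. 35111
(chunks of 456 entries to keep the memory of the kernel evaluation small).
-/

namespace Cfsg.Agent.Lib.Helper20.J1Spec

open Cfsg.Agent.Lib.Helper57 Cfsg.Agent.Lib.Helper57.J1

theorem ord_66 : allFrom 30096 456 ordAt = true := by decide +kernel

theorem ord_67 : allFrom 30552 456 ordAt = true := by decide +kernel

theorem ord_68 : allFrom 31008 456 ordAt = true := by decide +kernel

theorem ord_69 : allFrom 31464 456 ordAt = true := by decide +kernel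

theorem ord_70 : allFrom 31920 456 ordAt = true := by decide +kernel

theorem ord_71 : allFrom 32376 456 ordAt = true := by decide +kernel

theorem ord_72 : allFrom 32832 456 ordAt = true := by decide +kernel

theorem ord_73 : allFrom 33288 456 ordAt = true := by decide +kernel

theorem ord_74 : allFrom 33744 456 ordAt = true := by decide +kernel

theorem ord_75 : allFrom 34200 456 ordAt = true := by decide +kernel

theorem ord_76 : allFrom 34656 456 ordAt = true := by decide +kernel

theorem ord_part_6 (i : ℕ) (h1 : 30096 ≤ i) (h2 : i < 35112) : ordAt i = true := by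
  by_cases h66 : i < 30552
  · exact allFrom_spec ord_66 i (by omega) (by omega)
  by_cases h67 : i < 31008
  · exact allFrom_spec ord_67 i (by omega) (by omega)
  by_cases h68 : i < 31464
  · exact allFrom_spec ord_68 i (by omega) (by omega)
  by_cases h69 : i < 31920
  · exact allFrom_spec ord_69 i (by omega) (by omega)
  by_cases h70 : i < 32376
  · exact allFrom_spec ord_70 i (by omega) (by omega)
  by_cases h71 : i < 32832
  · exact allFrom_spec ord_71 i (by omega) (by omega)
  by_cases h72 : i < 33288
  · exact allFrom_spec ord_72 i (by omega) (by omega)
  by_cases h73 : i < 33744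
  · exact allFrom_spec ord_73 i (by omega) (by omega)
  by_cases h74 : i < 34200
  · exact allFrom_spec ord_74 i (by omega) (by omega)
  by_cases h75 : i < 34656
  · exact allFrom_spec ord_75 i (by omega) (by omega)
  exact allFrom_spec ord_76 i (by omega) (by omega)

end Cfsg.Agent.Lib.Helper20.J1Spec
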