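import Cfsg.Agent.Lib.Helper20.J1SpecA

set_option autoImplicit false
set_option maxHeartbeats 4000000

/-!
Element orders of `J₁`: the test `ordAt` on the table entries 35112 .. 40127
(chunks of 456 entries to keep the memory of the kernel evaluation small).
-/

namespace Cfsg.Agent.Lib.Helper20.J1Spec

open Cfsg.Agent.Lib.Helper57 Cfsg.Agent.Lib.Helper57.J1

theorem ord_77 : allFrom 35112 456 ordAt = true := by decide +kernel

theorem ord_78 : allFrom 35568 456 ordAt = true := by decide +kernel

theorem ord_79 : allFrom 36024 456 ordAt = true := by decide +kernel

theorem ord_80 : allFrom 36480 456 ordAt = true := by decide +kernel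

theorem ord_81 : allFrom 36936 456 ordAt = true := by decide +kernel

theorem ord_82 : allFrom 37392 456 ordAt = true := by decide +kernel

theorem ord_83 : allFrom 37848 456 ordAt = true := by decide +kernel

theorem ord_84 : allFrom 38304 456 ordAt = true := by decide +kernel

theorem ord_85 : allFrom 38760 456 ordAt = true := by decide +kernel

theorem ord_86 : allFrom 39216 456 ordAt = true := by decide +kernel

theorem ord_87 : allFrom 39672 456 ordAt = true := by decide +kernel

theorem ord_part_7 (i : ℕ) (h1 : 35112 ≤ i) (h2 : i < 40128) : ordAt i = true := by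
  by_cases h77 : i < 35568
  · exact allFrom_spec ord_77 i (by omega) (by omega)
  by_cases h78 : i < 36024
  · exact allFrom_spec ord_78 i (by omega) (by omega)
  by_cases h79 : i < 36480
  · exact allFrom_spec ord_79 i (by omega) (by omega)
  by_cases h80 : i < 36936
  · exact allFrom_spec ord_80 i (by omega) (by omega)
  by_cases h81 : i < 37392
  · exact allFrom_spec ord_81 i (by omega) (by omega)
  by_cases h82 : i < 37848
  · exact allFrom_spec ord_82 i (by omega) (by omega)
  by_cases h83 : i < 38304
  · exact allFrom_spec ord_83 i (by omega) (by omega)
  by_cases h84 : i < 38760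
  · exact allFrom_spec ord_84 i (by omega) (by omega)
  by_cases h85 : i < 39216
  · exact allFrom_spec ord_85 i (by omega) (by omega)
  by_cases h86 : i < 39672
  · exact allFrom_spec ord_86 i (by omega) (by omega)
  exact allFrom_spec ord_87 i (by omega) (by omega)

end Cfsg.Agent.Lib.Helper20.J1Spec
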