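import Cfsg.Agent.Lib.Helper20.J1SpecA

set_option autoImplicit false
set_option maxHeartbeats 4000000

/-!
Element orders of `J₁`: the test `ordAt` on the table entries 40128 .. 45143
(chunks of 456 entries to keep the memory of the kernel evaluation small).
-/

namespace Cfsg.Agent.Lib.Helper20.J1Spec

open Cfsg.Agent.Lib.Helper57 Cfsg.Agent.Lib.Helper57.J1

theorem ord_88 : allFrom 40128 456 ordAt = true := by decide +kernel

theorem ord_89 : allFrom 40584 456 ordAt = true := by decide +kernel

theorem ord_90 : allFrom 41040 456 ordAt = true := by decide +kernel

theorem ord_91 : allFrom 41496 456 ordAt = true := by decide +kernel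

theorem ord_92 : allFrom 41952 456 ordAt = true := by decide +kernel

theorem ord_93 : allFrom 42408 456 ordAt = true := by decide +kernel

theorem ord_94 : allFrom 42864 456 ordAt = true := by decide +kernel

theorem ord_95 : allFrom 43320 456 ordAt = true := by decide +kernel

theorem ord_96 : allFrom 43776 456 ordAt = true := by decide +kernel

theorem ord_97 : allFrom 44232 456 ordAt = true := by decide +kernel

theorem ord_98 : allFrom 44688 456 ordAt = true := by decide +kernel

theorem ord_part_8 (i : ℕ) (h1 : 40128 ≤ i) (h2 : i < 45144) : ordAt i = true := by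
  by_cases h88 : i < 40584
  · exact allFrom_spec ord_88 i (by omega) (by omega)
  by_cases h89 : i < 41040
  · exact allFrom_spec ord_89 i (by omega) (by omega)
  by_cases h90 : i < 41496
  · exact allFrom_spec ord_90 i (by omega) (by omega)
  by_cases h91 : i < 41952
  · exact allFrom_spec ord_91 i (by omega) (by omega)
  by_cases h92 : i < 42408
  · exact allFrom_spec ord_92 i (by omega) (by omega)
  by_cases h93 : i < 42864
  · exact allFrom_spec ord_93 i (by omega) (by omega)
  by_cases h94 : i < 43320
  · exact allFrom_spec ord_94 i (by omega) (by omega)
  by_cases h95 : i < 43776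
  · exact allFrom_spec ord_95 i (by omega) (by omega)
  by_cases h96 : i < 44232
  · exact allFrom_spec ord_96 i (by omega) (by omega)
  by_cases h97 : i < 44688
  · exact allFrom_spec ord_97 i (by omega) (by omega)
  exact allFrom_spec ord_98 i (by omega) (by omega)

end Cfsg.Agent.Lib.Helper20.J1Spec
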