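import Cfsg.Agent.Lib.Helper20.J1SpecA

set_option autoImplicit false
set_option maxHeartbeats 4000000

/-!
Element orders of `J₁`: the test `ordAt` on the table entries 45144 .. 50159
(chunks of 456 entries to keep the memory of the kernel evaluation small).
-/

namespace Cfsg.Agent.Lib.Helper20.J1Spec

open Cfsg.Agent.Lib.Helper57 Cfsg.Agent.Lib.Helper57.J1

theorem ord_99 : allFrom 45144 456 ordAt = true := by decide +kernel

theorem ord_100 : allFrom 45600 456 ordAt = true := by decide +kernel

theorem ord_101 : allFrom 46056 456 ordAt = true := by decide +kernel

theorem ord_102 : allFrom 46512 456 ordAt = true := by decide +kernel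

theorem ord_103 : allFrom 46968 456 ordAt = true := by decide +kernel

theorem ord_104 : allFrom 47424 456 ordAt = true := by decide +kernel

theorem ord_105 : allFrom 47880 456 ordAt = true := by decide +kernel

theorem ord_106 : allFrom 48336 456 ordAt = true := by decide +kernel

theorem ord_107 : allFrom 48792 456 ordAt = true := by decide +kernel

theorem ord_108 : allFrom 49248 456 ordAt = true := by decide +kernel

theorem ord_109 : allFrom 49704 456 ordAt = true := by decide +kernel

theorem ord_part_9 (i : ℕ) (h1 : 45144 ≤ i) (h2 : i < 50160) : ordAt i = true := by
  by_cases h99 : i < 45600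
  · exact allFrom_spec ord_99 i (by omega) (by omega)
  by_cases h100 : i < 46056
  · exact allFrom_spec ord_100 i (by omega) (by omega)
  by_cases h101 : i < 46512
  · exact allFrom_spec ord_101 i (by omega) (by omega)
  by_cases h102 : i < 46968
  · exact allFrom_spec ord_102 i (by omega) (by omega)
  by_cases h103 : i < 47424
  · exact allFrom_spec ord_103 i (by omega) (by omega)
  by_cases h104 : i < 47880
  · exact allFrom_spec ord_104 i (by omega) (by omega)
  by_cases h105 : i < 48336
  · exact allFrom_spec ord_105 i (by omega) (by omega)
  by_cases h106 : i < 48792
  · exact allFrom_spec ord_106 i (by omega) (by omega)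
  by_cases h107 : i < 49248
  · exact allFrom_spec ord_107 i (by omega) (by omega)
  by_cases h108 : i < 49704
  · exact allFrom_spec ord_108 i (by omega) (by omega)
  exact allFrom_spec ord_109 i (by omega) (by omega)

end Cfsg.Agent.Lib.Helper20.J1Spec
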