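import Mathlib
import Cfsg.Agent.Lib.Helper20.J1SpecC0
import Cfsg.Agent.Lib.Helper20.J1SpecC1
import Cfsg.Agent.Lib.Helper20.J1SpecC2
import Cfsg.Agent.Lib.Helper20.J1SpecC3
import Cfsg.Agent.Lib.Helper20.J1SpecC4
import Cfsg.Agent.Lib.Helper20.J1SpecC5
import Cfsg.Agent.Lib.Helper20.J1SpecC6
import Cfsg.Agent.Lib.Helper20.J1SpecC7
import Cfsg.Agent.Lib.Helper20.J1SpecC8
import Cfsg.Agent.Lib.Helper20.J1SpecC9
import Cfsg.Agent.Lib.Helper20.J1SpecC10
import Cfsg.Agent.Lib.Helper20.J1SpecC11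
import Cfsg.Agent.Lib.Helper20.J1SpecC12
import Cfsg.Agent.Lib.Helper20.J1SpecC13
import Cfsg.Agent.Lib.Helper20.J1SpecC14
import Cfsg.Agent.Lib.Helper20.J1SpecC15
import Cfsg.Agent.Lib.Helper20.J1SpecC16
import Cfsg.Agent.Lib.Helper20.J1SpecC17
import Cfsg.Agent.Lib.Helper20.J1SpecC18
import Cfsg.Agent.Lib.Helper20.J1SpecC19
import Cfsg.Agent.Lib.Helper20.J1SpecC20
import Cfsg.Agent.Lib.Helper20.J1SpecC21
import Cfsg.Agent.Lib.Helper20.J1SpecC22
import Cfsg.Agent.Lib.Helper20.J1SpecC23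
import Cfsg.Agent.Lib.Helper20.J1SpecC24
import Cfsg.Agent.Lib.Helper20.J1SpecC25
import Cfsg.Agent.Lib.Helper20.J1SpecC26
import Cfsg.Agent.Lib.Helper20.J1SpecC27
import Cfsg.Agent.Lib.Helper20.J1SpecC28
import Cfsg.Agent.Lib.Helper20.J1SpecC29
import Cfsg.Agent.Lib.Helper20.J1SpecC30
import Cfsg.Agent.Lib.Helper20.J1SpecC31
import Cfsg.Agent.Lib.Helper20.J1SpecC32
import Cfsg.Agent.Lib.Helper20.J1SpecC33
import Cfsg.Agent.Lib.Helper20.J1SpecC34

set_option autoImplicit false

/-!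
The set of element orders of the Janko group `J₁` (explicit matrix group of the Prelude) is
`{1, 2, 3, 5, 6, 7, 10, 11, 15, 19}`.
-/

namespace Cfsg.Agent.Lib.Helper20.J1Spec

open Cfsg.Agent.Lib.Helper57 Cfsg.Agent.Lib.Helper57.J1

theorem ordAt_all (i : ℕ) (hi : i < 175560) : ordAt i = true := by
  by_cases h0 : i < 5016
  · exact ord_part_0 i (by omega) h0
  by_cases h1 : i < 10032
  · exact ord_part_1 i (by omega) h1
  by_cases h2 : i < 15048
  · exact ord_part_2 i (by omega) h2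
  by_cases h3 : i < 20064
  · exact ord_part_3 i (by omega) h3
  by_cases h4 : i < 25080
  · exact ord_part_4 i (by omega) h4
  by_cases h5 : i < 30096
  · exact ord_part_5 i (by omega) h5
  by_cases h6 : i < 35112
  · exact ord_part_6 i (by omega) h6
  by_cases h7 : i < 40128
  · exact ord_part_7 i (by omega) h7
  by_cases h8 : i < 45144
  · exact ord_part_8 i (by omega) h8
  by_cases h9 : i < 50160
  · exact ord_part_9 i (by omega) h9
  by_cases h10 : i < 55176
  · exact ord_part_10 i (by omega) h10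
  by_cases h11 : i < 60192
  · exact ord_part_11 i (by omega) h11
  by_cases h12 : i < 65208
  · exact ord_part_12 i (by omega) h12
  by_cases h13 : i < 70224
  · exact ord_part_13 i (by omega) h13
  by_cases h14 : i < 75240
  · exact ord_part_14 i (by omega) h14
  by_cases h15 : i < 80256
  · exact ord_part_15 i (by omega) h15
  by_cases h16 : i < 85272
  · exact ord_part_16 i (by omega) h16
  by_cases h17 : i < 90288
  · exact ord_part_17 i (by omega) h17
  by_cases h18 : i < 95304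
  · exact ord_part_18 i (by omega) h18
  by_cases h19 : i < 100320
  · exact ord_part_19 i (by omega) h19
  by_cases h20 : i < 105336
  · exact ord_part_20 i (by omega) h20
  by_cases h21 : i < 110352
  · exact ord_part_21 i (by omega) h21
  by_cases h22 : i < 115368
  · exact ord_part_22 i (by omega) h22
  by_cases h23 : i < 120384
  · exact ord_part_23 i (by omega) h23
  by_cases h24 : i < 125400
  · exact ord_part_24 i (by omega) h24
  by_cases h25 : i < 130416
  · exact ord_part_25 i (by omega) h25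
  by_cases h26 : i < 135432
  · exact ord_part_26 i (by omega) h26
  by_cases h27 : i < 140448
  · exact ord_part_27 i (by omega) h27
  by_cases h28 : i < 145464
  · exact ord_part_28 i (by omega) h28
  by_cases h29 : i < 150480
  · exact ord_part_29 i (by omega) h29
  by_cases h30 : i < 155496
  · exact ord_part_30 i (by omega) h30
  by_cases h31 : i < 160512
  · exact ord_part_31 i (by omega) h31
  by_cases h32 : i < 165528
  · exact ord_part_32 i (by omega) h32
  by_cases h33 : i < 170544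
  · exact ord_part_33 i (by omega) h33
  exact ord_part_34 i (by omega) hi

/-- every element of `J₁` satisfies one of `g^6 = 1, ..., g^19 = 1` -/
theorem pow_cases (g : GL (Fin 7) (ZMod 11)) (hg : g ∈ Cfsg.Spor.J1) :
    g ^ 6 = 1 ∨ g ^ 10 = 1 ∨ g ^ 15 = 1 ∨ g ^ 7 = 1 ∨ g ^ 11 = 1 ∨ g ^ 19 = 1 := by
  obtain ⟨i, hi, hgi⟩ := (mem_J1_iff g).1 hg
  have hc : Coded g (D.T i) := ⟨hgi, valid_T i hi⟩
  rw [D_n] at hi
  exact pow_eq_one_of_ordOK hc (ordAt_all i hi)

/-- the element orders of `J₁` -/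
def specJ1 : Finset ℕ := {1, 2, 3, 5, 6, 7, 10, 11, 15, 19}

theorem orderOf_mem_of_pow {G : Type*} [Group G] (g : G) (n : ℕ) (hn : n ≠ 0) (h : g ^ n = 1)
    (hs : Nat.divisors n ⊆ specJ1) : orderOf g ∈ specJ1 :=
  hs (Nat.mem_divisors.2 ⟨orderOf_dvd_of_pow_eq_one h, hn⟩)

theorem orderOf_mem_GL (g : GL (Fin 7) (ZMod 11)) (hg : g ∈ Cfsg.Spor.J1) :
    orderOf g ∈ specJ1 := by
  rcases pow_cases g hg with h | h | h | h | h | h
  · exact orderOf_mem_of_pow g 6 (by norm_num) h (by decide)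
  · exact orderOf_mem_of_pow g 10 (by norm_num) h (by decide)
  · exact orderOf_mem_of_pow g 15 (by norm_num) h (by decide)
  · exact orderOf_mem_of_pow g 7 (by norm_num) h (by decide)
  · exact orderOf_mem_of_pow g 11 (by norm_num) h (by decide)
  · exact orderOf_mem_of_pow g 19 (by norm_num) h (by decide)

/-- upper bound for the spectrum of `J₁` -/
theorem orderOf_mem (g : ↥Cfsg.Spor.J1) : orderOf g ∈ specJ1 := by
  rw [← Subgroup.orderOf_coe]
  exact orderOf_mem_GL g g.2

/-! ### elements of the given orders -/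

theorem coded_X : Coded Cfsg.Spor.jankoX cx := ⟨jankoX_val, valid_cx⟩

theorem coded_Y : Coded Cfsg.Spor.jankoY cy := ⟨jankoY_val, valid_cy⟩

theorem X_mem : Cfsg.Spor.jankoX ∈ Cfsg.Spor.J1 :=
  Subgroup.subset_closure (Set.mem_insert _ _)

theorem Y_mem : Cfsg.Spor.jankoY ∈ Cfsg.Spor.J1 :=
  Subgroup.subset_closure (Set.mem_insert_of_mem _ rfl)

theorem pow_eq_one_of_coded {u : GL (Fin 7) (ZMod 11)} {c : ℕ} (hu : Coded u c) (n : ℕ)
    (h : J1.powC c n = J1.oneC) : u ^ n = 1 := by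
  have := hu.pow n
  rw [h] at this
  exact coded_eq_one this

theorem pow_ne_one_of_coded {u : GL (Fin 7) (ZMod 11)} {c : ℕ} (hu : Coded u c) (n : ℕ)
    (h : J1.powC c n ≠ J1.oneC) : u ^ n ≠ 1 := by
  intro h1
  have h2 := hu.pow n
  rw [h1] at h2
  exact h (h2.code_eq coded_one)

theorem orderOf_prime_of_coded {u : GL (Fin 7) (ZMod 11)} {c : ℕ} (hu : Coded u c) (p : ℕ)
    [Fact p.Prime] (h1 : J1.powC c p = J1.oneC) (h2 : J1.powC c 1 ≠ J1.oneC) : orderOf u = p := by
  apply orderOf_eq_prime (pow_eq_one_of_coded hu p h1)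
  have := pow_ne_one_of_coded hu 1 h2
  rwa [pow_one] at this

theorem orderOf_mul_of_coded {u : GL (Fin 7) (ZMod 11)} {c : ℕ} (hu : Coded u c) (p q : ℕ)
    (hp : p.Prime) (hq : q.Prime) (hpq : p ≠ q) (h1 : J1.powC c (p * q) = J1.oneC)
    (h2 : J1.powC c p ≠ J1.oneC) (h3 : J1.powC c q ≠ J1.oneC) : orderOf u = p * q := by
  apply orderOf_eq_of_pow_and_pow_div_prime (Nat.mul_pos hp.pos hq.pos)
    (pow_eq_one_of_coded hu _ h1)
  intro r hr hrd
  rcases (Nat.Prime.dvd_mul hr).1 hrd with h | h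
  · have : r = p := (Nat.prime_dvd_prime_iff_eq hr hp).1 h
    subst this
    rw [Nat.mul_div_cancel_left _ hr.pos]
    exact pow_ne_one_of_coded hu _ h3
  · have : r = q := (Nat.prime_dvd_prime_iff_eq hr hq).1 h
    subst this
    rw [Nat.mul_div_cancel _ hr.pos]
    exact pow_ne_one_of_coded hu _ h2

theorem exists_orderOf_GL (n : ℕ) (hn : n ∈ ({6, 10, 15, 7, 11, 19} : Finset ℕ)) :
    ∃ g : GL (Fin 7) (ZMod 11), g ∈ Cfsg.Spor.J1 ∧ orderOf g = n := by
  have hX := coded_X
  have hY := coded_Y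
  have mX := X_mem
  have mY := Y_mem
  simp only [Finset.mem_insert, Finset.mem_singleton] at hn
  rcases hn with rfl | rfl | rfl | rfl | rfl | rfl
  · -- 6 : x y y y
    refine ⟨_, mul_mem (mul_mem (mul_mem mX mY) mY) mY, ?_⟩
    exact orderOf_mul_of_coded (((hX.mul hY).mul hY).mul hY) 2 3 (by norm_num) (by norm_num)
      (by norm_num) (by decide +kernel) (by decide +kernel) (by decide +kernel)
  · -- 10 : x y
    refine ⟨_, mul_mem mX mY, ?_⟩
    exact orderOf_mul_of_coded (hX.mul hY) 2 5 (by norm_num) (by norm_num)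
      (by norm_num) (by decide +kernel) (by decide +kernel) (by decide +kernel)
  · -- 15 : y y x y x y y x x
    refine ⟨_, mul_mem (mul_mem (mul_mem (mul_mem (mul_mem (mul_mem (mul_mem (mul_mem mY mY) mX)
      mY) mX) mY) mY) mX) mX, ?_⟩
    exact orderOf_mul_of_coded ((((((((hY.mul hY).mul hX).mul hY).mul hX).mul hY).mul hY).mul
      hX).mul hX) 3 5 (by norm_num) (by norm_num)
      (by norm_num) (by decide +kernel) (by decide +kernel) (by decide +kernel)
  · -- 7 : x
    refine ⟨_, mX, ?_⟩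
    haveI : Fact (Nat.Prime 7) := ⟨by norm_num⟩
    exact orderOf_prime_of_coded hX 7 (by decide +kernel) (by decide +kernel)
  · -- 11 : x y y
    refine ⟨_, mul_mem (mul_mem mX mY) mY, ?_⟩
    haveI : Fact (Nat.Prime 11) := ⟨by norm_num⟩
    exact orderOf_prime_of_coded ((hX.mul hY).mul hY) 11 (by decide +kernel) (by decide +kernel)
  · -- 19 : x x x y
    refine ⟨_, mul_mem (mul_mem (mul_mem mX mX) mX) mY, ?_⟩
    haveI : Fact (Nat.Prime 19) := ⟨by norm_num⟩
    exact orderOf_prime_of_coded (((hX.mul hX).mul hX).mul hY) 19 (by decide +kernel)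
      (by decide +kernel)

theorem exists_orderOf_big (n : ℕ) (hn : n ∈ ({6, 10, 15, 7, 11, 19} : Finset ℕ)) :
    ∃ g : ↥Cfsg.Spor.J1, orderOf g = n := by
  obtain ⟨g, hg, ho⟩ := exists_orderOf_GL n hn
  exact ⟨⟨g, hg⟩, by rw [Subgroup.orderOf_mk, ho]⟩

/-- lower bound for the spectrum of `J₁` -/
theorem exists_orderOf (n : ℕ) (hn : n ∈ specJ1) : ∃ g : ↥Cfsg.Spor.J1, orderOf g = n := by
  have key : ∀ m k : ℕ, m ∈ ({6, 10, 15, 7, 11, 19} : Finset ℕ) → k ≠ 0 → k ∣ m →
      ∃ g : ↥Cfsg.Spor.J1, orderOf g = m / k := by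
    intro m k hm hk hkm
    obtain ⟨g, hg⟩ := exists_orderOf_big m hm
    refine ⟨g ^ k, ?_⟩
    rw [orderOf_pow_of_dvd hk (by rw [hg]; exact hkm), hg]
  simp only [specJ1, Finset.mem_insert, Finset.mem_singleton] at hn
  rcases hn with rfl | rfl | rfl | rfl | rfl | rfl | rfl | rfl | rfl | rfl
  · exact ⟨1, orderOf_one⟩
  · exact key 6 3 (by decide) (by norm_num) (by norm_num)
  · exact key 6 2 (by decide) (by norm_num) (by norm_num)
  · exact key 10 2 (by decide) (by norm_num) (by norm_num)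
  · exact key 6 1 (by decide) (by norm_num) (by norm_num)
  · exact key 7 1 (by decide) (by norm_num) (by norm_num)
  · exact key 10 1 (by decide) (by norm_num) (by norm_num)
  · exact key 11 1 (by decide) (by norm_num) (by norm_num)
  · exact key 15 1 (by decide) (by norm_num) (by norm_num)
  · exact key 19 1 (by decide) (by norm_num) (by norm_num)

end Cfsg.Agent.Lib.Helper20.J1Spec
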