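import Cfsg.Agent.Lib.Helper20.J1SpecA

set_option autoImplicit false
set_option maxHeartbeats 4000000

/-!
Element orders of `J₁`: the test `ordAt` on the table entries 55176 .. 60191
(chunks of 456 entries to keep the memory of the kernel evaluation small).
-/

namespace Cfsg.Agent.Lib.Helper20.J1Spec

open Cfsg.Agent.Lib.Helper57 Cfsg.Agent.Lib.Helper57.J1

theorem ord_121 : allFrom 55176 456 ordAt = true := by decide +kernel

theorem ord_122 : allFrom 55632 456 ordAt = true := by decide +kernel

theorem ord_123 : allFrom 56088 456 ordAt = true := by decide +kernel

theorem ord_124 : allFrom 56544 456 ordAt = true := by decide +kernel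

theorem ord_125 : allFrom 57000 456 ordAt = true := by decide +kernel

theorem ord_126 : allFrom 57456 456 ordAt = true := by decide +kernel

theorem ord_127 : allFrom 57912 456 ordAt = true := by decide +kernel

theorem ord_128 : allFrom 58368 456 ordAt = true := by decide +kernel

theorem ord_129 : allFrom 58824 456 ordAt = true := by decide +kernel

theorem ord_130 : allFrom 59280 456 ordAt = true := by decide +kernel

theorem ord_131 : allFrom 59736 456 ordAt = true := by decide +kernel

theorem ord_part_11 (i : ℕ) (h1 : 55176 ≤ i) (h2 : i < 60192) : ordAt i = true := by
  by_cases h121 : i < 55632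
  · exact allFrom_spec ord_121 i (by omega) (by omega)
  by_cases h122 : i < 56088
  · exact allFrom_spec ord_122 i (by omega) (by omega)
  by_cases h123 : i < 56544
  · exact allFrom_spec ord_123 i (by omega) (by omega)
  by_cases h124 : i < 57000
  · exact allFrom_spec ord_124 i (by omega) (by omega)
  by_cases h125 : i < 57456
  · exact allFrom_spec ord_125 i (by omega) (by omega)
  by_cases h126 : i < 57912
  · exact allFrom_spec ord_126 i (by omega) (by omega)
  by_cases h127 : i < 58368
  · exact allFrom_spec ord_127 i (by omega) (by omega)
  by_cases h128 : i < 58824
  · exact allFrom_spec ord_128 i (by omega) (by omega)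
  by_cases h129 : i < 59280
  · exact allFrom_spec ord_129 i (by omega) (by omega)
  by_cases h130 : i < 59736
  · exact allFrom_spec ord_130 i (by omega) (by omega)
  exact allFrom_spec ord_131 i (by omega) (by omega)

end Cfsg.Agent.Lib.Helper20.J1Spec
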