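import Cfsg.Agent.Lib.Helper20.J1SpecA

set_option autoImplicit false
set_option maxHeartbeats 4000000

/-!
Element orders of `J₁`: the test `ordAt` on the table entries 115368 .. 120383
(chunks of 456 entries to keep the memory of the kernel evaluation small).
-/

namespace Cfsg.Agent.Lib.Helper20.J1Spec

open Cfsg.Agent.Lib.Helper57 Cfsg.Agent.Lib.Helper57.J1

theorem ord_253 : allFrom 115368 456 ordAt = true := by decide +kernel

theorem ord_254 : allFrom 115824 456 ordAt = true := by decide +kernel

theorem ord_255 : allFrom 116280 456 ordAt = true := by decide +kernel

theorem ord_256 : allFrom 116736 456 ordAt = true := by decide +kernel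

theorem ord_257 : allFrom 117192 456 ordAt = true := by decide +kernel

theorem ord_258 : allFrom 117648 456 ordAt = true := by decide +kernel

theorem ord_259 : allFrom 118104 456 ordAt = true := by decide +kernel

theorem ord_260 : allFrom 118560 456 ordAt = true := by decide +kernel

theorem ord_261 : allFrom 119016 456 ordAt = true := by decide +kernel

theorem ord_262 : allFrom 119472 456 ordAt = true := by decide +kernel

theorem ord_263 : allFrom 119928 456 ordAt = true := by decide +kernel

theorem ord_part_23 (i : ℕ) (h1 : 115368 ≤ i) (h2 : i < 120384) : ordAt i = true := by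
  by_cases h253 : i < 115824
  · exact allFrom_spec ord_253 i (by omega) (by omega)
  by_cases h254 : i < 116280
  · exact allFrom_spec ord_254 i (by omega) (by omega)
  by_cases h255 : i < 116736
  · exact allFrom_spec ord_255 i (by omega) (by omega)
  by_cases h256 : i < 117192
  · exact allFrom_spec ord_256 i (by omega) (by omega)
  by_cases h257 : i < 117648
  · exact allFrom_spec ord_257 i (by omega) (by omega)
  by_cases h258 : i < 118104
  · exact allFrom_spec ord_258 i (by omega) (by omega)
  by_cases h259 : i < 118560
  · exact allFrom_spec ord_259 i (by omega) (by omega)
  by_cases h260 : i < 119016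
  · exact allFrom_spec ord_260 i (by omega) (by omega)
  by_cases h261 : i < 119472
  · exact allFrom_spec ord_261 i (by omega) (by omega)
  by_cases h262 : i < 119928
  · exact allFrom_spec ord_262 i (by omega) (by omega)
  exact allFrom_spec ord_263 i (by omega) (by omega)

end Cfsg.Agent.Lib.Helper20.J1Spec
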