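import Mathlib

/-!
Generic lemmas on `N_G(H)/C_G(H)` and permutation representations (helper20's library).
-/

set_option autoImplicit false

namespace Cfsg.Agent.Lib.Helper20

/-- `Aut V` acts on the non-identity elements of `V`. -/
def autToPerm (V : Type*) [Group V] : MulAut V →* Equiv.Perm {t : V // t ≠ 1} where
  toFun σ := σ.toEquiv.subtypeEquiv (fun t => by
    show t ≠ 1 ↔ σ t ≠ 1
    rw [Ne, Ne, EmbeddingLike.map_eq_one_iff])
  map_one' := by ext t; rfl
  map_mul' := by intro σ τ; ext t; rfl

theorem autToPerm_apply (V : Type*) [Group V] (σ : MulAut V) (t : {t : V // t ≠ 1}) :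
    ((autToPerm V σ t : {t : V // t ≠ 1}) : V) = σ t := rfl

theorem autToPerm_injective (V : Type*) [Group V] : Function.Injective (autToPerm V) := by
  intro σ τ h
  ext t
  by_cases ht : t = 1
  · rw [ht, map_one, map_one]
  · have := congrArg (fun π : Equiv.Perm {t : V // t ≠ 1} => ((π ⟨t, ht⟩ : {t : V // t ≠ 1}) : V)) h
    exact this

theorem card_ne_one (V : Type*) [Group V] [Finite V] :
    Nat.card {t : V // t ≠ 1} = Nat.card V - 1 := by
  classical
  have : Fintype V := Fintype.ofFinite V
  rw [Nat.card_eq_fintype_card, Nat.card_eq_fintype_card, Fintype.card_subtype_compl,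
    Fintype.card_subtype_eq]

theorem card_perm_ne_one_of_card_four (V : Type*) [Group V] [Finite V] (h : Nat.card V = 4) :
    Nat.card (Equiv.Perm {t : V // t ≠ 1}) = 6 := by
  rw [Nat.card_perm, card_ne_one, h]; rfl

theorem index_ker_dvd {N P : Type*} [Group N] [Group P] [Finite P] (ψ : N →* P) :
    ψ.ker.index ∣ Nat.card P := by
  rw [Subgroup.index_ker]; exact Subgroup.card_subgroup_dvd_card _

theorem two_dvd_index_ker {N P : Type*} [Group N] [Group P] [Finite P] (ψ : N →* P) (s : N)
    (h1 : ψ s ≠ 1) (h2 : ψ (s * s) = 1) : 2 ∣ ψ.ker.index := by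
  rw [Subgroup.index_ker]
  have ho : orderOf (⟨ψ s, s, rfl⟩ : ψ.range) = 2 := by
    apply orderOf_eq_prime
    · apply Subtype.ext
      rw [pow_two]
      show ψ s * ψ s = 1
      rw [← map_mul]; exact h2
    · intro h
      exact h1 (congrArg Subtype.val h)
  rw [← ho]; exact orderOf_dvd_natCard _

theorem surjective_of_index_ker {N P : Type*} [Group N] [Group P] [Finite P] (ψ : N →* P)
    (h : ψ.ker.index = Nat.card P) : Function.Surjective ψ := by
  rw [Subgroup.index_ker] at h
  rw [← MonoidHom.range_eq_top]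
  exact (Subgroup.card_eq_iff_eq_top _).mp h

theorem two_or_six {r : ℕ} (h2 : 2 ∣ r) (h6 : r ∣ 6) : r = 2 ∨ r = 6 := by
  have hle : r ≤ 6 := Nat.le_of_dvd (by norm_num) h6
  interval_cases r <;> omega

/-- `Aut Q` acts on `Q / Z(Q)`. -/
def quotAut (Q : Type*) [Group Q] : MulAut Q →* MulAut (Q ⧸ Subgroup.center Q) where
  toFun σ := QuotientGroup.congr (Subgroup.center Q) (Subgroup.center Q) σ
    (Subgroup.characteristic_iff_map_eq.mp inferInstance σ)
  map_one' := by
    ext t
    induction t using QuotientGroup.induction_on with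
    | H q => rfl
  map_mul' := by
    intro σ τ
    ext t
    induction t using QuotientGroup.induction_on with
    | H q => rfl

theorem quotAut_mk (Q : Type*) [Group Q] (σ : MulAut Q) (q : Q) :
    quotAut Q σ (q : Q ⧸ Subgroup.center Q) = ((σ q : Q) : Q ⧸ Subgroup.center Q) := rfl

end Cfsg.Agent.Lib.Helper20
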