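import Mathlib
import Cfsg.Prelude.Def_GeometricClasses
import Cfsg.Agent.Lib.Helper99.AschDefs
import Cfsg.Agent.Lib.Helper55.Oe.Defs
import Cfsg.Agent.Lib.Helper94.TensorOrth3
import Cfsg.Agent.S2623
import Cfsg.Agent.Lib.Helper19.OeTBlocks
import Cfsg.Agent.Lib.Helper42.OeTOdd

/-!
# ASCHOE-[T-TENSOR34]: the type of a tensor product `f₁ ⊗ f₂` of symmetric forms, `n₁` odd, `n₂` even
-/

set_option autoImplicit false

namespace Cfsg.Agent.Lib.Helper20.OeT34

open Cfsg Cfsg.Geo Cfsg.Agent.Lib.Helper94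
open scoped MatrixGroups Matrix Kronecker

variable {n : ℕ} {F : Type*} [Field F] [Fintype F] {n₁ n₂ : ℕ}

/-- polarisation: a symmetric form vanishing on the diagonal of a subspace vanishes on it -/
theorem polarise {m : ℕ} {f : (Fin m → F) → (Fin m → F) → F} (hf : IsSymmetricForm f) (h2 : (2 : F) ≠ 0)
    (U : Submodule F (Fin m → F)) (hU : ∀ w ∈ U, f w w = 0) : ∀ u ∈ U, ∀ w ∈ U, f u w = 0 := by
  intro u hu w hw
  have h1 := hU (u + w) (U.add_mem hu hw)
  rw [hf.bilinear.add_left, hf.bilinear.add_right, hf.bilinear.add_right, hU u hu, hU w hw, hf.symm w u] at h1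
  have h3 : 2 * f u w = 0 := by linear_combination h1
  rcases mul_eq_zero.mp h3 with h | h
  · exact absurd h h2
  · exact h

/-- decomposition of a coordinate vector into pure tensors -/
theorem eq_sum_pureT (x : Fin n₁ × Fin n₂ → F) :
    x = ∑ a : Fin n₁, pureT (Pi.single a 1) (fun b => x (a, b)) := by
  classical
  ext ⟨a, b⟩
  rw [Finset.sum_apply]
  simp only [pureT_apply, Pi.single_apply]
  rw [Finset.sum_eq_single a]
  · simp
  · intro a' _ ha'
    rw [if_neg (Ne.symm ha'), zero_mul]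
  · intro h; exact absurd (Finset.mem_univ a) h

section common

variable {Q : (Fin n → F) → F} (hQ : IsNondegenerateQuadraticForm Q)
  {e : Fin n ≃ Fin n₁ × Fin n₂} {P : GL (Fin n) F}
  {f₁ : (Fin n₁ → F) → (Fin n₁ → F) → F} {f₂ : (Fin n₂ → F) → (Fin n₂ → F) → F}
  (h₁ : IsSymmetricForm f₁) (h₂ : IsSymmetricForm f₂) {c : F}
  (hTc : ∀ x y : Fin n₁ × Fin n₂ → F,
      QuadraticMap.polar Q ((P : Matrix (Fin n) (Fin n) F) *ᵥ (x ∘ e))
        ((P : Matrix (Fin n) (Fin n) F) *ᵥ (y ∘ e)) =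
        c * formOfGram id (gramMatrix f₁ ⊗ₖ gramMatrix f₂) x y)

include h₁ h₂ hTc in
theorem polar_pure (u u' : Fin n₁ → F) (w w' : Fin n₂ → F) :
    polarBilin hQ (tensPhi e P (pureT u w)) (tensPhi e P (pureT u' w')) = c * (f₁ u u' * f₂ w w') := by
  rw [polarBilin_apply]
  exact tens_form h₁.bilinear h₂.bilinear hTc u u' w w'

include hQ h₁ h₂ hTc in
theorem Q_pure (h2 : (2 : F) ≠ 0) (u : Fin n₁ → F) (w : Fin n₂ → F) :
    Q (tensPhi e P (pureT u w)) = 2⁻¹ * (c * (f₁ u u * f₂ w w)) := by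
  have := (quadData_polarBilin hQ).self (tensPhi e P (pureT u w))
  rw [polar_pure hQ h₁ h₂ hTc] at this
  field_simp
  linear_combination -this

theorem Q_eq_half (h2 : (2 : F) ≠ 0) (v : Fin n → F) : Q v = 2⁻¹ * polarBilin hQ v v := by
  have := (quadData_polarBilin hQ).self v
  rw [this]
  field_simp

include hQ h₁ h₂ hTc in
/-- (⇐) -/
theorem plus_of_plus_right (h2 : (2 : F) ≠ 0) (hn : n = n₁ * n₂)
    (hp : IsPlusTypeOn (fun v : Fin n₂ → F => f₂ v v) ⊤) : IsPlusTypeOn Q ⊤ := by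
  classical
  obtain ⟨U₂, -, hU₂, hdim⟩ := hp
  have hU₂' := polarise h₂ h2 U₂ hU₂
  let L : (Fin n₁ → U₂) →ₗ[F] (Fin n → F) :=
    ((tensPhi e P : (Fin n₁ × Fin n₂ → F) ≃ₗ[F] (Fin n → F)) : (Fin n₁ × Fin n₂ → F) →ₗ[F] (Fin n → F)) ∘ₗ
      (((LinearEquiv.curry F F (Fin n₁) (Fin n₂)).symm :
          (Fin n₁ → Fin n₂ → F) ≃ₗ[F] (Fin n₁ × Fin n₂ → F)) : (Fin n₁ → Fin n₂ → F) →ₗ[F] (Fin n₁ × Fin n₂ → F)) ∘ₗ
        (U₂.subtype.compLeft (Fin n₁))
  have hL : ∀ w : Fin n₁ → U₂,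
      L w = ∑ a : Fin n₁, tensPhi e P (pureT (Pi.single a 1) ((w a : U₂) : Fin n₂ → F)) := by
    intro w
    show tensPhi e P ((LinearEquiv.curry F F (Fin n₁) (Fin n₂)).symm (fun a => ((w a : U₂) : Fin n₂ → F))) = _
    rw [← map_sum]
    congr 1
    rw [eq_sum_pureT ((LinearEquiv.curry F F (Fin n₁) (Fin n₂)).symm (fun a => ((w a : U₂) : Fin n₂ → F)))]
    rfl
  have hinj : Function.Injective L := by
    apply (tensPhi e P).injective.comp
    apply (LinearEquiv.curry F F (Fin n₁) (Fin n₂)).symm.injective.comp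
    intro w w' hww
    funext a
    apply Subtype.ext
    exact congrFun hww a
  refine ⟨LinearMap.range L, le_top, ?_, ?_⟩
  · rintro _ ⟨w, rfl⟩
    rw [Q_eq_half hQ h2, hL]
    have hz : ∀ a a' : Fin n₁, polarBilin hQ (tensPhi e P (pureT (Pi.single a 1) ((w a : U₂) : Fin n₂ → F)))
        (tensPhi e P (pureT (Pi.single a' 1) ((w a' : U₂) : Fin n₂ → F))) = 0 := by
      intro a a'
      rw [polar_pure hQ h₁ h₂ hTc, hU₂' _ (w a).2 _ (w a').2, mul_zero, mul_zero]
    simp only [map_sum, LinearMap.sum_apply, hz, Finset.sum_const_zero, mul_zero]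
  · rw [LinearMap.finrank_range_of_inj hinj, finrank_top, Module.finrank_fin_fun, Module.finrank_pi_fintype]
    rw [finrank_top, Module.finrank_fin_fun] at hdim
    simp only [Finset.sum_const, Finset.card_univ, Fintype.card_fin, smul_eq_mul]
    rw [hn, ← mul_assoc, mul_comm 2 n₁, mul_assoc, hdim]

end common

section blocks

/-- pairwise orthogonal subspaces that are non-degenerate are independent -/
theorem iSupIndep_of_orth {f : (Fin n → F) → (Fin n → F) → F}
    (hf : IsBilinearForm f) {κ : Type*} (D : κ → Submodule F (Fin n → F))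
    (hnd : ∀ i, IsNondegenerateOn f (D i)) (horth : ∀ i j, i ≠ j → AreOrthogonalFor f (D i) (D j)) :
    iSupIndep D := by
  intro i
  rw [Submodule.disjoint_def]
  intro x hx hx'
  by_contra hx0
  obtain ⟨⟨y, hy, hyx⟩, _⟩ := hnd i x hx hx0
  apply hyx
  have hzero : f y 0 = 0 := by
    have := hf.smul_right 0 y 0
    simpa using this
  let K : Submodule F (Fin n → F) :=
    { carrier := {z | f y z = 0}
      add_mem' := by
        intro a c ha hc
        show f y (a + c) = 0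
        rw [hf.add_right, ha, hc, add_zero]
      zero_mem' := hzero
      smul_mem' := by
        intro r a ha
        show f y (r • a) = 0
        rw [hf.smul_right, ha, mul_zero] }
  have hle : (⨆ j, ⨆ (_ : j ≠ i), D j) ≤ K := by
    refine iSup_le fun j => iSup_le fun hji => ?_
    intro z hz
    exact horth i j (Ne.symm hji) y hy z hz
  exact hle hx'

/-- the map `w ↦ P (u ⊗ w)` -/
noncomputable def blockMap (e : Fin n ≃ Fin n₁ × Fin n₂) (P : GL (Fin n) F) (u : Fin n₁ → F) :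
    (Fin n₂ → F) →ₗ[F] (Fin n → F) :=
  ((tensPhi e P : (Fin n₁ × Fin n₂ → F) ≃ₗ[F] (Fin n → F)) : (Fin n₁ × Fin n₂ → F) →ₗ[F] (Fin n → F)) ∘ₗ
    pureLeft u

theorem blockMap_apply (e : Fin n ≃ Fin n₁ × Fin n₂) (P : GL (Fin n) F) (u : Fin n₁ → F) (w : Fin n₂ → F) :
    blockMap e P u w = tensPhi e P (pureT u w) := rfl

theorem blockMap_injective (e : Fin n ≃ Fin n₁ × Fin n₂) (P : GL (Fin n) F) {u : Fin n₁ → F} (hu : u ≠ 0) :
    Function.Injective (blockMap e P u) := by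
  intro w w' h
  have h' : pureT u w = pureT u w' := (tensPhi e P).injective h
  obtain ⟨i, hi⟩ := exists_ne_zero_of_ne_zero hu
  have := pureT_cancel_left h' hi
  rw [div_self hi, one_smul] at this
  exact this

variable {Q : (Fin n → F) → F} (hQ : IsNondegenerateQuadraticForm Q)
  {e : Fin n ≃ Fin n₁ × Fin n₂} {P : GL (Fin n) F}
  {f₁ : (Fin n₁ → F) → (Fin n₁ → F) → F} {f₂ : (Fin n₂ → F) → (Fin n₂ → F) → F}
  (h₁ : IsSymmetricForm f₁) (h₂ : IsSymmetricForm f₂) {c : F} (hc : c ≠ 0)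
  (hTc : ∀ x y : Fin n₁ × Fin n₂ → F,
      QuadraticMap.polar Q ((P : Matrix (Fin n) (Fin n) F) *ᵥ (x ∘ e))
        ((P : Matrix (Fin n) (Fin n) F) *ᵥ (y ∘ e)) =
        c * formOfGram id (gramMatrix f₁ ⊗ₖ gramMatrix f₂) x y)

include hQ h₁ h₂ hc hTc in
theorem nondeg_block (u : Fin n₁ → F) (hu : f₁ u u ≠ 0) :
    IsNondegenerateOn (QuadraticMap.polar Q) (LinearMap.range (blockMap e P u)) := by
  intro x hx hx0
  obtain ⟨w, rfl⟩ := LinearMap.mem_range.1 hx
  have hw : w ≠ 0 := by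
    rintro rfl
    apply hx0
    rw [map_zero]
  obtain ⟨⟨y, hy⟩, ⟨y', hy'⟩⟩ := h₂.nondegenerate w hw
  refine ⟨⟨blockMap e P u y, LinearMap.mem_range_self _ _, ?_⟩,
    ⟨blockMap e P u y', LinearMap.mem_range_self _ _, ?_⟩⟩
  · rw [← polarBilin_apply hQ, blockMap_apply, blockMap_apply, polar_pure hQ h₁ h₂ hTc]
    exact mul_ne_zero hc (mul_ne_zero hu hy)
  · rw [← polarBilin_apply hQ, blockMap_apply, blockMap_apply, polar_pure hQ h₁ h₂ hTc]
    exact mul_ne_zero hc (mul_ne_zero hu hy')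

include hQ h₁ h₂ hTc in
theorem orth_blocks (u u' : Fin n₁ → F) (h : f₁ u u' = 0) :
    AreOrthogonalFor (QuadraticMap.polar Q) (LinearMap.range (blockMap e P u))
      (LinearMap.range (blockMap e P u')) := by
  intro x hx y hy
  obtain ⟨w, rfl⟩ := LinearMap.mem_range.1 hx
  obtain ⟨w', rfl⟩ := LinearMap.mem_range.1 hy
  rw [← polarBilin_apply hQ, blockMap_apply, blockMap_apply, polar_pure hQ h₁ h₂ hTc, h]
  ring

omit [Fintype F] in
/-- the Gram matrix of the polar form of `γ f₂(v,v)` -/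
theorem gram_smul (h₂ : IsSymmetricForm f₂) (γ : F) :
    (Matrix.of (fun i j : Fin n₂ => QuadraticMap.polar
      ⇑(γ • (bilinOf h₂.bilinear).toQuadraticMap : QuadraticForm F (Fin n₂ → F))
      (Pi.single i 1) (Pi.single j 1))) = (2 * γ) • gramMatrix f₂ := by
  ext i j
  rw [Matrix.of_apply, Matrix.smul_apply, gramMatrix]
  have : (⇑(γ • (bilinOf h₂.bilinear).toQuadraticMap : QuadraticForm F (Fin n₂ → F))) =
      γ • ⇑((bilinOf h₂.bilinear).toQuadraticMap : QuadraticForm F (Fin n₂ → F)) := rfl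
  rw [this, QuadraticMap.polar_smul, LinearMap.BilinMap.polar_toQuadraticMap, bilinOf_apply, bilinOf_apply,
    h₂.symm (Pi.single j 1) (Pi.single i 1), smul_eq_mul, smul_eq_mul]
  ring

/-- scalings of an even-dimensional symmetric form are isometric -/
theorem exists_scaling_isometry (h2 : (2 : F) ≠ 0) (h₂ : IsSymmetricForm f₂) (hn₂ : Even n₂)
    {α β : F} (hα : α ≠ 0) (hβ : β ≠ 0) :
    ∃ g : (Fin n₂ → F) ≃ₗ[F] (Fin n₂ → F), ∀ v, β * f₂ (g v) (g v) = α * f₂ v v := by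
  classical
  set q : QuadraticForm F (Fin n₂ → F) := (bilinOf h₂.bilinear).toQuadraticMap with hq
  have hqv : ∀ v, q v = f₂ v v := fun v => rfl
  have hpol : ∀ (γ : F) (u v : Fin n₂ → F), QuadraticMap.polarBilin (γ • q) u v = 2 * γ * f₂ u v := by
    intro γ u v
    rw [QuadraticMap.polarBilin_apply_apply]
    have : (⇑(γ • q : QuadraticForm F (Fin n₂ → F))) = γ • ⇑q := rfl
    rw [this, QuadraticMap.polar_smul, hq, LinearMap.BilinMap.polar_toQuadraticMap, bilinOf_apply, bilinOf_apply,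
      h₂.symm v u, smul_eq_mul]
    ring
  have hnd : ∀ γ : F, γ ≠ 0 → (QuadraticMap.polarBilin (γ • q)).Nondegenerate := by
    intro γ hγ
    have h2γ : 2 * γ ≠ 0 := mul_ne_zero h2 hγ
    constructor
    · intro x hx
      by_contra hx0
      obtain ⟨y, hy⟩ := (h₂.nondegenerate x hx0).2
      have := hx y
      rw [hpol] at this
      rcases mul_eq_zero.mp this with h | h
      · exact h2γ h
      · exact hy h
    · intro x hx
      by_contra hx0
      obtain ⟨y, hy⟩ := (h₂.nondegenerate x hx0).1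
      have := hx y
      rw [hpol] at this
      rcases mul_eq_zero.mp this with h | h
      · exact h2γ h
      · exact hy h
  obtain ⟨k, hk⟩ := hn₂
  have hsq : IsSquare ((Matrix.of (fun i j : Fin n₂ => QuadraticMap.polar ⇑(α • q) (Pi.single i 1) (Pi.single j 1))).det *
      (Matrix.of (fun i j : Fin n₂ => QuadraticMap.polar ⇑(β • q) (Pi.single i 1) (Pi.single j 1))).det) := by
    rw [hq, gram_smul h₂ α, gram_smul h₂ β, Matrix.det_smul, Matrix.det_smul, Fintype.card_fin]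
    refine ⟨(2 * α) ^ k * (2 * β) ^ k * (gramMatrix f₂).det, ?_⟩
    have e1 : ∀ x : F, x ^ n₂ = x ^ k * x ^ k := fun x => by rw [hk, pow_add]
    rw [e1, e1]
    ring
  obtain ⟨g, hg⟩ := (Cfsg.Agent.S2623.result h2 (α • q) (β • q) (hnd α hα) (hnd β hβ)).mpr hsq
  refine ⟨g, fun v => ?_⟩
  have h3 : β • q (g v) = α • q v := hg v
  rw [hqv, hqv, smul_eq_mul, smul_eq_mul] at h3
  exact h3

include hQ h₁ h₂ hTc in
theorem isometric_blocks (h2 : (2 : F) ≠ 0) (hc : c ≠ 0) (hn₂ : Even n₂) (u u' : Fin n₁ → F)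
    (hu : f₁ u u ≠ 0) (hu' : f₁ u' u' ≠ 0) :
    AreIsometricFor Q (LinearMap.range (blockMap e P u)) (LinearMap.range (blockMap e P u')) := by
  have hu0 : u ≠ 0 := by
    rintro rfl
    apply hu
    have := h₁.bilinear.smul_left 0 0 (0 : Fin n₁ → F)
    simpa using this
  have hu0' : u' ≠ 0 := by
    rintro rfl
    apply hu'
    have := h₁.bilinear.smul_left 0 0 (0 : Fin n₁ → F)
    simpa using this
  have hα : 2⁻¹ * (c * f₁ u u) ≠ 0 := mul_ne_zero (inv_ne_zero h2) (mul_ne_zero hc hu)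
  have hβ : 2⁻¹ * (c * f₁ u' u') ≠ 0 := mul_ne_zero (inv_ne_zero h2) (mul_ne_zero hc hu')
  obtain ⟨g, hg⟩ := exists_scaling_isometry h2 h₂ hn₂ hα hβ
  set φ := LinearEquiv.ofInjective (blockMap e P u) (blockMap_injective e P hu0) with hφ
  set φ' := LinearEquiv.ofInjective (blockMap e P u') (blockMap_injective e P hu0') with hφ'
  refine ⟨φ.symm.trans (g.trans φ'), fun w => ?_⟩
  have hw : blockMap e P u (φ.symm w) = (w : Fin n → F) := by
    have := φ.apply_symm_apply w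
    exact congrArg Subtype.val this
  have h1 : (((φ.symm.trans (g.trans φ')) w : LinearMap.range (blockMap e P u')) : Fin n → F) =
      blockMap e P u' (g (φ.symm w)) := rfl
  rw [h1, ← hw, blockMap_apply, blockMap_apply, Q_pure hQ h₁ h₂ hTc h2, Q_pure hQ h₁ h₂ hTc h2]
  have := hg (φ.symm w)
  linear_combination this

end blocks

section main

open Cfsg.Agent.Lib.Helper19.OeTBlocks Cfsg.Agent.Lib.Helper55.Oe

variable {Q : (Fin n → F) → F} (hQ : IsNondegenerateQuadraticForm Q)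
  {e : Fin n ≃ Fin n₁ × Fin n₂} {P : GL (Fin n) F}
  {f₁ : (Fin n₁ → F) → (Fin n₁ → F) → F} {f₂ : (Fin n₂ → F) → (Fin n₂ → F) → F}
  (h₁ : IsSymmetricForm f₁) (h₂ : IsSymmetricForm f₂) {c : F} (hc : c ≠ 0)
  (hTc : ∀ x y : Fin n₁ × Fin n₂ → F,
      QuadraticMap.polar Q ((P : Matrix (Fin n) (Fin n) F) *ᵥ (x ∘ e))
        ((P : Matrix (Fin n) (Fin n) F) *ᵥ (y ∘ e)) =
        c * formOfGram id (gramMatrix f₁ ⊗ₖ gramMatrix f₂) x y)

include hQ h₁ h₂ hc hTc in
/-- (⇒) -/
theorem plus_right_of_plus (h2 : (2 : F) ≠ 0) (hn : n = n₁ * n₂) (h1 : Odd n₁) (h2e : Even n₂)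
    (hp : IsPlusTypeOn Q ⊤) : IsPlusTypeOn (fun v : Fin n₂ → F => f₂ v v) ⊤ := by
  classical
  rcases Nat.eq_zero_or_pos n₂ with h0 | hpos
  · subst h0
    refine ⟨⊥, bot_le, ?_, ?_⟩
    · intro w hw
      rw [(Submodule.mem_bot F).1 hw]
      show f₂ 0 0 = 0
      have := h₂.bilinear.smul_left 0 0 (0 : Fin 0 → F)
      simpa using this
    · rw [finrank_bot, finrank_top, Module.finrank_fin_fun]
  have hn₁pos : 0 < n₁ := h1.pos
  -- an orthogonal basis of `f₁`
  have hfr₁ : Module.finrank F (⊤ : Submodule F (Fin n₁ → F)) = n₁ := by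
    rw [finrank_top, Module.finrank_fin_fun]
  have hnd₁ : ∀ x ∈ (⊤ : Submodule F (Fin n₁ → F)),
      (∀ y ∈ (⊤ : Submodule F (Fin n₁ → F)), bilinOf h₁.bilinear x y = 0) → x = 0 := by
    intro x _ hx
    by_contra h0
    obtain ⟨y, hy⟩ := (h₁.nondegenerate x h0).2
    exact hy (hx y trivial)
  obtain ⟨a, -, haorth, haQ, -⟩ := (symQuadData h₁ h2).exists_orth_basis h2 ⊤ hn₁pos hfr₁ hnd₁
  have hne : ∀ i, f₁ (a i) (a i) ≠ 0 := by
    intro i h0
    apply haQ i
    show 2⁻¹ * f₁ (a i) (a i) = 0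
    rw [h0, mul_zero]
  have hne0 : ∀ i, a i ≠ 0 := by
    intro i h0
    apply hne i
    rw [h0]
    have := h₁.bilinear.smul_left 0 0 (0 : Fin n₁ → F)
    simpa using this
  have horth : ∀ i j, i ≠ j → f₁ (a i) (a j) = 0 := fun i j hij => haorth i j hij
  -- the blocks
  obtain ⟨D, hD⟩ : ∃ D : Fin n₁ → Submodule F (Fin n → F),
      D = fun i => LinearMap.range (blockMap e P (a i)) := ⟨_, rfl⟩
  have hfr : ∀ i, Module.finrank F (D i) = n₂ := by
    intro i
    rw [hD]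
    show Module.finrank F (LinearMap.range (blockMap e P (a i))) = n₂
    rw [LinearMap.finrank_range_of_inj (blockMap_injective e P (hne0 i)), Module.finrank_fin_fun]
  have hnd : ∀ i, IsNondegenerateOn (QuadraticMap.polar Q) (D i) := by
    intro i
    rw [hD]
    exact nondeg_block hQ h₁ h₂ hc hTc (a i) (hne i)
  have horthD : ∀ i j, i ≠ j → AreOrthogonalFor (QuadraticMap.polar Q) (D i) (D j) := by
    intro i j hij
    rw [hD]
    exact orth_blocks hQ h₁ h₂ hTc (a i) (a j) (horth i j hij)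
  have hind : iSupIndep D := iSupIndep_of_orth hQ.polar_bilinear D hnd horthD
  have htop : iSup D = ⊤ := by
    apply Submodule.eq_top_of_finrank_eq
    rw [finrank_iSup_of_indep D hind, Module.finrank_fin_fun]
    simp only [hfr, Finset.sum_const, Finset.card_univ, Fintype.card_fin, smul_eq_mul]
    exact hn.symm
  have hiso : ∀ i j, AreIsometricFor Q (D i) (D j) := by
    intro i j
    rw [hD]
    exact isometric_blocks hQ h₁ h₂ hTc h2 hc h2e (a i) (a j) (hne i) (hne j)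
  -- the block `0` is of plus type
  obtain ⟨i₀, -⟩ : ∃ i₀ : Fin n₁, i₀ = ⟨0, hn₁pos⟩ := ⟨_, rfl⟩
  have hD0 : IsPlusTypeOn Q (D i₀) := by
    by_cases h1' : n₁ = 1
    · have : D i₀ = ⊤ := by
        apply Submodule.eq_top_of_finrank_eq
        rw [hfr, Module.finrank_fin_fun, hn, h1', one_mul]
      rw [this]
      exact hp
    · have h2le : 2 ≤ n₁ := by omega
      exact isPlusTypeOn_block_of_odd hQ n₂ D ⟨⟨⟨h2le, hpos, hfr, hind, htop⟩, hnd, horthD⟩, hiso⟩ h1 h2e hp i₀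
  -- pull back
  obtain ⟨U, hUle, hUsing, hUdim⟩ := hD0
  have hinj := blockMap_injective e P (hne0 i₀)
  have hDi : D i₀ = LinearMap.range (blockMap e P (a i₀)) := by rw [hD]
  refine ⟨U.comap (blockMap e P (a i₀)), le_top, ?_, ?_⟩
  · intro w hw
    have h3 : Q (blockMap e P (a i₀) w) = 0 := hUsing _ hw
    rw [blockMap_apply, Q_pure hQ h₁ h₂ hTc h2] at h3
    show f₂ w w = 0
    rcases mul_eq_zero.mp h3 with h | h
    · exact absurd h (inv_ne_zero h2)
    · rcases mul_eq_zero.mp h with h | h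
      · exact absurd h hc
      · rcases mul_eq_zero.mp h with h | h
        · exact absurd h (hne i₀)
        · exact h
  · have hmap : (U.comap (blockMap e P (a i₀))).map (blockMap e P (a i₀)) = U := by
      apply Submodule.map_comap_eq_of_le
      rw [← hDi]
      exact hUle
    have h4 := (Submodule.equivMapOfInjective (blockMap e P (a i₀)) hinj
      (U.comap (blockMap e P (a i₀)))).finrank_eq
    rw [hmap] at h4
    rw [h4, hUdim, hfr, finrank_top, Module.finrank_fin_fun]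

end main

end Cfsg.Agent.Lib.Helper20.OeT34

namespace Cfsg.Agent.Lib.Helper55.Oe

open Cfsg Cfsg.Geo Cfsg.Agent.Lib.Helper99.Asch Cfsg.Agent.Lib.Helper20.OeT34
open scoped MatrixGroups Matrix Kronecker

variable {n : ℕ} {F : Type*} [Field F] [Fintype F]

/-- ASCHOE-[T-TENSOR34]. -/
theorem isPlusTypeOn_top_tensorSym_iff {Q : (Fin n → F) → F} (hQ : IsNondegenerateQuadraticForm Q)
    (h2 : (2 : F) ≠ 0) (n₁ n₂ : ℕ) (h1 : Odd n₁) (h2e : Even n₂) (e : Fin n ≃ Fin n₁ × Fin n₂) (P : GL (Fin n) F)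
    (f₁ : (Fin n₁ → F) → (Fin n₁ → F) → F) (f₂ : (Fin n₂ → F) → (Fin n₂ → F) → F)
    (h₁ : IsSymmetricForm f₁) (h₂ : IsSymmetricForm f₂)
    (hT : IsTensorFormStructure id (QuadraticMap.polar Q) f₁ f₂ e P) :
    IsPlusTypeOn Q ⊤ ↔ IsPlusTypeOn (fun v : Fin n₂ → F => f₂ v v) ⊤ := by
  obtain ⟨c, hc, hTc⟩ := hT
  have hn : n = n₁ * n₂ := by
    have := Fintype.card_congr e
    rw [Fintype.card_fin, Fintype.card_prod, Fintype.card_fin, Fintype.card_fin] at this
    exact this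
  exact ⟨plus_right_of_plus hQ h₁ h₂ hc hTc h2 hn h1 h2e, plus_of_plus_right hQ h₁ h₂ hTc h2 hn⟩

end Cfsg.Agent.Lib.Helper55.Oe
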