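import Mathlib
import Cfsg.Agent.Lib.Helper20.OrderTypeB

/-! Value tables (numbers of solutions of `x ^ n = 1` by sign) for the atoms of S4376,
all by kernel computation on small explicit groups.  Generated file. -/

namespace Cfsg.Agent.Lib.Helper20.OT

set_option maxRecDepth 100000

theorem v_C2_p_1 : cnt (MonoidHom.id ℤˣ) 1 1 = 1 := by rw [cnt_eq_card]; decide
theorem v_C2_m_1 : cnt (MonoidHom.id ℤˣ) (-1) 1 = 0 := by rw [cnt_eq_card]; decide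
theorem v_C2_p_2 : cnt (MonoidHom.id ℤˣ) 1 2 = 1 := by rw [cnt_eq_card]; decide
theorem v_C2_m_2 : cnt (MonoidHom.id ℤˣ) (-1) 2 = 1 := by rw [cnt_eq_card]; decide
theorem v_C2_p_3 : cnt (MonoidHom.id ℤˣ) 1 3 = 1 := by rw [cnt_eq_card]; decide
theorem v_C2_m_3 : cnt (MonoidHom.id ℤˣ) (-1) 3 = 0 := by rw [cnt_eq_card]; decide
theorem v_C2_p_4 : cnt (MonoidHom.id ℤˣ) 1 4 = 1 := by rw [cnt_eq_card]; decide
theorem v_C2_m_4 : cnt (MonoidHom.id ℤˣ) (-1) 4 = 1 := by rw [cnt_eq_card]; decide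
theorem v_C2_p_6 : cnt (MonoidHom.id ℤˣ) 1 6 = 1 := by rw [cnt_eq_card]; decide
theorem v_C2_m_6 : cnt (MonoidHom.id ℤˣ) (-1) 6 = 1 := by rw [cnt_eq_card]; decide
theorem v_C2_p_7 : cnt (MonoidHom.id ℤˣ) 1 7 = 1 := by rw [cnt_eq_card]; decide
theorem v_C2_m_7 : cnt (MonoidHom.id ℤˣ) (-1) 7 = 0 := by rw [cnt_eq_card]; decide
theorem v_C2_p_12 : cnt (MonoidHom.id ℤˣ) 1 12 = 1 := by rw [cnt_eq_card]; decide
theorem v_C2_m_12 : cnt (MonoidHom.id ℤˣ) (-1) 12 = 1 := by rw [cnt_eq_card]; decide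
theorem v_C2_p_14 : cnt (MonoidHom.id ℤˣ) 1 14 = 1 := by rw [cnt_eq_card]; decide
theorem v_C2_m_14 : cnt (MonoidHom.id ℤˣ) (-1) 14 = 1 := by rw [cnt_eq_card]; decide
theorem v_C2_p_21 : cnt (MonoidHom.id ℤˣ) 1 21 = 1 := by rw [cnt_eq_card]; decide
theorem v_C2_m_21 : cnt (MonoidHom.id ℤˣ) (-1) 21 = 0 := by rw [cnt_eq_card]; decide
theorem v_C2_p_28 : cnt (MonoidHom.id ℤˣ) 1 28 = 1 := by rw [cnt_eq_card]; decide
theorem v_C2_m_28 : cnt (MonoidHom.id ℤˣ) (-1) 28 = 1 := by rw [cnt_eq_card]; decide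
theorem v_C2_p_42 : cnt (MonoidHom.id ℤˣ) 1 42 = 1 := by rw [cnt_eq_card]; decide
theorem v_C2_m_42 : cnt (MonoidHom.id ℤˣ) (-1) 42 = 1 := by rw [cnt_eq_card]; decide
theorem v_C2_p_84 : cnt (MonoidHom.id ℤˣ) 1 84 = 1 := by rw [cnt_eq_card]; decide
theorem v_C2_m_84 : cnt (MonoidHom.id ℤˣ) (-1) 84 = 1 := by rw [cnt_eq_card]; decide
theorem v_C4_p_1 : cnt sgn4 1 1 = 1 := by rw [cnt_eq_card]; decide
theorem v_C4_m_1 : cnt sgn4 (-1) 1 = 0 := by rw [cnt_eq_card]; decide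
theorem v_C4_p_2 : cnt sgn4 1 2 = 2 := by rw [cnt_eq_card]; decide
theorem v_C4_m_2 : cnt sgn4 (-1) 2 = 0 := by rw [cnt_eq_card]; decide
theorem v_C4_p_3 : cnt sgn4 1 3 = 1 := by rw [cnt_eq_card]; decide
theorem v_C4_m_3 : cnt sgn4 (-1) 3 = 0 := by rw [cnt_eq_card]; decide
theorem v_C4_p_4 : cnt sgn4 1 4 = 2 := by rw [cnt_eq_card]; decide
theorem v_C4_m_4 : cnt sgn4 (-1) 4 = 2 := by rw [cnt_eq_card]; decide
theorem v_C4_p_6 : cnt sgn4 1 6 = 2 := by rw [cnt_eq_card]; decide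
theorem v_C4_m_6 : cnt sgn4 (-1) 6 = 0 := by rw [cnt_eq_card]; decide
theorem v_C4_p_7 : cnt sgn4 1 7 = 1 := by rw [cnt_eq_card]; decide
theorem v_C4_m_7 : cnt sgn4 (-1) 7 = 0 := by rw [cnt_eq_card]; decide
theorem v_C4_p_12 : cnt sgn4 1 12 = 2 := by rw [cnt_eq_card]; decide
theorem v_C4_m_12 : cnt sgn4 (-1) 12 = 2 := by rw [cnt_eq_card]; decide
theorem v_C4_p_14 : cnt sgn4 1 14 = 2 := by rw [cnt_eq_card]; decide
theorem v_C4_m_14 : cnt sgn4 (-1) 14 = 0 := by rw [cnt_eq_card]; decide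
theorem v_C4_p_21 : cnt sgn4 1 21 = 1 := by rw [cnt_eq_card]; decide
theorem v_C4_m_21 : cnt sgn4 (-1) 21 = 0 := by rw [cnt_eq_card]; decide
theorem v_C4_p_28 : cnt sgn4 1 28 = 2 := by rw [cnt_eq_card]; decide
theorem v_C4_m_28 : cnt sgn4 (-1) 28 = 2 := by rw [cnt_eq_card]; decide
theorem v_C4_p_42 : cnt sgn4 1 42 = 2 := by rw [cnt_eq_card]; decide
theorem v_C4_m_42 : cnt sgn4 (-1) 42 = 0 := by rw [cnt_eq_card]; decide
theorem v_C4_p_84 : cnt sgn4 1 84 = 2 := by rw [cnt_eq_card]; decide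
theorem v_C4_m_84 : cnt sgn4 (-1) 84 = 2 := by rw [cnt_eq_card]; decide
theorem v_D3_p_1 : cnt (sgnD 3) 1 1 = 1 := by rw [cnt_eq_card]; decide
theorem v_D3_m_1 : cnt (sgnD 3) (-1) 1 = 0 := by rw [cnt_eq_card]; decide
theorem v_D3_p_2 : cnt (sgnD 3) 1 2 = 1 := by rw [cnt_eq_card]; decide
theorem v_D3_m_2 : cnt (sgnD 3) (-1) 2 = 3 := by rw [cnt_eq_card]; decide
theorem v_D3_p_3 : cnt (sgnD 3) 1 3 = 3 := by rw [cnt_eq_card]; decide
theorem v_D3_m_3 : cnt (sgnD 3) (-1) 3 = 0 := by rw [cnt_eq_card]; decide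
theorem v_D3_p_4 : cnt (sgnD 3) 1 4 = 1 := by rw [cnt_eq_card]; decide
theorem v_D3_m_4 : cnt (sgnD 3) (-1) 4 = 3 := by rw [cnt_eq_card]; decide
theorem v_D3_p_6 : cnt (sgnD 3) 1 6 = 3 := by rw [cnt_eq_card]; decide
theorem v_D3_m_6 : cnt (sgnD 3) (-1) 6 = 3 := by rw [cnt_eq_card]; decide
theorem v_D3_p_7 : cnt (sgnD 3) 1 7 = 1 := by rw [cnt_eq_card]; decide
theorem v_D3_m_7 : cnt (sgnD 3) (-1) 7 = 0 := by rw [cnt_eq_card]; decide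
theorem v_D3_p_12 : cnt (sgnD 3) 1 12 = 3 := by rw [cnt_eq_card]; decide
theorem v_D3_m_12 : cnt (sgnD 3) (-1) 12 = 3 := by rw [cnt_eq_card]; decide
theorem v_D3_p_14 : cnt (sgnD 3) 1 14 = 1 := by rw [cnt_eq_card]; decide
theorem v_D3_m_14 : cnt (sgnD 3) (-1) 14 = 3 := by rw [cnt_eq_card]; decide
theorem v_D3_p_21 : cnt (sgnD 3) 1 21 = 3 := by rw [cnt_eq_card]; decide
theorem v_D3_m_21 : cnt (sgnD 3) (-1) 21 = 0 := by rw [cnt_eq_card]; decide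
theorem v_D3_p_28 : cnt (sgnD 3) 1 28 = 1 := by rw [cnt_eq_card]; decide
theorem v_D3_m_28 : cnt (sgnD 3) (-1) 28 = 3 := by rw [cnt_eq_card]; decide
theorem v_D3_p_42 : cnt (sgnD 3) 1 42 = 3 := by rw [cnt_eq_card]; decide
theorem v_D3_m_42 : cnt (sgnD 3) (-1) 42 = 3 := by rw [cnt_eq_card]; decide
theorem v_D3_p_84 : cnt (sgnD 3) 1 84 = 3 := by rw [cnt_eq_card]; decide
theorem v_D3_m_84 : cnt (sgnD 3) (-1) 84 = 3 := by rw [cnt_eq_card]; decide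
theorem v_D7_p_1 : cnt (sgnD 7) 1 1 = 1 := by rw [cnt_eq_card]; decide
theorem v_D7_m_1 : cnt (sgnD 7) (-1) 1 = 0 := by rw [cnt_eq_card]; decide
theorem v_D7_p_2 : cnt (sgnD 7) 1 2 = 1 := by rw [cnt_eq_card]; decide
theorem v_D7_m_2 : cnt (sgnD 7) (-1) 2 = 7 := by rw [cnt_eq_card]; decide
theorem v_D7_p_3 : cnt (sgnD 7) 1 3 = 1 := by rw [cnt_eq_card]; decide
theorem v_D7_m_3 : cnt (sgnD 7) (-1) 3 = 0 := by rw [cnt_eq_card]; decide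
theorem v_D7_p_4 : cnt (sgnD 7) 1 4 = 1 := by rw [cnt_eq_card]; decide
theorem v_D7_m_4 : cnt (sgnD 7) (-1) 4 = 7 := by rw [cnt_eq_card]; decide
theorem v_D7_p_6 : cnt (sgnD 7) 1 6 = 1 := by rw [cnt_eq_card]; decide
theorem v_D7_m_6 : cnt (sgnD 7) (-1) 6 = 7 := by rw [cnt_eq_card]; decide
theorem v_D7_p_7 : cnt (sgnD 7) 1 7 = 7 := by rw [cnt_eq_card]; decide
theorem v_D7_m_7 : cnt (sgnD 7) (-1) 7 = 0 := by rw [cnt_eq_card]; decide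
theorem v_D7_p_12 : cnt (sgnD 7) 1 12 = 1 := by rw [cnt_eq_card]; decide
theorem v_D7_m_12 : cnt (sgnD 7) (-1) 12 = 7 := by rw [cnt_eq_card]; decide
theorem v_D7_p_14 : cnt (sgnD 7) 1 14 = 7 := by rw [cnt_eq_card]; decide
theorem v_D7_m_14 : cnt (sgnD 7) (-1) 14 = 7 := by rw [cnt_eq_card]; decide
theorem v_D7_p_21 : cnt (sgnD 7) 1 21 = 7 := by rw [cnt_eq_card]; decide
theorem v_D7_m_21 : cnt (sgnD 7) (-1) 21 = 0 := by rw [cnt_eq_card]; decide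
theorem v_D7_p_28 : cnt (sgnD 7) 1 28 = 7 := by rw [cnt_eq_card]; decide
theorem v_D7_m_28 : cnt (sgnD 7) (-1) 28 = 7 := by rw [cnt_eq_card]; decide
theorem v_D7_p_42 : cnt (sgnD 7) 1 42 = 7 := by rw [cnt_eq_card]; decide
theorem v_D7_m_42 : cnt (sgnD 7) (-1) 42 = 7 := by rw [cnt_eq_card]; decide
theorem v_D7_p_84 : cnt (sgnD 7) 1 84 = 7 := by rw [cnt_eq_card]; decide
theorem v_D7_m_84 : cnt (sgnD 7) (-1) 84 = 7 := by rw [cnt_eq_card]; decide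
theorem v_D4_p_1 : cnt (sgnD 4) 1 1 = 1 := by rw [cnt_eq_card]; decide
theorem v_D4_m_1 : cnt (sgnD 4) (-1) 1 = 0 := by rw [cnt_eq_card]; decide
theorem v_D4_p_2 : cnt (sgnD 4) 1 2 = 2 := by rw [cnt_eq_card]; decide
theorem v_D4_m_2 : cnt (sgnD 4) (-1) 2 = 4 := by rw [cnt_eq_card]; decide
theorem v_D4_p_3 : cnt (sgnD 4) 1 3 = 1 := by rw [cnt_eq_card]; decide
theorem v_D4_m_3 : cnt (sgnD 4) (-1) 3 = 0 := by rw [cnt_eq_card]; decide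
theorem v_D4_p_4 : cnt (sgnD 4) 1 4 = 4 := by rw [cnt_eq_card]; decide
theorem v_D4_m_4 : cnt (sgnD 4) (-1) 4 = 4 := by rw [cnt_eq_card]; decide
theorem v_D4_p_6 : cnt (sgnD 4) 1 6 = 2 := by rw [cnt_eq_card]; decide
theorem v_D4_m_6 : cnt (sgnD 4) (-1) 6 = 4 := by rw [cnt_eq_card]; decide
theorem v_D4_p_7 : cnt (sgnD 4) 1 7 = 1 := by rw [cnt_eq_card]; decide
theorem v_D4_m_7 : cnt (sgnD 4) (-1) 7 = 0 := by rw [cnt_eq_card]; decide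
theorem v_D4_p_12 : cnt (sgnD 4) 1 12 = 4 := by rw [cnt_eq_card]; decide
theorem v_D4_m_12 : cnt (sgnD 4) (-1) 12 = 4 := by rw [cnt_eq_card]; decide
theorem v_D4_p_14 : cnt (sgnD 4) 1 14 = 2 := by rw [cnt_eq_card]; decide
theorem v_D4_m_14 : cnt (sgnD 4) (-1) 14 = 4 := by rw [cnt_eq_card]; decide
theorem v_D4_p_21 : cnt (sgnD 4) 1 21 = 1 := by rw [cnt_eq_card]; decide
theorem v_D4_m_21 : cnt (sgnD 4) (-1) 21 = 0 := by rw [cnt_eq_card]; decide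
theorem v_D4_p_28 : cnt (sgnD 4) 1 28 = 4 := by rw [cnt_eq_card]; decide
theorem v_D4_m_28 : cnt (sgnD 4) (-1) 28 = 4 := by rw [cnt_eq_card]; decide
theorem v_D4_p_42 : cnt (sgnD 4) 1 42 = 2 := by rw [cnt_eq_card]; decide
theorem v_D4_m_42 : cnt (sgnD 4) (-1) 42 = 4 := by rw [cnt_eq_card]; decide
theorem v_D4_p_84 : cnt (sgnD 4) 1 84 = 4 := by rw [cnt_eq_card]; decide
theorem v_D4_m_84 : cnt (sgnD 4) (-1) 84 = 4 := by rw [cnt_eq_card]; decide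
theorem v_DV_p_1 : cnt sgnV 1 1 = 1 := by rw [cnt_eq_card]; decide
theorem v_DV_m_1 : cnt sgnV (-1) 1 = 0 := by rw [cnt_eq_card]; decide
theorem v_DV_p_2 : cnt sgnV 1 2 = 4 := by rw [cnt_eq_card]; decide
theorem v_DV_m_2 : cnt sgnV (-1) 2 = 2 := by rw [cnt_eq_card]; decide
theorem v_DV_p_3 : cnt sgnV 1 3 = 1 := by rw [cnt_eq_card]; decide
theorem v_DV_m_3 : cnt sgnV (-1) 3 = 0 := by rw [cnt_eq_card]; decide
theorem v_DV_p_4 : cnt sgnV 1 4 = 4 := by rw [cnt_eq_card]; decide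
theorem v_DV_m_4 : cnt sgnV (-1) 4 = 4 := by rw [cnt_eq_card]; decide
theorem v_DV_p_6 : cnt sgnV 1 6 = 4 := by rw [cnt_eq_card]; decide
theorem v_DV_m_6 : cnt sgnV (-1) 6 = 2 := by rw [cnt_eq_card]; decide
theorem v_DV_p_7 : cnt sgnV 1 7 = 1 := by rw [cnt_eq_card]; decide
theorem v_DV_m_7 : cnt sgnV (-1) 7 = 0 := by rw [cnt_eq_card]; decide
theorem v_DV_p_12 : cnt sgnV 1 12 = 4 := by rw [cnt_eq_card]; decide
theorem v_DV_m_12 : cnt sgnV (-1) 12 = 4 := by rw [cnt_eq_card]; decide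
theorem v_DV_p_14 : cnt sgnV 1 14 = 4 := by rw [cnt_eq_card]; decide
theorem v_DV_m_14 : cnt sgnV (-1) 14 = 2 := by rw [cnt_eq_card]; decide
theorem v_DV_p_21 : cnt sgnV 1 21 = 1 := by rw [cnt_eq_card]; decide
theorem v_DV_m_21 : cnt sgnV (-1) 21 = 0 := by rw [cnt_eq_card]; decide
theorem v_DV_p_28 : cnt sgnV 1 28 = 4 := by rw [cnt_eq_card]; decide
theorem v_DV_m_28 : cnt sgnV (-1) 28 = 4 := by rw [cnt_eq_card]; decide
theorem v_DV_p_42 : cnt sgnV 1 42 = 4 := by rw [cnt_eq_card]; decide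
theorem v_DV_m_42 : cnt sgnV (-1) 42 = 2 := by rw [cnt_eq_card]; decide
theorem v_DV_p_84 : cnt sgnV 1 84 = 4 := by rw [cnt_eq_card]; decide
theorem v_DV_m_84 : cnt sgnV (-1) 84 = 4 := by rw [cnt_eq_card]; decide
theorem v_S4_p_1 : cnt (Equiv.Perm.sign (α := Fin 4)) 1 1 = 1 := by rw [cnt_eq_card]; decide
theorem v_S4_m_1 : cnt (Equiv.Perm.sign (α := Fin 4)) (-1) 1 = 0 := by rw [cnt_eq_card]; decide
theorem v_S4_p_2 : cnt (Equiv.Perm.sign (α := Fin 4)) 1 2 = 4 := by rw [cnt_eq_card]; decide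
theorem v_S4_m_2 : cnt (Equiv.Perm.sign (α := Fin 4)) (-1) 2 = 6 := by rw [cnt_eq_card]; decide
theorem v_S4_p_3 : cnt (Equiv.Perm.sign (α := Fin 4)) 1 3 = 9 := by rw [cnt_eq_card]; decide
theorem v_S4_m_3 : cnt (Equiv.Perm.sign (α := Fin 4)) (-1) 3 = 0 := by rw [cnt_eq_card]; decide
theorem v_S4_p_4 : cnt (Equiv.Perm.sign (α := Fin 4)) 1 4 = 4 := by rw [cnt_eq_card]; decide
theorem v_S4_m_4 : cnt (Equiv.Perm.sign (α := Fin 4)) (-1) 4 = 12 := by rw [cnt_eq_card]; decide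
theorem v_S4_p_6 : cnt (Equiv.Perm.sign (α := Fin 4)) 1 6 = 12 := by rw [cnt_eq_card]; decide
theorem v_S4_m_6 : cnt (Equiv.Perm.sign (α := Fin 4)) (-1) 6 = 6 := by rw [cnt_eq_card]; decide
theorem v_S4_p_7 : cnt (Equiv.Perm.sign (α := Fin 4)) 1 7 = 1 := by rw [cnt_eq_card]; decide
theorem v_S4_m_7 : cnt (Equiv.Perm.sign (α := Fin 4)) (-1) 7 = 0 := by rw [cnt_eq_card]; decide
theorem v_S4_p_12 : cnt (Equiv.Perm.sign (α := Fin 4)) 1 12 = 12 := by rw [cnt_eq_card]; decide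
theorem v_S4_m_12 : cnt (Equiv.Perm.sign (α := Fin 4)) (-1) 12 = 12 := by rw [cnt_eq_card]; decide
theorem v_S4_p_14 : cnt (Equiv.Perm.sign (α := Fin 4)) 1 14 = 4 := by rw [cnt_eq_card]; decide
theorem v_S4_m_14 : cnt (Equiv.Perm.sign (α := Fin 4)) (-1) 14 = 6 := by rw [cnt_eq_card]; decide
theorem v_S4_p_21 : cnt (Equiv.Perm.sign (α := Fin 4)) 1 21 = 9 := by rw [cnt_eq_card]; decide
theorem v_S4_m_21 : cnt (Equiv.Perm.sign (α := Fin 4)) (-1) 21 = 0 := by rw [cnt_eq_card]; decide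
theorem v_S4_p_28 : cnt (Equiv.Perm.sign (α := Fin 4)) 1 28 = 4 := by rw [cnt_eq_card]; decide
theorem v_S4_m_28 : cnt (Equiv.Perm.sign (α := Fin 4)) (-1) 28 = 12 := by rw [cnt_eq_card]; decide
theorem v_S4_p_42 : cnt (Equiv.Perm.sign (α := Fin 4)) 1 42 = 12 := by rw [cnt_eq_card]; decide
theorem v_S4_m_42 : cnt (Equiv.Perm.sign (α := Fin 4)) (-1) 42 = 6 := by rw [cnt_eq_card]; decide
theorem v_S4_p_84 : cnt (Equiv.Perm.sign (α := Fin 4)) 1 84 = 12 := by rw [cnt_eq_card]; decide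
theorem v_S4_m_84 : cnt (Equiv.Perm.sign (α := Fin 4)) (-1) 84 = 12 := by rw [cnt_eq_card]; decide
theorem v_F42_p_1 : cnt sgn42 1 1 = 1 := by rw [cnt_eq_card]; decide
theorem v_F42_m_1 : cnt sgn42 (-1) 1 = 0 := by rw [cnt_eq_card]; decide
theorem v_F42_p_2 : cnt sgn42 1 2 = 1 := by rw [cnt_eq_card]; decide
theorem v_F42_m_2 : cnt sgn42 (-1) 2 = 7 := by rw [cnt_eq_card]; decide
theorem v_F42_p_3 : cnt sgn42 1 3 = 15 := by rw [cnt_eq_card]; decide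
theorem v_F42_m_3 : cnt sgn42 (-1) 3 = 0 := by rw [cnt_eq_card]; decide
theorem v_F42_p_4 : cnt sgn42 1 4 = 1 := by rw [cnt_eq_card]; decide
theorem v_F42_m_4 : cnt sgn42 (-1) 4 = 7 := by rw [cnt_eq_card]; decide
theorem v_F42_p_6 : cnt sgn42 1 6 = 15 := by rw [cnt_eq_card]; decide
theorem v_F42_m_6 : cnt sgn42 (-1) 6 = 21 := by rw [cnt_eq_card]; decide
theorem v_F42_p_7 : cnt sgn42 1 7 = 7 := by rw [cnt_eq_card]; decide
theorem v_F42_m_7 : cnt sgn42 (-1) 7 = 0 := by rw [cnt_eq_card]; decide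
theorem v_F42_p_12 : cnt sgn42 1 12 = 15 := by rw [cnt_eq_card]; decide
theorem v_F42_m_12 : cnt sgn42 (-1) 12 = 21 := by rw [cnt_eq_card]; decide
theorem v_F42_p_14 : cnt sgn42 1 14 = 7 := by rw [cnt_eq_card]; decide
theorem v_F42_m_14 : cnt sgn42 (-1) 14 = 7 := by rw [cnt_eq_card]; decide
theorem v_F42_p_21 : cnt sgn42 1 21 = 21 := by rw [cnt_eq_card]; decide
theorem v_F42_m_21 : cnt sgn42 (-1) 21 = 0 := by rw [cnt_eq_card]; decide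
theorem v_F42_p_28 : cnt sgn42 1 28 = 7 := by rw [cnt_eq_card]; decide
theorem v_F42_m_28 : cnt sgn42 (-1) 28 = 7 := by rw [cnt_eq_card]; decide
theorem v_F42_p_42 : cnt sgn42 1 42 = 21 := by rw [cnt_eq_card]; decide
theorem v_F42_m_42 : cnt sgn42 (-1) 42 = 21 := by rw [cnt_eq_card]; decide
theorem v_F42_p_84 : cnt sgn42 1 84 = 21 := by rw [cnt_eq_card]; decide
theorem v_F42_m_84 : cnt sgn42 (-1) 84 = 21 := by rw [cnt_eq_card]; decide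
theorem v_B_1 : tot BB 1 = 1 := by rw [tot_eq_card]; decide
theorem v_B_2 : tot BB 2 = 8 := by rw [tot_eq_card]; decide
theorem v_B_3 : tot BB 3 = 57 := by rw [tot_eq_card]; decide
theorem v_B_4 : tot BB 4 = 8 := by rw [tot_eq_card]; decide
theorem v_B_6 : tot BB 6 = 120 := by rw [tot_eq_card]; decide
theorem v_B_7 : tot BB 7 = 49 := by rw [tot_eq_card]; decide
theorem v_B_12 : tot BB 12 = 120 := by rw [tot_eq_card]; decide
theorem v_B_14 : tot BB 14 = 56 := by rw [tot_eq_card]; decide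
theorem v_B_21 : tot BB 21 = 105 := by rw [tot_eq_card]; decide
theorem v_B_28 : tot BB 28 = 56 := by rw [tot_eq_card]; decide
theorem v_B_42 : tot BB 42 = 168 := by rw [tot_eq_card]; decide
theorem v_B_84 : tot BB 84 = 168 := by rw [tot_eq_card]; decide

theorem exp_C2 : ∀ x : ℤˣ, x ^ 84 = 1 := by decide
theorem exp_C4 : ∀ x : Multiplicative (ZMod 4), x ^ 84 = 1 := by decide
theorem exp_D3 : ∀ x : DihedralGroup 3, x ^ 84 = 1 := by decide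
theorem exp_D7 : ∀ x : DihedralGroup 7, x ^ 84 = 1 := by decide
theorem exp_D4 : ∀ x : DihedralGroup 4, x ^ 84 = 1 := by decide
theorem exp_S4 : ∀ x : Equiv.Perm (Fin 4), x ^ 84 = 1 := by decide
theorem exp_F42 : ∀ x : F42, x ^ 84 = 1 := by decide
theorem exp_B : ∀ x : BB, x ^ 84 = 1 := by
  have h : ∀ x : BB, x ^ 42 = 1 := by decide
  intro x
  rw [show (84 : ℕ) = 42 * 2 from rfl, pow_mul, h, one_pow]

end Cfsg.Agent.Lib.Helper20.OT
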