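import Mathlib
import Cfsg.Agent.Lib.Helper20.OrderTypeB
import Cfsg.Agent.S0249

/-! `SL(3,2)`: numbers of solutions of `x ^ n = 1`, exponent, non-solvability (via the landed
simplicity of `PSL_n(F)`, S0249). -/

namespace Cfsg.Agent.Lib.Helper20.OT

set_option maxRecDepth 100000

/-- `SL(3,2)` -/
abbrev SL32 := Matrix.SpecialLinearGroup (Fin 3) (ZMod 2)

theorem v_S_1 : tot SL32 1 = 1 := by rw [tot_eq_card]; decide +kernel
theorem v_S_2 : tot SL32 2 = 22 := by rw [tot_eq_card]; decide +kernel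
theorem v_S_3 : tot SL32 3 = 57 := by rw [tot_eq_card]; decide +kernel
theorem v_S_4 : tot SL32 4 = 64 := by rw [tot_eq_card]; decide +kernel
theorem v_S_6 : tot SL32 6 = 78 := by
  rw [tot_eq_card]; simp only [show (6 : ℕ) = 2 * 3 from rfl, pow_mul]; decide +kernel
theorem v_S_7 : tot SL32 7 = 49 := by rw [tot_eq_card]; decide +kernel
theorem v_S_12 : tot SL32 12 = 120 := by
  rw [tot_eq_card]; simp only [show (12 : ℕ) = 4 * 3 from rfl, pow_mul]; decide +kernel
theorem v_S_14 : tot SL32 14 = 70 := by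
  rw [tot_eq_card]; simp only [show (14 : ℕ) = 2 * 7 from rfl, pow_mul]; decide +kernel
theorem v_S_21 : tot SL32 21 = 105 := by
  rw [tot_eq_card]; simp only [show (21 : ℕ) = 3 * 7 from rfl, pow_mul]; decide +kernel
theorem v_S_28 : tot SL32 28 = 112 := by
  rw [tot_eq_card]; simp only [show (28 : ℕ) = 4 * 7 from rfl, pow_mul]; decide +kernel
theorem v_S_42 : tot SL32 42 = 126 := by
  rw [tot_eq_card]; simp only [show (42 : ℕ) = 2 * 3 * 7 from rfl, pow_mul]; decide +kernel
theorem v_S_84 : tot SL32 84 = 168 := by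
  rw [tot_eq_card]; simp only [show (84 : ℕ) = 4 * 3 * 7 from rfl, pow_mul]; decide +kernel

theorem exp_S : ∀ x : SL32, x ^ 84 = 1 := by
  have h : ∀ x : SL32, ((x ^ 4) ^ 3) ^ 7 = 1 := by decide +kernel
  intro x
  rw [show (84 : ℕ) = 4 * 3 * 7 from rfl, pow_mul, pow_mul]
  exact h x

end Cfsg.Agent.Lib.Helper20.OT
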