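import Cfsg.Agent.Lib.Helper20.QDSub
import Cfsg.Agent.Lib.Helper20.NCPerm
import Cfsg.Agent.Lib.Helper20.ConjMap
import Cfsg.Agent.S1190
import Cfsg.Agent.S1191
import Cfsg.Agent.S1193

/-!
Fusion in finite groups with quasi-dihedral Sylow 2-subgroups (helper20's library).
-/

set_option autoImplicit false
set_option linter.unusedSectionVars false

namespace Cfsg.Agent.Lib.Helper20.QDF

open Cfsg.Agent.Lib.Helper20 Cfsg.Agent.Lib.Helper20.QD

section generic

variable {G : Type*} [Group G]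

theorem exists_of_relIndex_two {H K : Subgroup G} (h : H.relIndex K = 2) :
    ∃ s ∈ K, s ∉ H ∧ s * s ∈ H := by
  unfold Subgroup.relIndex at h
  obtain ⟨a, ha⟩ := Subgroup.index_eq_two_iff.mp h
  have h1 := ha 1
  rw [one_mul] at h1
  have ha' : a ∉ H.subgroupOf K := by
    rcases h1 with ⟨_, h2⟩ | ⟨_, h2⟩
    · exact absurd (one_mem _) h2
    · exact h2
  refine ⟨a, a.2, fun hc => ha' (Subgroup.mem_subgroupOf.mpr hc), ?_⟩
  have := Subgroup.mul_self_mem_of_index_two h a
  exact Subgroup.mem_subgroupOf.mp this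

theorem isKleinFour_subgroupOf {P T : Subgroup G} (hT : IsKleinFour T) (hTP : T ≤ P) :
    IsKleinFour (T.subgroupOf P) := by
  have e := Subgroup.subgroupOfEquivOfLe hTP
  exact ⟨by rw [Nat.card_congr e.toEquiv]; exact hT.card_four,
    by rw [Monoid.exponent_eq_of_mulEquiv e]; exact hT.exponent_two⟩

theorem coe_mem_normalizer [Finite G] {P T : Subgroup G} (hTP : T ≤ P) {s : P}
    (hs : s ∈ Subgroup.normalizer ((T.subgroupOf P : Subgroup P) : Set P)) :
    (s : G) ∈ Subgroup.normalizer (T : Set G) := by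
  rw [← map_conj_eq_iff_mem_normalizer]
  apply Cfsg.Agent.S1190.map_conj_eq_of_forall _ _ le_rfl
  intro t ht
  have h1 : (⟨t, hTP ht⟩ : P) ∈ T.subgroupOf P := Subgroup.mem_subgroupOf.mpr ht
  have h2 := (Subgroup.mem_normalizer_iff.mp hs ⟨t, hTP ht⟩).mp h1
  exact Subgroup.mem_subgroupOf.mp h2

theorem mem_centralizer_subgroupOf {P T : Subgroup G} {s : P}
    (hs : (s : G) ∈ Subgroup.centralizer (T : Set G)) :
    s ∈ Subgroup.centralizer ((T.subgroupOf P : Subgroup P) : Set P) := by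
  rw [Subgroup.mem_centralizer_iff] at hs ⊢
  intro t ht
  apply Subtype.ext
  exact hs _ (Subgroup.mem_subgroupOf.mp ht)

theorem map_center_equiv {Q R : Type*} [Group Q] [Group R] (e : Q ≃* R) :
    (Subgroup.center Q).map e.toMonoidHom = Subgroup.center R := by
  ext r
  rw [Subgroup.mem_map, Subgroup.mem_center_iff]
  constructor
  · rintro ⟨q, hq, rfl⟩ g
    rw [Subgroup.mem_center_iff] at hq
    have := congrArg e (hq (e.symm g))
    simpa using this
  · intro h
    refine ⟨e.symm r, ?_, by simp⟩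
    rw [Subgroup.mem_center_iff]
    intro g
    apply e.injective
    simpa using h (e g)

theorem q8_center_card : Nat.card (Subgroup.center (QuaternionGroup 2)) = 2 := by
  rw [Nat.card_eq_fintype_card]; decide

theorem q8_center_index : (Subgroup.center (QuaternionGroup 2)).index = 4 := by
  have h := (Subgroup.center (QuaternionGroup 2)).card_mul_index
  rw [q8_center_card, Nat.card_eq_fintype_card, QuaternionGroup.card] at h
  omega

theorem q8_comm_mem : ∀ a b : QuaternionGroup 2,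
    a⁻¹ * (b * a * b⁻¹) ∈ Subgroup.center (QuaternionGroup 2) := by decide

theorem center_index_of_equiv {Q : Type*} [Group Q] (e : Q ≃* QuaternionGroup 2) :
    (Subgroup.center Q).index = 4 := by
  rw [← Subgroup.index_map_equiv (Subgroup.center Q) e]
  have := map_center_equiv e
  rw [show ((e : Q →* QuaternionGroup 2)) = e.toMonoidHom from rfl, this]
  exact q8_center_index

theorem comm_mem_center_of_equiv {Q : Type*} [Group Q] (e : Q ≃* QuaternionGroup 2) (a b : Q) :
    a⁻¹ * (b * a * b⁻¹) ∈ Subgroup.center Q := by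
  have h := q8_comm_mem (e a) (e b)
  rw [← map_center_equiv e, Subgroup.mem_map] at h
  obtain ⟨c, hc, hce⟩ := h
  have : c = a⁻¹ * (b * a * b⁻¹) := by
    apply e.injective
    rw [show e.toMonoidHom c = e c from rfl] at hce
    rw [hce]; simp
  rw [← this]; exact hc

/-- The permutation representation of `N_G(T)` on the non-identity elements of `T`. -/
noncomputable def psiT (T : Subgroup G) : Subgroup.normalizer (T : Set G) →* Equiv.Perm {t : T // t ≠ 1} :=
  (autToPerm T).comp T.normalizerMonoidHom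

theorem psiT_ker (T : Subgroup G) :
    (psiT T).ker = (Subgroup.centralizer (T : Set G)).subgroupOf (Subgroup.normalizer (T : Set G)) := by
  rw [← Subgroup.normalizerMonoidHom_ker]
  ext g
  rw [MonoidHom.mem_ker, MonoidHom.mem_ker]
  unfold psiT
  rw [MonoidHom.comp_apply, map_eq_one_iff _ (autToPerm_injective T)]

/-- `|N_G(T) : C_G(T)|` divides `6` for a Klein four-group `T`. -/
theorem relIndex_dvd_six [Finite G] (T : Subgroup G) (hT : IsKleinFour T) :
    (Subgroup.centralizer (T : Set G)).relIndex (Subgroup.normalizer (T : Set G)) ∣ 6 := by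
  have h := index_ker_dvd (psiT T)
  rw [psiT_ker, card_perm_ne_one_of_card_four T hT.card_four] at h
  exact h

/-- The permutation representation of `N_G(Q)` on the non-identity elements of `Q / Z(Q)`. -/
noncomputable def psiQ (Q : Subgroup G) :
    Subgroup.normalizer (Q : Set G) →* Equiv.Perm {t : Q ⧸ Subgroup.center Q // t ≠ 1} :=
  (autToPerm (Q ⧸ Subgroup.center Q)).comp ((quotAut Q).comp Q.normalizerMonoidHom)

theorem normalizerMonoidHom_coe (Q : Subgroup G) (g : Subgroup.normalizer (Q : Set G)) (q : Q) :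
    ((Q.normalizerMonoidHom g q : Q) : G) = g * q * (g : G)⁻¹ := rfl

theorem mem_psiQ_ker (Q : Subgroup G) (g : Subgroup.normalizer (Q : Set G)) :
    g ∈ (psiQ Q).ker ↔ ∀ q : Q, q⁻¹ * (Q.normalizerMonoidHom g q) ∈ Subgroup.center Q := by
  rw [MonoidHom.mem_ker]
  unfold psiQ
  rw [MonoidHom.comp_apply, map_eq_one_iff _ (autToPerm_injective _), MonoidHom.comp_apply]
  constructor
  · intro h q
    have h1 := quotAut_mk Q (Q.normalizerMonoidHom g) q
    rw [h] at h1
    have h2 : ((q : Q) : Q ⧸ Subgroup.center Q) = ((Q.normalizerMonoidHom g q : Q) : Q ⧸ Subgroup.center Q) := h1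
    exact QuotientGroup.eq.mp h2
  · intro h
    ext t
    induction t using QuotientGroup.induction_on with
    | H q =>
      rw [quotAut_mk]
      exact (QuotientGroup.eq.mpr (h q)).symm

end generic

section qd

variable {G : Type*} [Group G] [Finite G] {P : Subgroup G} {n : ℕ} {x y : P}

/-- `|N_G(T) : C_G(T)| ∈ {2, 6}`. -/
theorem rT_two_or_six (d : Data P n x y) (T : Subgroup G) (hT : IsKleinFour T) (hTP : T ≤ P) :
    (Subgroup.centralizer (T : Set G)).relIndex (Subgroup.normalizer (T : Set G)) = 2 ∨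
    (Subgroup.centralizer (T : Set G)).relIndex (Subgroup.normalizer (T : Set G)) = 6 := by
  have hT' := isKleinFour_subgroupOf hT hTP
  obtain ⟨hcent, hrel⟩ := Cfsg.Agent.S1190.part2 d (T.subgroupOf P) hT'
  obtain ⟨s, hsN, hsT, hssT⟩ := exists_of_relIndex_two hrel
  have hsNG := coe_mem_normalizer hTP hsN
  apply two_or_six _ (relIndex_dvd_six T hT)
  have key := two_dvd_index_ker (psiT T) ⟨(s : G), hsNG⟩ ?_ ?_
  · rwa [psiT_ker] at key
  · intro h
    have h1 : (⟨(s : G), hsNG⟩ : Subgroup.normalizer (T : Set G)) ∈ (psiT T).ker := h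
    rw [psiT_ker, Subgroup.mem_subgroupOf] at h1
    have h2 := mem_centralizer_subgroupOf (P := P) (s := s) h1
    rw [hcent] at h2
    exact hsT h2
  · rw [← MonoidHom.mem_ker, psiT_ker, Subgroup.mem_subgroupOf]
    have h1 : (s : G) * s ∈ T := Subgroup.mem_subgroupOf.mp hssT
    show (s : G) * s ∈ Subgroup.centralizer (T : Set G)
    rw [Subgroup.mem_centralizer_iff]
    intro t ht
    have hc := (IsKleinFour.isMulCommutative (G := T)).is_comm.comm ⟨t, ht⟩ ⟨_, h1⟩
    exact congrArg Subtype.val hc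

/-- Elements of `Q_i` are `v ^ m` or `v ^ m * w`. -/
theorem isQ_eq_pow (d : Data P n x y) {i : ZMod (2 ^ n)} {Q' : Subgroup P}
    (hk : Cfsg.Agent.S1191.IsQ x y n i Q') (s : P) (hs : s ∈ Q') :
    ∃ m : ℕ, s = (f x n (qt n)) ^ m ∨ s = (f x n (qt n)) ^ m * (f x n i * y) := by
  have hn := d.hn
  have h2q := two_mul_qt (n := n) (by omega)
  have key : ∀ j : ZMod (2 ^ n), 4 * j = 0 → ∃ m : ℕ, f x n j = (f x n (qt n)) ^ m := by
    intro j hj
    rcases (Cfsg.Agent.S1191.four_mul_eq_zero_iff hn j).mp hj with h | h | h | h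
    · exact ⟨0, by rw [h, f_zero d, pow_zero]⟩
    · refine ⟨2, ?_⟩
      rw [h, f_pow d]; congr 1; push_cast; exact h2q.symm
    · exact ⟨1, by rw [h, pow_one]⟩
    · refine ⟨3, ?_⟩
      rw [h, f_pow d]; congr 1; push_cast; linear_combination -h2q
  rcases (hk s).mp hs with ⟨j, hj, rfl⟩ | ⟨j, hj, rfl⟩
  · obtain ⟨m, hm⟩ := key j hj
    exact ⟨m, Or.inl hm⟩
  · obtain ⟨m, hm⟩ := key j hj
    refine ⟨m, Or.inr ?_⟩
    rw [← hm, f_mul_fy d]; congr 2; ring

/-- `w v w⁻¹ = v z`. -/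
theorem w_conj_v (d : Data P n x y) (i : ZMod (2 ^ n)) :
    (f x n i * y) * f x n (qt n) * (f x n i * y)⁻¹ = f x n (qt n) * f x n (hf n) := by
  have hn := d.hn
  rw [conj_fy_f d, ← f_add d]; congr 1
  have h2q := two_mul_qt (n := n) (by omega)
  have hhq := hf_mul_qt (n := n) hn
  have h2h := two_mul_hf (n := n) (by omega)
  unfold ep; linear_combination hhq - h2q - h2h

/-- `v w v⁻¹ = w z`. -/
theorem v_conj_w (d : Data P n x y) (i : ZMod (2 ^ n)) :
    f x n (qt n) * (f x n i * y) * (f x n (qt n))⁻¹ = (f x n i * y) * f x n (hf n) := by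
  have hn := d.hn
  rw [conj_f_fy d, fy_mul_f d]; congr 2
  have h2q := two_mul_qt (n := n) (by omega)
  have hhq := hf_mul_qt (n := n) hn
  have hh := Cfsg.Agent.S1191.ep_mul_hf (n := n) hn
  linear_combination h2q - hhq - hh

theorem four_case {H : Type*} [Group H] (g V W Z : H) (hWV : W * V * W⁻¹ = V * Z)
    (hVW : V * W * V⁻¹ = W * Z) (hZV : Z * V = V * Z)
    (hv : g * V * g⁻¹ = V ∨ g * V * g⁻¹ = V * Z) (hw : g * W * g⁻¹ = W ∨ g * W * g⁻¹ = W * Z) :
    ∃ q₀, (q₀ = 1 ∨ q₀ = W ∨ q₀ = V ∨ q₀ = V * W) ∧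
      (q₀⁻¹ * g) * V * (q₀⁻¹ * g)⁻¹ = V ∧ (q₀⁻¹ * g) * W * (q₀⁻¹ * g)⁻¹ = W := by
  rcases hv with hv | hv <;> rcases hw with hw | hw
  · refine ⟨1, Or.inl rfl, ?_, ?_⟩
    · rw [inv_one, one_mul]; exact hv
    · rw [inv_one, one_mul]; exact hw
  · refine ⟨V, Or.inr (Or.inr (Or.inl rfl)), ?_, ?_⟩
    · calc (V⁻¹ * g) * V * (V⁻¹ * g)⁻¹ = V⁻¹ * (g * V * g⁻¹) * V := by group
        _ = V := by rw [hv]; group
    · calc (V⁻¹ * g) * W * (V⁻¹ * g)⁻¹ = V⁻¹ * (g * W * g⁻¹) * V := by group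
        _ = V⁻¹ * (V * W * V⁻¹) * V := by rw [hw, hVW]
        _ = W := by group
  · refine ⟨W, Or.inr (Or.inl rfl), ?_, ?_⟩
    · calc (W⁻¹ * g) * V * (W⁻¹ * g)⁻¹ = W⁻¹ * (g * V * g⁻¹) * W := by group
        _ = W⁻¹ * (W * V * W⁻¹) * W := by rw [hv, hWV]
        _ = V := by group
    · calc (W⁻¹ * g) * W * (W⁻¹ * g)⁻¹ = W⁻¹ * (g * W * g⁻¹) * W := by group
        _ = W := by rw [hw]; group
  · refine ⟨V * W, Or.inr (Or.inr (Or.inr rfl)), ?_, ?_⟩
    · calc ((V * W)⁻¹ * g) * V * ((V * W)⁻¹ * g)⁻¹ = W⁻¹ * (V⁻¹ * (g * V * g⁻¹) * V) * W := by group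
        _ = W⁻¹ * (V⁻¹ * (V * Z) * V) * W := by rw [hv]
        _ = W⁻¹ * (Z * V) * W := by group
        _ = W⁻¹ * (W * V * W⁻¹) * W := by rw [hZV, hWV]
        _ = V := by group
    · calc ((V * W)⁻¹ * g) * W * ((V * W)⁻¹ * g)⁻¹ = W⁻¹ * (V⁻¹ * (g * W * g⁻¹) * V) * W := by group
        _ = W⁻¹ * (V⁻¹ * (V * W * V⁻¹) * V) * W := by rw [hw, hVW]
        _ = W := by group

theorem quat_coords (d : Data P n x y) (Q : Subgroup G) (hQP : Q ≤ P) (eQ : Q ≃* QuaternionGroup 2) :
    ∃ k, Cfsg.Agent.S1191.IsQ x y n (2 * k + 1) (Q.subgroupOf P) :=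
  Cfsg.Agent.S1191.quat_char d _ ⟨(Subgroup.subgroupOfEquivOfLe hQP).trans eQ⟩

theorem v_mem_Q (d : Data P n x y) {i : ZMod (2 ^ n)} {Q' : Subgroup P}
    (hk : Cfsg.Agent.S1191.IsQ x y n i Q') : f x n (qt n) ∈ Q' := by
  have hn := d.hn
  rw [hk.f_mem d]
  have h2q := two_mul_qt (n := n) (by omega)
  have h2h := two_mul_hf (n := n) (by omega)
  linear_combination 2 * h2q + h2h

theorem w_mem_Q (d : Data P n x y) {i : ZMod (2 ^ n)} {Q' : Subgroup P}
    (hk : Cfsg.Agent.S1191.IsQ x y n i Q') : f x n i * y ∈ Q' := by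
  rw [hk.fy_mem d]; ring

theorem z_mem_Q (d : Data P n x y) {i : ZMod (2 ^ n)} {Q' : Subgroup P}
    (hk : Cfsg.Agent.S1191.IsQ x y n i Q') : f x n (hf n) ∈ Q' := by
  rw [hk.f_mem d]; exact Cfsg.Agent.S1191.four_mul_hf d.hn

/-- An element of `G` commuting with `v` and `w` centralizes `Q`. -/
theorem mem_centralizer_of_commute (d : Data P n x y) (Q : Subgroup G) {k : ZMod (2 ^ n)}
    (hk : Cfsg.Agent.S1191.IsQ x y n (2 * k + 1) (Q.subgroupOf P)) (hQP : Q ≤ P) (c : G)
    (hcv : Commute c ((f x n (qt n) : P) : G)) (hcw : Commute c ((f x n (2 * k + 1) * y : P) : G)) :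
    c ∈ Subgroup.centralizer (Q : Set G) := by
  rw [Subgroup.mem_centralizer_iff]
  intro q hq
  have hq' : (⟨q, hQP hq⟩ : P) ∈ Q.subgroupOf P := Subgroup.mem_subgroupOf.mpr hq
  obtain ⟨m, hm | hm⟩ := isQ_eq_pow d hk _ hq'
  · have h1 : q = ((f x n (qt n) : P) : G) ^ m := by
      have := congrArg Subtype.val hm
      simpa using this
    rw [h1]
    exact ((hcv.pow_right m).eq).symm
  · have h1 : q = ((f x n (qt n) : P) : G) ^ m * ((f x n (2 * k + 1) * y : P) : G) := by
      have := congrArg Subtype.val hm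
      simpa using this
    rw [h1]
    exact (((hcv.pow_right m).mul_right hcw).eq).symm

theorem commute_of_conj {H : Type*} [Group H] {c v : H} (h : c * v * c⁻¹ = v) : Commute c v := by
  show c * v = v * c
  calc c * v = (c * v * c⁻¹) * c := by group
    _ = v * c := by rw [h]

theorem ker_decomp (d : Data P n x y) (Q : Subgroup G) (hQP : Q ≤ P) (eQ : Q ≃* QuaternionGroup 2)
    (g : Subgroup.normalizer (Q : Set G)) (hg : g ∈ (psiQ Q).ker) :
    ∃ q₀ ∈ Q, ∃ c ∈ Subgroup.centralizer (Q : Set G), (g : G) = q₀ * c := by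
  obtain ⟨k, hk⟩ := quat_coords d Q hQP eQ
  have hn := d.hn
  have hvQ : ((f x n (qt n) : P) : G) ∈ Q := Subgroup.mem_subgroupOf.mp (v_mem_Q d hk)
  have hwQ : ((f x n (2 * k + 1) * y : P) : G) ∈ Q := Subgroup.mem_subgroupOf.mp (w_mem_Q d hk)
  have hcen : ∀ c : Q, c ∈ Subgroup.center Q →
      (c : G) = 1 ∨ (c : G) = ((f x n (hf n) : P) : G) := by
    intro c hc
    have hcP : (c : G) ∈ P := hQP c.2
    have h1 : (⟨(c : G), hcP⟩ : P) ∈
        Subgroup.centralizer ((Q.subgroupOf P : Subgroup P) : Set P) := by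
      rw [Subgroup.mem_centralizer_iff]
      intro t ht
      have htQ : (t : G) ∈ Q := Subgroup.mem_subgroupOf.mp ht
      rw [Subgroup.mem_center_iff] at hc
      have := hc ⟨(t : G), htQ⟩
      have h2 : (t : G) * (c : G) = (c : G) * (t : G) := congrArg Subtype.val this
      apply Subtype.ext
      exact h2
    rcases Cfsg.Agent.S1191.centralizer_cases d _ k hk _ h1 with h | h
    · left; exact congrArg Subtype.val h
    · right; exact congrArg Subtype.val h
  rw [mem_psiQ_ker] at hg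
  have hv := hcen _ (hg ⟨_, hvQ⟩)
  have hw := hcen _ (hg ⟨_, hwQ⟩)
  simp only [Subgroup.coe_mul, Subgroup.coe_inv, normalizerMonoidHom_coe] at hv hw
  have hWV : ((f x n (2 * k + 1) * y : P) : G) * ((f x n (qt n) : P) : G) *
      ((f x n (2 * k + 1) * y : P) : G)⁻¹ = ((f x n (qt n) : P) : G) * ((f x n (hf n) : P) : G) := by
    have := congrArg Subtype.val (w_conj_v d (2 * k + 1))
    simpa using this
  have hVW : ((f x n (qt n) : P) : G) * ((f x n (2 * k + 1) * y : P) : G) *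
      ((f x n (qt n) : P) : G)⁻¹ = ((f x n (2 * k + 1) * y : P) : G) * ((f x n (hf n) : P) : G) := by
    have := congrArg Subtype.val (v_conj_w d (2 * k + 1))
    simpa using this
  have hZV : ((f x n (hf n) : P) : G) * ((f x n (qt n) : P) : G) =
      ((f x n (qt n) : P) : G) * ((f x n (hf n) : P) : G) := by
    have := congrArg Subtype.val (Cfsg.Agent.S1191.z_comm d (f x n (qt n)))
    simpa using this.symm
  have hv' : (g : G) * ((f x n (qt n) : P) : G) * (g : G)⁻¹ = ((f x n (qt n) : P) : G) ∨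
      (g : G) * ((f x n (qt n) : P) : G) * (g : G)⁻¹ =
        ((f x n (qt n) : P) : G) * ((f x n (hf n) : P) : G) := by
    rcases hv with h | h
    · left; exact (inv_mul_eq_one.mp h).symm
    · right; exact (inv_mul_eq_iff_eq_mul.mp h)
  have hw' : (g : G) * ((f x n (2 * k + 1) * y : P) : G) * (g : G)⁻¹ =
        ((f x n (2 * k + 1) * y : P) : G) ∨
      (g : G) * ((f x n (2 * k + 1) * y : P) : G) * (g : G)⁻¹ =
        ((f x n (2 * k + 1) * y : P) : G) * ((f x n (hf n) : P) : G) := by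
    rcases hw with h | h
    · left; exact (inv_mul_eq_one.mp h).symm
    · right; exact (inv_mul_eq_iff_eq_mul.mp h)
  obtain ⟨q₀, hq₀, hc1, hc2⟩ := four_case (g : G) _ _ _ hWV hVW hZV hv' hw'
  have hq₀Q : q₀ ∈ Q := by
    rcases hq₀ with rfl | rfl | rfl | rfl
    · exact one_mem _
    · exact hwQ
    · exact hvQ
    · exact mul_mem hvQ hwQ
  refine ⟨q₀, hq₀Q, q₀⁻¹ * g, ?_, by group⟩
  exact mem_centralizer_of_commute d Q hk hQP _ (commute_of_conj hc1) (commute_of_conj hc2)

theorem psiQ_ker (d : Data P n x y) (Q : Subgroup G) (hQP : Q ≤ P) (eQ : Q ≃* QuaternionGroup 2) :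
    (psiQ Q).ker = (Q ⊔ Subgroup.centralizer (Q : Set G)).subgroupOf
      (Subgroup.normalizer (Q : Set G)) := by
  ext g
  rw [Subgroup.mem_subgroupOf]
  constructor
  · intro hg
    obtain ⟨q₀, hq₀, c, hc, h⟩ := ker_decomp d Q hQP eQ g hg
    rw [h]
    exact mul_mem (Subgroup.mem_sup_left hq₀) (Subgroup.mem_sup_right hc)
  · intro hg
    have hle : Q ⊔ Subgroup.centralizer (Q : Set G) ≤
        (psiQ Q).ker.map (Subgroup.normalizer (Q : Set G)).subtype := by
      apply sup_le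
      · intro q₁ hq₁
        refine ⟨⟨q₁, Subgroup.le_normalizer hq₁⟩, ?_, rfl⟩
        rw [SetLike.mem_coe, mem_psiQ_ker]
        intro q
        have h := comm_mem_center_of_equiv eQ q ⟨q₁, hq₁⟩
        have e : q⁻¹ * Q.normalizerMonoidHom ⟨q₁, Subgroup.le_normalizer hq₁⟩ q =
            q⁻¹ * (⟨q₁, hq₁⟩ * q * ⟨q₁, hq₁⟩⁻¹) := by
          apply Subtype.ext; rfl
        rw [e]; exact h
      · intro c hc
        refine ⟨⟨c, Subgroup.centralizer_le_normalizer _ hc⟩, ?_, rfl⟩
        rw [SetLike.mem_coe, mem_psiQ_ker]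
        intro q
        have e : q⁻¹ * Q.normalizerMonoidHom ⟨c, Subgroup.centralizer_le_normalizer _ hc⟩ q = 1 := by
          apply Subtype.ext
          show (q : G)⁻¹ * (c * q * c⁻¹) = 1
          rw [Subgroup.mem_centralizer_iff] at hc
          rw [← hc q q.2]; group
        rw [e]; exact one_mem _
    obtain ⟨g', hg', hgg'⟩ := hle hg
    have : g' = g := Subtype.ext hgg'
    rw [← this]; exact hg'

/-- `|N_G(Q) : Q C_G(Q)| ∈ {2, 6}`. -/
theorem rQ_two_or_six (d : Data P n x y) (Q : Subgroup G) (hQP : Q ≤ P)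
    (eQ : Q ≃* QuaternionGroup 2) :
    (Q ⊔ Subgroup.centralizer (Q : Set G)).relIndex (Subgroup.normalizer (Q : Set G)) = 2 ∨
    (Q ⊔ Subgroup.centralizer (Q : Set G)).relIndex (Subgroup.normalizer (Q : Set G)) = 6 := by
  obtain ⟨k, hk⟩ := quat_coords d Q hQP eQ
  have hrel := Cfsg.Agent.S1191.part2b d _ k hk
  obtain ⟨s, hsN, hsQ, hssQ⟩ := exists_of_relIndex_two hrel
  have hsNG := coe_mem_normalizer hQP hsN
  have hcard : Nat.card (Equiv.Perm {t : Q ⧸ Subgroup.center Q // t ≠ 1}) = 6 := by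
    apply card_perm_ne_one_of_card_four
    rw [← Subgroup.index_eq_card]; exact center_index_of_equiv eQ
  have hdvd := index_ker_dvd (psiQ Q)
  rw [hcard, psiQ_ker d Q hQP eQ] at hdvd
  apply two_or_six _ hdvd
  have key := two_dvd_index_ker (psiQ Q) ⟨(s : G), hsNG⟩ ?_ ?_
  · rwa [psiQ_ker d Q hQP eQ] at key
  · intro h
    have h1 : (⟨(s : G), hsNG⟩ : Subgroup.normalizer (Q : Set G)) ∈ (psiQ Q).ker := h
    obtain ⟨q₀, hq₀, c, hc, hsc⟩ := ker_decomp d Q hQP eQ _ h1
    have hsc' : (s : G) = q₀ * c := hsc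
    have hcP : c ∈ P := by
      have : c = q₀⁻¹ * (s : G) := by rw [hsc']; group
      rw [this]; exact mul_mem (inv_mem (hQP hq₀)) s.2
    have h2 := mem_centralizer_subgroupOf (P := P) (T := Q) (s := ⟨c, hcP⟩) hc
    have hcQ : c ∈ Q := by
      rcases Cfsg.Agent.S1191.centralizer_cases d _ k hk _ h2 with h | h
      · have : c = 1 := congrArg Subtype.val h
        rw [this]; exact one_mem _
      · have : c = ((f x n (hf n) : P) : G) := congrArg Subtype.val h
        rw [this]; exact Subgroup.mem_subgroupOf.mp (z_mem_Q d hk)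
    apply hsQ
    rw [Subgroup.mem_subgroupOf, hsc']
    exact mul_mem hq₀ hcQ
  · rw [← MonoidHom.mem_ker, psiQ_ker d Q hQP eQ, Subgroup.mem_subgroupOf]
    have h1 : (s : G) * s ∈ Q := Subgroup.mem_subgroupOf.mp hssQ
    exact Subgroup.mem_sup_left h1

end qd

end Cfsg.Agent.Lib.Helper20.QDF
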