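import Cfsg.Agent.Lib.Helper20.QDFusion
import Cfsg.Agent.Lib.Helper20.ClassCount

/-!
Fusion in finite groups with quasi-dihedral Sylow 2-subgroups, part 2: conjugacy classes of
involutions and of elements of order four (helper20's library).
-/

set_option autoImplicit false
set_option linter.unusedSectionVars false

namespace Cfsg.Agent.Lib.Helper20.QDF

open Cfsg.Agent.Lib.Helper20 Cfsg.Agent.Lib.Helper20.QD

/-! ### Conjugacy inside the quasi-dihedral group -/

section inP

variable {P : Type*} [Group P] {n : ℕ} {x y : P}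

theorem conjP_even (d : Data P n x y) (k : ZMod (2 ^ n)) : IsConj y (f x n (2 * k) * y) := by
  apply IsConj.symm
  apply isConj_of_conj_eq (g := f x n (-(k * (1 + qt n))))
  rw [conj_f_fy d]
  have h0 : 2 * k + (2 - hf n) * -(k * (1 + qt n)) = 0 := by
    have := two_sub_hf_mul (n := n) d.hn
    linear_combination (-k) * this
  rw [h0, f_zero d, one_mul]

theorem conjP_odd (d : Data P n x y) (k : ZMod (2 ^ n)) :
    IsConj (f x n 1 * y) (f x n (2 * k + 1) * y) := by
  apply IsConj.symm
  apply isConj_of_conj_eq (g := f x n (-(k * (1 + qt n))))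
  rw [conj_f_fy d]
  have h0 : 2 * k + 1 + (2 - hf n) * -(k * (1 + qt n)) = 1 := by
    have := two_sub_hf_mul (n := n) d.hn
    linear_combination (-k) * this
  rw [h0]

theorem conjP_v (d : Data P n x y) : IsConj (f x n (qt n)) (f x n (qt n + hf n)) := by
  have hn := d.hn
  apply isConj_of_conj_eq (g := y)
  rw [y_conj_f d]; congr 1
  have h1 := hf_mul_qt (n := n) hn
  have h3 := two_mul_qt (n := n) (by omega)
  have h4 := two_mul_hf (n := n) (by omega)
  unfold ep; linear_combination h1 - h3 - h4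

/-- Involutions of `P`. -/
theorem involP [Finite P] (d : Data P n x y) (t : P) (ht : orderOf t = 2) :
    t = f x n (hf n) ∨ IsConj y t := by
  rw [QD.orderOf_eq_two_iff] at ht
  rcases Cfsg.Agent.S1190.invol_char d t ht.1 ht.2 with h | ⟨k, hk⟩
  · left; exact h
  · right; rw [hk]; exact conjP_even d k

/-- Elements of order four of `P`. -/
theorem order4P [Finite P] (d : Data P n x y) (t : P) (ht : orderOf t = 4) :
    IsConj (f x n (qt n)) t ∨ IsConj (f x n 1 * y) t := by
  have hn := d.hn
  rcases normal_form d t with ⟨i, rfl⟩ | ⟨i, rfl⟩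
  · left
    have h2 := (orderOf_f_eq_four_iff d i).mp ht
    rcases (two_mul_eq_hf_iff (by omega) i).mp h2 with h | h
    · rw [h]
    · rw [h]; exact conjP_v d
  · right
    rcases even_or_odd i with ⟨j, rfl⟩ | ⟨j, rfl⟩
    · rw [orderOf_fy_even d] at ht; omega
    · exact conjP_odd d j

end inP

/-! ### Conjugacy in `G` -/

section inG

variable {G : Type*} [Group G]

theorem isConj_coe {P : Subgroup G} {a b : P} (h : IsConj a b) : IsConj (a : G) (b : G) := by
  obtain ⟨c, hc⟩ := isConj_iff.mp h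
  apply isConj_of_conj_eq (g := (c : G))
  rw [← hc]; simp

theorem orderOf_conj' (g t : G) : orderOf (g * t * g⁻¹) = orderOf t := by
  rw [orderOf_eq_orderOf_iff]
  intro m
  rw [conj_pow, conj_eq_one_iff]

variable [Finite G]

/-- Every `2`-element is conjugate into the Sylow `2`-subgroup. -/
theorem exists_conj_mem_sylow (S : Sylow 2 G) (t : G) (k : ℕ) (ht : orderOf t = 2 ^ k) :
    ∃ g : G, g * t * g⁻¹ ∈ (S : Subgroup G) := by
  have : Fact (Nat.Prime 2) := ⟨Nat.prime_two⟩
  have hp : IsPGroup 2 (Subgroup.zpowers t) := by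
    apply IsPGroup.of_card (n := k)
    rw [Nat.card_zpowers, ht]
  obtain ⟨g, hg⟩ := pgroup_le_map_conj_sylow S hp
  have := hg (Subgroup.mem_zpowers t)
  rw [mem_map_conj] at this
  exact ⟨g⁻¹, by simpa using this⟩

variable (S : Sylow 2 G) {n : ℕ} {x y : (S : Subgroup G)}

/-- Involutions of `G` are conjugate to `z` or to `y`. -/
theorem invol_class (d : Data (S : Subgroup G) n x y) (t : G) (ht : orderOf t = 2) :
    IsConj ((f x n (hf n) : (S : Subgroup G)) : G) t ∨ IsConj (y : G) t := by
  obtain ⟨g, hg⟩ := exists_conj_mem_sylow S t 1 (by rw [ht, pow_one])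
  have ho : orderOf (⟨g * t * g⁻¹, hg⟩ : (S : Subgroup G)) = 2 := by
    rw [Subgroup.orderOf_mk, orderOf_conj', ht]
  have hc : IsConj t (g * t * g⁻¹) := isConj_of_conj_eq rfl
  rcases involP d _ ho with h | h
  · left
    have : g * t * g⁻¹ = ((f x n (hf n) : (S : Subgroup G)) : G) := congrArg Subtype.val h
    rw [← this]; exact hc.symm
  · right
    exact (isConj_coe h).trans hc.symm

/-- Elements of order four of `G` are conjugate to `v` or to `w`. -/
theorem order4_class (d : Data (S : Subgroup G) n x y) (t : G) (ht : orderOf t = 4) :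
    IsConj ((f x n (qt n) : (S : Subgroup G)) : G) t ∨
      IsConj ((f x n 1 * y : (S : Subgroup G)) : G) t := by
  obtain ⟨g, hg⟩ := exists_conj_mem_sylow S t 2 (by rw [ht]; norm_num)
  have ho : orderOf (⟨g * t * g⁻¹, hg⟩ : (S : Subgroup G)) = 4 := by
    rw [Subgroup.orderOf_mk, orderOf_conj', ht]
  have hc : IsConj t (g * t * g⁻¹) := isConj_of_conj_eq rfl
  rcases order4P d _ ho with h | h
  · left; exact (isConj_coe h).trans hc.symm
  · right; exact (isConj_coe h).trans hc.symm

theorem orderOf_Z (d : Data (S : Subgroup G) n x y) :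
    orderOf ((f x n (hf n) : (S : Subgroup G)) : G) = 2 := by
  rw [Subgroup.orderOf_coe]; exact (orderOf_f_eq_two_iff d _).mpr rfl

theorem orderOf_Y (d : Data (S : Subgroup G) n x y) : orderOf (y : G) = 2 := by
  rw [Subgroup.orderOf_coe]; exact d.oy

theorem orderOf_V (d : Data (S : Subgroup G) n x y) :
    orderOf ((f x n (qt n) : (S : Subgroup G)) : G) = 4 := by
  rw [Subgroup.orderOf_coe]
  exact (orderOf_f_eq_four_iff d _).mpr (two_mul_qt (by have := d.hn; omega))

theorem orderOf_W (d : Data (S : Subgroup G) n x y) :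
    orderOf ((f x n 1 * y : (S : Subgroup G)) : G) = 4 := by
  rw [Subgroup.orderOf_coe]
  have := orderOf_fy_odd d 0
  simpa using this

theorem card_invol_one (d : Data (S : Subgroup G) n x y)
    (h : IsConj ((f x n (hf n) : (S : Subgroup G)) : G) (y : G)) :
    Nat.card {C : ConjClasses G // ∃ t : G, orderOf t = 2 ∧ ConjClasses.mk t = C} = 1 := by
  apply card_classes_eq_one (fun t => orderOf t = 2) _ (orderOf_Z S d)
  intro t ht
  rcases invol_class S d t ht with h1 | h1
  · exact h1
  · exact h.trans h1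

theorem card_invol_two (d : Data (S : Subgroup G) n x y)
    (h : ¬ IsConj ((f x n (hf n) : (S : Subgroup G)) : G) (y : G)) :
    Nat.card {C : ConjClasses G // ∃ t : G, orderOf t = 2 ∧ ConjClasses.mk t = C} = 2 :=
  card_classes_eq_two (fun t => orderOf t = 2) _ _ (orderOf_Z S d) (orderOf_Y S d) h
    (invol_class S d)

theorem card_order4_one (d : Data (S : Subgroup G) n x y)
    (h : IsConj ((f x n (qt n) : (S : Subgroup G)) : G) ((f x n 1 * y : (S : Subgroup G)) : G)) :
    Nat.card {C : ConjClasses G // ∃ t : G, orderOf t = 4 ∧ ConjClasses.mk t = C} = 1 := by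
  apply card_classes_eq_one (fun t => orderOf t = 4) _ (orderOf_V S d)
  intro t ht
  rcases order4_class S d t ht with h1 | h1
  · exact h1
  · exact h.trans h1

theorem card_order4_two (d : Data (S : Subgroup G) n x y)
    (h : ¬ IsConj ((f x n (qt n) : (S : Subgroup G)) : G) ((f x n 1 * y : (S : Subgroup G)) : G)) :
    Nat.card {C : ConjClasses G // ∃ t : G, orderOf t = 4 ∧ ConjClasses.mk t = C} = 2 :=
  card_classes_eq_two (fun t => orderOf t = 4) _ _ (orderOf_V S d) (orderOf_W S d) h
    (order4_class S d)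

/-- Central elements of `Q`. -/
theorem center_cases_G (d : Data (S : Subgroup G) n x y) (Q : Subgroup G) (hQS : Q ≤ S)
    {k : ZMod (2 ^ n)} (hk : Cfsg.Agent.S1191.IsQ x y n (2 * k + 1) (Q.subgroupOf (S : Subgroup G)))
    (c : Q) (hc : c ∈ Subgroup.center Q) :
    (c : G) = 1 ∨ (c : G) = ((f x n (hf n) : (S : Subgroup G)) : G) := by
  have hcP : (c : G) ∈ (S : Subgroup G) := hQS c.2
  have h1 : (⟨(c : G), hcP⟩ : (S : Subgroup G)) ∈
      Subgroup.centralizer ((Q.subgroupOf (S : Subgroup G) : Subgroup (S : Subgroup G)) :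
        Set (S : Subgroup G)) := by
    rw [Subgroup.mem_centralizer_iff]
    intro t ht
    have htQ : (t : G) ∈ Q := Subgroup.mem_subgroupOf.mp ht
    rw [Subgroup.mem_center_iff] at hc
    have := hc ⟨(t : G), htQ⟩
    have h2 : (t : G) * (c : G) = (c : G) * (t : G) := congrArg Subtype.val this
    apply Subtype.ext
    exact h2
  rcases Cfsg.Agent.S1191.centralizer_cases d _ k hk _ h1 with h | h
  · left; exact congrArg Subtype.val h
  · right; exact congrArg Subtype.val h

/-- If `|N_G(T) : C_G(T)| = 6` then `z` and `y` are conjugate in `G`. -/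
theorem conj_Z_Y_of_six (d : Data (S : Subgroup G) n x y) (T : Subgroup G) (hT : IsKleinFour T)
    (hTS : T ≤ S)
    (h₁ : (Subgroup.centralizer (T : Set G)).relIndex (Subgroup.normalizer (T : Set G)) = 6) :
    IsConj ((f x n (hf n) : (S : Subgroup G)) : G) (y : G) := by
  classical
  have hT' := isKleinFour_subgroupOf hT hTS
  obtain ⟨k, hk⟩ := Cfsg.Agent.S1190.klein_char d (T.subgroupOf (S : Subgroup G)) hT'
  have hZT : ((f x n (hf n) : (S : Subgroup G)) : G) ∈ T := by
    apply Subgroup.mem_subgroupOf.mp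
    rw [Cfsg.Agent.S1190.mem_of_kset hk, Cfsg.Agent.S1190.mem_kset]
    right; left; rfl
  have hAT : ((f x n (2 * k) * y : (S : Subgroup G)) : G) ∈ T := by
    apply Subgroup.mem_subgroupOf.mp
    rw [Cfsg.Agent.S1190.mem_of_kset hk, Cfsg.Agent.S1190.mem_kset]
    right; right; left; rfl
  have hZ1 : (⟨_, hZT⟩ : T) ≠ 1 := by
    intro h
    have h1 : ((f x n (hf n) : (S : Subgroup G)) : G) = 1 := congrArg Subtype.val h
    exact fhf_ne_one d (Subtype.ext h1)
  have hA1 : (⟨_, hAT⟩ : T) ≠ 1 := by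
    intro h
    have h1 : ((f x n (2 * k) * y : (S : Subgroup G)) : G) = 1 := congrArg Subtype.val h
    exact fy_ne_one d _ (Subtype.ext h1)
  have hsurj := surjective_of_index_ker (psiT T) (by
    rw [psiT_ker, card_perm_ne_one_of_card_four T hT.card_four]; exact h₁)
  obtain ⟨g, hg⟩ := hsurj (Equiv.swap ⟨⟨_, hZT⟩, hZ1⟩ ⟨⟨_, hAT⟩, hA1⟩)
  have h2 := congrArg (fun π : Equiv.Perm {t : T // t ≠ 1} =>
    (((π ⟨⟨_, hZT⟩, hZ1⟩ : {t : T // t ≠ 1}) : T) : G)) hg
  simp only [Equiv.swap_apply_left] at h2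
  have h3 : (g : G) * ((f x n (hf n) : (S : Subgroup G)) : G) * (g : G)⁻¹ =
      ((f x n (2 * k) * y : (S : Subgroup G)) : G) := h2
  exact (isConj_of_conj_eq h3).trans (isConj_coe (conjP_even d k)).symm

/-- If `|N_G(Q) : Q C_G(Q)| = 6` then `v` and `w` are conjugate in `G`. -/
theorem conj_V_W_of_six (d : Data (S : Subgroup G) n x y) (Q : Subgroup G) (hQS : Q ≤ S)
    (eQ : Q ≃* QuaternionGroup 2)
    (h₂ : (Q ⊔ Subgroup.centralizer (Q : Set G)).relIndex (Subgroup.normalizer (Q : Set G)) = 6) :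
    IsConj ((f x n (qt n) : (S : Subgroup G)) : G) ((f x n 1 * y : (S : Subgroup G)) : G) := by
  classical
  have hn := d.hn
  obtain ⟨k, hk⟩ := quat_coords d Q hQS eQ
  have hvQ : ((f x n (qt n) : (S : Subgroup G)) : G) ∈ Q := Subgroup.mem_subgroupOf.mp (v_mem_Q d hk)
  have hwQ : ((f x n (2 * k + 1) * y : (S : Subgroup G)) : G) ∈ Q :=
    Subgroup.mem_subgroupOf.mp (w_mem_Q d hk)
  have hV1 : ((⟨_, hvQ⟩ : Q) : Q ⧸ Subgroup.center Q) ≠ 1 := by
    intro h
    rw [QuotientGroup.eq_one_iff] at h
    rcases center_cases_G S d Q hQS hk _ h with h1 | h1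
    · have : f x n (qt n) = 1 := Subtype.ext h1
      exact Cfsg.Agent.S1190.qt_ne_zero hn ((f_eq_one_iff d _).mp this)
    · have : f x n (qt n) = f x n (hf n) := Subtype.ext h1
      exact Cfsg.Agent.S1190.qt_ne_hf hn (f_injective d this)
  have hW1 : ((⟨_, hwQ⟩ : Q) : Q ⧸ Subgroup.center Q) ≠ 1 := by
    intro h
    rw [QuotientGroup.eq_one_iff] at h
    rcases center_cases_G S d Q hQS hk _ h with h1 | h1
    · have : f x n (2 * k + 1) * y = 1 := Subtype.ext h1
      exact fy_ne_one d _ this
    · have : f x n (2 * k + 1) * y = f x n (hf n) := Subtype.ext h1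
      exact f_mul_y_ne_f d _ _ this
  have hcard : Nat.card (Equiv.Perm {t : Q ⧸ Subgroup.center Q // t ≠ 1}) = 6 := by
    apply card_perm_ne_one_of_card_four
    rw [← Subgroup.index_eq_card]; exact center_index_of_equiv eQ
  have hsurj := surjective_of_index_ker (psiQ Q) (by
    rw [psiQ_ker d Q hQS eQ, hcard]; exact h₂)
  obtain ⟨g, hg⟩ := hsurj (Equiv.swap ⟨_, hV1⟩ ⟨_, hW1⟩)
  have h2 := congrArg (fun π : Equiv.Perm {t : Q ⧸ Subgroup.center Q // t ≠ 1} =>
    ((π ⟨_, hV1⟩ : {t : Q ⧸ Subgroup.center Q // t ≠ 1}) : Q ⧸ Subgroup.center Q)) hg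
  simp only [Equiv.swap_apply_left] at h2
  have h3 : ((Q.normalizerMonoidHom g ⟨_, hvQ⟩ : Q) : Q ⧸ Subgroup.center Q) =
      ((⟨_, hwQ⟩ : Q) : Q ⧸ Subgroup.center Q) := h2
  have h4 := QuotientGroup.eq.mp h3
  have h5 := center_cases_G S d Q hQS hk _ h4
  have h5' : ((g : G) * ((f x n (qt n) : (S : Subgroup G)) : G) * (g : G)⁻¹)⁻¹ *
        ((f x n (2 * k + 1) * y : (S : Subgroup G)) : G) = 1 ∨
      ((g : G) * ((f x n (qt n) : (S : Subgroup G)) : G) * (g : G)⁻¹)⁻¹ *
        ((f x n (2 * k + 1) * y : (S : Subgroup G)) : G) =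
        ((f x n (hf n) : (S : Subgroup G)) : G) := h5
  have hW1' := isConj_coe (conjP_odd d k)
  rcases h5' with h | h
  · have h6 : (g : G) * ((f x n (qt n) : (S : Subgroup G)) : G) * (g : G)⁻¹ =
        ((f x n (2 * k + 1) * y : (S : Subgroup G)) : G) := inv_mul_eq_one.mp h
    exact (isConj_of_conj_eq h6).trans hW1'.symm
  · have hz : (f x n (2 * k + 1) * y) * f x n (hf n) = f x n (2 * (k + qt n) + 1) * y := by
      rw [fy_mul_f d]; congr 2
      have h1 := Cfsg.Agent.S1191.ep_mul_hf (n := n) hn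
      have h2q := two_mul_qt (n := n) (by omega)
      linear_combination h1 - h2q
    have hzz : f x n (hf n) * f x n (hf n) = 1 := fhf_mul_self d
    have h6 : (g : G) * ((f x n (qt n) : (S : Subgroup G)) : G) * (g : G)⁻¹ =
        ((f x n (2 * (k + qt n) + 1) * y : (S : Subgroup G)) : G) := by
      rw [← hz]
      have hzz' : ((f x n (hf n) : (S : Subgroup G)) : G) * ((f x n (hf n) : (S : Subgroup G)) : G) = 1 := by
        have := congrArg Subtype.val hzz
        simpa using this
      have e1 : (g : G) * ((f x n (qt n) : (S : Subgroup G)) : G) * (g : G)⁻¹ =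
          ((f x n (2 * k + 1) * y : (S : Subgroup G)) : G) *
            ((f x n (hf n) : (S : Subgroup G)) : G)⁻¹ := by
        rw [← h]; group
      rw [e1, Subgroup.coe_mul]
      congr 1
      exact inv_eq_of_mul_eq_one_right hzz'
    exact (isConj_of_conj_eq h6).trans (isConj_coe (conjP_odd d (k + qt n))).symm

/-- A subgroup of index two does not contain a Sylow `2`-subgroup. -/
theorem not_sylow_le_of_index_two (H : Subgroup G) (hH : H.index = 2) :
    ¬ (S : Subgroup G) ≤ H := by
  intro hle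
  have : Fact (Nat.Prime 2) := ⟨Nat.prime_two⟩
  have h1 : H.index ∣ (S : Subgroup G).index := Subgroup.index_dvd_of_le hle
  rw [hH] at h1
  exact S.not_dvd_index h1

omit [Finite G] in
/-- Conjugate elements lie simultaneously in a subgroup of index two. -/
theorem mem_iff_of_isConj {H : Subgroup G} (hH : H.index = 2) {a b : G} (h : IsConj a b) :
    a ∈ H ↔ b ∈ H := by
  have hn : H.Normal := Subgroup.normal_of_index_eq_two hH
  obtain ⟨g, rfl⟩ := isConj_iff.mp h
  constructor
  · intro ha; exact hn.conj_mem a ha g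
  · intro hb
    have := hn.conj_mem _ hb g⁻¹
    have e : g⁻¹ * (g * a * g⁻¹) * g⁻¹⁻¹ = a := by group
    rwa [e] at this

/-- A subgroup containing `x` and `y` contains `S`. -/
theorem sylow_le_of_x_y_mem (d : Data (S : Subgroup G) n x y) (H : Subgroup G)
    (hx : (x : G) ∈ H) (hy : (y : G) ∈ H) : (S : Subgroup G) ≤ H := by
  intro s hs
  have hf : ∀ i, ((f x n i : (S : Subgroup G)) : G) ∈ H := by
    intro i
    unfold f; rw [Subgroup.coe_pow]; exact pow_mem hx _
  rcases normal_form d ⟨s, hs⟩ with ⟨i, hi⟩ | ⟨i, hi⟩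
  · have : s = ((f x n i : (S : Subgroup G)) : G) := congrArg Subtype.val hi
    rw [this]; exact hf i
  · have : s = ((f x n i * y : (S : Subgroup G)) : G) := congrArg Subtype.val hi
    rw [this, Subgroup.coe_mul]; exact mul_mem (hf i) hy

/-- `z` and `v` are squares, hence lie in every subgroup of index two. -/
theorem Z_mem_of_index_two (d : Data (S : Subgroup G) n x y) (H : Subgroup G) (hH : H.index = 2) :
    ((f x n (hf n) : (S : Subgroup G)) : G) ∈ H := by
  have hn := d.hn
  have e : f x n (hf n) = f x n (qt n) * f x n (qt n) := by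
    rw [← f_add d]; congr 1
    have := two_mul_qt (n := n) (by omega)
    linear_combination -this
  rw [e, Subgroup.coe_mul]
  exact Subgroup.mul_self_mem_of_index_two hH _

theorem V_mem_of_index_two (d : Data (S : Subgroup G) n x y) (H : Subgroup G) (hH : H.index = 2) :
    ((f x n (qt n) : (S : Subgroup G)) : G) ∈ H := by
  have hn := d.hn
  obtain ⟨e3, he3⟩ := qt_even (n := n) hn
  have e : f x n (qt n) = f x n e3 * f x n e3 := by
    rw [← f_add d]; congr 1
    linear_combination he3
  rw [e, Subgroup.coe_mul]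
  exact Subgroup.mul_self_mem_of_index_two hH _

/-- With both kinds of fusion there is no subgroup of index two. -/
theorem no_index_two_of_fusion (d : Data (S : Subgroup G) n x y)
    (hZY : IsConj ((f x n (hf n) : (S : Subgroup G)) : G) (y : G))
    (hVW : IsConj ((f x n (qt n) : (S : Subgroup G)) : G) ((f x n 1 * y : (S : Subgroup G)) : G))
    (H : Subgroup G) : H.index ≠ 2 := by
  intro hH
  have hy : (y : G) ∈ H := (mem_iff_of_isConj hH hZY).mp (Z_mem_of_index_two S d H hH)
  have hw : ((f x n 1 * y : (S : Subgroup G)) : G) ∈ H :=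
    (mem_iff_of_isConj hH hVW).mp (V_mem_of_index_two S d H hH)
  rw [f_one d, Subgroup.coe_mul] at hw
  have hx : (x : G) ∈ H := by
    have := mul_mem hw (inv_mem hy)
    rwa [mul_assoc, mul_inv_cancel, mul_one] at this
  exact not_sylow_le_of_index_two S H hH (sylow_le_of_x_y_mem S d H hx hy)

end inG

end Cfsg.Agent.Lib.Helper20.QDF
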