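import Cfsg.Agent.Lib.Helper20.QDFusion2
import Cfsg.Agent.Lib.Helper33.SylIn

/-!
Fusion in finite groups with quasi-dihedral Sylow 2-subgroups, part 3: fusion of `z` and `y`
(resp. `v` and `w`) is detected in `N_G(T)` (resp. `N_G(Q)`) (helper20's library).
-/

set_option autoImplicit false
set_option linter.unusedSectionVars false

namespace Cfsg.Agent.Lib.Helper20.QDF

open Cfsg.Agent.Lib.Helper20 Cfsg.Agent.Lib.Helper20.QD
open Cfsg.Agent.Lib.Helper33 (cj mem_cj conj_mem_cj cj_mul cj_le_cj cj_cj_inv cj_inv_cj cj_top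
  cjEquiv mem_normalizer_iff_cj_eq SylIn sylIn_top)

section

variable {G : Type*} [Group G]

theorem cj_eq_of_map_subgroupOf {P A B : Subgroup G} (hA : A ≤ P) (hB : B ≤ P) (s : P)
    (h : (A.subgroupOf P).map (MulAut.conj s).toMonoidHom = B.subgroupOf P) :
    cj (s : G) A = B := by
  ext x
  rw [mem_cj]
  constructor
  · intro hx
    have h1 : (⟨(s : G)⁻¹ * x * s, hA hx⟩ : P) ∈ A.subgroupOf P := Subgroup.mem_subgroupOf.mpr hx
    have h2 := Cfsg.Agent.Lib.Helper20.conj_mem_map_conj (g := s) h1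
    rw [h] at h2
    have h3 := Subgroup.mem_subgroupOf.mp h2
    have e : ((s * (⟨(s : G)⁻¹ * x * s, hA hx⟩ : P) * s⁻¹ : P) : G) = x := by
      show (s : G) * ((s : G)⁻¹ * x * s) * (s : G)⁻¹ = x
      group
    rwa [e] at h3
  · intro hx
    have h1 : (⟨x, hB hx⟩ : P) ∈ B.subgroupOf P := Subgroup.mem_subgroupOf.mpr hx
    rw [← h, Cfsg.Agent.Lib.Helper20.mem_map_conj] at h1
    exact Subgroup.mem_subgroupOf.mp h1

theorem isKleinFour_cj {T : Subgroup G} (hT : IsKleinFour T) (g : G) : IsKleinFour (cj g T) := by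
  have e := cjEquiv g T
  exact ⟨by rw [← Nat.card_congr e.toEquiv]; exact hT.card_four,
    by rw [← Monoid.exponent_eq_of_mulEquiv e]; exact hT.exponent_two⟩

variable [Finite G] (S : Sylow 2 G) {n : ℕ} {x y : (S : Subgroup G)}

theorem klein_conj_G (d : Data (S : Subgroup G) n x y) (T₁ T₂ : Subgroup G) (h₁ : IsKleinFour T₁)
    (h₂ : IsKleinFour T₂) (hT₁ : T₁ ≤ S) (hT₂ : T₂ ≤ S) :
    ∃ s : (S : Subgroup G), cj (s : G) T₁ = T₂ := by
  obtain ⟨s, hs⟩ := Cfsg.Agent.S1190.part1 d _ _ (isKleinFour_subgroupOf h₁ hT₁)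
    (isKleinFour_subgroupOf h₂ hT₂)
  exact ⟨s, cj_eq_of_map_subgroupOf hT₁ hT₂ s hs⟩

theorem quat_conj_G (d : Data (S : Subgroup G) n x y) (Q₁ Q₂ : Subgroup G)
    (e₁ : Q₁ ≃* QuaternionGroup 2) (e₂ : Q₂ ≃* QuaternionGroup 2) (hQ₁ : Q₁ ≤ S) (hQ₂ : Q₂ ≤ S) :
    ∃ s : (S : Subgroup G), cj (s : G) Q₁ = Q₂ := by
  obtain ⟨s, hs⟩ := Cfsg.Agent.S1191.part1 d (Q₁.subgroupOf S) (Q₂.subgroupOf S)
    ⟨(Subgroup.subgroupOfEquivOfLe hQ₁).trans e₁⟩ ⟨(Subgroup.subgroupOfEquivOfLe hQ₂).trans e₂⟩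
  exact ⟨s, cj_eq_of_map_subgroupOf hQ₁ hQ₂ s hs⟩

/-- `z` is central in `S`, in `G`-form. -/
theorem Z_comm_G (d : Data (S : Subgroup G) n x y) (s : G) (hs : s ∈ (S : Subgroup G)) :
    s * ((f x n (hf n) : (S : Subgroup G)) : G) = ((f x n (hf n) : (S : Subgroup G)) : G) * s := by
  have := congrArg Subtype.val (Cfsg.Agent.S1191.z_comm d ⟨s, hs⟩)
  simpa using this

theorem sylIn_cj_of_le (g : G) {K : Subgroup G} (h : cj g (S : Subgroup G) ≤ K) :
    SylIn 2 (cj g (S : Subgroup G)) K := by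
  have : Fact (Nat.Prime 2) := ⟨Nat.prime_two⟩
  have h1 := (sylIn_top S).cj g
  rw [cj_top] at h1
  refine ⟨h, h1.isPGroup, fun hd => h1.not_dvd ?_⟩
  rw [Subgroup.relIndex_top_right]
  exact hd.trans (Subgroup.relIndex_dvd_index_of_le h)

/-- If `z` and `y` are conjugate in `G` then `|N_G(T) : C_G(T)| ≠ 2`. -/
theorem rT_ne_two_of_conj (d : Data (S : Subgroup G) n x y) (T : Subgroup G) (hT : IsKleinFour T)
    (hTS : T ≤ S) (hZY : IsConj ((f x n (hf n) : (S : Subgroup G)) : G) (y : G)) :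
    (Subgroup.centralizer (T : Set G)).relIndex (Subgroup.normalizer (T : Set G)) ≠ 2 := by
  intro h₁
  have : Fact (Nat.Prime 2) := ⟨Nat.prime_two⟩
  have hT' := isKleinFour_subgroupOf hT hTS
  obtain ⟨k, hk⟩ := Cfsg.Agent.S1190.klein_char d (T.subgroupOf (S : Subgroup G)) hT'
  have hAT : ((f x n (2 * k) * y : (S : Subgroup G)) : G) ∈ T := by
    apply Subgroup.mem_subgroupOf.mp
    rw [Cfsg.Agent.S1190.mem_of_kset hk, Cfsg.Agent.S1190.mem_kset]
    right; right; left; rfl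
  have hZA : IsConj ((f x n (hf n) : (S : Subgroup G)) : G)
      ((f x n (2 * k) * y : (S : Subgroup G)) : G) := hZY.trans (isConj_coe (conjP_even d k))
  obtain ⟨g, hg⟩ := isConj_iff.mp hZA
  have hZneA : ((f x n (hf n) : (S : Subgroup G)) : G) ≠
      ((f x n (2 * k) * y : (S : Subgroup G)) : G) := by
    intro h
    exact f_mul_y_ne_f d _ _ (Subtype.ext h).symm
  -- generalize the two elements
  obtain ⟨Z, hZdef⟩ : ∃ Z : G, Z = ((f x n (hf n) : (S : Subgroup G)) : G) := ⟨_, rfl⟩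
  obtain ⟨A, hAdef⟩ : ∃ A : G, A = ((f x n (2 * k) * y : (S : Subgroup G)) : G) := ⟨_, rfl⟩
  rw [← hZdef, ← hAdef] at hg hZneA
  rw [← hAdef] at hAT
  have hZc : ∀ s : G, s ∈ (S : Subgroup G) → s * Z = Z * s := by
    intro s hs; rw [hZdef]; exact Z_comm_G S d s hs
  have hRK : cj g (S : Subgroup G) ≤ Subgroup.centralizer ({A} : Set G) := by
    intro r hr
    rw [mem_cj] at hr
    rw [Subgroup.mem_centralizer_iff]
    intro a ha
    rw [Set.mem_singleton_iff] at ha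
    rw [ha, ← hg]
    have hc := hZc _ hr
    calc g * Z * g⁻¹ * r = g * (Z * (g⁻¹ * r * g)) * g⁻¹ := by group
      _ = g * ((g⁻¹ * r * g) * Z) * g⁻¹ := by rw [hc]
      _ = r * (g * Z * g⁻¹) := by group
  have hTK : T ≤ Subgroup.centralizer ({A} : Set G) := by
    intro t ht
    rw [Subgroup.mem_centralizer_iff]
    intro a ha
    rw [Set.mem_singleton_iff] at ha
    rw [ha]
    have hc := (IsKleinFour.isMulCommutative (G := T)).is_comm.comm ⟨A, hAT⟩ ⟨t, ht⟩
    exact congrArg Subtype.val hc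
  have hRsyl := sylIn_cj_of_le S g hRK
  have hTp : IsPGroup 2 T := IsPGroup.of_card (n := 2) (by rw [hT.card_four]; norm_num)
  obtain ⟨c, hcK, hcle⟩ := hRsyl.exists_cj_le hTK hTp
  have hule : cj (g⁻¹ * c) T ≤ S := by
    rw [cj_mul, ← cj_le_cj (g := g), cj_cj_inv]; exact hcle
  have hcA : A * c = c * A := (Subgroup.mem_centralizer_iff.mp hcK) A rfl
  have huA : (g⁻¹ * c) * A * (g⁻¹ * c)⁻¹ = Z := by
    calc (g⁻¹ * c) * A * (g⁻¹ * c)⁻¹ = g⁻¹ * (c * A * c⁻¹) * g := by group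
      _ = g⁻¹ * A * g := by rw [← hcA]; group
      _ = g⁻¹ * (g * Z * g⁻¹) * g := by rw [hg]
      _ = Z := by group
  obtain ⟨s, hs⟩ := klein_conj_G S d _ T (isKleinFour_cj hT (g⁻¹ * c)) hT hule hTS
  obtain ⟨m, hmdef⟩ : ∃ m : G, m = (s : G) * (g⁻¹ * c) := ⟨_, rfl⟩
  have hm : cj m T = T := by rw [hmdef, cj_mul]; exact hs
  have hmN : m ∈ Subgroup.normalizer (T : Set G) := mem_normalizer_iff_cj_eq.mpr hm
  have hmA : m * A * m⁻¹ = Z := by
    rw [hmdef]
    calc (s : G) * (g⁻¹ * c) * A * ((s : G) * (g⁻¹ * c))⁻¹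
        = s * ((g⁻¹ * c) * A * (g⁻¹ * c)⁻¹) * (s : G)⁻¹ := by group
      _ = s * Z * (s : G)⁻¹ := by rw [huA]
      _ = Z := by rw [hZc _ s.2]; group
  obtain ⟨hcent, hrel⟩ := Cfsg.Agent.S1190.part2 d (T.subgroupOf (S : Subgroup G)) hT'
  obtain ⟨s₀, hs₀N, hs₀T, _⟩ := exists_of_relIndex_two hrel
  have hs₀NG := coe_mem_normalizer hTS hs₀N
  have hs₀C : (s₀ : G) ∉ Subgroup.centralizer (T : Set G) := by
    intro h
    apply hs₀T
    rw [← hcent]; exact mem_centralizer_subgroupOf h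
  have hmC : m ∉ Subgroup.centralizer (T : Set G) := by
    intro h
    have h1 := (Subgroup.mem_centralizer_iff.mp h) A hAT
    apply hZneA
    rw [← hmA, ← h1]; group
  have hidx : ((Subgroup.centralizer (T : Set G)).subgroupOf
      (Subgroup.normalizer (T : Set G))).index = 2 := h₁
  have key := Subgroup.mul_mem_iff_of_index_two hidx
    (a := (⟨m, hmN⟩ : Subgroup.normalizer (T : Set G))) (b := ⟨(s₀ : G), hs₀NG⟩)
  have hprod : m * (s₀ : G) ∈ Subgroup.centralizer (T : Set G) := by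
    have h1 := key.mpr ⟨fun h => absurd (Subgroup.mem_subgroupOf.mp h) hmC,
      fun h => absurd (Subgroup.mem_subgroupOf.mp h) hs₀C⟩
    exact Subgroup.mem_subgroupOf.mp h1
  have hZT : Z ∈ T := by
    rw [hZdef]
    apply Subgroup.mem_subgroupOf.mp
    rw [Cfsg.Agent.S1190.mem_of_kset hk, Cfsg.Agent.S1190.mem_kset]
    right; left; rfl
  have h2 := (Subgroup.mem_centralizer_iff.mp hprod) Z hZT
  have h3 := hZc _ s₀.2
  -- m Z m⁻¹ = Z
  have h4 : m * Z * m⁻¹ = Z := by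
    have e : m * Z * m⁻¹ = (m * s₀) * Z * (m * (s₀ : G))⁻¹ := by
      calc m * Z * m⁻¹ = m * ((s₀ : G) * Z * (s₀ : G)⁻¹) * m⁻¹ := by rw [h3]; group
        _ = (m * s₀) * Z * (m * (s₀ : G))⁻¹ := by group
    rw [e, ← h2]; group
  apply hZneA
  have h5 : m * Z * m⁻¹ = m * A * m⁻¹ := by rw [h4, hmA]
  have h6 := mul_left_cancel (mul_right_cancel h5)
  exact h6

omit [Finite G] in
theorem cj_zpowers (g a : G) : cj g (Subgroup.zpowers a) = Subgroup.zpowers (g * a * g⁻¹) := by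
  unfold cj
  rw [MonoidHom.map_zpowers]
  rfl

omit [Finite G] in
theorem mem_normalizer_zpowers_of_conj {a g : G} (h : g * a * g⁻¹ = a ∨ g * a * g⁻¹ = a⁻¹) :
    g ∈ Subgroup.normalizer ((Subgroup.zpowers a : Subgroup G) : Set G) := by
  rw [mem_normalizer_iff_cj_eq, cj_zpowers]
  rcases h with h | h
  · rw [h]
  · rw [h, Subgroup.zpowers_inv]

/-- `V⁻¹ = V Z` and `W⁻¹ = W Z`, for elements of order four of `S`. -/
theorem inv_eq_mul_Z_of_sq {H : Type*} [Group H] {a z : H} (h1 : a * a = z) (h2 : z * z = 1) :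
    a⁻¹ = a * z := by
  rw [inv_eq_iff_mul_eq_one, ← h1]
  calc a * (a * (a * a)) = (a * a) * (a * a) := by group
    _ = 1 := by rw [h1, h2]

/-- `S` normalizes `⟨v⟩`. -/
theorem S_le_normalizer_V (d : Data (S : Subgroup G) n x y) :
    (S : Subgroup G) ≤ Subgroup.normalizer
      ((Subgroup.zpowers ((f x n (qt n) : (S : Subgroup G)) : G) : Subgroup G) : Set G) := by
  have hn := d.hn
  intro s hs
  apply mem_normalizer_zpowers_of_conj
  rcases normal_form d ⟨s, hs⟩ with ⟨m, hm⟩ | ⟨m, hm⟩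
  · left
    have := congrArg Subtype.val (conj_f_f d (qt n) m)
    rw [← hm] at this
    simpa using this
  · right
    have h1 : (f x n m * y) * f x n (qt n) * (f x n m * y)⁻¹ = (f x n (qt n))⁻¹ := by
      rw [conj_fy_f d, ← f_neg d]; congr 1
      have hhq := hf_mul_qt (n := n) hn
      unfold ep; linear_combination hhq
    have := congrArg Subtype.val h1
    rw [← hm] at this
    simpa using this

/-- If `v` and `w` are conjugate in `G` then `|N_G(Q) : Q C_G(Q)| ≠ 2`. -/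
theorem rQ_ne_two_of_conj (d : Data (S : Subgroup G) n x y) (Q : Subgroup G) (hQS : Q ≤ S)
    (eQ : Q ≃* QuaternionGroup 2)
    (hVW : IsConj ((f x n (qt n) : (S : Subgroup G)) : G) ((f x n 1 * y : (S : Subgroup G)) : G)) :
    (Q ⊔ Subgroup.centralizer (Q : Set G)).relIndex (Subgroup.normalizer (Q : Set G)) ≠ 2 := by
  intro h₂
  have : Fact (Nat.Prime 2) := ⟨Nat.prime_two⟩
  have hn := d.hn
  obtain ⟨k, hk⟩ := quat_coords d Q hQS eQ
  have hvQ : ((f x n (qt n) : (S : Subgroup G)) : G) ∈ Q := Subgroup.mem_subgroupOf.mp (v_mem_Q d hk)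
  have hwQ : ((f x n (2 * k + 1) * y : (S : Subgroup G)) : G) ∈ Q :=
    Subgroup.mem_subgroupOf.mp (w_mem_Q d hk)
  have hVWi : IsConj ((f x n (qt n) : (S : Subgroup G)) : G)
      ((f x n (2 * k + 1) * y : (S : Subgroup G)) : G) := hVW.trans (isConj_coe (conjP_odd d k))
  obtain ⟨g, hg⟩ := isConj_iff.mp hVWi
  have hSNV := S_le_normalizer_V S d
  -- squares
  have hVV : ((f x n (qt n) : (S : Subgroup G)) : G) * ((f x n (qt n) : (S : Subgroup G)) : G) =
      ((f x n (hf n) : (S : Subgroup G)) : G) := by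
    have e : f x n (qt n) * f x n (qt n) = f x n (hf n) := by
      rw [← f_add d]; congr 1
      have := two_mul_qt (n := n) (by omega)
      linear_combination this
    have := congrArg Subtype.val e
    simpa using this
  have hWW : ((f x n (2 * k + 1) * y : (S : Subgroup G)) : G) *
      ((f x n (2 * k + 1) * y : (S : Subgroup G)) : G) =
      ((f x n (hf n) : (S : Subgroup G)) : G) := by
    have e : (f x n (2 * k + 1) * y) * (f x n (2 * k + 1) * y) = f x n (hf n) := by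
      rw [fy_mul_self d, hf_mul_odd (by omega)]
    exact congrArg Subtype.val e
  have hZZ : ((f x n (hf n) : (S : Subgroup G)) : G) * ((f x n (hf n) : (S : Subgroup G)) : G) = 1 := by
    have := congrArg Subtype.val (fhf_mul_self d)
    simpa using this
  have hWnotV : ((f x n (2 * k + 1) * y : (S : Subgroup G)) : G) ∉
      Subgroup.zpowers ((f x n (qt n) : (S : Subgroup G)) : G) := by
    intro h
    obtain ⟨j, hj⟩ := Subgroup.mem_zpowers_iff.mp h
    have h1 : (f x n (qt n)) ^ j = f x n (2 * k + 1) * y := by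
      apply Subtype.ext
      rw [Subgroup.coe_zpow]; exact hj
    have h2 : f x n (2 * k + 1) * y ∈ M1 d := by
      rw [← h1]
      exact Subgroup.zpow_mem _ ((mem_M1 d _).mpr ⟨_, rfl⟩) _
    obtain ⟨i', hi'⟩ := (mem_M1 d _).mp h2
    exact f_mul_y_ne_f d _ _ hi'
  -- generalize
  obtain ⟨V, hVdef⟩ : ∃ V : G, V = ((f x n (qt n) : (S : Subgroup G)) : G) := ⟨_, rfl⟩
  obtain ⟨W, hWdef⟩ : ∃ W : G, W = ((f x n (2 * k + 1) * y : (S : Subgroup G)) : G) := ⟨_, rfl⟩
  obtain ⟨Z, hZdef⟩ : ∃ Z : G, Z = ((f x n (hf n) : (S : Subgroup G)) : G) := ⟨_, rfl⟩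
  rw [← hVdef, ← hWdef] at hg hWnotV
  rw [← hVdef] at hvQ hSNV
  rw [← hWdef] at hwQ
  rw [← hVdef, ← hZdef] at hVV
  rw [← hWdef, ← hZdef] at hWW
  rw [← hZdef] at hZZ
  have hVinv : V⁻¹ = V * Z := inv_eq_mul_Z_of_sq hVV hZZ
  have hWinv : W⁻¹ = W * Z := inv_eq_mul_Z_of_sq hWW hZZ
  -- Q normalizes ⟨V⟩ and ⟨W⟩
  have hQconj : ∀ a : G, ∀ ha : a ∈ Q, ∀ q ∈ Q, q * a * q⁻¹ = a ∨ q * a * q⁻¹ = a * Z := by
    intro a ha q hq
    have h1 := comm_mem_center_of_equiv eQ ⟨a, ha⟩ ⟨q, hq⟩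
    have h2 := center_cases_G S d Q hQS hk _ h1
    have h3 : a⁻¹ * (q * a * q⁻¹) = 1 ∨ a⁻¹ * (q * a * q⁻¹) = Z := by rw [hZdef]; exact h2
    rcases h3 with h | h
    · left; exact (inv_mul_eq_one.mp h).symm
    · right; exact inv_mul_eq_iff_eq_mul.mp h
  have hQNV : Q ≤ Subgroup.normalizer ((Subgroup.zpowers V : Subgroup G) : Set G) := by
    intro q hq
    apply mem_normalizer_zpowers_of_conj
    rcases hQconj V hvQ q hq with h | h
    · left; exact h
    · right; rw [h, hVinv]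
  have hQNW : Q ≤ Subgroup.normalizer ((Subgroup.zpowers W : Subgroup G) : Set G) := by
    intro q hq
    apply mem_normalizer_zpowers_of_conj
    rcases hQconj W hwQ q hq with h | h
    · left; exact h
    · right; rw [h, hWinv]
  have hCN : ∀ a ∈ Q, Subgroup.centralizer (Q : Set G) ≤
      Subgroup.normalizer ((Subgroup.zpowers a : Subgroup G) : Set G) := by
    intro a ha c hc
    apply mem_normalizer_zpowers_of_conj
    left
    have := (Subgroup.mem_centralizer_iff.mp hc) a ha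
    rw [← this]; group
  have hQCNV : Q ⊔ Subgroup.centralizer (Q : Set G) ≤
      Subgroup.normalizer ((Subgroup.zpowers V : Subgroup G) : Set G) := sup_le hQNV (hCN V hvQ)
  -- the Sylow argument
  have hcjV : cj g (Subgroup.zpowers V) = Subgroup.zpowers W := by rw [cj_zpowers, hg]
  have hRN : cj g (S : Subgroup G) ≤
      Subgroup.normalizer ((Subgroup.zpowers W : Subgroup G) : Set G) := by
    rw [← hcjV, ← Cfsg.Agent.Lib.Helper33.cj_normalizer]
    exact Cfsg.Agent.Lib.Helper33.cj_mono hSNV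
  have hRsyl := sylIn_cj_of_le S g hRN
  have hQp : IsPGroup 2 Q := IsPGroup.of_card (n := 3) (by
    rw [Nat.card_congr eQ.toEquiv, Nat.card_eq_fintype_card, QuaternionGroup.card]; norm_num)
  obtain ⟨c, hcN, hcle⟩ := hRsyl.exists_cj_le hQNW hQp
  have hule : cj (g⁻¹ * c) Q ≤ S := by
    rw [cj_mul, ← cj_le_cj (g := g), cj_cj_inv]; exact hcle
  have huW : cj (g⁻¹ * c) (Subgroup.zpowers W) = Subgroup.zpowers V := by
    rw [cj_mul, Cfsg.Agent.Lib.Helper33.cj_eq_self_of_mem_normalizer hcN, ← hcjV, cj_inv_cj]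
  obtain ⟨s, hs⟩ := quat_conj_G S d _ Q ((cjEquiv (g⁻¹ * c) Q).symm.trans eQ) eQ hule hQS
  obtain ⟨m, hmdef⟩ : ∃ m : G, m = (s : G) * (g⁻¹ * c) := ⟨_, rfl⟩
  have hm : cj m Q = Q := by rw [hmdef, cj_mul]; exact hs
  have hmN : m ∈ Subgroup.normalizer (Q : Set G) := mem_normalizer_iff_cj_eq.mpr hm
  have hmW : cj m (Subgroup.zpowers W) = Subgroup.zpowers V := by
    rw [hmdef, cj_mul, huW]
    exact Cfsg.Agent.Lib.Helper33.cj_eq_self_of_mem_normalizer (hSNV s.2)
  -- the element s₁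
  have hrel := Cfsg.Agent.S1191.part2b d _ k hk
  obtain ⟨s₁, hs₁N, hs₁Q, _⟩ := exists_of_relIndex_two hrel
  have hs₁NG := coe_mem_normalizer hQS hs₁N
  have hs₁QC : (s₁ : G) ∉ Q ⊔ Subgroup.centralizer (Q : Set G) := by
    intro h
    have h1 : (⟨(s₁ : G), hs₁NG⟩ : Subgroup.normalizer (Q : Set G)) ∈ (psiQ Q).ker := by
      rw [psiQ_ker d Q hQS eQ, Subgroup.mem_subgroupOf]; exact h
    obtain ⟨q₀, hq₀, c', hc', hsc⟩ := ker_decomp d Q hQS eQ _ h1
    have hsc' : (s₁ : G) = q₀ * c' := hsc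
    have hcP : c' ∈ (S : Subgroup G) := by
      have : c' = q₀⁻¹ * (s₁ : G) := by rw [hsc']; group
      rw [this]; exact mul_mem (inv_mem (hQS hq₀)) s₁.2
    have h2 := mem_centralizer_subgroupOf (P := (S : Subgroup G)) (T := Q) (s := ⟨c', hcP⟩) hc'
    have hcQ : c' ∈ Q := by
      rcases Cfsg.Agent.S1191.centralizer_cases d _ k hk _ h2 with h | h
      · have : c' = 1 := congrArg Subtype.val h
        rw [this]; exact one_mem _
      · have : c' = ((f x n (hf n) : (S : Subgroup G)) : G) := congrArg Subtype.val h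
        rw [this]; exact Subgroup.mem_subgroupOf.mp (z_mem_Q d hk)
    apply hs₁Q
    rw [Subgroup.mem_subgroupOf, hsc']
    exact mul_mem hq₀ hcQ
  -- m normalizes ⟨V⟩
  have hmNV : m ∈ Subgroup.normalizer ((Subgroup.zpowers V : Subgroup G) : Set G) := by
    by_cases hmQC : m ∈ Q ⊔ Subgroup.centralizer (Q : Set G)
    · exact hQCNV hmQC
    · have hidx : ((Q ⊔ Subgroup.centralizer (Q : Set G)).subgroupOf
          (Subgroup.normalizer (Q : Set G))).index = 2 := h₂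
      have key := Subgroup.mul_mem_iff_of_index_two hidx
        (a := (⟨m, hmN⟩ : Subgroup.normalizer (Q : Set G))) (b := ⟨(s₁ : G), hs₁NG⟩)
      have hprod : m * (s₁ : G) ∈ Q ⊔ Subgroup.centralizer (Q : Set G) := by
        have h1 := key.mpr ⟨fun h => absurd (Subgroup.mem_subgroupOf.mp h) hmQC,
          fun h => absurd (Subgroup.mem_subgroupOf.mp h) hs₁QC⟩
        exact Subgroup.mem_subgroupOf.mp h1
      have h1 := hQCNV hprod
      have h2 := hSNV s₁.2
      have e : m = (m * (s₁ : G)) * (s₁ : G)⁻¹ := by group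
      rw [e]; exact mul_mem h1 (inv_mem h2)
  have h1 : cj m (Subgroup.zpowers V) = Subgroup.zpowers V :=
    Cfsg.Agent.Lib.Helper33.cj_eq_self_of_mem_normalizer hmNV
  have h2 : Subgroup.zpowers W = Subgroup.zpowers V := by
    apply Cfsg.Agent.Lib.Helper33.cj_injective m
    rw [hmW, h1]
  apply hWnotV
  rw [← h2]; exact Subgroup.mem_zpowers W

end

end Cfsg.Agent.Lib.Helper20.QDF
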