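import Cfsg.Agent.Lib.Helper20.QDFusion3
import Cfsg.Agent.Lib.Helper85.SylowAux
import Cfsg.Agent.S0111

/-!
Fusion in finite groups with quasi-dihedral Sylow 2-subgroups, part 4: transfer and subgroups of
index two (helper20's library).
-/

set_option autoImplicit false
set_option linter.unusedSectionVars false

namespace Cfsg.Agent.Lib.Helper20.QDF

open Cfsg.Agent.Lib.Helper20 Cfsg.Agent.Lib.Helper20.QD

section general

variable {G : Type*} [Group G]

/-- For a normal subgroup `N`, `S ∩ N` is a Sylow subgroup of `N`. -/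
theorem exists_sylow_eq_subgroupOf_normal {p : ℕ} [Fact p.Prime] [Finite G] (N : Subgroup G)
    [hN : N.Normal] (S : Sylow p G) :
    ∃ R : Sylow p N, (R : Subgroup N) = (S : Subgroup G).subgroupOf N := by
  have key := (Cfsg.Agent.Lib.Helper85.sylow_subgroupOf_iff (p := p)
    (H := (S : Subgroup G) ⊓ N) (K := N) inf_le_right).mpr ⟨?_, ?_⟩
  · obtain ⟨R, hR⟩ := key
    exact ⟨R, by rw [hR, Subgroup.inf_subgroupOf_right]⟩
  · exact S.isPGroup'.to_le inf_le_left
  · intro T hTN hT
    obtain ⟨g, hg⟩ := pgroup_le_map_conj_sylow S hT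
    have hle : T ≤ ((S : Subgroup G) ⊓ N).map (MulAut.conj g).toMonoidHom := by
      intro t ht
      rw [mem_map_conj]
      have h1 := hg ht
      rw [mem_map_conj] at h1
      refine ⟨h1, ?_⟩
      have := hN.conj_mem t (hTN ht) g⁻¹
      simpa using this
    calc Nat.card T ≤ Nat.card (((S : Subgroup G) ⊓ N).map (MulAut.conj g).toMonoidHom) :=
          Subgroup.card_le_of_le hle
      _ = Nat.card ((S : Subgroup G) ⊓ N : Subgroup G) := card_map_conj _ _

open Subgroup MulAction in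
/-- Transfer evaluation by parity. -/
theorem transfer_eq_of_parity {A : Type*} [CommGroup A] {H : Subgroup G} [H.FiniteIndex]
    (ϕ : H →* A) (g : G) (c : A) (hc : c * c = 1)
    (h1 : ∀ k : G, ∀ hk : k⁻¹ * g * k ∈ H, ϕ ⟨k⁻¹ * g * k, hk⟩ = c)
    (h2 : ∀ k : G, ∀ r : ℕ, Even r → ∀ hk : k⁻¹ * g ^ r * k ∈ H, ϕ ⟨k⁻¹ * g ^ r * k, hk⟩ = 1)
    (h3 : ∀ q : G ⧸ H, Function.minimalPeriod (g • ·) q = 1 ∨
      Even (Function.minimalPeriod (g • ·) q))
    (hodd : Odd H.index) : MonoidHom.transfer ϕ g = c := by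
  have : Fintype (Quotient (MulAction.orbitRel (zpowers g) (G ⧸ H))) := Fintype.ofFinite _
  have hpow : ∀ r : ℕ, Even r → c ^ r = 1 := by
    intro r hr
    obtain ⟨m, rfl⟩ := hr
    rw [← two_mul, pow_mul, pow_two, hc, one_pow]
  have h1' : ∀ (k : G) (r : ℕ) (hk : k⁻¹ * g ^ r * k ∈ H), r = 1 → ϕ ⟨k⁻¹ * g ^ r * k, hk⟩ = c := by
    intro k r hk hr
    subst hr
    have hk' : k⁻¹ * g * k ∈ H := by simpa using hk
    have : (⟨k⁻¹ * g ^ 1 * k, hk⟩ : H) = ⟨k⁻¹ * g * k, hk'⟩ := by
      apply Subtype.ext; simp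
    rw [this]; exact h1 k hk'
  rw [MonoidHom.transfer_eq_prod_quotient_orbitRel_zpowers_quot]
  have hfac : ∀ q : Quotient (MulAction.orbitRel (zpowers g) (G ⧸ H)),
      ϕ ⟨q.out.out⁻¹ * g ^ Function.minimalPeriod (g • ·) q.out * q.out.out,
        QuotientGroup.out_conj_pow_minimalPeriod_mem H g q.out⟩ =
      c ^ Function.minimalPeriod (g • ·) q.out := by
    intro q
    rcases h3 q.out with h | h
    · rw [h1' _ _ _ h, h, pow_one]
    · rw [h2 _ _ h, hpow _ h]
  rw [Finset.prod_congr rfl (fun q _ => hfac q), Finset.prod_pow_eq_pow_sum,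
    ← index_eq_sum_minimalPeriod H g]
  obtain ⟨m, hm⟩ := hodd
  rw [hm, pow_succ, hpow _ (even_two_mul m), one_mul]

/-- Periods of `g` on cosets divide any exponent of `g`; for `g ^ 4 = 1` they are `1` or even. -/
theorem period_one_or_even {H : Subgroup G} (g : G) (hg : g ^ 4 = 1) (q : G ⧸ H) :
    Function.minimalPeriod (g • ·) q = 1 ∨ Even (Function.minimalPeriod (g • ·) q) := by
  have hper : Function.IsPeriodicPt (g • ·) 4 q := by
    show (g • ·)^[4] q = q
    rw [smul_iterate, hg]; exact one_smul _ q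
  have hdvd : Function.minimalPeriod (g • ·) q ∣ 4 := hper.minimalPeriod_dvd
  have hle : Function.minimalPeriod (g • ·) q ≤ 4 := Nat.le_of_dvd (by norm_num) hdvd
  interval_cases h : Function.minimalPeriod (g • ·) q
  · simp at hdvd
  · left; rfl
  · right; exact ⟨1, rfl⟩
  · omega
  · right; exact ⟨2, rfl⟩

theorem relIndex_map_subtype (H : Subgroup G) (R : Subgroup H) :
    (R.map H.subtype).relIndex H = R.index := by
  unfold Subgroup.relIndex
  congr 1
  ext x
  simp [Subgroup.mem_subgroupOf]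

/-- `H.subgroupOf K ≃* K.subgroupOf H`. -/
noncomputable def subgroupOfSwap (H K : Subgroup G) : H.subgroupOf K ≃* K.subgroupOf H :=
  ((MulEquiv.subgroupCongr (Subgroup.inf_subgroupOf_right H K).symm).trans
    (Subgroup.subgroupOfEquivOfLe (inf_le_right : H ⊓ K ≤ K))).trans
  (((MulEquiv.subgroupCongr (Subgroup.inf_subgroupOf_right K H).symm).trans
    (Subgroup.subgroupOfEquivOfLe (inf_le_right : K ⊓ H ≤ H))).trans
    (MulEquiv.subgroupCongr (inf_comm K H))).symm

/-- The Sylow `2`-subgroups of a normal subgroup `K` are isomorphic to `K ∩ S`. -/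
theorem sylow_iso_of_normal [Finite G] (S : Sylow 2 G) (K : Subgroup G) [K.Normal]
    (P : Sylow 2 K) : Nonempty (P ≃* K.subgroupOf (S : Subgroup G)) := by
  have : Fact (Nat.Prime 2) := ⟨Nat.prime_two⟩
  obtain ⟨R, hR⟩ := exists_sylow_eq_subgroupOf_normal K S
  exact ⟨((P.equiv R).trans (MulEquiv.subgroupCongr hR)).trans (subgroupOfSwap _ _)⟩

/-- A normal subgroup of index two not containing `S` meets `S` in a subgroup of index two. -/
theorem index_subgroupOf_of_index_two (P K : Subgroup G) [K.Normal] (hK : K.index = 2)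
    (hne : ¬ P ≤ K) : (K.subgroupOf P).index = 2 := by
  have h1 : K.relIndex P ∣ K.index := Subgroup.relIndex_dvd_index_of_normal K P
  rw [hK] at h1
  rcases (Nat.dvd_prime Nat.prime_two).mp h1 with h | h
  · exact absurd (Subgroup.relIndex_eq_one.mp h) hne
  · exact h

end general

section qd

variable {P : Type*} [Group P] [Finite P] {n : ℕ} {x y : P}

/-- The homomorphism `P → ℤ/2` with kernel the dihedral maximal subgroup. -/
noncomputable def phi3 (d : Data P n x y) : P →* Multiplicative (ZMod 2) where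
  toFun s := Multiplicative.ofAdd (deg d s).1
  map_one' := by rw [deg_one]; rfl
  map_mul' := by intro a b; rw [deg_mul]; rfl

theorem phi3_apply (d : Data P n x y) (s : P) : phi3 d s = Multiplicative.ofAdd (deg d s).1 := rfl

theorem phi3_conj (d : Data P n x y) {a b : P} (h : IsConj a b) : phi3 d a = phi3 d b := by
  obtain ⟨g, rfl⟩ := isConj_iff.mp h
  rw [map_mul, map_mul, map_inv, mul_comm, ← mul_assoc, inv_mul_cancel, one_mul]

theorem phi3_of_sq_one (d : Data P n x y) (t : P) (h : t * t = 1) : phi3 d t = 1 := by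
  by_cases h1 : t = 1
  · rw [h1, map_one]
  · have ho : orderOf t = 2 := QD.orderOf_eq_two_iff.mpr ⟨h, h1⟩
    rcases involP d t ho with h2 | h2
    · rw [h2, phi3_apply, deg_f, par_hf]; rfl
    · rw [← phi3_conj d h2, phi3_apply, deg_y]; rfl

theorem phi3_of_order4 (d : Data P n x y) (t : P) (ht : orderOf t = 4)
    (hnot : ¬ IsConj (f x n (qt n)) t) :
    phi3 d t = Multiplicative.ofAdd (1 : ZMod 2) := by
  rcases order4P d t ht with h | h
  · exact absurd h hnot
  · rw [← phi3_conj d h, phi3_apply, deg_fy, map_one]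

theorem phi3_eq_one_iff (d : Data P n x y) (s : P) : phi3 d s = 1 ↔ s ∈ M3 d := by
  rw [phi3_apply, ofAdd_eq_one]
  unfold M3
  rw [mem_K]
  simp

end qd

section inG

variable {G : Type*} [Group G] [Finite G] (S : Sylow 2 G) {n : ℕ} {x y : (S : Subgroup G)}

theorem odd_index_sylow : Odd (S : Subgroup G).index := by
  have : Fact (Nat.Prime 2) := ⟨Nat.prime_two⟩
  have := S.not_dvd_index
  exact Nat.odd_iff.mpr (Nat.two_dvd_ne_zero.mp this)

theorem ofAdd_one_mul_self : (Multiplicative.ofAdd (1 : ZMod 2)) * Multiplicative.ofAdd (1 : ZMod 2) = 1 := by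
  rw [← ofAdd_add]; rfl

theorem ofAdd_one_ne_one : (Multiplicative.ofAdd (1 : ZMod 2)) ≠ 1 := by
  intro h
  rw [ofAdd_eq_one] at h
  exact absurd h (by decide)

/-- The transfer into `S / M₃` of an element of square one is trivial. -/
theorem transfer_of_sq_one (d : Data (S : Subgroup G) n x y) (t : G) (ht : t * t = 1) :
    MonoidHom.transfer (phi3 d) t = 1 := by
  have ht4 : t ^ 4 = 1 := by
    have : t ^ 4 = (t * t) * (t * t) := by
      rw [show (4 : ℕ) = 2 + 2 by norm_num, pow_add, pow_two]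
    rw [this, ht, one_mul]
  have hpow : ∀ r : ℕ, (t ^ r) * (t ^ r) = 1 := by
    intro r
    rw [← pow_add, ← two_mul, pow_mul, pow_two, ht, one_pow]
  apply transfer_eq_of_parity (phi3 d) t 1 (one_mul 1) ?_ ?_ (period_one_or_even t ht4)
    (odd_index_sylow S)
  · intro k hk
    apply phi3_of_sq_one
    apply Subtype.ext
    show (k⁻¹ * t * k) * (k⁻¹ * t * k) = 1
    calc (k⁻¹ * t * k) * (k⁻¹ * t * k) = k⁻¹ * (t * t) * k := by group
      _ = 1 := by rw [ht]; group
  · intro k r _ hk
    apply phi3_of_sq_one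
    apply Subtype.ext
    show (k⁻¹ * t ^ r * k) * (k⁻¹ * t ^ r * k) = 1
    calc (k⁻¹ * t ^ r * k) * (k⁻¹ * t ^ r * k) = k⁻¹ * (t ^ r * t ^ r) * k := by group
      _ = 1 := by rw [hpow r]; group

/-- If `v` and `w` are not fused, the transfer into `S / M₃` is non-trivial on `w`. -/
theorem transfer_W (d : Data (S : Subgroup G) n x y)
    (hVW : ¬ IsConj ((f x n (qt n) : (S : Subgroup G)) : G) ((f x n 1 * y : (S : Subgroup G)) : G)) :
    MonoidHom.transfer (phi3 d) ((f x n 1 * y : (S : Subgroup G)) : G) =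
      Multiplicative.ofAdd (1 : ZMod 2) := by
  have hW4 : ((f x n 1 * y : (S : Subgroup G)) : G) ^ 4 = 1 := by
    rw [← orderOf_W S d]; exact pow_orderOf_eq_one _
  obtain ⟨W, hWdef⟩ : ∃ W : G, W = ((f x n 1 * y : (S : Subgroup G)) : G) := ⟨_, rfl⟩
  have hWo : orderOf W = 4 := by rw [hWdef]; exact orderOf_W S d
  rw [← hWdef] at hVW hW4 ⊢
  apply transfer_eq_of_parity (phi3 d) W _ ofAdd_one_mul_self ?_ ?_ (period_one_or_even W hW4)
    (odd_index_sylow S)
  · intro k hk
    apply phi3_of_order4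
    · rw [Subgroup.orderOf_mk]
      have e : k⁻¹ * W * k = k⁻¹ * W * k⁻¹⁻¹ := by rw [inv_inv]
      rw [e, orderOf_conj', hWo]
    · intro hc
      apply hVW
      have h1 := isConj_coe hc
      have h2 : IsConj (k⁻¹ * W * k) W := isConj_of_conj_eq (g := k) (by group)
      exact h1.trans h2
  · intro k r hr hk
    apply phi3_of_sq_one
    apply Subtype.ext
    show (k⁻¹ * W ^ r * k) * (k⁻¹ * W ^ r * k) = 1
    obtain ⟨m, rfl⟩ := hr
    have h1 : W ^ (m + m) * W ^ (m + m) = 1 := by
      rw [← pow_add, show m + m + (m + m) = 4 * m by ring, pow_mul, hW4, one_pow]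
    calc (k⁻¹ * W ^ (m + m) * k) * (k⁻¹ * W ^ (m + m) * k)
        = k⁻¹ * (W ^ (m + m) * W ^ (m + m)) * k := by group
      _ = 1 := by rw [h1]; group

/-- The subgroup of index two with dihedral Sylow `2`-subgroups. -/
theorem exists_K2 (d : Data (S : Subgroup G) n x y)
    (hVW : ¬ IsConj ((f x n (qt n) : (S : Subgroup G)) : G) ((f x n 1 * y : (S : Subgroup G)) : G)) :
    ∃ K : Subgroup G, K.Normal ∧ K.index = 2 ∧ ((f x n 1 * y : (S : Subgroup G)) : G) ∉ K ∧
      ∀ t : G, t * t = 1 → t ∈ K := by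
  have hW : ((f x n 1 * y : (S : Subgroup G)) : G) ∉ (MonoidHom.transfer (phi3 d)).ker := by
    rw [MonoidHom.mem_ker, transfer_W S d hVW]
    exact ofAdd_one_ne_one
  refine ⟨(MonoidHom.transfer (phi3 d)).ker, MonoidHom.normal_ker _, ?_, hW, ?_⟩
  · have h1 : (MonoidHom.transfer (phi3 d)).ker.index ∣ Nat.card (Multiplicative (ZMod 2)) :=
      index_ker_dvd _
    have h2 : Nat.card (Multiplicative (ZMod 2)) = 2 := by
      rw [Nat.card_eq_fintype_card]; rfl
    rw [h2] at h1
    rcases (Nat.dvd_prime Nat.prime_two).mp h1 with h | h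
    · exfalso
      rw [Subgroup.index_eq_one] at h
      apply hW; rw [h]; exact Subgroup.mem_top _
    · exact h
  · intro t ht
    rw [MonoidHom.mem_ker]
    exact transfer_of_sq_one S d t ht

/-- The subgroup of index two given by Thompson transfer when `z` and `y` are not fused. -/
theorem exists_K1 (d : Data (S : Subgroup G) n x y)
    (hZY : ¬ IsConj ((f x n (hf n) : (S : Subgroup G)) : G) (y : G)) :
    ∃ K : Subgroup G, K.Normal ∧ K.index = 2 ∧ (y : G) ∉ K := by
  have hn := d.hn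
  have hrel : ((M2 d).map (S : Subgroup G).subtype).relIndex (S : Subgroup G) = 2 := by
    rw [relIndex_map_subtype]; exact M2_index d
  have hyQ : (y : G) ∉ (M2 d).map (S : Subgroup G).subtype := by
    rintro ⟨s, hs, hsy⟩
    have : s = y := Subtype.ext hsy
    rw [this] at hs
    exact y_not_mem_M2 d hs
  rcases Cfsg.Agent.S0111.result S ((M2 d).map (S : Subgroup G).subtype)
    (Subgroup.map_subtype_le _) hrel (y : G) (orderOf_Y S d) y.2 hyQ with ⟨M, hM1, hM2, hM3⟩ | ⟨g, hg⟩
  · exact ⟨M, hM1, hM2, hM3⟩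
  · exfalso
    obtain ⟨s, hs, hsy⟩ := hg
    have hsy' : (s : G) = g * (y : G) * g⁻¹ := hsy
    have hso : orderOf s = 2 := by
      rw [← Subgroup.orderOf_coe, hsy', orderOf_conj', orderOf_Y S d]
    have hs' : s ∈ M2 d := hs
    rw [mem_M2] at hs'
    rcases hs' with ⟨j, hj⟩ | ⟨j, hj⟩
    · rw [hj] at hso
      have h1 := (orderOf_f_eq_two_iff d _).mp hso
      apply hZY
      have h2 : ((f x n (hf n) : (S : Subgroup G)) : G) = g * (y : G) * g⁻¹ := by
        rw [← hsy', hj, h1]
      rw [h2]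
      exact (isConj_of_conj_eq (g := g) rfl).symm
    · rw [hj, orderOf_fy_odd d] at hso
      omega

end inG

end Cfsg.Agent.Lib.Helper20.QDF
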