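/-
helper20: abstract counting lemma for S1154 (elements of order 3 in the Sylow 3-subgroup `U¹` of the small Ree group):
if `f : K × K × K → G` parametrises a subgroup `U1` of cardinality `|K|³`, `f 0 = 1`, and `f (t,u,v) ^ 3 = 1 ↔ t = 0`,
then `U1` has exactly `|K|² - 1` elements of order 3.
-/
import Mathlib

set_option autoImplicit false

namespace Cfsg.Agent.Lib.Helper20.ReeCount

variable {G : Type*} [Group G] {K : Type*} [Field K] [Fintype K]

theorem bijective_param (U1 : Subgroup G) (f : K × K × K → G) (hf_mem : ∀ x, f x ∈ U1)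
    (hsurj : ∀ g ∈ U1, ∃ x, f x = g) (hcard : Nat.card U1 = (Fintype.card K) ^ 3) :
    Function.Bijective (fun x : K × K × K => (⟨f x, hf_mem x⟩ : U1)) := by
  classical
  have hfin : Finite U1 := by
    apply Nat.finite_of_card_ne_zero
    rw [hcard]
    exact pow_ne_zero _ Fintype.card_ne_zero
  haveI := Fintype.ofFinite U1
  have hs : Function.Surjective (fun x : K × K × K => (⟨f x, hf_mem x⟩ : U1)) := by
    rintro ⟨g, hg⟩
    obtain ⟨x, hx⟩ := hsurj g hg
    exact ⟨x, Subtype.ext hx⟩
  have hc : Fintype.card (K × K × K) = Fintype.card U1 := by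
    rw [← Nat.card_eq_fintype_card (α := U1), hcard]
    simp [Fintype.card_prod]
    ring
  exact (Fintype.bijective_iff_surjective_and_card _).2 ⟨hs, hc⟩

theorem count_order_three (U1 : Subgroup G) (f : K × K × K → G) (hf_mem : ∀ x, f x ∈ U1)
    (hsurj : ∀ g ∈ U1, ∃ x, f x = g) (hcard : Nat.card U1 = (Fintype.card K) ^ 3)
    (h1 : f (0, 0, 0) = 1) (hcube : ∀ t u v : K, f (t, u, v) ^ 3 = 1 ↔ t = 0) :
    Nat.card {u : U1 // orderOf u = 3} = (Fintype.card K) ^ 2 - 1 := by
  classical
  have hb := bijective_param U1 f hf_mem hsurj hcard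
  let e : (K × K × K) ≃ U1 := Equiv.ofBijective _ hb
  have he : ∀ x, ((e x : U1) : G) = f x := fun x => rfl
  -- order 3 iff t = 0 and (u,v) ≠ 0
  have hord : ∀ x : K × K × K, orderOf (e x) = 3 ↔ x.1 = 0 ∧ x ≠ (0, 0, 0) := by
    rintro ⟨t, u, v⟩
    have h3 : Fact (Nat.Prime 3) := ⟨by norm_num⟩
    rw [orderOf_eq_iff (by norm_num : 0 < 3)]
    constructor
    · rintro ⟨hp, hlt⟩
      have hp' : f (t, u, v) ^ 3 = 1 := by
        have := congrArg (fun y : U1 => (y : G)) hp
        simpa [he] using this
      refine ⟨(hcube t u v).1 hp', ?_⟩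
      intro hx
      have h1' : e (t, u, v) = 1 := by
        apply Subtype.ext
        rw [he, hx, h1]; rfl
      have := hlt 1 (by norm_num) (by norm_num)
      exact this (by rw [pow_one]; exact h1')
    · rintro ⟨ht, hne⟩
      have ht' : t = 0 := ht
      have hp' : f (t, u, v) ^ 3 = 1 := (hcube t u v).2 ht'
      have hp : e (t, u, v) ^ 3 = 1 := by
        apply Subtype.ext
        simp [he, hp']
      refine ⟨hp, ?_⟩
      intro k hk3 hk0 hk
      have hne1 : e (t, u, v) ≠ 1 := by
        intro h
        apply hne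
        have h0 : e (0, 0, 0) = 1 := by
          apply Subtype.ext
          rw [he, h1]; rfl
        exact e.injective (h.trans h0.symm)
      have hk12 : k = 1 ∨ k = 2 := by omega
      rcases hk12 with rfl | rfl
      · exact hne1 (by simpa using hk)
      · -- x^2 = 1 and x^3 = 1 give x = 1
        have : e (t, u, v) = 1 := by
          have h32 : e (t, u, v) ^ 3 = e (t, u, v) ^ 2 * e (t, u, v) := pow_succ _ 2
          rw [hp, hk, one_mul] at h32
          exact h32.symm
        exact hne1 this
  -- transport the count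
  have hcount : Nat.card {u : U1 // orderOf u = 3}
      = Nat.card {x : K × K × K // x.1 = 0 ∧ x ≠ (0, 0, 0)} := by
    apply Nat.card_congr
    refine (Equiv.subtypeEquiv e.symm ?_)
    intro a
    rw [← hord (e.symm a), Equiv.apply_symm_apply]
  rw [hcount]
  -- count {(0,u,v) ≠ 0}
  have h2 : Nat.card {x : K × K × K // x.1 = 0 ∧ x ≠ (0, 0, 0)}
      = Nat.card {y : K × K // y ≠ (0, 0)} := by
    apply Nat.card_congr
    refine ⟨fun x => ⟨x.1.2, ?_⟩, fun y => ⟨(0, y.1), ?_⟩, ?_, ?_⟩
    · intro h
      apply x.2.2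
      ext
      · exact x.2.1
      · exact congrArg Prod.fst h
      · exact congrArg Prod.snd h
    · refine ⟨rfl, ?_⟩
      intro h
      apply y.2
      have := congrArg Prod.snd h
      simpa using this
    · rintro ⟨⟨t, u, v⟩, ht, hne⟩
      simp only at ht
      subst ht
      rfl
    · rintro ⟨y, hy⟩
      rfl
  rw [h2, Nat.card_eq_fintype_card, Fintype.card_subtype_compl, Fintype.card_subtype_eq,
    Fintype.card_prod]
  ring_nf

end Cfsg.Agent.Lib.Helper20.ReeCount
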