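/-
helper20: the small Ree group `²G₂(3^(2m+1))`, `m ≥ 1`, is generated by two elements:
`a = reeH g` (`g` a generator of `Kˣ`) and `b = R(1,0,0) n₀` (`n₀` a long element of `N¹`).
-/
import Cfsg.Agent.Lib.Helper20.ReeLayers
import Cfsg.Agent.Lib.Helper20.ReeSimple

set_option autoImplicit false
set_option linter.unusedSectionVars false

namespace Cfsg.Agent.Lib.Helper20.ReeTwoGen

open Cfsg.Lie Cfsg.Agent.Lib.Helper18 Cfsg.Agent.Lib.Helper61.ChevJ.G2Short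
  Cfsg.Agent.Lib.Helper61.ChevJ.G2Char3 Cfsg.Agent.Lib.Helper61.Ree Cfsg.Agent.Lib.Helper19.ReeAbs
  Cfsg.Agent.Lib.Helper91.Ree Cfsg.Agent.Lib.Helper20.ReeGlue Cfsg.Agent.Lib.Helper20.ReeTw
  Cfsg.Agent.Lib.Helper20.ReeUMul Cfsg.Agent.Lib.Helper20.ReeLayers

universe u

variable {K : Type u} [Field K] [Fintype K] {m : ℕ}

/-- Two generators of `²G₂(q)` inside `GL₁₄(K)`. -/
theorem two_gen_GL (hm : 1 ≤ m) (hK : Fintype.card K = 3 ^ (2 * m + 1)) :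
    ∃ a b : GL chevG2.Idx K, a ∈ twistedG2 K (3 ^ m) ∧ b ∈ twistedG2 K (3 ^ m) ∧
      Subgroup.closure ({a, b} : Set (GL chevG2.Idx K)) = twistedG2 K (3 ^ m) := by
  classical
  have : CharP K 3 := Cfsg.Agent.S1101.charP_three hK
  have hq := ReeGlue.hq_of_card hK
  set T := reeTw hK with hT
  have I : Inst T m := inst_of hK T rfl rfl rfl rfl
  obtain ⟨g, hg⟩ := IsCyclic.exists_generator (α := Kˣ)
  obtain ⟨n₀, hn₀, hn₀1, hl₀⟩ := T.exists_long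
  set a : GL chevG2.Idx K := reeHHom (3 ^ m) g with ha
  have haH : a ∈ T.H := (hρ_mem T I g).1
  have ha1 : a ∈ T.G1 := (hρ_mem T I g).2
  set r : GL chevG2.Idx K := R m 1 0 0 with hr
  have hrU : r ∈ T.U := (huu_mem T I 1 0 0).1
  have hr1 : r ∈ T.G1 := (huu_mem T I 1 0 0).2
  set b : GL chevG2.Idx K := r * n₀ with hb
  have hb1 : b ∈ T.G1 := mul_mem hr1 hn₀1
  refine ⟨a, b, ha1, hb1, ?_⟩
  set S : Subgroup (GL chevG2.Idx K) := Subgroup.closure ({a, b} : Set (GL chevG2.Idx K)) with hS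
  have haS : a ∈ S := Subgroup.subset_closure (by simp)
  have hbS : b ∈ S := Subgroup.subset_closure (by simp)
  apply le_antisymm
  · rw [hS, Subgroup.closure_le]
    intro x hx
    rcases hx with rfl | rfl
    · exact ha1
    · exact hb1
  -- the torus lies in `S`
  have hHS : ∀ c : Kˣ, reeH (3 ^ m) c ∈ S := by
    intro c
    obtain ⟨k, rfl⟩ := Subgroup.mem_zpowers_iff.mp (hg c)
    have : reeH (3 ^ m) (g ^ k) = a ^ k := map_zpow (reeHHom (3 ^ m)) g k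
    rw [this]
    exact Subgroup.zpow_mem _ haS k
  -- conjugates `r h r⁻¹` of torus elements lie in `S`
  have hconjS : ∀ c : Kˣ, r * reeH (3 ^ m) c * r⁻¹ ∈ S := by
    intro c
    have hcH : reeH (3 ^ m) c ∈ T.H := (hρ_mem T I c).1
    have hinv := T.long_inverts n₀ hn₀ hl₀ (reeH (3 ^ m) c)⁻¹ (inv_mem hcH)
    rw [inv_inv] at hinv
    have e : b * (reeH (3 ^ m) c)⁻¹ * b⁻¹ = r * reeH (3 ^ m) c * r⁻¹ := by
      calc b * (reeH (3 ^ m) c)⁻¹ * b⁻¹ = r * (n₀ * (reeH (3 ^ m) c)⁻¹ * n₀⁻¹) * r⁻¹ := by rw [hb]; group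
        _ = r * reeH (3 ^ m) c * r⁻¹ := by rw [hinv]
    rw [← e]
    exact mul_mem (mul_mem hbS (inv_mem (hHS c))) (inv_mem hbS)
  -- an element of `U¹ ∩ S` with `t ≠ 0`
  obtain ⟨c, hc⟩ := chi1_surj hq (-1 : K) (neg_ne_zero.mpr one_ne_zero)
  have hx : r * reeH (3 ^ m) c * r⁻¹ * (reeH (3 ^ m) c)⁻¹ ∈ S := mul_mem (hconjS c) (inv_mem (hHS c))
  have hy : reeH (3 ^ m) c * r * (reeH (3 ^ m) c)⁻¹ = R m (-1) 0 0 := by
    rw [hr, R_conj hq, hc, mul_zero, mul_zero, mul_one]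
  have hx' : r * reeH (3 ^ m) c * r⁻¹ * (reeH (3 ^ m) c)⁻¹ = r * (R m (-1 : K) 0 0)⁻¹ := by
    rw [← hy]; group
  obtain ⟨t₀, u₀, v₀, ht₀, hx₀⟩ : ∃ t₀ u₀ v₀ : K, t₀ ≠ 0 ∧ r * (R m (-1 : K) 0 0)⁻¹ = R m t₀ u₀ v₀ := by
    refine ⟨2, 2 * (((-1 : K)) ^ 3 ^ m) ^ 3,
      (-1) * (2 * (((-1 : K)) ^ 3 ^ m) ^ 3) + 2 ^ 2 * (((-1 : K)) ^ 3 ^ m) ^ 3 - 2 * (((-1 : K)) ^ 3 ^ m) ^ 3 * (-1), ?_, ?_⟩
    · intro h2
      have h3 : (3 : K) = 0 := three_eq_zero'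
      have : (1 : K) = 0 := by linear_combination h3 - h2
      exact one_ne_zero this
    · rw [mul_inv_eq_iff_eq_mul, R_mul hq, hr]
      congr 1
      · ring
      · ring
      · ring
  rw [hx', hx₀] at hx
  -- `U¹ ≤ S`
  have hUS := layers hm hK S (fun c x hxS => mul_mem (mul_mem (hHS c) hxS) (inv_mem (hHS c))) t₀ u₀ v₀ ht₀ hx
  have hn₀S : n₀ ∈ S := by
    have : n₀ = r⁻¹ * b := by rw [hb]; group
    rw [this]
    exact mul_mem (inv_mem (hUS 1 0 0)) hbS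
  apply ReeSimple.ree_gen hK S
  · intro x hxU hx1
    obtain ⟨t, u, v, rfl⟩ := huu_surj hK T I x hxU hx1
    exact hUS t u v
  · intro x hxV hx1
    have h1 : n₀⁻¹ * x * n₀ ∈ T.U := T.long_conj' n₀ hn₀ hl₀ x hxV
    have h2 : n₀⁻¹ * x * n₀ ∈ T.G1 := mul_mem (mul_mem (inv_mem hn₀1) hx1) hn₀1
    obtain ⟨t, u, v, h3⟩ := huu_surj hK T I _ h1 h2
    have : x = n₀ * (n₀⁻¹ * x * n₀) * n₀⁻¹ := by group
    rw [this, h3]
    exact mul_mem (mul_mem hn₀S (hUS t u v)) (inv_mem hn₀S)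

/-- `²G₂(3^(2m+1))`, `m ≥ 1`, is generated by two elements. -/
theorem two_gen (hm : 1 ≤ m) (hK : Fintype.card K = 3 ^ (2 * m + 1)) :
    ∃ a b : ↥(twistedG2 K (3 ^ m)), Subgroup.closure ({a, b} : Set ↥(twistedG2 K (3 ^ m))) = ⊤ := by
  obtain ⟨a, b, ha, hb, hab⟩ := two_gen_GL hm hK
  refine ⟨⟨a, ha⟩, ⟨b, hb⟩, ?_⟩
  apply Subgroup.map_injective (twistedG2 K (3 ^ m)).subtype_injective
  have himg : (twistedG2 K (3 ^ m)).subtype '' ({⟨a, ha⟩, ⟨b, hb⟩} : Set ↥(twistedG2 K (3 ^ m))) = {a, b} := by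
    ext x
    simp only [Set.mem_image, Set.mem_insert_iff, Set.mem_singleton_iff]
    constructor
    · rintro ⟨y, rfl | rfl, rfl⟩
      · left; rfl
      · right; rfl
    · rintro (rfl | rfl)
      · exact ⟨⟨_, ha⟩, Or.inl rfl, rfl⟩
      · exact ⟨⟨_, hb⟩, Or.inr rfl, rfl⟩
  rw [MonoidHom.map_closure, himg, hab, ← MonoidHom.range_eq_map, Subgroup.range_subtype]

end Cfsg.Agent.Lib.Helper20.ReeTwoGen
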