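import Mathlib
import Cfsg.Agent.Lib.Helper22.S1936Defs
import Cfsg.Agent.S0024

/-!
# S1936 END-[F6] and END-[F4] (hedge, helper20): `_of` forms over the skeleton statements
-/

set_option autoImplicit false
universe u
open Cfsg.Agent.Lib.Helper22.S1936

namespace Cfsg.Agent.Lib.Helper20.S1936

variable {G : Type u} [Group G] [Finite G] {p : ℕ} [Fact p.Prime]

/-- A `q`-element normalizing a Sylow `q`-subgroup lies in it. -/
theorem mem_sylow_of_mem_normalizer {q : ℕ} [Fact q.Prime] (Q : Sylow q G) {x : G}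
    (hx : x ∈ Subgroup.normalizer ((Q : Subgroup G) : Set G)) (k : ℕ) (hk : orderOf x = q ^ k) :
    x ∈ (Q : Subgroup G) := by
  have hP : IsPGroup q (Subgroup.zpowers x) := by
    apply IsPGroup.of_card (n := k)
    rw [Nat.card_zpowers, hk]
  have h1 := hP.inf_normalizer_sylow Q
  have hx' : x ∈ Subgroup.zpowers x ⊓ Subgroup.normalizer ((Q : Subgroup G) : Set G) :=
    ⟨Subgroup.mem_zpowers x, hx⟩
  have hx'' : x ∈ Subgroup.zpowers x ⊓ (Q : Subgroup G) := by
    rw [← h1]; exact hx'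
  exact hx''.2

/-- If `T ≤ N(T)^g` then `g ∈ N(T)`. -/
theorem mem_normalizer_of_le_conjSub {q : ℕ} [Fact q.Prime] (T : Sylow q G) (g : G)
    (h : (T : Subgroup G) ≤ conjSub (Subgroup.normalizer ((T : Subgroup G) : Set G)) g) :
    g ∈ Subgroup.normalizer ((T : Subgroup G) : Set G) := by
  have hle : ((g⁻¹ • T : Sylow q G) : Subgroup G) ≤ (T : Subgroup G) := by
    intro x hx
    rw [Sylow.coe_subgroup_smul, Subgroup.mem_pointwise_smul_iff_inv_smul_mem] at hx
    have hx' : g * x * g⁻¹ ∈ (T : Subgroup G) := by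
      have h0 : (MulAut.conj g⁻¹)⁻¹ • x = g * x * g⁻¹ := by
        rw [← map_inv, inv_inv]; rfl
      rw [← h0]; exact hx
    obtain ⟨n, hn, hn2⟩ := h hx'
    have hn3 : g * n * g⁻¹ = g * x * g⁻¹ := hn2
    have hxn : x = n := (mul_left_cancel (mul_right_cancel hn3)).symm
    subst hxn
    clear hx
    have hx := hx'
    obtain ⟨k, hk⟩ := (IsPGroup.iff_orderOf.mp T.2) ⟨g * x * g⁻¹, hx⟩
    have hk' : orderOf x = q ^ k := by
      have h1 : orderOf (g * x * g⁻¹) = q ^ k := by
        rw [← hk]; exact (Subgroup.orderOf_mk _ _).symm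
      rw [← h1]
      exact (orderOf_injective (MulAut.conj g).toMonoidHom (MulAut.conj g).injective x).symm
    exact mem_sylow_of_mem_normalizer T hn k hk'
  have heq : (T : Subgroup G) = ((g⁻¹ • T : Sylow q G) : Subgroup G) := (g⁻¹ • T).3 T.2 hle
  have h2 : g⁻¹ • T = T := Sylow.ext heq.symm
  have h3 := Sylow.smul_eq_iff_mem_normalizer.mp h2
  have h4 := inv_mem h3
  rw [inv_inv] at h4
  exact h4

/-- In a finite group, `x e x⁻¹ ∈ ⟨e⟩` implies `x ∈ N(⟨e⟩)`. -/
theorem mem_normalizer_zpowers {e x : G} (h : x * e * x⁻¹ ∈ Subgroup.zpowers e) :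
    x ∈ Subgroup.normalizer ((Subgroup.zpowers e : Subgroup G) : Set G) := by
  rw [Subgroup.mem_normalizer_iff_map_conj_eq]
  have h1 : (Subgroup.zpowers e).map (MulAut.conj x : G →* G) = Subgroup.zpowers (x * e * x⁻¹) := by
    rw [MonoidHom.map_zpowers]; rfl
  rw [h1]
  apply Subgroup.eq_of_le_of_card_ge
  · exact (Subgroup.zpowers_le).mpr h
  · rw [Nat.card_zpowers, Nat.card_zpowers]
    exact le_of_eq (orderOf_injective (MulAut.conj x).toMonoidHom (MulAut.conj x).injective e).symm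

/-- In a `MinCE`, the normalizer of a nontrivial cyclic subgroup is proper. -/
theorem normalizer_zpowers_ne_top (hG : MinCE p G) {e : G} (he1 : e ≠ 1) :
    Subgroup.normalizer ((Subgroup.zpowers e : Subgroup G) : Set G) ≠ ⊤ := by
  intro h
  have hn : (Subgroup.zpowers e).Normal := Subgroup.normalizer_eq_top_iff.mp h
  haveI := hG.simple
  rcases hn.eq_bot_or_eq_top with h0 | h1
  · exact he1 (Subgroup.zpowers_eq_bot.mp h0)
  · apply hG.nonsolv
    haveI : IsCyclic G := ⟨⟨e, fun x => by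
      have : x ∈ Subgroup.zpowers e := by rw [h1]; trivial
      exact this⟩⟩
    haveI : CommGroup G := IsCyclic.commGroup
    infer_instance

/-- END-[F4] in `_of` form. -/
theorem sylow_unique_of (hG : MinCE p G) {a u : G} (ha : orderOf a = 2) (hu : orderOf u = 2)
    (hD2i : ∀ L : Subgroup G, L ≠ ⊤ → a ∈ L → u ∈ L → ¬ 4 ∣ Nat.card ↥L)
    (hD2ii : a * u ≠ 1 ∧ ∃ n : ℕ, orderOf (a * u) = p ^ n)
    (hF1 : Subgroup.centralizer ({a} : Set G) ⊓ Subgroup.centralizer ({u} : Set G) = ⊥)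
    (P₁ P₂ : Sylow p G)
    (ha₁ : a ∈ Subgroup.normalizer ((P₁ : Subgroup G) : Set G))
    (hu₁ : u ∈ Subgroup.normalizer ((P₁ : Subgroup G) : Set G))
    (ha₂ : a ∈ Subgroup.normalizer ((P₂ : Subgroup G) : Set G))
    (hu₂ : u ∈ Subgroup.normalizer ((P₂ : Subgroup G) : Set G))
    (hinv₁ : ∀ x ∈ (P₁ : Subgroup G), a * x * a⁻¹ = x⁻¹)
    (hinv₂ : ∀ x ∈ (P₂ : Subgroup G), a * x * a⁻¹ = x⁻¹) : P₁ = P₂ := by
  classical
  have hp : p.Prime := Fact.out
  have hp5 := hG.hp5
  obtain ⟨hz1, n, hzn⟩ := hD2ii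
  have ha2 : a * a = 1 := by rw [← pow_two, ← ha]; exact pow_orderOf_eq_one a
  have hu2 : u * u = 1 := by rw [← pow_two, ← hu]; exact pow_orderOf_eq_one u
  have hainv : a⁻¹ = a := inv_eq_of_mul_eq_one_left ha2
  have huinv : u⁻¹ = u := inv_eq_of_mul_eq_one_left hu2
  have hzinv : (a * u)⁻¹ = u * a := by rw [mul_inv_rev, hainv, huinv]
  have haz : a * (a * u) * a⁻¹ = (a * u)⁻¹ := by
    rw [hzinv, hainv, ← mul_assoc, ha2, one_mul]
  have huz : u * (a * u) * u⁻¹ = (a * u)⁻¹ := by
    rw [hzinv, huinv, mul_assoc, mul_assoc, hu2, mul_one]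
  have hz₁ : a * u ∈ (P₁ : Subgroup G) := mem_sylow_of_mem_normalizer P₁ (mul_mem ha₁ hu₁) n hzn
  have hz₂ : a * u ∈ (P₂ : Subgroup G) := mem_sylow_of_mem_normalizer P₂ (mul_mem ha₂ hu₂) n hzn
  -- `P₁`, `P₂` are abelian
  have hcomm : ∀ (P : Sylow p G), (∀ x ∈ (P : Subgroup G), a * x * a⁻¹ = x⁻¹) →
      ∀ x ∈ (P : Subgroup G), ∀ y ∈ (P : Subgroup G), x * y = y * x := by
    intro P hinv x hx y hy
    have h1 := hinv (x * y) (mul_mem hx hy)
    have h2 := hinv x hx
    have h3 := hinv y hy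
    have h4 : a * (x * y) * a⁻¹ = (a * x * a⁻¹) * (a * y * a⁻¹) := by group
    rw [h2, h3, h1, mul_inv_rev] at h4
    have h5 := congrArg (fun g => g⁻¹) h4
    simp only [mul_inv_rev, inv_inv] at h5
    exact h5
  generalize hz : a * u = z at *
  set s : Set G := ((Subgroup.zpowers z : Subgroup G) : Set G) with hs
  have hCz : Subgroup.centralizer s = Subgroup.centralizer ({z} : Set G) := by
    rw [hs, Subgroup.zpowers_eq_closure, Subgroup.centralizer_closure]
  have hLtop : Subgroup.normalizer s ≠ ⊤ := normalizer_zpowers_ne_top hG hz1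
  have haL : a ∈ Subgroup.normalizer s :=
    mem_normalizer_zpowers (by rw [haz]; exact inv_mem (Subgroup.mem_zpowers z))
  have huL : u ∈ Subgroup.normalizer s :=
    mem_normalizer_zpowers (by rw [huz]; exact inv_mem (Subgroup.mem_zpowers z))
  have h4 := hD2i _ hLtop haL huL
  have hn0 : n ≠ 0 := by
    rintro rfl
    rw [pow_zero, orderOf_eq_one_iff] at hzn
    exact hz1 hzn
  have hz2 : z ^ 2 ≠ 1 := by
    intro h
    have hdvd : p ^ n ∣ 2 := hzn ▸ orderOf_dvd_of_pow_eq_one h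
    have hp2 : p ∣ 2 := (dvd_pow_self p hn0).trans hdvd
    have hle : p ≤ 2 := Nat.le_of_dvd (by norm_num) hp2
    omega
  have haCz : a ∉ Subgroup.centralizer s := by
    rw [hCz, Subgroup.mem_centralizer_singleton_iff]
    intro hc
    apply hz2
    have h1 : a * z * a⁻¹ = z := by rw [hc]; group
    have h2 : z = z⁻¹ := h1.symm.trans haz
    rw [pow_two]
    nth_rewrite 1 [h2]
    exact inv_mul_cancel z
  have hle : Subgroup.centralizer s ≤ Subgroup.normalizer s := Subgroup.centralizer_le_normalizer s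
  haveI hnorm : ((Subgroup.centralizer s).subgroupOf (Subgroup.normalizer s)).Normal :=
    Subgroup.normal_subgroupOf_centralizer_normalizer s
  have hodd : ¬ 2 ∣ Nat.card ↥(Subgroup.centralizer s) := by
    intro h2
    apply h4
    have hcard := Subgroup.card_eq_card_quotient_mul_card_subgroup
      ((Subgroup.centralizer s).subgroupOf (Subgroup.normalizer s))
    have hcard2 : Nat.card ((Subgroup.centralizer s).subgroupOf (Subgroup.normalizer s)) =
        Nat.card (Subgroup.centralizer s) :=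
      Nat.card_congr (Subgroup.subgroupOfEquivOfLe hle).toEquiv
    have hq2 : 2 ∣ Nat.card (↥(Subgroup.normalizer s) ⧸
        (Subgroup.centralizer s).subgroupOf (Subgroup.normalizer s)) := by
      have ho : orderOf (QuotientGroup.mk (⟨a, haL⟩ : ↥(Subgroup.normalizer s)) :
          _ ⧸ (Subgroup.centralizer s).subgroupOf (Subgroup.normalizer s)) = 2 := by
        apply orderOf_eq_prime
        · rw [← QuotientGroup.mk_pow]
          have : (⟨a, haL⟩ : ↥(Subgroup.normalizer s)) ^ 2 = 1 :=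
            Subtype.ext (by simp [pow_two, ha2])
          rw [this]; rfl
        · intro h
          rw [QuotientGroup.eq_one_iff] at h
          exact haCz (Subgroup.mem_subgroupOf.mp h)
      rw [← ho]; exact orderOf_dvd_natCard _
    rw [hcard, hcard2]
    exact (show (4 : ℕ) = 2 * 2 by norm_num) ▸ mul_dvd_mul hq2 h2
  have hP₁K : (P₁ : Subgroup G) ≤ Subgroup.centralizer s := by
    intro x hx
    rw [hCz, Subgroup.mem_centralizer_singleton_iff]
    exact hcomm P₁ hinv₁ x hx z hz₁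
  have hP₂K : (P₂ : Subgroup G) ≤ Subgroup.centralizer s := by
    intro x hx
    rw [hCz, Subgroup.mem_centralizer_singleton_iff]
    exact hcomm P₂ hinv₂ x hx z hz₂
  have hAK : Subgroup.zpowers a ≤ Subgroup.normalizer ((Subgroup.centralizer s : Subgroup G) : Set G) := by
    rw [Subgroup.zpowers_le]
    exact (Subgroup.normal_subgroupOf_iff_le_normalizer hle).mp hnorm haL
  have hcop : (Nat.card ↥(Subgroup.zpowers a)).Coprime (Nat.card ↥(Subgroup.centralizer s)) := by
    rw [Nat.card_zpowers, ha]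
    exact Nat.coprime_two_left.mpr (Nat.not_even_iff_odd.mp (fun h => hodd (even_iff_two_dvd.mp h)))
  have hsolv : Group.IsSolvable ↥(Subgroup.zpowers a) ∨ Group.IsSolvable ↥(Subgroup.centralizer s) :=
    Or.inl (isSolvable_of_comm (fun x y => by
      obtain ⟨x, i, rfl⟩ := x
      obtain ⟨y, j, rfl⟩ := y
      exact Subtype.ext (zpow_mul_comm a i j)))
  have hmap₁ : ((P₁.subtype hP₁K : Sylow p ↥(Subgroup.centralizer s)) :
      Subgroup ↥(Subgroup.centralizer s)).map (Subgroup.centralizer s).subtype = (P₁ : Subgroup G) := by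
    rw [Sylow.coe_subtype]; exact Subgroup.map_subgroupOf_eq_of_le hP₁K
  have hmap₂ : ((P₂.subtype hP₂K : Sylow p ↥(Subgroup.centralizer s)) :
      Subgroup ↥(Subgroup.centralizer s)).map (Subgroup.centralizer s).subtype = (P₂ : Subgroup G) := by
    rw [Sylow.coe_subtype]; exact Subgroup.map_subgroupOf_eq_of_le hP₂K
  obtain ⟨c, hcA, hcP⟩ := Cfsg.Agent.S0024.result (Subgroup.zpowers a) (Subgroup.centralizer s) hAK hcop
    hsolv p (P₁.subtype hP₁K) (P₂.subtype hP₂K)
    (by rw [hmap₁, Subgroup.zpowers_le]; exact ha₁) (by rw [hmap₂, Subgroup.zpowers_le]; exact ha₂)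
  have hca : (c : G) * a = a * (c : G) :=
    ((Subgroup.mem_centralizer_iff.mp hcA) a (Subgroup.mem_zpowers a)).symm
  have hcz : (c : G) * z = z * (c : G) := by
    have h1 : (c : G) ∈ Subgroup.centralizer s := c.2
    have h2 : (c : G) ∈ Subgroup.centralizer ({z} : Set G) := hCz ▸ h1
    exact Subgroup.mem_centralizer_singleton_iff.mp h2
  have hu_eq : u = a * z := by rw [← hz, ← mul_assoc, ha2, one_mul]
  have hcu : (c : G) * u = u * (c : G) := by
    rw [hu_eq, ← mul_assoc, hca, mul_assoc, hcz, mul_assoc]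
  have hc1 : (c : G) ∈ Subgroup.centralizer ({a} : Set G) ⊓ Subgroup.centralizer ({u} : Set G) :=
    ⟨Subgroup.mem_centralizer_singleton_iff.mpr hca, Subgroup.mem_centralizer_singleton_iff.mpr hcu⟩
  rw [hF1, Subgroup.mem_bot] at hc1
  have hc1' : c = 1 := Subtype.ext hc1
  rw [hc1', map_one, one_smul] at hcP
  exact Sylow.subtype_injective hcP

/-- END-[F6] in `_of` form. -/
theorem final_contradiction_of (hG : MinCE p G) {T : Sylow 2 G}
    (hD : SEDatum T (Subgroup.normalizer ((T : Subgroup G) : Set G)))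
    (hD1 : ∀ (L : Subgroup G), L ≠ ⊤ → Even (Nat.card ↥L) →
      (∃ g : G, L ≤ conjSub (Subgroup.normalizer ((T : Subgroup G) : Set G)) g) ∨
      (¬ 4 ∣ Nat.card ↥L ∧ ∀ a ∈ L, orderOf a = 2 → ∀ x ∈ L,
        ∃ r ∈ Cfsg.pCoreOf p L, ∃ c ∈ L ⊓ Subgroup.centralizer ({a} : Set G), x = r * c))
    (hF3 : ∀ P : Sylow p G, ∃ b : G, orderOf b = 2 ∧ ∀ x ∈ (P : Subgroup G), b * x * b⁻¹ = x⁻¹)
    (hF5 : p ∣ Nat.card ↥(Subgroup.centralizer ((T : Subgroup G) : Set G))) : False := by
  classical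
  have hp : p.Prime := Fact.out
  obtain ⟨e, he⟩ := exists_prime_orderOf_dvd_card' p hF5
  have he' : orderOf (e : G) = p := by rw [← he]; exact Subgroup.orderOf_coe e
  have heC : (e : G) ∈ Subgroup.centralizer ((T : Subgroup G) : Set G) := e.2
  generalize (e : G) = e' at he' heC
  have hpe : IsPGroup p (Subgroup.zpowers e') :=
    IsPGroup.of_card (n := 1) (by rw [Nat.card_zpowers, he', pow_one])
  obtain ⟨P, hP⟩ := hpe.exists_le_sylow
  obtain ⟨b, hb2, hbinv⟩ := hF3 P
  have hbe : b * e' * b⁻¹ = e'⁻¹ := hbinv e' (hP (Subgroup.mem_zpowers e'))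
  have he1 : e' ≠ 1 := by
    intro h
    rw [h, orderOf_one] at he'
    exact hp.one_lt.ne he'
  -- L := N(⟨e⟩)
  have hLtop : Subgroup.normalizer ((Subgroup.zpowers e' : Subgroup G) : Set G) ≠ ⊤ := by
    intro h
    have hn : (Subgroup.zpowers e').Normal := Subgroup.normalizer_eq_top_iff.mp h
    haveI := hG.simple
    rcases hn.eq_bot_or_eq_top with h0 | h1
    · exact he1 (Subgroup.zpowers_eq_bot.mp h0)
    · apply hG.nonsolv
      haveI : IsCyclic G := ⟨⟨e', fun x => by
        have : x ∈ Subgroup.zpowers e' := by rw [h1]; trivial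
        exact this⟩⟩
      haveI : CommGroup G := IsCyclic.commGroup
      infer_instance
  have hTL : (T : Subgroup G) ≤ Subgroup.normalizer ((Subgroup.zpowers e' : Subgroup G) : Set G) := by
    intro t ht
    have hcomm : t * e' = e' * t := (Subgroup.mem_centralizer_iff.mp heC) t ht
    have hce : t * e' * t⁻¹ = e' := by rw [hcomm]; group
    apply mem_normalizer_zpowers
    rw [hce]; exact Subgroup.mem_zpowers e'
  have hbL : b ∈ Subgroup.normalizer ((Subgroup.zpowers e' : Subgroup G) : Set G) := by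
    apply mem_normalizer_zpowers
    rw [hbe]; exact inv_mem (Subgroup.mem_zpowers e')
  obtain ⟨n, hn⟩ := IsPGroup.iff_card.mp T.2
  have hn3 : 3 ≤ n := by
    by_contra hlt
    push_neg at hlt
    have h8 := hD.card8
    rw [hn] at h8
    have : 2 ^ n ≤ 2 ^ 2 := Nat.pow_le_pow_right (by norm_num) (by omega)
    omega
  have h4T : 4 ∣ Nat.card ↥(T : Subgroup G) := by
    rw [hn]
    exact (show (4 : ℕ) = 2 ^ 2 by norm_num) ▸ pow_dvd_pow 2 (by omega)
  have h4 : 4 ∣ Nat.card ↥(Subgroup.normalizer ((Subgroup.zpowers e' : Subgroup G) : Set G)) :=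
    h4T.trans (Subgroup.card_dvd_of_le hTL)
  have heven : Even (Nat.card ↥(Subgroup.normalizer ((Subgroup.zpowers e' : Subgroup G) : Set G))) :=
    even_iff_two_dvd.mpr ((show (2 : ℕ) ∣ 4 by norm_num).trans h4)
  rcases hD1 _ hLtop heven with ⟨g, hg⟩ | ⟨h, _⟩
  · have hgN : g ∈ Subgroup.normalizer ((T : Subgroup G) : Set G) :=
      mem_normalizer_of_le_conjSub T g (hTL.trans hg)
    obtain ⟨m, hm, hm2⟩ := hg hbL
    have hm3 : g * m * g⁻¹ = b := hm2
    have hbN : b ∈ Subgroup.normalizer ((T : Subgroup G) : Set G) := by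
      rw [← hm3]
      exact mul_mem (mul_mem hgN hm) (inv_mem hgN)
    have hbT : b ∈ (T : Subgroup G) :=
      mem_sylow_of_mem_normalizer T hbN 1 (by rw [hb2, pow_one])
    have hcomm : b * e' = e' * b := (Subgroup.mem_centralizer_iff.mp heC) b hbT
    have hce : b * e' * b⁻¹ = e' := by rw [hcomm]; group
    have hee : e' = e'⁻¹ := hce.symm.trans hbe
    have he2 : e' ^ 2 = 1 := by
      rw [pow_two]
      nth_rewrite 1 [hee]
      exact inv_mul_cancel e'
    have hdvd : p ∣ 2 := he' ▸ orderOf_dvd_of_pow_eq_one he2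
    have hle : p ≤ 2 := Nat.le_of_dvd (by norm_num) hdvd
    have := hG.hp5
    omega
  · exact h h4

end Cfsg.Agent.Lib.Helper20.S1936
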