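import Mathlib
import Cfsg.Agent.Lib.Helper22.S1936Defs
import Cfsg.Agent.Lib.Helper20.S1936End

/-!
# S1936 END-[F3] and END-[F3'] (hedge, helper20): `_of` forms over the skeleton statements
-/

set_option autoImplicit false
universe u
open Cfsg.Agent.Lib.Helper22.S1936

namespace Cfsg.Agent.Lib.Helper20.S1936

variable {G : Type u} [Group G] [Finite G] {p : ℕ} [Fact p.Prime]

/-- A fixed-point-free involutory conjugation on a finite subgroup inverts it. -/
theorem inverts_of_fixedPointFree (H : Subgroup G) {a : G} (ha2 : a * a = 1)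
    (haH : a ∈ Subgroup.normalizer ((H : Subgroup G) : Set G))
    (hfix : ∀ x ∈ H, a * x * a⁻¹ = x → x = 1) : ∀ x ∈ H, a * x * a⁻¹ = x⁻¹ := by
  classical
  have hainv : a⁻¹ = a := inv_eq_of_mul_eq_one_left ha2
  have hconj : ∀ x ∈ H, a * x * a⁻¹ ∈ H := fun x hx => (Subgroup.mem_normalizer_iff.mp haH x).mp hx
  let f : ↥H → ↥H := fun x => ⟨(x : G)⁻¹ * (a * x * a⁻¹), mul_mem (inv_mem x.2) (hconj x x.2)⟩
  have hinj : Function.Injective f := by
    intro x y hxy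
    have h1 : (x : G)⁻¹ * (a * x * a⁻¹) = (y : G)⁻¹ * (a * y * a⁻¹) := congrArg Subtype.val hxy
    have h2 : a * ((y : G) * (x : G)⁻¹) * a⁻¹ = (y : G) * (x : G)⁻¹ := by
      have h3 : a * ((y : G) * (x : G)⁻¹) * a⁻¹ = (a * y * a⁻¹) * (a * x * a⁻¹)⁻¹ := by group
      rw [h3]
      have h4 : a * x * a⁻¹ = (x : G) * ((y : G)⁻¹ * (a * y * a⁻¹)) := by
        rw [← h1]; group
      rw [h4]; group
    have h5 := hfix _ (mul_mem y.2 (inv_mem x.2)) h2
    have h6 : (y : G) = x := by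
      have := mul_inv_eq_one.mp h5
      exact this
    exact Subtype.ext h6.symm
  have hsurj : Function.Surjective f := Finite.injective_iff_surjective.mp hinj
  intro g hg
  obtain ⟨x, hx⟩ := hsurj ⟨g, hg⟩
  have hx' : (x : G)⁻¹ * (a * x * a⁻¹) = g := congrArg Subtype.val hx
  rw [← hx']
  have h1 : a * ((x : G)⁻¹ * (a * x * a⁻¹)) * a⁻¹ = (a * x * a⁻¹)⁻¹ * ((a * a) * x * (a * a)⁻¹) := by
    group
  rw [h1, ha2]
  group

/-- END-[F3] in `_of` form. -/
theorem inverts_sylow_of (hG : MinCE p G) {T : Sylow 2 G} {a u : G} (ha : orderOf a = 2)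
    (hu : orderOf u = 2)
    (hD2ii : a * u ≠ 1 ∧ ∃ n : ℕ, orderOf (a * u) = p ^ n)
    (hF1 : ∀ u' : G, orderOf u' = 2 → u' ∉ Subgroup.normalizer ((T : Subgroup G) : Set G) →
      Subgroup.centralizer ({a} : Set G) ⊓ Subgroup.centralizer ({u'} : Set G) = ⊥)
    (hF2 : ∀ x : G, a * x * a⁻¹ = x⁻¹ → Odd (orderOf x) → x ≠ 1 →
      a * x ∉ Subgroup.normalizer ((T : Subgroup G) : Set G))
    (huN : u ∉ Subgroup.normalizer ((T : Subgroup G) : Set G))
    (P : Sylow p G) (haP : a ∈ Subgroup.normalizer ((P : Subgroup G) : Set G))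
    (huP : u ∈ Subgroup.normalizer ((P : Subgroup G) : Set G)) :
    ∀ x ∈ (P : Subgroup G), a * x * a⁻¹ = x⁻¹ := by
  classical
  have hp : p.Prime := Fact.out
  have hp5 := hG.hp5
  have hpodd : Odd p := hp.odd_of_ne_two (by omega)
  obtain ⟨hz1, n, hzn⟩ := hD2ii
  have ha2 : a * a = 1 := by rw [← pow_two, ← ha]; exact pow_orderOf_eq_one a
  have hainv : a⁻¹ = a := inv_eq_of_mul_eq_one_left ha2
  have hz : a * u ∈ (P : Subgroup G) := mem_sylow_of_mem_normalizer P (mul_mem haP huP) n hzn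
  have hconj : ∀ x ∈ (P : Subgroup G), a * x * a⁻¹ ∈ (P : Subgroup G) :=
    fun x hx => (Subgroup.mem_normalizer_iff.mp haP x).mp hx
  have hoddP : ∀ x ∈ (P : Subgroup G), Odd (orderOf x) := by
    intro x hx
    obtain ⟨k, hk⟩ := (IsPGroup.iff_orderOf.mp P.2) ⟨x, hx⟩
    have : orderOf x = p ^ k := by rw [← hk]; exact (Subgroup.orderOf_mk _ _).symm
    rw [this]; exact hpodd.pow
  have hu_eq : u = a * (a * u) := by rw [← mul_assoc, ha2, one_mul]
  -- Step 1: `a` inverts the central elements of `P`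
  have hcentral_inv : ∀ ζ ∈ (P : Subgroup G), (∀ x ∈ (P : Subgroup G), x * ζ = ζ * x) →
      a * ζ * a⁻¹ = ζ⁻¹ := by
    intro ζ hζ hζc
    have hζa : a * ζ * a⁻¹ ∈ (P : Subgroup G) := hconj ζ hζ
    have hζac : ∀ x ∈ (P : Subgroup G), x * (a * ζ * a⁻¹) = (a * ζ * a⁻¹) * x := by
      intro x hx
      have h1 := hζc _ (hconj x hx)
      have h2 : x * (a * ζ * a⁻¹) = a * ((a * x * a⁻¹) * ζ) * a⁻¹ := by
        rw [hainv]
        have : a * (a * x * a * ζ) * a = (a * a) * x * (a * ζ * a) := by group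
        rw [this, ha2, one_mul]
      rw [h2, h1]
      rw [hainv]
      have : a * (ζ * (a * x * a)) * a = (a * ζ * a) * x * (a * a) := by group
      rw [this, ha2, mul_one]
    have hwfix : a * (ζ * (a * ζ * a⁻¹)) * a⁻¹ = ζ * (a * ζ * a⁻¹) := by
      have h1 : a * (ζ * (a * ζ * a⁻¹)) * a⁻¹ = (a * ζ * a⁻¹) * ((a * a) * ζ * (a * a)⁻¹) := by group
      rw [h1, ha2]
      simp only [one_mul, inv_one, mul_one]
      exact hζc _ hζa
    have hwa : (ζ * (a * ζ * a⁻¹)) * a = a * (ζ * (a * ζ * a⁻¹)) := by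
      nth_rewrite 1 [← hwfix]; group
    have hwz : (ζ * (a * ζ * a⁻¹)) * (a * u) = (a * u) * (ζ * (a * ζ * a⁻¹)) := by
      rw [mul_assoc, ← hζac _ hz, ← mul_assoc, ← hζc _ hz, mul_assoc]
    have hwu : (ζ * (a * ζ * a⁻¹)) * u = u * (ζ * (a * ζ * a⁻¹)) := by
      have h1 : Commute (ζ * (a * ζ * a⁻¹)) (a * (a * u)) := Commute.mul_right hwa hwz
      rw [← hu_eq] at h1
      exact h1
    have hw1 : ζ * (a * ζ * a⁻¹) ∈ Subgroup.centralizer ({a} : Set G) ⊓
        Subgroup.centralizer ({u} : Set G) :=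
      ⟨Subgroup.mem_centralizer_singleton_iff.mpr hwa, Subgroup.mem_centralizer_singleton_iff.mpr hwu⟩
    rw [hF1 u hu huN, Subgroup.mem_bot] at hw1
    exact (eq_inv_of_mul_eq_one_right hw1)
  -- Step 2: a nontrivial central element
  have hPnt : Nontrivial ↥(P : Subgroup G) := ⟨⟨⟨a * u, hz⟩, 1, fun h => hz1 (congrArg Subtype.val h)⟩⟩
  have hcnt : Nontrivial (Subgroup.center ↥(P : Subgroup G)) := P.2.center_nontrivial
  obtain ⟨⟨ζ0, hζ0c⟩, hζ0ne⟩ := exists_ne (1 : Subgroup.center ↥(P : Subgroup G))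
  have hζ0P : (ζ0 : G) ∈ (P : Subgroup G) := ζ0.2
  have hζ0ne' : (ζ0 : G) ≠ 1 := by
    intro h
    apply hζ0ne
    exact Subtype.ext (Subtype.ext h)
  have hζ0cen : ∀ x ∈ (P : Subgroup G), x * (ζ0 : G) = (ζ0 : G) * x := by
    intro x hx
    have := (Subgroup.mem_center_iff.mp hζ0c) ⟨x, hx⟩
    exact congrArg Subtype.val this
  have hζ0inv : a * (ζ0 : G) * a⁻¹ = (ζ0 : G)⁻¹ := hcentral_inv _ hζ0P hζ0cen
  have hu0N : a * (ζ0 : G) ∉ Subgroup.normalizer ((T : Subgroup G) : Set G) :=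
    hF2 _ hζ0inv (hoddP _ hζ0P) hζ0ne'
  have hu0sq : (a * (ζ0 : G)) ^ 2 = 1 := by
    rw [pow_two]
    have : a * (ζ0 : G) * (a * (ζ0 : G)) = (a * (ζ0 : G) * a⁻¹) * ((a * a) * (ζ0 : G)) := by group
    rw [this, hζ0inv, ha2, one_mul, inv_mul_cancel]
  have hu01 : a * (ζ0 : G) ≠ 1 := by
    intro h
    have h1 : (ζ0 : G) = a := by
      have := eq_inv_of_mul_eq_one_right h
      rw [this, hainv]
    have h2 := hoddP _ hζ0P
    rw [h1, ha] at h2
    exact absurd h2 (by decide)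
  have hu0 : orderOf (a * (ζ0 : G)) = 2 := orderOf_eq_prime hu0sq hu01
  have hF1' := hF1 _ hu0 hu0N
  -- Step 3: fixed-point-freeness
  have hfix : ∀ x ∈ (P : Subgroup G), a * x * a⁻¹ = x → x = 1 := by
    intro x hx hxa
    have hxa' : x * a = a * x := by
      nth_rewrite 1 [← hxa]; group
    have hxu0 : x * (a * (ζ0 : G)) = (a * (ζ0 : G)) * x :=
      Commute.mul_right hxa' (hζ0cen x hx)
    have hx1 : x ∈ Subgroup.centralizer ({a} : Set G) ⊓
        Subgroup.centralizer ({a * (ζ0 : G)} : Set G) :=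
      ⟨Subgroup.mem_centralizer_singleton_iff.mpr hxa', Subgroup.mem_centralizer_singleton_iff.mpr hxu0⟩
    rw [hF1', Subgroup.mem_bot] at hx1
    exact hx1
  exact inverts_of_fixedPointFree (P : Subgroup G) ha2 haP hfix

/-- END-[F3'] in `_of` form: Sylow conjugacy. -/
theorem exists_involution_inverting_of
    (h0 : ∃ (P₀ : Sylow p G) (a : G), orderOf a = 2 ∧ ∀ x ∈ (P₀ : Subgroup G), a * x * a⁻¹ = x⁻¹)
    (P : Sylow p G) :
    ∃ b : G, orderOf b = 2 ∧ ∀ x ∈ (P : Subgroup G), b * x * b⁻¹ = x⁻¹ := by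
  obtain ⟨P₀, a, ha, hinv⟩ := h0
  obtain ⟨g, hg⟩ := MulAction.exists_smul_eq G P₀ P
  refine ⟨g * a * g⁻¹, ?_, ?_⟩
  · rw [← ha]
    exact orderOf_injective (MulAut.conj g).toMonoidHom (MulAut.conj g).injective a
  · intro x hx
    have hx' : x ∈ ((g • P₀ : Sylow p G) : Subgroup G) := by rw [hg]; exact hx
    rw [Sylow.coe_subgroup_smul, Subgroup.mem_pointwise_smul_iff_inv_smul_mem] at hx'
    have hx'' : g⁻¹ * x * g ∈ (P₀ : Subgroup G) := by
      have h0 : (MulAut.conj g)⁻¹ • x = g⁻¹ * x * g := by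
        rw [← map_inv]; simp [MulAut.smul_def, MulAut.conj_apply]
      rw [← h0]; exact hx'
    have h1 := hinv _ hx''
    have h2 : g * a * g⁻¹ * x * (g * a * g⁻¹)⁻¹ = g * (a * (g⁻¹ * x * g) * a⁻¹) * g⁻¹ := by group
    rw [h2, h1]; group

end Cfsg.Agent.Lib.Helper20.S1936
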