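import Mathlib
import Cfsg.Agent.Lib.Helper97.Cores

/-!
A group `X` with `O(X) = 1`, a single class of involutions and two non-commuting involutions has a
non-abelian simple normal subgroup containing all involutions (helper20's library).
-/

set_option autoImplicit false

namespace Cfsg.Agent.Lib.Helper20.SimpleSection

variable {X : Type*} [Group X]

/-- `K` is a nontrivial subgroup of `L` normalized by `L`. -/
def Q (L K : Subgroup X) : Prop :=
  K ≤ L ∧ K ≠ ⊥ ∧ L ≤ Subgroup.normalizer (K : Set X)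

/-- `K` is minimal with `Q L K`. -/
def MinQ (L K : Subgroup X) : Prop :=
  Q L K ∧ ∀ K' : Subgroup X, Q L K' → K' ≤ K → K' = K

/-- conjugate of a subgroup -/
abbrev cj (g : X) (K : Subgroup X) : Subgroup X := K.map (MulAut.conj g).toMonoidHom

theorem mem_cj {g x : X} {K : Subgroup X} : x ∈ cj g K ↔ g⁻¹ * x * g ∈ K := by
  constructor
  · rintro ⟨k, hk, rfl⟩
    show g⁻¹ * (g * k * g⁻¹) * g ∈ K
    have : g⁻¹ * (g * k * g⁻¹) * g = k := by group
    rw [this]; exact hk
  · intro h
    refine ⟨g⁻¹ * x * g, h, ?_⟩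
    show g * (g⁻¹ * x * g) * g⁻¹ = x
    group

theorem conj_mem_cj {g k : X} {K : Subgroup X} (hk : k ∈ K) : g * k * g⁻¹ ∈ cj g K :=
  ⟨k, hk, rfl⟩

theorem cj_cj (g h : X) (K : Subgroup X) : cj g (cj h K) = cj (g * h) K := by
  ext x
  rw [mem_cj, mem_cj, mem_cj]
  have : h⁻¹ * (g⁻¹ * x * g) * h = (g * h)⁻¹ * x * (g * h) := by group
  rw [this]

theorem cj_one (K : Subgroup X) : cj 1 K = K := by
  ext x
  rw [mem_cj]; simp

theorem cj_normal {L : Subgroup X} (hL : L.Normal) (g : X) : cj g L = L := by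
  ext x
  rw [mem_cj]
  constructor
  · intro h
    have := hL.conj_mem _ h g
    have e : g * (g⁻¹ * x * g) * g⁻¹ = x := by group
    rwa [e] at this
  · intro h
    have := hL.conj_mem _ h g⁻¹
    rwa [inv_inv] at this

theorem cj_mono {g : X} {K K' : Subgroup X} (h : K ≤ K') : cj g K ≤ cj g K' := Subgroup.map_mono h

theorem cj_ne_bot {g : X} {K : Subgroup X} (h : K ≠ ⊥) : cj g K ≠ ⊥ := by
  intro hb
  apply h
  rw [Subgroup.eq_bot_iff_forall] at hb ⊢
  intro k hk
  have := hb _ (conj_mem_cj (g := g) hk)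
  have h2 : k = g⁻¹ * (g * k * g⁻¹) * g := by group
  rw [h2, this]; group

theorem card_cj [Finite X] (g : X) (K : Subgroup X) : Nat.card (cj g K) = Nat.card K :=
  Subgroup.card_map_of_injective (MulAut.conj g).injective

theorem Q_cj {L K : Subgroup X} (hL : L.Normal) (h : Q L K) (g : X) : Q L (cj g K) := by
  obtain ⟨h1, h2, h3⟩ := h
  refine ⟨?_, cj_ne_bot h2, ?_⟩
  · have := cj_mono (g := g) h1
    rwa [cj_normal hL] at this
  · intro l hl
    rw [Subgroup.mem_normalizer_iff]
    intro x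
    rw [mem_cj, mem_cj]
    have hl' : g⁻¹ * l * g ∈ L := by
      have := hL.conj_mem _ hl g⁻¹
      rwa [inv_inv] at this
    have hn := (Subgroup.mem_normalizer_iff.mp (h3 hl')) (g⁻¹ * x * g)
    have e : g⁻¹ * l * g * (g⁻¹ * x * g) * (g⁻¹ * l * g)⁻¹ = g⁻¹ * (l * x * l⁻¹) * g := by group
    rw [e] at hn
    exact hn

theorem MinQ_cj {L K : Subgroup X} (hL : L.Normal) (h : MinQ L K) (g : X) : MinQ L (cj g K) := by
  refine ⟨Q_cj hL h.1 g, fun K' hK' hle => ?_⟩
  have h1 : cj g⁻¹ K' ≤ K := by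
    have := cj_mono (g := g⁻¹) hle
    rwa [cj_cj, inv_mul_cancel, cj_one] at this
  have h2 := h.2 _ (Q_cj hL hK' g⁻¹) h1
  have h3 : cj g (cj g⁻¹ K') = K' := by
    rw [cj_cj, mul_inv_cancel, cj_one]
  rw [← h3, h2]

/-- Two conjugates of a minimal `K` are equal, or meet trivially and commute elementwise. -/
theorem minQ_dichotomy [Finite X] {L K : Subgroup X} (hL : L.Normal) (h : MinQ L K) (g : X) :
    cj g K = K ∨ (K ⊓ cj g K = ⊥ ∧ ∀ a ∈ K, ∀ b ∈ cj g K, a * b = b * a) := by
  have hg := Q_cj hL h.1 g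
  by_cases hb : K ⊓ cj g K = ⊥
  · right
    refine ⟨hb, fun a ha b hb' => ?_⟩
    have haL : a ∈ L := h.1.1 ha
    have hbL : b ∈ L := hg.1 hb'
    have h1 : a * b * a⁻¹ * b⁻¹ ∈ cj g K := by
      have := (Subgroup.mem_normalizer_iff.mp (hg.2.2 haL) b).mp hb'
      exact (cj g K).mul_mem this ((cj g K).inv_mem hb')
    have h2 : a * b * a⁻¹ * b⁻¹ ∈ K := by
      have := (Subgroup.mem_normalizer_iff.mp (h.1.2.2 hbL) a⁻¹).mp (K.inv_mem ha)
      have e : a * b * a⁻¹ * b⁻¹ = a * (b * a⁻¹ * b⁻¹) := by group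
      rw [e]; exact K.mul_mem ha this
    have h3 : a * b * a⁻¹ * b⁻¹ ∈ K ⊓ cj g K := ⟨h2, h1⟩
    rw [hb, Subgroup.mem_bot] at h3
    calc a * b = (a * b * a⁻¹ * b⁻¹) * (b * a) := by group
      _ = b * a := by rw [h3, one_mul]
  · left
    have hQ : Q L (K ⊓ cj g K) := by
      refine ⟨inf_le_left.trans h.1.1, hb, fun l hl => ?_⟩
      rw [Subgroup.mem_normalizer_iff]
      intro x
      have h1 := Subgroup.mem_normalizer_iff.mp (h.1.2.2 hl) x
      have h2 := Subgroup.mem_normalizer_iff.mp (hg.2.2 hl) x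
      rw [Subgroup.mem_inf, Subgroup.mem_inf, h1, h2]
    have h1 := h.2 _ hQ inf_le_left
    have h2 : K ≤ cj g K := fun x hx => by
      have hx' : x ∈ K ⊓ cj g K := by rw [h1]; exact hx
      exact hx'.2
    exact (Subgroup.eq_of_le_of_card_ge h2 (by rw [card_cj])).symm


theorem orderOf_two_iff {t : X} : orderOf t = 2 ↔ t * t = 1 ∧ t ≠ 1 := by
  rw [← pow_two]
  exact orderOf_eq_prime_iff (p := 2)

/-- A minimal `K` whose conjugates are not all equal leads to an abelian `L`. -/
theorem minQ_abelian_of_ne [Finite X] {L K : Subgroup X} (hL : L.Normal)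
    (hLmin : ∀ N : Subgroup X, N.Normal → N ≠ ⊥ → N ≤ L → N = L)
    (hLeven : ¬ Odd (Nat.card L))
    (hconj : ∀ s t : X, orderOf s = 2 → orderOf t = 2 → IsConj s t)
    (h : MinQ L K) (g : X) (hg : cj g K ≠ K) : ∀ a ∈ L, ∀ b ∈ L, a * b = b * a := by
  classical
  -- the normal closure of `K` is `L`
  have hncl : Subgroup.normalClosure (K : Set X) = L := by
    apply hLmin _ Subgroup.normalClosure_normal
    · intro hb
      apply h.1.2.1
      rw [eq_bot_iff, ← hb]
      exact Subgroup.le_normalClosure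
    · exact Subgroup.normalClosure_le_normal h.1.1
  -- `K` has even order
  have hKeven : ¬ Odd (Nat.card K) := by
    intro hodd
    apply hLeven
    set OL : Subgroup L := Cfsg.oddCore L with hOL
    have hOLodd : Odd (Nat.card OL) := Cfsg.Agent.Lib.Helper97.odd_card_oddCore
    have hsub : ∀ c : X, cj c K ≤ OL.map L.subtype := by
      intro c
      have hQc := Q_cj hL h.1 c
      have hn : ((cj c K).subgroupOf L).Normal := by
        rw [← Subgroup.normalizer_eq_top_iff, eq_top_iff]
        intro l _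
        rw [Subgroup.mem_normalizer_iff]
        intro x
        have := Subgroup.mem_normalizer_iff.mp (hQc.2.2 l.2) (x : X)
        simp only [Subgroup.mem_subgroupOf, Subgroup.coe_mul, Subgroup.coe_inv]
        exact this
      have hcard : Odd (Nat.card ((cj c K).subgroupOf L)) := by
        have e := (Subgroup.subgroupOfEquivOfLe hQc.1).toEquiv
        rw [Nat.card_congr e, card_cj]; exact hodd
      have hle := Cfsg.Agent.Lib.Helper97.le_oddCore_of_normal_of_odd hn hcard
      intro x hx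
      exact ⟨⟨x, hQc.1 hx⟩, hle (by rw [Subgroup.mem_subgroupOf]; exact hx), rfl⟩
    have hLle : L ≤ OL.map L.subtype := by
      have h5 : Subgroup.normalClosure (K : Set X) ≤ OL.map L.subtype := by
        rw [Subgroup.normalClosure, Subgroup.closure_le]
        intro x hx
        rw [Group.mem_conjugatesOfSet_iff] at hx
        obtain ⟨k, hk, hkx⟩ := hx
        obtain ⟨c, rfl⟩ := isConj_iff.mp hkx
        exact hsub c (conj_mem_cj hk)
      intro x hx
      exact h5 (by rw [hncl]; exact hx)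
    have hcard : Nat.card L ≤ Nat.card OL := by
      calc Nat.card L ≤ Nat.card (OL.map L.subtype) := Subgroup.card_le_of_le hLle
        _ = Nat.card OL := Subgroup.card_map_of_injective L.subtype_injective
    have heq : OL = ⊤ := Subgroup.eq_top_of_card_eq _
      (le_antisymm (Subgroup.card_le_card_group OL) hcard)
    rw [heq, Subgroup.card_top] at hOLodd
    exact hOLodd
  -- an involution of `K`
  have h2 : 2 ∣ Nat.card K := by
    rcases Nat.even_or_odd (Nat.card K) with he | ho
    · exact even_iff_two_dvd.mp he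
    · exact absurd ho hKeven
  have : Fact (Nat.Prime 2) := ⟨Nat.prime_two⟩
  obtain ⟨t0, ht0⟩ := exists_prime_orderOf_dvd_card' 2 h2
  set t : X := (t0 : X) with htdef
  have htK : t ∈ K := t0.2
  have ht : orderOf t = 2 := by rw [htdef, Subgroup.orderOf_coe]; exact ht0
  obtain ⟨htt, ht1⟩ := orderOf_two_iff.mp ht
  set u : X := g * t * g⁻¹ with hudef
  have huK : u ∈ cj g K := conj_mem_cj htK
  have hu : orderOf u = 2 := by
    rw [hudef]
    exact (orderOf_injective (MulAut.conj g).toMonoidHom (MulAut.conj g).injective t).trans ht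
  obtain ⟨huu, hu1⟩ := orderOf_two_iff.mp hu
  rcases minQ_dichotomy hL h g with hd | ⟨hdisj, hcomm⟩
  · exact absurd hd hg
  have htu : t * u = u * t := hcomm t htK u huK
  have htu2 : orderOf (t * u) = 2 := by
    rw [orderOf_two_iff]
    constructor
    · calc t * u * (t * u) = t * (u * t) * u := by group
        _ = t * (t * u) * u := by rw [htu]
        _ = (t * t) * (u * u) := by group
        _ = 1 := by rw [htt, huu, one_mul]
    · intro h1
      have : t = u := by
        have h3 : t = u⁻¹ := eq_inv_of_mul_eq_one_left h1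
        rw [h3]; exact inv_eq_of_mul_eq_one_left huu
      have h4 : t ∈ K ⊓ cj g K := ⟨htK, by rw [this]; exact huK⟩
      rw [hdisj, Subgroup.mem_bot] at h4
      exact ht1 h4
  obtain ⟨c, hc⟩ := isConj_iff.mp (hconj t (t * u) ht htu2)
  have htuc : t * u ∈ cj c K := by rw [← hc]; exact conj_mem_cj htK
  -- `cj c K` differs from `K` and from `cj g K`
  have hcK : cj c K ≠ K := by
    intro he
    rw [he] at htuc
    have : u ∈ K := by
      have := K.mul_mem (K.inv_mem htK) htuc
      rwa [inv_mul_cancel_left] at this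
    have h4 : u ∈ K ⊓ cj g K := ⟨this, huK⟩
    rw [hdisj, Subgroup.mem_bot] at h4
    exact hu1 h4
  have hcg : cj c K ≠ cj g K := by
    intro he
    rw [he] at htuc
    have : t ∈ cj g K := by
      have := (cj g K).mul_mem htuc ((cj g K).inv_mem huK)
      rwa [mul_inv_cancel_right] at this
    have h4 : t ∈ K ⊓ cj g K := ⟨htK, this⟩
    rw [hdisj, Subgroup.mem_bot] at h4
    exact ht1 h4
  -- `cj c K` commutes with `K` and with `cj g K`
  have hc1 : ∀ a ∈ K, ∀ b ∈ cj c K, a * b = b * a := by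
    rcases minQ_dichotomy hL h c with hd | ⟨_, hcm⟩
    · exact absurd hd hcK
    · exact hcm
  have hc2 : ∀ a ∈ cj g K, ∀ b ∈ cj c K, a * b = b * a := by
    have hmg := MinQ_cj hL h g
    rcases minQ_dichotomy hL hmg (c * g⁻¹) with hd | ⟨_, hcm⟩
    · rw [cj_cj, inv_mul_cancel_right] at hd
      exact absurd hd hcg
    · rw [cj_cj, inv_mul_cancel_right] at hcm
      exact hcm
  -- so `t u` is central in `cj c K`, hence `t` is central in `K`
  have htcent : ∀ k ∈ K, t * k = k * t := by
    intro k hk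
    have hw : c * k * c⁻¹ ∈ cj c K := conj_mem_cj hk
    have h5 : t * u * (c * k * c⁻¹) = c * k * c⁻¹ * (t * u) := by
      have e1 := hc1 t htK _ hw
      have e2 := hc2 u huK _ hw
      calc t * u * (c * k * c⁻¹) = t * (u * (c * k * c⁻¹)) := by group
        _ = t * ((c * k * c⁻¹) * u) := by rw [e2]
        _ = (t * (c * k * c⁻¹)) * u := by group
        _ = (c * k * c⁻¹ * t) * u := by rw [e1]
        _ = c * k * c⁻¹ * (t * u) := by group
    rw [← hc] at h5
    have h6 : c * (t * k) * c⁻¹ = c * (k * t) * c⁻¹ := by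
      calc c * (t * k) * c⁻¹ = c * t * c⁻¹ * (c * k * c⁻¹) := by group
        _ = c * k * c⁻¹ * (c * t * c⁻¹) := h5
        _ = c * (k * t) * c⁻¹ := by group
    exact mul_left_cancel (mul_right_cancel h6)
  -- the centre of `K` is `K`
  have hZQ : Q L (K ⊓ Subgroup.centralizer (K : Set X)) := by
    refine ⟨inf_le_left.trans h.1.1, ?_, fun l hl => ?_⟩
    · intro hb
      have h4 : t ∈ K ⊓ Subgroup.centralizer (K : Set X) :=
        ⟨htK, Subgroup.mem_centralizer_iff.mpr fun k hk => (htcent k hk).symm⟩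
      rw [hb, Subgroup.mem_bot] at h4
      exact ht1 h4
    · have hlN := h.1.2.2 hl
      rw [Subgroup.mem_normalizer_iff]
      intro x
      have hn := Subgroup.mem_normalizer_iff.mp hlN
      rw [Subgroup.mem_inf, Subgroup.mem_inf, ← hn x, Subgroup.mem_centralizer_iff,
        Subgroup.mem_centralizer_iff]
      constructor
      · rintro ⟨hx, hxc⟩
        refine ⟨hx, fun k hk => ?_⟩
        have hk' : l⁻¹ * k * l ∈ K := by
          have := (hn (l⁻¹ * k * l))
          rw [this]
          have e : l * (l⁻¹ * k * l) * l⁻¹ = k := by group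
          rw [e]; exact hk
        have := hxc _ hk'
        calc k * (l * x * l⁻¹) = l * ((l⁻¹ * k * l) * x) * l⁻¹ := by group
          _ = l * (x * (l⁻¹ * k * l)) * l⁻¹ := by rw [this]
          _ = l * x * l⁻¹ * k := by group
      · rintro ⟨hx, hxc⟩
        refine ⟨hx, fun k hk => ?_⟩
        have hk' : l * k * l⁻¹ ∈ K := (hn k).mp hk
        have := hxc _ hk'
        have e : l * (k * x) * l⁻¹ = l * (x * k) * l⁻¹ := by
          calc l * (k * x) * l⁻¹ = (l * k * l⁻¹) * (l * x * l⁻¹) := by group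
            _ = l * x * l⁻¹ * (l * k * l⁻¹) := this
            _ = l * (x * k) * l⁻¹ := by group
        exact mul_left_cancel (mul_right_cancel e)
  have hZK := h.2 _ hZQ inf_le_left
  have hKab : ∀ a ∈ K, ∀ b ∈ K, a * b = b * a := by
    intro a ha b hb
    have : a ∈ K ⊓ Subgroup.centralizer (K : Set X) := by rw [hZK]; exact ha
    exact ((Subgroup.mem_centralizer_iff.mp this.2) b hb).symm
  -- all conjugates of elements of `K` commute
  have hgen : ∀ c₁ c₂ : X, ∀ a ∈ K, ∀ b ∈ K, (c₁ * a * c₁⁻¹) * (c₂ * b * c₂⁻¹) =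
      (c₂ * b * c₂⁻¹) * (c₁ * a * c₁⁻¹) := by
    intro c₁ c₂ a ha b hb
    have hm1 := MinQ_cj hL h c₁
    rcases minQ_dichotomy hL hm1 (c₂ * c₁⁻¹) with hd | ⟨_, hcm⟩
    · rw [cj_cj, inv_mul_cancel_right] at hd
      have hb' : c₂ * b * c₂⁻¹ ∈ cj c₁ K := by rw [← hd]; exact conj_mem_cj hb
      obtain ⟨b', hb'K, hb'e⟩ := hb'
      have hb'e' : c₁ * b' * c₁⁻¹ = c₂ * b * c₂⁻¹ := hb'e
      rw [← hb'e']
      calc c₁ * a * c₁⁻¹ * (c₁ * b' * c₁⁻¹) = c₁ * (a * b') * c₁⁻¹ := by group
        _ = c₁ * (b' * a) * c₁⁻¹ := by rw [hKab a ha b' hb'K]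
        _ = _ := by group
    · rw [cj_cj, inv_mul_cancel_right] at hcm
      exact hcm _ (conj_mem_cj ha) _ (conj_mem_cj hb)
  -- hence `L` is abelian
  have hLcent : L ≤ Subgroup.centralizer (L : Set X) := by
    have hconjset : ∀ x ∈ Group.conjugatesOfSet (K : Set X), ∃ c₁, ∃ a ∈ K, x = c₁ * a * c₁⁻¹ := by
      intro x hx
      rw [Group.mem_conjugatesOfSet_iff] at hx
      obtain ⟨k, hk, hkx⟩ := hx
      obtain ⟨c₁, rfl⟩ := isConj_iff.mp hkx
      exact ⟨c₁, k, hk, rfl⟩
    have step1 : Group.conjugatesOfSet (K : Set X) ⊆ Subgroup.centralizer (L : Set X) := by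
      intro x hx
      obtain ⟨c₁, a, ha, rfl⟩ := hconjset x hx
      rw [SetLike.mem_coe, Subgroup.mem_centralizer_iff]
      intro y hy
      have hy' : y ∈ Subgroup.normalClosure (K : Set X) := by rw [hncl]; exact hy
      have : y ∈ Subgroup.centralizer ({c₁ * a * c₁⁻¹} : Set X) := by
        refine (Subgroup.closure_le _).mpr ?_ hy'
        intro z hz
        obtain ⟨c₂, b, hb, rfl⟩ := hconjset z hz
        rw [SetLike.mem_coe, Subgroup.mem_centralizer_singleton_iff]
        exact (hgen c₁ c₂ a ha b hb).symm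
      rw [Subgroup.mem_centralizer_singleton_iff] at this
      exact this
    rw [← hncl]
    conv_lhs => rw [Subgroup.normalClosure]
    rw [Subgroup.closure_le, hncl]
    exact step1
  intro a ha b hb
  exact ((Subgroup.mem_centralizer_iff.mp (hLcent ha)) b hb).symm


/-- Main abstract theorem. -/
theorem exists_simple_normal [Finite X]
    (hO : ∀ N : Subgroup X, N.Normal → Odd (Nat.card N) → N = ⊥)
    (hconj : ∀ s t : X, orderOf s = 2 → orderOf t = 2 → IsConj s t)
    (hnc : ∃ s t : X, orderOf s = 2 ∧ orderOf t = 2 ∧ s * t ≠ t * s) :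
    ∃ L : Subgroup X, L.Normal ∧ IsSimpleGroup L ∧ (¬ IsMulCommutative L) ∧
      ∀ t : X, orderOf t = 2 → t ∈ L := by
  classical
  obtain ⟨s₀, t₀, hs₀, ht₀, hst⟩ := hnc
  have : Fact (Nat.Prime 2) := ⟨Nat.prime_two⟩
  -- a minimal normal subgroup
  have hne : {N : Subgroup X | N.Normal ∧ N ≠ ⊥}.Nonempty := by
    refine ⟨⊤, inferInstance, ?_⟩
    intro h
    have h1 : s₀ ∈ (⊤ : Subgroup X) := Subgroup.mem_top _
    rw [h, Subgroup.mem_bot] at h1
    rw [h1, orderOf_one] at hs₀
    omega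
  obtain ⟨L, ⟨hL, hLne⟩, hLmin'⟩ := wellFounded_lt.has_min _ hne
  have hLmin : ∀ N : Subgroup X, N.Normal → N ≠ ⊥ → N ≤ L → N = L := by
    intro N hN hNne hle
    by_contra hneq
    exact hLmin' N ⟨hN, hNne⟩ (lt_of_le_of_ne hle hneq)
  have hLeven : ¬ Odd (Nat.card L) := fun hodd => hLne (hO L hL hodd)
  -- `L` contains all involutions
  have h2 : 2 ∣ Nat.card L := by
    rcases Nat.even_or_odd (Nat.card L) with he | ho
    · exact even_iff_two_dvd.mp he
    · exact absurd ho hLeven
  obtain ⟨r0, hr0⟩ := exists_prime_orderOf_dvd_card' 2 h2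
  have hr : orderOf (r0 : X) = 2 := by rw [Subgroup.orderOf_coe]; exact hr0
  have hinv : ∀ t : X, orderOf t = 2 → t ∈ L := by
    intro t ht
    obtain ⟨c, hc⟩ := isConj_iff.mp (hconj (r0 : X) t hr ht)
    rw [← hc]
    exact hL.conj_mem _ r0.2 c
  have hsL := hinv s₀ hs₀
  have htL := hinv t₀ ht₀
  -- every minimal `K` equals `L`
  have hKL : ∀ K : Subgroup X, MinQ L K → K = L := by
    intro K hK
    have hall : ∀ g : X, cj g K = K := by
      intro g
      by_contra hg
      exact hst (minQ_abelian_of_ne hL hLmin hLeven hconj hK g hg s₀ hsL t₀ htL)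
    have hKn : K.Normal := by
      refine ⟨fun k hk g => ?_⟩
      rw [← hall g]
      exact conj_mem_cj hk
    exact hLmin K hKn hK.1.2.1 hK.1.1
  refine ⟨L, hL, ?_, ?_, hinv⟩
  · -- simplicity
    haveI : Nontrivial L := by
      refine ⟨⟨⟨s₀, hsL⟩, 1, ?_⟩⟩
      intro h
      have : s₀ = 1 := congrArg Subtype.val h
      rw [this, orderOf_one] at hs₀
      omega
    refine ⟨fun N hN => ?_⟩
    by_cases hNb : N = ⊥
    · exact Or.inl hNb
    right
    set N' : Subgroup X := N.map L.subtype with hN'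
    have hN'L : N' ≤ L := Subgroup.map_subtype_le N
    have hQN' : Q L N' := by
      refine ⟨hN'L, ?_, fun l hl => ?_⟩
      · intro hb
        apply hNb
        rw [hN'] at hb
        exact (Subgroup.map_eq_bot_iff_of_injective N L.subtype_injective).mp hb
      · rw [Subgroup.mem_normalizer_iff]
        intro x
        constructor
        · rintro ⟨n, hn, rfl⟩
          exact ⟨⟨l, hl⟩ * n * ⟨l, hl⟩⁻¹, hN.conj_mem n hn ⟨l, hl⟩, rfl⟩
        · rintro ⟨n, hn, hne⟩
          have hx : x = l⁻¹ * (n : X) * l := by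
            have : (L.subtype n : X) = l * x * l⁻¹ := hne
            rw [Subgroup.coe_subtype] at this
            rw [this]; group
          refine ⟨⟨l, hl⟩⁻¹ * n * ⟨l, hl⟩, ?_, ?_⟩
          · have := hN.conj_mem n hn (⟨l, hl⟩⁻¹ : L)
            rwa [inv_inv] at this
          · rw [hx]; rfl
    have hne2 : {K : Subgroup X | Q L K ∧ K ≤ N'}.Nonempty := ⟨N', hQN', le_rfl⟩
    obtain ⟨K₀, ⟨hQK₀, hK₀N⟩, hK₀min⟩ := wellFounded_lt.has_min _ hne2
    have hmin : MinQ L K₀ := by
      refine ⟨hQK₀, fun K' hK' hle => ?_⟩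
      by_contra hneq
      exact hK₀min K' ⟨hK', hle.trans hK₀N⟩ (lt_of_le_of_ne hle hneq)
    have hK₀L := hKL K₀ hmin
    rw [eq_top_iff]
    intro x _
    have hx : (x : X) ∈ N' := hK₀N (by rw [hK₀L]; exact x.2)
    obtain ⟨n, hn, hnx⟩ := hx
    have : n = x := Subtype.ext hnx
    rw [← this]; exact hn
  · intro hc
    have := hc.is_comm.comm ⟨s₀, hsL⟩ ⟨t₀, htL⟩
    exact hst (congrArg Subtype.val this)

end Cfsg.Agent.Lib.Helper20.SimpleSection
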