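import Cfsg.Agent.Lib.Helper20.SimpleSection
import Cfsg.Agent.Lib.Helper20.CentInv
import Cfsg.Agent.Lib.Helper22.PPrimeCore
import Cfsg.Agent.Lib.Helper1.PGroupMax

/-!
Groups with quasi-dihedral or wreathed Sylow 2-subgroups and no subgroup of index 2:
`G / O(G)` has a non-abelian simple normal subgroup of odd index (helper20's library).
-/

set_option autoImplicit false
set_option linter.unusedSectionVars false

namespace Cfsg.Agent.Lib.Helper20.SimpleSection

open Cfsg.Agent.Lib.Helper38 Cfsg.Agent.Lib.Helper33 Cfsg.Agent.Lib.Helper20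
  Cfsg.Agent.Lib.Helper20.QDF Cfsg.Agent.Lib.Helper20.Wr Cfsg.Agent.Lib.Helper20.QD
  Cfsg.Agent.Lib.Helper20.CI

/-- A finite group with a nontrivial cyclic Sylow 2-subgroup has a subgroup of index 2. -/
theorem exists_index_two_of_cyclic_sylow {Y : Type*} [Group Y] [Finite Y] (P : Sylow 2 Y)
    (hc : IsCyclic P) (h2 : 2 ∣ Nat.card Y) : ∃ H : Subgroup Y, H.index = 2 := by
  have : Fact (Nat.Prime 2) := ⟨Nat.prime_two⟩
  have hp : (Nat.card Y).minFac = 2 := (Nat.minFac_eq_two_iff _).mpr h2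
  have hcompl := IsCyclic.isComplement' hp hc
  set φ := MonoidHom.transferSylow P (hc.normalizer_le_centralizer hp) with hφ
  have hidx : φ.ker.index = Nat.card P := hcompl.symm.index_eq_card
  have hsurj : Function.Surjective φ := by
    rw [← MonoidHom.range_eq_top]
    apply Subgroup.eq_top_of_card_eq
    rw [← Subgroup.index_ker, hidx]
  -- `P` is a nontrivial 2-group, so it has a subgroup of index 2
  have hPne : Nontrivial P := by
    have h3 : 2 ∣ Nat.card P := by
      rw [P.card_eq_multiplicity]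
      apply dvd_pow_self
      intro h0
      have := (Nat.factorization_eq_zero_iff _ _).mp h0
      rcases this with h | h | h
      · exact h Nat.prime_two
      · exact h h2
      · have := Nat.card_pos (α := Y); omega
    rw [← Finite.one_lt_card_iff_nontrivial]
    have := Nat.le_of_dvd Nat.card_pos h3
    omega
  have hPp : IsPGroup 2 P := P.isPGroup'
  obtain ⟨M, hM⟩ : ∃ M : Subgroup P, IsCoatom M := by
    rcases eq_top_or_exists_le_coatom (⊥ : Subgroup P) with h | ⟨M, hM, _⟩
    · exact absurd h bot_ne_top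
    · exact ⟨M, hM⟩
  have hMi := Cfsg.Agent.Lib.Helper1.coatom_index_of_isPGroup hPp hM
  exact ⟨M.comap φ, by rw [Subgroup.index_comap_of_surjective M hsurj]; exact hMi⟩

variable {X : Type*} [Group X] [Finite X]

/-- If `L` is normal, `S` a Sylow 2-subgroup whose image in `X / L` is cyclic, and `X` has no subgroup
of index 2, then `L` has odd index. -/
theorem odd_index_of_cyclic_image (S : Sylow 2 X) (hG : ∀ H : Subgroup X, H.index ≠ 2)
    (L : Subgroup X) [hL : L.Normal] (c : X)
    (hS : ∀ s ∈ (S : Subgroup X), QuotientGroup.mk' L s ∈ Subgroup.zpowers (QuotientGroup.mk' L c)) :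
    Odd L.index := by
  have : Fact (Nat.Prime 2) := ⟨Nat.prime_two⟩
  by_contra hodd
  have h2 : 2 ∣ Nat.card (X ⧸ L) := by
    rw [← Subgroup.index_eq_card]
    rcases Nat.even_or_odd L.index with he | ho
    · exact even_iff_two_dvd.mp he
    · exact absurd ho hodd
  set P : Sylow 2 (X ⧸ L) := S.mapSurjective (QuotientGroup.mk'_surjective L) with hP
  have hPle : (P : Subgroup (X ⧸ L)) ≤ Subgroup.zpowers (QuotientGroup.mk' L c) := by
    rw [hP, Sylow.coe_mapSurjective]
    rintro _ ⟨s, hs, rfl⟩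
    exact hS s hs
  have hcyc : IsCyclic (P : Subgroup (X ⧸ L)) := Subgroup.isCyclic_of_le hPle
  obtain ⟨H, hH⟩ := exists_index_two_of_cyclic_sylow P hcyc h2
  apply hG (H.comap (QuotientGroup.mk' L))
  rw [Subgroup.index_comap_of_surjective H (QuotientGroup.mk'_surjective L)]
  exact hH

theorem four_ne_zero_zmod {n : ℕ} (hn : 3 ≤ n) : (4 : ZMod (2 ^ n)) ≠ 0 := by
  intro h
  have h1 : ((4 : ℕ) : ZMod (2 ^ n)) = 0 := by exact_mod_cast h
  rw [ZMod.natCast_eq_zero_iff] at h1
  have h2 : 2 ^ 3 ∣ 2 ^ n := pow_dvd_pow 2 hn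
  have h3 := Nat.le_of_dvd (by norm_num) (h2.trans h1)
  norm_num at h3

/-- Quasi-dihedral case. -/
theorem qd_case (S : Sylow 2 X) {n : ℕ} {xs ys : (S : Subgroup X)}
    (d : Data (S : Subgroup X) n xs ys) (hG : ∀ H : Subgroup X, H.index ≠ 2)
    (hO : ∀ N : Subgroup X, N.Normal → Odd (Nat.card N) → N = ⊥) :
    ∃ L : Subgroup X, L.Normal ∧ Odd L.index ∧ IsSimpleGroup L ∧ ¬ IsMulCommutative L := by
  have hn := d.hn
  have hconj : ∀ s t : X, orderOf s = 2 → orderOf t = 2 → IsConj s t := fun s t hs ht =>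
    ((isConj_Z_of_no_index_two S d hG s hs).symm).trans (isConj_Z_of_no_index_two S d hG t ht)
  have hoy : orderOf (ys : X) = 2 := by rw [Subgroup.orderOf_coe]; exact d.oy
  have hob0 : orderOf (f xs n 2 * ys) = 2 := by
    have := orderOf_fy_even d 1
    rwa [mul_one] at this
  have hob : orderOf ((f xs n 2 * ys : (S : Subgroup X)) : X) = 2 := by
    rw [Subgroup.orderOf_coe]; exact hob0
  have hnc : ∃ s t : X, orderOf s = 2 ∧ orderOf t = 2 ∧ s * t ≠ t * s := by
    refine ⟨(ys : X), ((f xs n 2 * ys : (S : Subgroup X)) : X), hoy, hob, ?_⟩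
    intro h
    have h1 : ys * (f xs n 2 * ys) = (f xs n 2 * ys) * ys := Subtype.ext (by
      simpa using h)
    rw [← mul_assoc, y_mul_f d, mul_assoc (f xs n (ep n * 2)), y_mul_self d, mul_one, mul_assoc,
      y_mul_self d, mul_one] at h1
    have h2 := f_injective d h1
    apply four_ne_zero_zmod hn
    have h3 : (2 : ZMod (2 ^ n)) * hf n = 0 := two_mul_hf (by omega)
    unfold ep at h2
    linear_combination (-1 : ZMod (2 ^ n)) * h2 + h3
  obtain ⟨L, hL, hsimp, hncomm, hinv⟩ := exists_simple_normal hO hconj hnc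
  refine ⟨L, hL, ?_, hsimp, hncomm⟩
  have := hL
  apply odd_index_of_cyclic_image S hG L (xs : X)
  intro s hs
  have hyL : QuotientGroup.mk' L (ys : X) = 1 := (QuotientGroup.eq_one_iff _).mpr (hinv _ hoy)
  have hf : ∀ i : ZMod (2 ^ n), QuotientGroup.mk' L ((f xs n i : (S : Subgroup X)) : X) ∈
      Subgroup.zpowers (QuotientGroup.mk' L (xs : X)) := by
    intro i
    unfold f
    rw [Subgroup.coe_pow, map_pow]
    exact Subgroup.pow_mem _ (Subgroup.mem_zpowers _) _
  rcases normal_form d ⟨s, hs⟩ with ⟨i, hi⟩ | ⟨i, hi⟩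
  · have : s = ((f xs n i : (S : Subgroup X)) : X) := congrArg Subtype.val hi
    rw [this]; exact hf i
  · have : s = ((f xs n i : (S : Subgroup X)) : X) * (ys : X) := by
      have := congrArg Subtype.val hi
      simpa using this
    rw [this, map_mul, hyL, mul_one]; exact hf i

/-- Wreathed case. -/
theorem wr_case (S : Sylow 2 X) {n : ℕ} {xs ys zs : (S : Subgroup X)}
    (h : IsWr xs ys zs n) (hG : ∀ H : Subgroup X, H.index ≠ 2)
    (hO : ∀ N : Subgroup X, N.Normal → Odd (Nat.card N) → N = ⊥) :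
    ∃ L : Subgroup X, L.Normal ∧ Odd L.index ∧ IsSimpleGroup L ∧ ¬ IsMulCommutative L := by
  have h1 := rU_six_of_no_index_two S h hG
  have h2 := rV_six_of_no_index_two S h hG
  have hconj : ∀ s t : X, orderOf s = 2 → orderOf t = 2 → IsConj s t := fun s t hs ht =>
    ((isConj_e_of_six_six S h h1 h2 s hs).symm).trans (isConj_e_of_six_six S h h1 h2 t ht)
  have hnc : ∃ s t : X, orderOf s = 2 ∧ orderOf t = 2 ∧ s * t ≠ t * s :=
    ⟨_, _, orderOf_coe_a S h, orderOf_coe_z S h, coe_a_z_not_comm S h⟩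
  obtain ⟨L, hL, hsimp, hncomm, hinv⟩ := exists_simple_normal hO hconj hnc
  refine ⟨L, hL, ?_, hsimp, hncomm⟩
  have := hL
  apply odd_index_of_cyclic_image S hG L (xs : X)
  intro s hs
  have hzL : QuotientGroup.mk' L (zs : X) = 1 :=
    (QuotientGroup.eq_one_iff _).mpr (hinv _ (orderOf_coe_z S h))
  have hw : orderOf ((al xs ys (-1) 1 * zs : (S : Subgroup X)) : X) = 2 := by
    rw [Subgroup.orderOf_coe, h.orderOf_alz_eq_two_iff]
    simp
  have hwL : QuotientGroup.mk' L ((al xs ys (-1) 1 * zs : (S : Subgroup X)) : X) = 1 :=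
    (QuotientGroup.eq_one_iff _).mpr (hinv _ hw)
  have hxy : QuotientGroup.mk' L (ys : X) = QuotientGroup.mk' L (xs : X) := by
    have e : ((al xs ys (-1) 1 * zs : (S : Subgroup X)) : X) = (xs : X)⁻¹ * (ys : X) * (zs : X) := by
      simp [al]
    rw [e, map_mul, map_mul, hzL, mul_one, map_inv] at hwL
    exact (inv_mul_eq_one.mp hwL).symm
  have hal : ∀ i j : ℤ, QuotientGroup.mk' L ((al xs ys i j : (S : Subgroup X)) : X) ∈
      Subgroup.zpowers (QuotientGroup.mk' L (xs : X)) := by
    intro i j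
    have e : ((al xs ys i j : (S : Subgroup X)) : X) = (xs : X) ^ i * (ys : X) ^ j := by
      simp [al]
    rw [e, map_mul, map_zpow, map_zpow, hxy, ← zpow_add]
    exact Subgroup.zpow_mem _ (Subgroup.mem_zpowers _) _
  rcases h.exists_rep ⟨s, hs⟩ with ⟨i, j, hi⟩ | ⟨i, j, hi⟩
  · have : s = ((al xs ys i j : (S : Subgroup X)) : X) := congrArg Subtype.val hi
    rw [this]; exact hal i j
  · have : s = ((al xs ys i j : (S : Subgroup X)) : X) * (zs : X) := by
      have := congrArg Subtype.val hi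
      simpa using this
    rw [this, map_mul, hzL, mul_one]; exact hal i j

/-- The abstract form of S1214. -/
theorem exists_simple_of_core_free (S : Sylow 2 X)
    (hS : Cfsg.IsQuasiDihedral (S : Subgroup X) ∨ Cfsg.IsWreathed (S : Subgroup X))
    (hG : ∀ H : Subgroup X, H.index ≠ 2)
    (hO : ∀ N : Subgroup X, N.Normal → Odd (Nat.card N) → N = ⊥) :
    ∃ L : Subgroup X, L.Normal ∧ Odd L.index ∧ IsSimpleGroup L ∧ ¬ IsMulCommutative L := by
  rcases hS with hS | hS
  · obtain ⟨n, x, y, d⟩ := exists_data hS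
    exact qd_case S d hG hO
  · obtain ⟨n, x, y, z, h⟩ := exists_isWr hS
    exact wr_case S h hG hO


/-- S1214: `G / O(G)` has a non-abelian simple normal subgroup of odd index. -/
theorem exists_simple_quotient {G : Type*} [Group G] [Finite G] (S : Sylow 2 G)
    (hS : Cfsg.IsQuasiDihedral (S : Subgroup G) ∨ Cfsg.IsWreathed (S : Subgroup G))
    (hG : ∀ H : Subgroup G, H.index ≠ 2) :
    ∃ L : Subgroup (G ⧸ Cfsg.oddCore G), L.Normal ∧ Odd L.index ∧ IsSimpleGroup L ∧
      ¬ IsMulCommutative L := by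
  have : Fact (Nat.Prime 2) := ⟨Nat.prime_two⟩
  set O : Subgroup G := Cfsg.oddCore G with hOdef
  set π : G →* G ⧸ O := QuotientGroup.mk' O with hπ
  have hπs : Function.Surjective π := QuotientGroup.mk'_surjective O
  set S' : Sylow 2 (G ⧸ O) := S.mapSurjective hπs with hS'
  -- `S ≃* S'`
  have hOodd : Odd (Nat.card O) := Cfsg.Agent.Lib.Helper97.odd_card_oddCore
  have hdisj : ∀ s ∈ (S : Subgroup G), s ∈ O → s = 1 := by
    intro s hs hsO
    have h1 : orderOf s ∣ Nat.card O := by
      have := orderOf_dvd_natCard (⟨s, hsO⟩ : O)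
      rwa [Subgroup.orderOf_mk] at this
    obtain ⟨k, hk⟩ := (IsPGroup.iff_orderOf.mp S.isPGroup') ⟨s, hs⟩
    rw [Subgroup.orderOf_mk] at hk
    rw [hk] at h1
    have h2 : Nat.Coprime (2 ^ k) (Nat.card O) :=
      Nat.Coprime.pow_left k (Nat.coprime_two_left.mpr hOodd)
    have h3 : 2 ^ k = 1 := Nat.Coprime.eq_one_of_dvd h2 h1
    rw [← hk, orderOf_eq_one_iff] at h3
    exact h3
  let φ : (S : Subgroup G) →* (S' : Subgroup (G ⧸ O)) :=
    { toFun := fun s => ⟨π s, ⟨s, s.2, rfl⟩⟩
      map_one' := by apply Subtype.ext; simp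
      map_mul' := fun a b => by apply Subtype.ext; simp }
  have hφi : Function.Injective φ := by
    rw [injective_iff_map_eq_one]
    intro s hs
    have h1 : π (s : G) = 1 := congrArg Subtype.val hs
    rw [hπ, QuotientGroup.mk'_apply, QuotientGroup.eq_one_iff] at h1
    exact Subtype.ext (hdisj _ s.2 h1)
  have hφs : Function.Surjective φ := by
    rintro ⟨_, ⟨s, hs, rfl⟩⟩
    exact ⟨⟨s, hs⟩, rfl⟩
  let e : (S : Subgroup G) ≃* (S' : Subgroup (G ⧸ O)) := MulEquiv.ofBijective φ ⟨hφi, hφs⟩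
  have hSq : Cfsg.IsQuasiDihedral (S' : Subgroup (G ⧸ O)) ∨ Cfsg.IsWreathed (S' : Subgroup (G ⧸ O)) := by
    rcases hS with h | h
    · exact Or.inl (isQuasiDihedral_of_equiv e h)
    · exact Or.inr (isWreathed_of_equiv e h)
  have hGq : ∀ H : Subgroup (G ⧸ O), H.index ≠ 2 := by
    intro H hH
    apply hG (H.comap π)
    rw [Subgroup.index_comap_of_surjective H hπs]
    exact hH
  have hOq : ∀ N : Subgroup (G ⧸ O), N.Normal → Odd (Nat.card N) → N = ⊥ := by
    intro N hN hodd
    have h1 := Cfsg.Agent.Lib.Helper97.le_oddCore_of_normal_of_odd hN hodd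
    have h2 : Cfsg.oddCore (G ⧸ O) = ⊥ := Cfsg.Agent.Lib.Helper22.pPrimeCore_quotient_eq_bot 2
    rw [h2] at h1
    exact le_bot_iff.mp h1
  exact exists_simple_of_core_free S' hSq hGq hOq

end Cfsg.Agent.Lib.Helper20.SimpleSection
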