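/-
helper20: module S3043-[B1a] of helper90's project (TI-subgroup involution count):
in Case B with `m = 2^(e+1) + 1` all involutions are conjugate and `|G| = q (q+1) (q-1)`, `q = 2^(e+1)`.
-/
import Mathlib
import Cfsg.Agent.Lib.Helper90.TIInvDefs

set_option autoImplicit false

namespace Cfsg.Agent.Lib.Helper20.TIInvB1a

open Cfsg.Agent.Lib.Helper90.TIInv

variable {G : Type*} [Group G] [Finite G] {M : Subgroup G} {z : G}

omit [Finite G] in
/-- class equation for one class: `|z^G| · |C_G(z)| = |G|`. -/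
theorem card_conjClass_mul_card_Cz (z : G) :
    Nat.card {t : G // ∃ g : G, t = g * z * g⁻¹} * Nat.card (Cz z) = Nat.card G := by
  have h1 := MulAction.index_stabilizer (ConjAct G) z
  have h2 : (MulAction.stabilizer (ConjAct G) z).index * Nat.card (MulAction.stabilizer (ConjAct G) z)
      = Nat.card (ConjAct G) := by
    rw [mul_comm]; exact Subgroup.card_mul_index _
  have h3 : Nat.card (MulAction.stabilizer (ConjAct G) z) = Nat.card (Cz z) := by
    rw [ConjAct.stabilizer_eq_centralizer]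
    rfl
  have h4 : (MulAction.orbit (ConjAct G) z).ncard = Nat.card {t : G // ∃ g : G, t = g * z * g⁻¹} := by
    rw [← Nat.card_coe_set_eq]
    apply Nat.card_congr
    apply Equiv.subtypeEquivRight
    intro t
    rw [MulAction.mem_orbit_iff]
    constructor
    · rintro ⟨g, rfl⟩
      exact ⟨ConjAct.ofConjAct g, ConjAct.smul_def g z⟩
    · rintro ⟨g, rfl⟩
      exact ⟨ConjAct.toConjAct g, ConjAct.toConjAct_smul g z⟩
  rw [← h4, ← h1, ← h3, h2]
  rfl

omit [Finite G] in
theorem orderOf_conj' (g t : G) : orderOf (g * t * g⁻¹) = orderOf t := by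
  have := MulEquiv.orderOf_eq (MulAut.conj g) t
  rwa [MulAut.conj_apply] at this

/-- a class of involutions with as many elements as there are involutions contains all of them -/
theorem all_conj_of_card (hz : orderOf z = 2)
    (hc : Nat.card {t : G // orderOf t = 2} ≤ Nat.card {t : G // ∃ g : G, t = g * z * g⁻¹}) :
    ∀ t : G, orderOf t = 2 → ∃ g : G, t = g * z * g⁻¹ := by
  have hsub : {t : G | ∃ g : G, t = g * z * g⁻¹} ⊆ {t : G | orderOf t = 2} := by
    rintro t ⟨g, rfl⟩
    show orderOf (g * z * g⁻¹) = 2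
    rw [orderOf_conj', hz]
  have heq : {t : G | ∃ g : G, t = g * z * g⁻¹} = {t : G | orderOf t = 2} := by
    apply Set.eq_of_subset_of_ncard_le hsub _ (Set.toFinite _)
    rw [← Nat.card_coe_set_eq, ← Nat.card_coe_set_eq]
    exact hc
  intro t ht
  have : t ∈ {t : G | orderOf t = 2} := ht
  rw [← heq] at this
  exact this

theorem caseB_arith1 (k n J c N : ℕ) (ie : n * 2 + (k + 1 + 1) * 2 = 2 + (k + 1) * (k + 1 + 1))
    (ic : J + 2 = (k + 1 + 1) + 2 * n) (hG : (k + 1 + 1) * 2 * n = N) (hcl : c * (k + 1) = N) :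
    J = c ∧ N = (k + 1) * (k + 1 + 1) * k := by
  have hn : 2 * n = (k + 1) * k := by nlinarith
  have hN : N = (k + 1) * (k + 1 + 1) * k := by
    rw [← hG]
    calc (k + 1 + 1) * 2 * n = (k + 1 + 1) * (2 * n) := by ring
      _ = (k + 1 + 1) * ((k + 1) * k) := by rw [hn]
      _ = (k + 1) * (k + 1 + 1) * k := by ring
  have hJ : J = k * (k + 2) := by nlinarith
  have hc : c = k * (k + 2) := by
    have h1 : c * (k + 1) = (k * (k + 2)) * (k + 1) := by rw [hcl, hN]; ring
    exact Nat.eq_of_mul_eq_mul_right (Nat.succ_pos k) h1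
  exact ⟨hJ.trans hc.symm, hN⟩

theorem caseB_allConj (h : Hyp M z) (b : Basic M z) (ie : IndexEq M z) (ic : InvCount M z)
    {e : ℕ} (hB : CaseB M z e) (hm : Nat.card M = 2 ^ (e + 1) + 1) :
    (∀ t : G, orderOf t = 2 → ∃ g : G, t = g * z * g⁻¹) ∧
      Nat.card G = 2 ^ (e + 1) * (2 ^ (e + 1) + 1) * (2 ^ (e + 1) - 1) := by
  obtain ⟨_, hH, hC, _⟩ := hB
  unfold IndexEq at ie
  unfold InvCount at ic
  rw [hH, hC, hm] at ie
  rw [hH, hm] at ic
  have hcardN := b.cardN
  rw [hH, hm] at hcardN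
  have hG := Subgroup.card_mul_index (Nm M)
  rw [hcardN] at hG
  have hcl := card_conjClass_mul_card_Cz z
  rw [hC] at hcl
  obtain ⟨k, hk⟩ : ∃ k : ℕ, 2 ^ (e + 1) = k + 1 := ⟨2 ^ (e + 1) - 1, by
    have : 0 < 2 ^ (e + 1) := by positivity
    omega⟩
  rw [hk] at ie ic hG hcl ⊢
  obtain ⟨hJc, hN⟩ := caseB_arith1 k _ _ _ _ ie ic hG hcl
  refine ⟨all_conj_of_card h.hz (le_of_eq hJc), ?_⟩
  rw [hN, Nat.add_sub_cancel]

end Cfsg.Agent.Lib.Helper20.TIInvB1a
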