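/-
helper20: module S3043-[B2a] of helper90's project (TI-subgroup involution count):
in Case B2 an involution `y` not conjugate to `z` generates a 2-group with each of its conjugates.
-/
import Mathlib
import Cfsg.Agent.Lib.Helper90.TIInvDefs

set_option autoImplicit false

namespace Cfsg.Agent.Lib.Helper20.TIInvB2a

open Cfsg.Agent.Lib.Helper90.TIInv

variable {G : Type*} [Group G] [Finite G] {M : Subgroup G} {z : G}

/-- If `p ∤ |G : M|`, every element of order `p` lies in a conjugate of `M`. -/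
theorem exists_conj_mem_of_not_dvd_index {p : ℕ} [Fact p.Prime] (M : Subgroup G)
    (hp : ¬ p ∣ M.index) (x : G) (hx : orderOf x = p) : ∃ k : G, x ∈ cj k M := by
  obtain ⟨P0⟩ : Nonempty (Sylow p M) := inferInstance
  have hP1 : IsPGroup p ((P0 : Subgroup M).map M.subtype) := P0.isPGroup'.map M.subtype
  have hidx : ¬ p ∣ ((P0 : Subgroup M).map M.subtype).index := by
    rw [Subgroup.index_map_subtype]
    intro hd
    rcases (Nat.Prime.dvd_mul (Fact.out : p.Prime)).mp hd with h1 | h1
    · exact P0.not_dvd_index h1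
    · exact hp h1
  set S : Sylow p G := hP1.toSylow hidx with hS
  have hxp : IsPGroup p (Subgroup.zpowers x) := by
    apply IsPGroup.of_card (n := 1)
    rw [Nat.card_zpowers, hx, pow_one]
  obtain ⟨Q, hQ⟩ := hxp.exists_le_sylow
  obtain ⟨k, hk⟩ := MulAction.exists_smul_eq G S Q
  refine ⟨k, ?_⟩
  have hxQ : x ∈ (Q : Subgroup G) := hQ (Subgroup.mem_zpowers x)
  rw [← hk, Sylow.smul_def, Sylow.pointwise_smul_def] at hxQ
  obtain ⟨s, hs, hsx⟩ := Subgroup.mem_smul_pointwise_iff_exists _ _ _ |>.mp hxQ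
  have hsM : s ∈ M := by
    have : s ∈ (P0 : Subgroup M).map M.subtype := hs
    obtain ⟨t, _, rfl⟩ := Subgroup.mem_map.mp this
    exact t.2
  exact Subgroup.mem_map.mpr ⟨s, hsM, hsx⟩

omit [Finite G] in
theorem mem_cj_iff (k : G) (K : Subgroup G) (x : G) : x ∈ cj k K ↔ k⁻¹ * x * k ∈ K := by
  constructor
  · rintro ⟨s, hs, rfl⟩
    have : k⁻¹ * ((MulAut.conj k).toMonoidHom s) * k = s := by
      simp [MulAut.conj_apply, mul_assoc]
    rw [this]; exact hs
  · intro h
    refine ⟨k⁻¹ * x * k, h, ?_⟩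
    simp [MulAut.conj_apply, mul_assoc]

omit [Finite G] in
theorem mem_Nm_of_cj_eq (g : G) (h : cj g M = M) : g ∈ Nm M := by
  rw [Subgroup.mem_normalizer_iff]
  intro x
  constructor
  · intro hx
    rw [← h]
    exact ⟨x, hx, by simp [MulAut.conj_apply]⟩
  · intro hx
    rw [← h, mem_cj_iff] at hx
    have : g⁻¹ * (g * x * g⁻¹) * g = x := by group
    rwa [this] at hx

omit [Finite G] in
theorem inv_of_orderOf_two {y : G} (hy : orderOf y = 2) : y⁻¹ = y := by
  have h1 : y ^ 2 = 1 := by rw [← hy]; exact pow_orderOf_eq_one y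
  rw [pow_two] at h1
  exact inv_eq_of_mul_eq_one_left h1

theorem caseB_pair (h : Hyp M z) (b : Basic M z) (i : InvN M z) {e : ℕ}
    (hG : Nat.card G = 2 * (2 ^ e + 1) * 2 ^ (2 * e)) (hm : Nat.card M = 2 ^ e + 1)
    (y : G) (hy : orderOf y = 2) (hyz : ∀ g : G, y ≠ g * z * g⁻¹) (g : G) :
    IsPGroup 2 ↥(Subgroup.zpowers y ⊔ cj g (Subgroup.zpowers y)) := by
  have hyi : y⁻¹ = y := inv_of_orderOf_two hy
  have hyy : y * y = 1 := by
    have := pow_orderOf_eq_one y
    rwa [hy, pow_two] at this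
  set y' := g * y * g⁻¹ with hy'
  have hy'y' : y' * y' = 1 := by
    rw [hy']
    calc g * y * g⁻¹ * (g * y * g⁻¹) = g * (y * y) * g⁻¹ := by group
      _ = 1 := by rw [hyy]; group
  have hy'i : y'⁻¹ = y' := inv_eq_of_mul_eq_one_left hy'y'
  set w := y * y' with hw
  have hwinv : w⁻¹ = y' * y := by rw [hw, mul_inv_rev, hyi, hy'i]
  have hyw : y * w * y⁻¹ = w⁻¹ := by
    rw [hwinv, hw, hyi]
    calc y * (y * y') * y = (y * y) * y' * y := by group
      _ = y' * y := by rw [hyy, one_mul]
  -- conjugation by `y` inverts every power of `w`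
  have hypow : ∀ k : ℕ, y * w ^ k * y⁻¹ = (w ^ k)⁻¹ := by
    intro k
    have := map_pow (MulAut.conj y) w k
    rw [MulAut.conj_apply, MulAut.conj_apply, hyw, inv_pow] at this
    exact this
  have hcj : cj g (Subgroup.zpowers y) = Subgroup.zpowers y' := by
    show (Subgroup.zpowers y).map (MulAut.conj g).toMonoidHom = _
    rw [MonoidHom.map_zpowers]
    rfl
  -- the group is contained in `⟨y⟩ W`
  have hle : Subgroup.zpowers y ⊔ cj g (Subgroup.zpowers y) ≤ Subgroup.zpowers y ⊔ Subgroup.zpowers w := by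
    apply sup_le le_sup_left
    rw [hcj, Subgroup.zpowers_le]
    have : y' = y * w := by rw [hw, ← mul_assoc, hyy, one_mul]
    rw [this]
    exact mul_mem (Subgroup.mem_sup_left (Subgroup.mem_zpowers y))
      (Subgroup.mem_sup_right (Subgroup.mem_zpowers w))
  have hy2 : IsPGroup 2 (Subgroup.zpowers y) := by
    apply IsPGroup.of_card (n := 1)
    rw [Nat.card_zpowers, hy, pow_one]
  have hnorm : Subgroup.zpowers y ≤ Subgroup.normalizer (Subgroup.zpowers w : Set G) := by
    rw [Subgroup.zpowers_le, Subgroup.mem_normalizer_iff]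
    have hfwd : ∀ x ∈ Subgroup.zpowers w, y * x * y⁻¹ ∈ Subgroup.zpowers w := by
      intro x hx
      obtain ⟨k, rfl⟩ := Subgroup.mem_zpowers_iff.mp hx
      have := map_zpow (MulAut.conj y) w k
      rw [MulAut.conj_apply, MulAut.conj_apply, hyw] at this
      rw [this]
      exact Subgroup.zpow_mem _ (inv_mem (Subgroup.mem_zpowers w)) k
    intro x
    constructor
    · exact hfwd x
    · intro hx
      have := hfwd _ hx
      have e : y * (y * x * y⁻¹) * y⁻¹ = x := by
        rw [hyi]
        calc y * (y * x * y) * y = (y * y) * x * (y * y) := by group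
          _ = x := by rw [hyy, one_mul, mul_one]
      rwa [e] at this
  -- the order of `w`
  have hwpos : orderOf w ≠ 0 := (orderOf_pos w).ne'
  obtain ⟨a, s, hs, has⟩ := Nat.exists_eq_two_pow_mul_odd hwpos
  by_cases hs1 : s = 1
  · -- `⟨w⟩` is a 2-group
    have hw2 : IsPGroup 2 (Subgroup.zpowers w) := by
      apply IsPGroup.of_card (n := a)
      rw [Nat.card_zpowers, has, hs1, mul_one]
    exact (IsPGroup.to_sup_of_normal_right' hy2 hw2 hnorm).to_le hle
  · exfalso
    obtain ⟨p, hp, hps⟩ := Nat.exists_prime_and_dvd hs1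
    have : Fact p.Prime := ⟨hp⟩
    have hp2 : p ≠ 2 := by
      rintro rfl
      exact (Nat.not_even_iff_odd.mpr hs) (even_iff_two_dvd.mpr hps)
    have hpw : p ∣ orderOf w := by rw [has]; exact Dvd.dvd.mul_left hps _
    set x := w ^ (orderOf w / p) with hx
    have hxo : orderOf x = p := by
      rw [hx, orderOf_pow_of_dvd]
      · exact Nat.div_div_self hpw hwpos
      · intro h0
        have := Nat.div_mul_cancel hpw
        rw [h0, zero_mul] at this
        exact hwpos this.symm
      · exact Nat.div_dvd_of_dvd hpw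
    have hxinv : y * x * y⁻¹ = x⁻¹ := hypow _
    -- `p` divides `|M|`
    have hpG : p ∣ Nat.card G := by rw [← hxo]; exact orderOf_dvd_natCard x
    have hidx : M.index = 2 * 2 ^ (2 * e) := by
      have h1 := Subgroup.card_mul_index M
      rw [hm, hG] at h1
      have h2 : (2 ^ e + 1) * M.index = (2 ^ e + 1) * (2 * 2 ^ (2 * e)) := by rw [h1]; ring
      exact Nat.eq_of_mul_eq_mul_left (Nat.succ_pos _) h2
    have hpidx : ¬ p ∣ M.index := by
      rw [hidx, ← pow_succ']
      intro hd
      have := (Nat.prime_dvd_prime_iff_eq hp Nat.prime_two).mp (hp.dvd_of_dvd_pow hd)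
      exact hp2 this
    obtain ⟨k, hk⟩ := exists_conj_mem_of_not_dvd_index M hpidx x hxo
    -- `k⁻¹ x k ∈ M`, and `k⁻¹ x⁻¹ k ∈ M ⊓ cj (k⁻¹ y k) M`
    rw [mem_cj_iff] at hk
    set g' := k⁻¹ * y * k with hg'
    have hx1 : x ≠ 1 := by
      intro h1
      rw [h1, orderOf_one] at hxo
      exact hp.one_lt.ne hxo
    have hne : M ⊓ cj g' M ≠ ⊥ := by
      intro hbot
      have hmem : k⁻¹ * x⁻¹ * k ∈ M ⊓ cj g' M := by
        refine Subgroup.mem_inf.mpr ⟨?_, ?_⟩
        · have : k⁻¹ * x⁻¹ * k = (k⁻¹ * x * k)⁻¹ := by group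
          rw [this]; exact inv_mem hk
        · rw [mem_cj_iff]
          have : g'⁻¹ * (k⁻¹ * x⁻¹ * k) * g' = k⁻¹ * (y⁻¹ * x⁻¹ * y) * k := by rw [hg']; group
          rw [this]
          have h2 : y⁻¹ * x⁻¹ * y = x := by
            rw [← hxinv, hyi]
            calc y * (y * x * y) * y = (y * y) * x * (y * y) := by group
              _ = x := by rw [hyy, one_mul, mul_one]
          rw [h2]; exact hk
      rw [hbot, Subgroup.mem_bot] at hmem
      apply hx1
      have : x⁻¹ = 1 := by
        have h3 : x⁻¹ = k * (k⁻¹ * x⁻¹ * k) * k⁻¹ := by group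
        rw [h3, hmem]; group
      exact inv_eq_one.mp this
    have hgN : g' ∈ Nm M := mem_Nm_of_cj_eq g' (h.ti g' hne)
    have hg'o : orderOf g' = 2 := by
      have := MulEquiv.orderOf_eq (MulAut.conj k⁻¹) y
      rw [MulAut.conj_apply, inv_inv] at this
      rw [hg', this, hy]
    obtain ⟨a', ha', hga⟩ := i.invs g' hgN hg'o
    obtain ⟨b', hb', hab⟩ := i.conj a' ha'
    apply hyz (k * b')
    have : y = k * g' * k⁻¹ := by rw [hg']; group
    rw [this, hga, hab]
    group

end Cfsg.Agent.Lib.Helper20.TIInvB2a
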