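/-
helper20: module S3043-[B2c] of helper90's project (TI-subgroup involution count):
in Case B2 the normal 2-subgroup `Q` containing the involutions not conjugate to `z` is an elementary abelian
complement of `N` of order `2^(2e)`.
-/
import Mathlib
import Cfsg.Agent.Lib.Helper90.TIInvDefs
import Cfsg.Agent.Lib.Helper20.TIInvB1a

set_option autoImplicit false

namespace Cfsg.Agent.Lib.Helper20.TIInvB2c

open Cfsg.Agent.Lib.Helper90.TIInv Cfsg.Agent.Lib.Helper20.TIInvB1a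

variable {G : Type*} [Group G] [Finite G] {M : Subgroup G} {z : G}

theorem caseB_arith2 (f n J c N Y : ℕ) (hf : 0 < f)
    (ie : n * 2 + (f + 1) * 2 = 2 + (2 * f) * (f + 1))
    (ic : J + 2 = (f + 1) + 2 * n) (hG : (f + 1) * 2 * n = N) (hcl : c * (2 * f) = N)
    (hY : Y + c = J) : n = f * f ∧ Y + 1 = f * f := by
  have hn : n = f * f := by nlinarith
  have hc : c = f * (f + 1) := by
    have h1 : c * (2 * f) = (f * (f + 1)) * (2 * f) := by rw [hcl, ← hG, hn]; ring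
    exact Nat.eq_of_mul_eq_mul_right (by positivity) h1
  refine ⟨hn, ?_⟩
  subst hn hc
  nlinarith

omit [Finite G] in
theorem card_eq_ncard (K : Subgroup G) : Nat.card K = (K : Set G).ncard :=
  Nat.card_coe_set_eq (K : Set G)

/-- The involutions split into the class of `z` and the rest. -/
theorem card_nonconj_add (hz : orderOf z = 2) :
    ({t : G | orderOf t = 2 ∧ ∀ g : G, t ≠ g * z * g⁻¹}).ncard +
      Nat.card {t : G // ∃ g : G, t = g * z * g⁻¹} = Nat.card {t : G // orderOf t = 2} := by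
  have hsub : {t : G | ∃ g : G, t = g * z * g⁻¹} ⊆ {t : G | orderOf t = 2} := by
    rintro t ⟨g, rfl⟩
    show orderOf (g * z * g⁻¹) = 2
    rw [orderOf_conj', hz]
  have h1 := Set.ncard_sdiff_add_ncard_of_subset hsub (Set.toFinite _)
  have h2 : {t : G | orderOf t = 2} \ {t : G | ∃ g : G, t = g * z * g⁻¹}
      = {t : G | orderOf t = 2 ∧ ∀ g : G, t ≠ g * z * g⁻¹} := by
    ext t
    simp only [Set.mem_sdiff, Set.mem_ofPred_eq, not_exists]
  rw [h2] at h1
  rw [← Nat.card_coe_set_eq {t : G | ∃ g : G, t = g * z * g⁻¹},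
    ← Nat.card_coe_set_eq {t : G | orderOf t = 2}] at h1
  exact h1

theorem caseB_Qfacts (h : Hyp M z) (b : Basic M z) (i : InvN M z) (ie : IndexEq M z)
    (ic : InvCount M z) {e : ℕ} (hB : CaseB M z e) (hm : Nat.card M = 2 ^ e + 1)
    (Q : Subgroup G) (hQn : Q.Normal) (hQ2 : IsPGroup 2 Q)
    (hQy : ∀ y : G, orderOf y = 2 → (∀ g : G, y ≠ g * z * g⁻¹) → y ∈ Q) :
    Nat.card Q = 2 ^ (2 * e) ∧ Q ⊓ Nm M = ⊥ ∧ Q ⊔ Nm M = ⊤ ∧ (∀ a ∈ Q, a ^ 2 = 1) ∧
      IsMulCommutative Q := by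
  obtain ⟨_, hH, hC, _⟩ := hB
  -- the arithmetic
  have hff : 2 ^ (2 * e) = 2 ^ e * 2 ^ e := by rw [two_mul, pow_add]
  unfold IndexEq at ie
  unfold InvCount at ic
  rw [hH, hC, hm, pow_succ, mul_comm (2 ^ e) 2] at ie
  rw [hH, hm] at ic
  have hcardN := b.cardN
  rw [hH, hm] at hcardN
  have hG := Subgroup.card_mul_index (Nm M)
  rw [hcardN] at hG
  have hcl := card_conjClass_mul_card_Cz z
  rw [hC, pow_succ, mul_comm (2 ^ e) 2] at hcl
  have hYc := card_nonconj_add h.hz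
  obtain ⟨hn, hY1⟩ := caseB_arith2 (2 ^ e) _ _ _ _ _ (by positivity) ie ic hG hcl hYc
  -- `Q ⊓ N = ⊥`
  have hQM : ∀ x ∈ Q, x ∈ M → x = 1 := by
    intro x hxQ hxM
    obtain ⟨k, hk⟩ := (IsPGroup.iff_orderOf.mp hQ2) ⟨x, hxQ⟩
    rw [Subgroup.orderOf_mk] at hk
    have hdvd : orderOf x ∣ Nat.card M := by
      have := orderOf_dvd_natCard (⟨x, hxM⟩ : M)
      rwa [Subgroup.orderOf_mk] at this
    have hodd : Odd (orderOf x) := b.oddM.of_dvd_nat hdvd
    rw [hk] at hodd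
    have hk0 : k = 0 := by
      by_contra hk0
      exact (Nat.not_even_iff_odd.mpr hodd) (Nat.even_pow.mpr ⟨even_two, hk0⟩)
    rw [hk0, pow_zero] at hk
    exact orderOf_eq_one_iff.mp hk
  have hQN : Q ⊓ Nm M = ⊥ := by
    rw [eq_bot_iff]
    intro t ht
    rw [Subgroup.mem_bot]
    obtain ⟨htQ, htN⟩ := Subgroup.mem_inf.mp ht
    -- an element `x ≠ 1` of `M`
    obtain ⟨x, hxM, hx1⟩ := (Subgroup.ne_bot_iff_exists_ne_one.mp h.ne) |> fun ⟨x, hx⟩ =>
      (⟨(x : G), x.2, fun h0 => hx (Subtype.ext h0)⟩ : ∃ x : G, x ∈ M ∧ x ≠ 1)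
    -- `[x, t] ∈ Q ⊓ M`
    have hc1 : x * t * x⁻¹ * t⁻¹ ∈ Q := mul_mem (hQn.conj_mem t htQ x) (inv_mem htQ)
    have hc2 : x * t * x⁻¹ * t⁻¹ ∈ M := by
      have h1 : t * x⁻¹ * t⁻¹ ∈ M := (Subgroup.mem_normalizer_iff.mp htN x⁻¹).mp (inv_mem hxM)
      have h2 : x * t * x⁻¹ * t⁻¹ = x * (t * x⁻¹ * t⁻¹) := by group
      rw [h2]; exact mul_mem hxM h1
    have hcomm : x * t * x⁻¹ * t⁻¹ = 1 := hQM _ hc1 hc2
    -- `t ∈ C_G(x)`, a group of odd order
    have htC : t ∈ Subgroup.centralizer ({x} : Set G) := by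
      rw [Subgroup.mem_centralizer_iff]
      intro y hy
      rw [Set.mem_singleton_iff] at hy
      subst hy
      have : y * t = t * y := by
        have h3 : y * t = (y * t * y⁻¹ * t⁻¹) * (t * y) := by group
        rw [h3, hcomm, one_mul]
      exact this
    have hoddC := h.odd x hxM hx1
    obtain ⟨k, hk⟩ := (IsPGroup.iff_orderOf.mp hQ2) ⟨t, htQ⟩
    rw [Subgroup.orderOf_mk] at hk
    have hdvd : orderOf t ∣ Nat.card (Subgroup.centralizer ({x} : Set G)) := by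
      have := orderOf_dvd_natCard (⟨t, htC⟩ : Subgroup.centralizer ({x} : Set G))
      rwa [Subgroup.orderOf_mk] at this
    have hodd : Odd (orderOf t) := hoddC.of_dvd_nat hdvd
    rw [hk] at hodd
    have hk0 : k = 0 := by
      by_contra hk0
      exact (Nat.not_even_iff_odd.mpr hodd) (Nat.even_pow.mpr ⟨even_two, hk0⟩)
    rw [hk0, pow_zero] at hk
    exact orderOf_eq_one_iff.mp hk
  -- `|Q| |N| ≤ |G|`
  have hdisj : Disjoint Q (Nm M) := disjoint_iff.mpr hQN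
  have hinj := Subgroup.mul_injective_of_disjoint hdisj
  have hle : Nat.card Q * Nat.card (Nm M) ≤ Nat.card G := by
    rw [← Nat.card_prod]
    exact Nat.card_le_card_of_injective _ hinj
  have hQle : Nat.card Q ≤ 2 ^ e * 2 ^ e := by
    rw [← hG, hcardN, hn] at hle
    have h2 : Nat.card Q * ((2 ^ e + 1) * 2) ≤ (2 ^ e * 2 ^ e) * ((2 ^ e + 1) * 2) := by
      calc Nat.card Q * ((2 ^ e + 1) * 2) ≤ (2 ^ e + 1) * 2 * (2 ^ e * 2 ^ e) := hle
        _ = (2 ^ e * 2 ^ e) * ((2 ^ e + 1) * 2) := by ring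
    exact Nat.le_of_mul_le_mul_right h2 (by positivity)
  -- `Y ∪ {1} ⊆ Q`
  set Y : Set G := {t : G | orderOf t = 2 ∧ ∀ g : G, t ≠ g * z * g⁻¹} with hYdef
  have h1Y : (1 : G) ∉ Y := by
    rintro ⟨h1, _⟩
    rw [orderOf_one] at h1
    omega
  have hins : (insert (1 : G) Y).ncard = 2 ^ e * 2 ^ e := by
    rw [Set.ncard_insert_of_notMem h1Y (Set.toFinite _), hY1]
  have hsubQ : insert (1 : G) Y ⊆ (Q : Set G) := by
    intro t ht
    rcases Set.mem_insert_iff.mp ht with rfl | ht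
    · exact Q.one_mem
    · exact hQy t ht.1 ht.2
  have hQge : 2 ^ e * 2 ^ e ≤ Nat.card Q := by
    rw [← hins, card_eq_ncard Q]
    exact Set.ncard_le_ncard hsubQ (Set.toFinite _)
  have hQcard : Nat.card Q = 2 ^ e * 2 ^ e := le_antisymm hQle hQge
  have hQeq : insert (1 : G) Y = (Q : Set G) := by
    apply Set.eq_of_subset_of_ncard_le hsubQ _ (Set.toFinite _)
    rw [hins, ← card_eq_ncard Q]
    exact le_of_eq hQcard
  have hexp : ∀ a ∈ Q, a ^ 2 = 1 := by
    intro a ha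
    have : a ∈ insert (1 : G) Y := by rw [hQeq]; exact ha
    rcases Set.mem_insert_iff.mp this with rfl | ha'
    · exact one_pow 2
    · rw [← ha'.1]; exact pow_orderOf_eq_one a
  refine ⟨by rw [hff]; exact hQcard, hQN, ?_, hexp, ?_⟩
  · -- `Q ⊔ N = ⊤`
    apply Subgroup.eq_top_of_le_card
    have himg : Set.range (fun g : Q × Nm M => ((g.1 : G) * (g.2 : G))) ⊆ ((Q ⊔ Nm M : Subgroup G) : Set G) := by
      rintro _ ⟨⟨q, n⟩, rfl⟩
      exact mul_mem (Subgroup.mem_sup_left q.2) (Subgroup.mem_sup_right n.2)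
    have h3 : Nat.card (Q × Nm M) ≤ Nat.card (Q ⊔ Nm M : Subgroup G) := by
      have h4 : Nat.card (Q × Nm M) = (Set.range (fun g : Q × Nm M => ((g.1 : G) * (g.2 : G)))).ncard := by
        rw [← Set.image_univ, Set.ncard_image_of_injective _ hinj, Set.ncard_univ]
      rw [h4, card_eq_ncard (Q ⊔ Nm M)]
      exact Set.ncard_le_ncard himg (Set.toFinite _)
    rw [Nat.card_prod, hQcard, hcardN] at h3
    rw [← hG, hn]
    calc (2 ^ e + 1) * 2 * (2 ^ e * 2 ^ e) = 2 ^ e * 2 ^ e * ((2 ^ e + 1) * 2) := by ring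
      _ ≤ _ := h3
  · -- exponent two implies commutative
    refine ⟨⟨fun a b => ?_⟩⟩
    apply Subtype.ext
    show (a : G) * (b : G) = (b : G) * (a : G)
    have ha := hexp a a.2
    have hb := hexp b b.2
    have hab := hexp ((a : G) * (b : G)) (mul_mem a.2 b.2)
    rw [pow_two] at ha hb hab
    have hai : (a : G)⁻¹ = a := inv_eq_of_mul_eq_one_left ha
    have hbi : (b : G)⁻¹ = b := inv_eq_of_mul_eq_one_left hb
    have habi : ((a : G) * b)⁻¹ = a * b := inv_eq_of_mul_eq_one_left hab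
    rw [← habi, mul_inv_rev, hai, hbi]

end Cfsg.Agent.Lib.Helper20.TIInvB2c
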