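/-
helper20 (S2441, project TB, sheet notes/helper82_S2441_sheet.md): module TB-[CORE-B] in `_of` form.
`radical_le_of_green_of hD hcoreN …` where `hcoreN` is the verbatim statement of CORE-[N]
`radical_le_of_monomial` (after applying `hD`).
-/
import Cfsg.Agent.Lib.Helper18.Bruhat1
import Cfsg.Agent.Lib.Helper61.ChevJ.Data
import Cfsg.Agent.Lib.Helper61.ChevJ.Norm
import Cfsg.Agent.S1043

set_option autoImplicit false
universe u
open Cfsg Cfsg.Lie Cfsg.Agent.Lib.Helper18 Cfsg.Agent.Lib.Helper61.ChevJ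
open scoped MatrixGroups

namespace Cfsg.Agent.Lib.Helper20.TwoBlocks

section general

variable {G : Type*} [Group G]

theorem map_conj_map_conj (E : Subgroup G) (a b : G) :
    (E.map (MulAut.conj a).toMonoidHom).map (MulAut.conj b).toMonoidHom =
      E.map (MulAut.conj (b * a)).toMonoidHom := by
  ext g
  simp only [Subgroup.mem_map_equiv, MulAut.conj_symm_apply]
  constructor <;> intro h <;> convert h using 1 <;> group

theorem map_conj_le_iff_of_mem_normalizer (E K : Subgroup G) (c : G)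
    (hc : c ∈ Subgroup.normalizer (K : Set G)) :
    E.map (MulAut.conj c).toMonoidHom ≤ K ↔ E ≤ K := by
  rw [Subgroup.mem_normalizer_iff] at hc
  constructor
  · intro h g hg
    rw [hc g]
    apply h
    exact ⟨g, hg, by simp⟩
  · rintro h _ ⟨g, hg, rfl⟩
    have := (hc g).mp (h hg)
    simpa using this

end general

variable {F : Type u} [Field F] {D : ChevalleyDatum}

/-- CORE-[B] from CORE-[N]: reduction of the general case `E = U ∩ x U x⁻¹`, `x ∈ G`, to the monomial case by the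
Bruhat decomposition `x = b n u`: `b⁻¹ E b = U ∩ n U n⁻¹`. -/
theorem radical_le_of_green_of (hD : D ∈ [chevG2, chevB2, chevD4, chevF4, chevE6, chevE7, chevE8])
    (hcoreN : ∀ (E : Subgroup (GL D.Idx F)) (m : GL D.Idx F), m ∈ D.monomialSubgroup F →
      E = D.posUnipotent F ⊓ (D.posUnipotent F).comap (MulAut.conj m).toMonoidHom →
      E ≠ ⊥ → ∀ (J : Set ℕ), (∀ i, i ∈ J ↔ i < D.rank ∧ E ≤ D.unipotentRadical F {i}) →
      (∀ y ∈ D.group F, E.map (MulAut.conj y⁻¹).toMonoidHom ≤ D.posUnipotent F →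
        (∀ j ∈ J, E.map (MulAut.conj y⁻¹).toMonoidHom ≤ D.unipotentRadical F {j}) →
        ∀ i < D.rank, E.map (MulAut.conj y⁻¹).toMonoidHom ≤ D.unipotentRadical F {i} → i ∈ J) →
      (∃ i < D.rank, i ∉ J) ∧ D.unipotentRadical F J ≤ E)
    (E : Subgroup (GL D.Idx F)) (x : GL D.Idx F) (hx : x ∈ D.group F)
    (hE : E = D.posUnipotent F ⊓ (D.posUnipotent F).map (MulAut.conj x).toMonoidHom)
    (hne : E ≠ ⊥) (J : Set ℕ) (hJ : ∀ i, i ∈ J ↔ i < D.rank ∧ E ≤ D.unipotentRadical F {i})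
    (hmax : ∀ y ∈ D.group F, E.map (MulAut.conj y⁻¹).toMonoidHom ≤ D.posUnipotent F →
      (∀ j ∈ J, E.map (MulAut.conj y⁻¹).toMonoidHom ≤ D.unipotentRadical F {j}) →
      ∀ i < D.rank, E.map (MulAut.conj y⁻¹).toMonoidHom ≤ D.unipotentRadical F {i} → i ∈ J) :
    (∃ i < D.rank, i ∉ J) ∧ D.unipotentRadical F J ≤ E := by
  obtain ⟨C⟩ := nonempty_chevData.{u} D hD
  obtain ⟨L⟩ := nonempty_levelData D hD
  obtain ⟨X⟩ := nonempty_jData.{u} D hD
  obtain ⟨hBG, -, -⟩ := Cfsg.Agent.S1043.result (F := F) D hD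
  obtain ⟨b, hb, n, hn, u, hu, hxe⟩ := exists_bruhat_form hD C L x hx
  have huU : u ∈ D.posUnipotent F := closure_UnegSet_le D n hu
  have hBU : D.borelSubgroup F ≤ Subgroup.normalizer (D.posUnipotent F : Set (GL D.Idx F)) :=
    sup_le Subgroup.le_normalizer (Cfsg.Agent.S1036.result D hD).1
  have hBJ : ∀ K : Set ℕ,
      D.borelSubgroup F ≤ Subgroup.normalizer (D.unipotentRadical F K : Set (GL D.Idx F)) :=
    fun K => le_trans le_sup_left (parabolic_le_normalizer hD X K)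
  have hbU := hBU hb
  have hbU' := hBU (inv_mem hb)
  -- the conjugate
  have hE₀ : E.map (MulAut.conj b⁻¹).toMonoidHom =
      D.posUnipotent F ⊓ (D.posUnipotent F).comap (MulAut.conj n⁻¹).toMonoidHom := by
    ext g
    rw [Subgroup.mem_map_equiv, MulAut.conj_symm_apply, inv_inv, hE, Subgroup.mem_inf, Subgroup.mem_inf,
      Subgroup.mem_map_equiv, MulAut.conj_symm_apply, Subgroup.mem_comap]
    rw [Subgroup.mem_normalizer_iff] at hbU
    rw [← hbU g]
    have e : x⁻¹ * (b * g * b⁻¹) * x = u⁻¹ * (n⁻¹ * g * n⁻¹⁻¹) * u := by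
      rw [hxe]; group
    rw [e]
    have h2 : u⁻¹ * (n⁻¹ * g * n⁻¹⁻¹) * u ∈ D.posUnipotent F ↔ n⁻¹ * g * n⁻¹⁻¹ ∈ D.posUnipotent F := by
      constructor
      · intro h
        have := mul_mem (mul_mem huU h) (inv_mem huU)
        convert this using 1
        group
      · intro h
        exact mul_mem (mul_mem (inv_mem huU) h) huU
    rw [h2]
    rfl
  have hne₀ : E.map (MulAut.conj b⁻¹).toMonoidHom ≠ ⊥ := by
    intro h
    apply hne
    rwa [Subgroup.map_eq_bot_iff_of_injective _ (MulAut.conj b⁻¹).injective] at h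
  have hJ₀ : ∀ i, i ∈ J ↔ i < D.rank ∧ E.map (MulAut.conj b⁻¹).toMonoidHom ≤ D.unipotentRadical F {i} := by
    intro i
    rw [hJ i, map_conj_le_iff_of_mem_normalizer _ _ _ (hBJ {i} (inv_mem hb))]
  have key : ∀ y : GL D.Idx F, (E.map (MulAut.conj b⁻¹).toMonoidHom).map (MulAut.conj y⁻¹).toMonoidHom =
      E.map (MulAut.conj (b * y)⁻¹).toMonoidHom := by
    intro y
    rw [map_conj_map_conj, mul_inv_rev]
  have hmax₀ : ∀ y ∈ D.group F,
      (E.map (MulAut.conj b⁻¹).toMonoidHom).map (MulAut.conj y⁻¹).toMonoidHom ≤ D.posUnipotent F →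
      (∀ j ∈ J, (E.map (MulAut.conj b⁻¹).toMonoidHom).map (MulAut.conj y⁻¹).toMonoidHom ≤
        D.unipotentRadical F {j}) →
      ∀ i < D.rank, (E.map (MulAut.conj b⁻¹).toMonoidHom).map (MulAut.conj y⁻¹).toMonoidHom ≤
        D.unipotentRadical F {i} → i ∈ J := by
    intro y hy
    rw [key y]
    exact hmax (b * y) (mul_mem (hBG hb) hy)
  obtain ⟨h1, h2⟩ := hcoreN _ n⁻¹ (inv_mem hn) hE₀ hne₀ J hJ₀ hmax₀
  refine ⟨h1, ?_⟩
  -- `U_J ≤ b⁻¹ E b`, and `b` normalizes `U_J`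
  have h3 := (map_conj_le_iff_of_mem_normalizer (D.unipotentRadical F J) (D.unipotentRadical F J) b
    (hBJ J hb)).mpr le_rfl
  have h4 : (D.unipotentRadical F J).map (MulAut.conj b).toMonoidHom = D.unipotentRadical F J := by
    apply le_antisymm h3
    intro g hg
    have hb' := hBJ J hb
    rw [Subgroup.mem_normalizer_iff] at hb'
    have hb'' := hBJ J (inv_mem hb)
    rw [Subgroup.mem_normalizer_iff] at hb''
    refine ⟨b⁻¹ * g * b⁻¹⁻¹, (hb'' g).mp hg, ?_⟩
    simp only [MulEquiv.coe_toMonoidHom, MulAut.conj_apply]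
    group
  rw [← h4]
  intro g hg
  obtain ⟨g', hg', rfl⟩ := hg
  have h5 := h2 hg'
  rw [Subgroup.mem_map_equiv, MulAut.conj_symm_apply, inv_inv] at h5
  simpa using h5

end Cfsg.Agent.Lib.Helper20.TwoBlocks
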