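/-
helper20 (S2441, project TB, sheet notes/helper82_S2441_sheet.md): module TB-[CORE-N] in `_of` form.
`radical_le_of_monomial_of hD hwalk hupsi hneg …` where the three hypotheses are the verbatim statements of
WALK `mem_parabolic_of_walk`, UPSI `mem_closure_of_conj_mem` and LIN-[NEG] `wordRootF_neg_of_simple_neg`
(after applying `hD`).
-/
import Cfsg.Agent.Lib.Helper82.TwoBlocks.Defs
import Cfsg.Agent.Lib.Helper61.ChevJ.Grade
import Cfsg.Agent.Lib.Helper61.ChevJ.Norm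
import Cfsg.Agent.Lib.Helper20.TwoBlocksCoreB
import Cfsg.Agent.S1049
import Cfsg.Agent.S1024

set_option autoImplicit false
universe u
open Cfsg Cfsg.Lie Cfsg.Agent.Lib.Helper18 Cfsg.Agent.Lib.Helper61.ChevJ Cfsg.Agent.Lib.Helper82.TwoBlocks
open scoped MatrixGroups

namespace Cfsg.Agent.Lib.Helper20.TwoBlocks

variable {F : Type u} [Field F] {D : ChevalleyDatum}

/-- CORE-[N] from WALK, UPSI and LIN-[NEG]: the case `E = U ∩ m⁻¹ U m` with `m ∈ N`. -/
theorem radical_le_of_monomial_of (hD : D ∈ [chevG2, chevB2, chevD4, chevF4, chevE6, chevE7, chevE8])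
    (hwalk : ∀ (J : Set ℕ) (E : Subgroup (GL D.Idx F)), E ≤ D.unipotentRadical F J →
      (∀ y ∈ D.parabolicSubgroup F J, ∀ i < D.rank,
        E.map (MulAut.conj y⁻¹).toMonoidHom ≤ D.unipotentRadical F {i} → i ∈ J) →
      ∀ m : GL D.Idx F, m ∈ D.monomialSubgroup F →
      (∀ g ∈ E, m * g * m⁻¹ ∈ D.posUnipotent F) → m ∈ D.parabolicSubgroup F J)
    (hupsi : ∀ (C : ChevData.{u} D) (ws : List ℕ), (∀ i ∈ ws, i < D.rank) → ∀ h : GL D.Idx F,
      h ∈ D.diagonalSubgroup F → ∀ g : GL D.Idx F, g ∈ D.posUnipotent F →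
      nW hD C ws * h * g * (nW hD C ws * h)⁻¹ ∈ D.posUnipotent F →
      g ∈ Subgroup.closure {x : GL D.Idx F | ∃ (s : ℕ) (t : F),
        (D.IsPosRoot s ∧ D.nroots / 2 ≤ wordRootF C.tabs ws s) ∧ (x : Matrix D.Idx D.Idx F) = D.x F s t})
    (hneg : ∀ (Z : LData.{u} D) (ws : List ℕ), (∀ i ∈ ws, i < D.rank) → ∀ J : Set ℕ,
      (∀ j < D.rank, j ∈ J → wordRootF Z.Y.X.C.tabs ws (D.simple j) < D.nroots / 2) →
      ∀ r : ℕ, D.IsPosRoot r → D.InRootSub J r → wordRootF Z.Y.X.C.tabs ws r < D.nroots / 2)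
    (E : Subgroup (GL D.Idx F)) (m : GL D.Idx F) (hm : m ∈ D.monomialSubgroup F)
    (hE : E = D.posUnipotent F ⊓ (D.posUnipotent F).comap (MulAut.conj m).toMonoidHom)
    (hne : E ≠ ⊥) (J : Set ℕ) (hJ : ∀ i, i ∈ J ↔ i < D.rank ∧ E ≤ D.unipotentRadical F {i})
    (hmax : ∀ y ∈ D.group F, E.map (MulAut.conj y⁻¹).toMonoidHom ≤ D.posUnipotent F →
      (∀ j ∈ J, E.map (MulAut.conj y⁻¹).toMonoidHom ≤ D.unipotentRadical F {j}) →
      ∀ i < D.rank, E.map (MulAut.conj y⁻¹).toMonoidHom ≤ D.unipotentRadical F {i} → i ∈ J) :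
    (∃ i < D.rank, i ∉ J) ∧ D.unipotentRadical F J ≤ E := by
  obtain ⟨Z⟩ := nonempty_lData.{u} D hD
  obtain ⟨ws, h, hws, hh, hm_eq⟩ := isWordH_of_mem_monomial hD Z.Y.X.C m hm
  have hmemE : ∀ g, g ∈ E ↔ g ∈ D.posUnipotent F ∧ m * g * m⁻¹ ∈ D.posUnipotent F := by
    intro g
    rw [hE, Subgroup.mem_inf, Subgroup.mem_comap]
    rfl
  -- (a) UPSI
  have ha : ∀ g ∈ E, g ∈ Subgroup.closure {x : GL D.Idx F | ∃ (s : ℕ) (t : F),
      (D.IsPosRoot s ∧ D.nroots / 2 ≤ wordRootF Z.Y.X.C.tabs ws s) ∧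
        (x : Matrix D.Idx D.Idx F) = D.x F s t} := by
    intro g hg
    have hg2 := (hmemE g).mp hg
    refine hupsi Z.Y.X.C ws hws h hh g hg2.1 ?_
    rw [← hm_eq]
    exact hg2.2
  -- (b) the fundamental roots of `J` become negative
  have hb : ∀ j < D.rank, j ∈ J → wordRootF Z.Y.X.C.tabs ws (D.simple j) < D.nroots / 2 := by
    intro j hj hjJ
    by_contra hcon
    rw [not_lt] at hcon
    have hsl : D.simple j < D.nroots := Z.Y.X.C.simple_lt j hj
    have hpos : D.IsPosRoot (D.simple j) :=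
      (isPosRoot_iff hD _).mpr ⟨hsl, Z.Y.X.C.half_le_simple j hj⟩
    have hgU : xG hD (D.simple j) (1 : F) ∈ D.posUnipotent F :=
      Subgroup.subset_closure ⟨D.simple j, 1, hpos, rfl⟩
    obtain ⟨t', ht'⟩ := Cfsg.Agent.S1036.conj_root_elem D hD h hh (xG hD (D.simple j) (1 : F))
      (D.simple j) hsl 1 rfl
    have e1 : h * xG hD (D.simple j) (1 : F) * h⁻¹ = xG hD (D.simple j) t' := Units.ext ht'
    have e2 : m * xG hD (D.simple j) (1 : F) * m⁻¹ =
        xG hD (wordRootF Z.Y.X.C.tabs ws (D.simple j))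
          ((wordSignF Z.Y.X.C.tabs ws (D.simple j) : F) * t') := by
      rw [← nW_conj_xG hD Z.Y.X.C ws hws (D.simple j) hsl t', ← e1, hm_eq]
      group
    have hpos2 : D.IsPosRoot (wordRootF Z.Y.X.C.tabs ws (D.simple j)) :=
      (isPosRoot_iff hD _).mpr ⟨wordRootF_lt Z.Y.X.C ws hws _ hsl, hcon⟩
    have hgE : xG hD (D.simple j) (1 : F) ∈ E := by
      rw [hmemE]
      refine ⟨hgU, ?_⟩
      rw [e2]
      exact Subgroup.subset_closure ⟨_, _, hpos2, rfl⟩
    have hgUJ : xG hD (D.simple j) (1 : F) ∈ D.unipotentRadical F {j} := ((hJ j).mp hjJ).2 hgE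
    have hgL : xG hD (D.simple j) (1 : F) ∈ D.leviSubgroup F {j} := by
      unfold ChevalleyDatum.leviSubgroup
      apply Subgroup.mem_sup_right
      exact Subgroup.subset_closure ⟨D.simple j, 1, Z.Y.X.inRootSub_simple {j} j hj rfl, rfl⟩
    have hbot : xG hD (D.simple j) (1 : F) ∈ (⊥ : Subgroup (GL D.Idx F)) := by
      rw [← Z.Y.X.unipotentRadical_inf_levi hD {j}]
      exact ⟨hgUJ, hgL⟩
    rw [Subgroup.mem_bot] at hbot
    have h1 : D.x F (D.simple j) (1 : F) = 1 := by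
      have := congrArg (fun g : GL D.Idx F => (g : Matrix D.Idx D.Idx F)) hbot
      simpa using this
    have := (Cfsg.Agent.S1024.result D hD (D.simple j) hsl (1 : F)).mp h1
    exact one_ne_zero this
  -- (c) `E ≤ U_J`
  have hEJ : E ≤ D.unipotentRadical F J := by
    intro g hg
    have h1 := ha g hg
    refine Subgroup.closure_mono ?_ h1
    rintro x ⟨s, t, ⟨hs, hs2⟩, hx⟩
    refine ⟨s, t, hs, ?_, hx⟩
    intro hsJ
    have := hneg Z ws hws J hb s hs hsJ
    omega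
  have hprop : ∃ i < D.rank, i ∉ J := by
    by_contra hcon
    push Not at hcon
    apply hne
    rw [eq_bot_iff]
    refine le_trans hEJ ?_
    unfold ChevalleyDatum.unipotentRadical
    rw [Subgroup.closure_le]
    rintro x ⟨r, t, hr, hnr, -⟩
    exfalso
    apply hnr
    exact ⟨hr.1, fun i hi hiJ => absurd (hcon i hi) hiJ⟩
  refine ⟨hprop, ?_⟩
  -- (d) the maximality hypothesis of WALK
  have hPN := parabolic_le_normalizer (F := F) hD Z.Y.X J
  have hUJj : ∀ j ∈ J, D.unipotentRadical F J ≤ D.unipotentRadical F {j} := by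
    intro j hjJ
    unfold ChevalleyDatum.unipotentRadical
    apply Subgroup.closure_mono
    rintro x ⟨r, t, hr, hnr, hx⟩
    refine ⟨r, t, hr, ?_, hx⟩
    intro hrj
    apply hnr
    refine ⟨hrj.1, fun i hi hiJ => hrj.2 i hi ?_⟩
    intro hij
    rw [Set.mem_singleton_iff] at hij
    exact hiJ (hij ▸ hjJ)
  have hmaxW : ∀ y ∈ D.parabolicSubgroup F J, ∀ i < D.rank,
      E.map (MulAut.conj y⁻¹).toMonoidHom ≤ D.unipotentRadical F {i} → i ∈ J := by
    intro y hy i hi hiE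
    have hyG : y ∈ D.group F := Cfsg.Agent.S1049.parabolic_le_group hD Z.Y.X.C J hy
    have h1 : E.map (MulAut.conj y⁻¹).toMonoidHom ≤ D.unipotentRadical F J :=
      le_trans (Subgroup.map_mono hEJ)
        ((map_conj_le_iff_of_mem_normalizer _ _ y⁻¹ (hPN (inv_mem hy))).mpr le_rfl)
    exact hmax y hyG (le_trans h1 (unipotentRadical_le_posUnipotent J))
      (fun j hj => le_trans h1 (hUJj j hj)) i hi hiE
  -- (e) WALK
  have hmP : m ∈ D.parabolicSubgroup F J :=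
    hwalk J E hEJ hmaxW m hm (fun g hg => ((hmemE g).mp hg).2)
  -- (f)
  intro g hg
  rw [hmemE]
  refine ⟨unipotentRadical_le_posUnipotent J hg, unipotentRadical_le_posUnipotent J ?_⟩
  have := hPN hmP
  rw [Subgroup.mem_normalizer_iff] at this
  exact (this g).mp hg

end Cfsg.Agent.Lib.Helper20.TwoBlocks
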