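/-
helper20 (S2441, project TB, sheet notes/helper82_S2441_sheet.md): module TB-[MAX] in `_of` form.
`exists_radical_le_of hcore …` where `hcore` is the verbatim statement of CORE-[B] `radical_le_of_green`
(after applying `hD`).  Mathlib + Prelude only.
-/
import Mathlib
import Cfsg.Prelude.Def_ChevStructure

set_option autoImplicit false
universe u
open Cfsg Cfsg.Lie
open scoped MatrixGroups

namespace Cfsg.Agent.Lib.Helper20.TwoBlocks

variable {F : Type u} [Field F] {D : ChevalleyDatum}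

/-- MAX (Theorem A') from CORE-[B]: choose `E ∈ 𝒞`, `E ≤ U`, with the largest number of `i < rank` such that
`E ≤ U_{i}`. -/
theorem exists_radical_le_of
    (hcore : ∀ (E : Subgroup (GL D.Idx F)) (x : GL D.Idx F), x ∈ D.group F →
      E = D.posUnipotent F ⊓ (D.posUnipotent F).map (MulAut.conj x).toMonoidHom →
      E ≠ ⊥ → ∀ (J : Set ℕ), (∀ i, i ∈ J ↔ i < D.rank ∧ E ≤ D.unipotentRadical F {i}) →
      (∀ y ∈ D.group F, E.map (MulAut.conj y⁻¹).toMonoidHom ≤ D.posUnipotent F →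
        (∀ j ∈ J, E.map (MulAut.conj y⁻¹).toMonoidHom ≤ D.unipotentRadical F {j}) →
        ∀ i < D.rank, E.map (MulAut.conj y⁻¹).toMonoidHom ≤ D.unipotentRadical F {i} → i ∈ J) →
      (∃ i < D.rank, i ∉ J) ∧ D.unipotentRadical F J ≤ E)
    (𝒞 : Set (Subgroup (GL D.Idx F)))
    (hconj : ∀ E ∈ 𝒞, ∀ g ∈ D.group F, E.map (MulAut.conj g).toMonoidHom ∈ 𝒞)
    (hgreen : ∀ E ∈ 𝒞, E ≤ D.posUnipotent F → ∃ x ∈ D.group F,
      E = D.posUnipotent F ⊓ (D.posUnipotent F).map (MulAut.conj x).toMonoidHom)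
    (hnt : ∀ E ∈ 𝒞, E ≠ ⊥) (hex : ∃ E ∈ 𝒞, E ≤ D.posUnipotent F) :
    ∃ E ∈ 𝒞, ∃ J : Set ℕ, (∃ i < D.rank, i ∉ J) ∧ D.unipotentRadical F J ≤ E := by
  classical
  -- the counting function
  let f : Subgroup (GL D.Idx F) → ℕ := fun E =>
    ((Finset.range D.rank).filter fun i => E ≤ D.unipotentRadical F {i}).card
  have hf : ∀ E, f E ≤ D.rank := fun E => by
    have := Finset.card_filter_le (Finset.range D.rank) (fun i => E ≤ D.unipotentRadical F {i})
    simpa [f] using this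
  let S : Set (Subgroup (GL D.Idx F)) := {E | E ∈ 𝒞 ∧ E ≤ D.posUnipotent F}
  have hS : S.Nonempty := by
    obtain ⟨E, hE, hEU⟩ := hex
    exact ⟨E, hE, hEU⟩
  obtain ⟨E, hES, hmin⟩ :=
    (InvImage.wf (fun E => D.rank - f E) Nat.lt_wfRel.wf).has_min S hS
  obtain ⟨hE𝒞, hEU⟩ := hES
  have hmaxE : ∀ E' ∈ S, f E' ≤ f E := by
    intro E' hE'
    have h1 := hmin E' hE'
    have h2 := hf E'
    have h3 := hf E
    simp only [InvImage, WellFoundedRelation.rel] at h1
    omega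
  obtain ⟨x, hx, hEx⟩ := hgreen E hE𝒞 hEU
  refine ⟨E, hE𝒞, {i | i < D.rank ∧ E ≤ D.unipotentRadical F {i}}, ?_⟩
  refine hcore E x hx hEx (hnt E hE𝒞) _ (fun i => Iff.rfl) ?_
  intro y hy hyU hyJ i hi hiE
  set E' := E.map (MulAut.conj y⁻¹).toMonoidHom with hE'def
  have hE'S : E' ∈ S := ⟨hconj E hE𝒞 y⁻¹ (inv_mem hy), hyU⟩
  have hsub : ((Finset.range D.rank).filter fun i => E ≤ D.unipotentRadical F {i}) ⊆
      ((Finset.range D.rank).filter fun i => E' ≤ D.unipotentRadical F {i}) := by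
    intro j hj
    rw [Finset.mem_filter, Finset.mem_range] at hj ⊢
    exact ⟨hj.1, hyJ j ⟨hj.1, hj.2⟩⟩
  have hcard : ((Finset.range D.rank).filter fun i => E' ≤ D.unipotentRadical F {i}).card ≤
      ((Finset.range D.rank).filter fun i => E ≤ D.unipotentRadical F {i}).card := hmaxE E' hE'S
  have heq := Finset.eq_of_subset_of_card_le hsub hcard
  have hi' : i ∈ ((Finset.range D.rank).filter fun i => E' ≤ D.unipotentRadical F {i}) := by
    rw [Finset.mem_filter, Finset.mem_range]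
    exact ⟨hi, hiE⟩
  rw [← heq, Finset.mem_filter, Finset.mem_range] at hi'
  exact hi'

end Cfsg.Agent.Lib.Helper20.TwoBlocks
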