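/-
helper20 (S2441, project TB, sheet notes/helper82_S2441_sheet.md): module TB-[UPSI], exact sheet statement
`mem_closure_of_conj_mem`: `U ∩ m⁻¹ U m` (`m = nW ws * h ∈ N`) lies in the subgroup generated by the root subgroups
`X_r`, `r > 0`, `ρ_ws r > 0`.
-/
import Cfsg.Agent.Lib.Helper18.Bruhat1

set_option autoImplicit false
universe u
open Cfsg Cfsg.Lie Cfsg.Agent.Lib.Helper18
open scoped MatrixGroups

namespace Cfsg.Agent.Lib.Helper20.TwoBlocks

variable {F : Type u} [Field F] {D : ChevalleyDatum}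

/-- Conjugating an ordered product whose factors are all conjugated into `K`. -/
theorem conj_prodL_mem_h20 (hD : D ∈ [chevG2, chevB2, chevD4, chevF4, chevE6, chevE7, chevE8])
    (K : Subgroup (GL D.Idx F)) (m : GL D.Idx F) (l : List ℕ)
    (hl : ∀ r ∈ l, ∀ c : F, m * xG hD r c * m⁻¹ ∈ K) (t : ℕ → F) :
    m * prodL hD l t * m⁻¹ ∈ K := by
  induction l with
  | nil => simp [prodL_nil, one_mem]
  | cons a l ih =>
    rw [prodL_cons]
    have e : m * (xG hD a (t a) * prodL hD l t) * m⁻¹ =
        (m * xG hD a (t a) * m⁻¹) * (m * prodL hD l t * m⁻¹) := by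
      group
    rw [e]
    exact mul_mem (hl a List.mem_cons_self (t a)) (ih fun r hr => hl r (List.mem_cons_of_mem _ hr))

/-- UPSI. -/
theorem mem_closure_of_conj_mem (hD : D ∈ [chevG2, chevB2, chevD4, chevF4, chevE6, chevE7, chevE8])
    (C : ChevData.{u} D) (ws : List ℕ) (hws : ∀ i ∈ ws, i < D.rank) (h : GL D.Idx F)
    (hh : h ∈ D.diagonalSubgroup F) (g : GL D.Idx F) (hg : g ∈ D.posUnipotent F)
    (hg' : nW hD C ws * h * g * (nW hD C ws * h)⁻¹ ∈ D.posUnipotent F) :
    g ∈ Subgroup.closure {x : GL D.Idx F | ∃ (s : ℕ) (t : F),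
      (D.IsPosRoot s ∧ D.nroots / 2 ≤ wordRootF C.tabs ws s) ∧ (x : Matrix D.Idx D.Idx F) = D.x F s t} := by
  classical
  obtain ⟨L⟩ := nonempty_levelData D hD
  -- conjugation of root elements by `m = nW ws * h`
  have hconj : ∀ r < D.nroots, ∀ c : F, ∃ c' : F,
      nW hD C ws * h * xG hD r c * (nW hD C ws * h)⁻¹ = xG hD (wordRootF C.tabs ws r) c' := by
    intro r hr c
    obtain ⟨t', ht'⟩ := Cfsg.Agent.S1036.conj_root_elem D hD h hh (xG hD r c) r hr c rfl
    have e1 : h * xG hD r c * h⁻¹ = xG hD r t' := Units.ext ht'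
    refine ⟨(wordSignF C.tabs ws r : F) * t', ?_⟩
    have e2 : nW hD C ws * h * xG hD r c * (nW hD C ws * h)⁻¹
        = nW hD C ws * (h * xG hD r c * h⁻¹) * (nW hD C ws)⁻¹ := by group
    rw [e2, e1, nW_conj_xG hD C ws hws r hr]
  let p : ℕ → Bool := fun r => decide (D.nroots / 2 ≤ wordRootF C.tabs ws r)
  have hmem : ∀ r, r ∈ D.posRoots ↔ D.IsPosRoot r := by
    intro r
    unfold ChevalleyDatum.posRoots
    rw [List.mem_filter, List.mem_range, decide_eq_true_eq]
    exact ⟨fun h => h.2, fun h => ⟨h.1, h⟩⟩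
  have hnd : D.posRoots.Nodup := by
    unfold ChevalleyDatum.posRoots
    exact List.Nodup.filter _ List.nodup_range
  have hperm : List.Perm (D.posRoots.filter p ++ D.posRoots.filter fun r => !p r) D.posRoots :=
    List.filter_append_perm p D.posRoots
  have hl : ∀ r ∈ D.posRoots.filter p ++ D.posRoots.filter (fun r => !p r), D.IsPosRoot r :=
    fun r hr => (hmem r).mp (hperm.mem_iff.mp hr)
  obtain ⟨t, ht⟩ := exists_prodL hD C L _ hl (hperm.nodup_iff.mpr hnd)
    (fun r hr => hperm.mem_iff.mpr ((hmem r).mpr hr)) g hg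
  rw [prodL_append] at ht
  -- the first factor is conjugated into `U`
  have h1 : nW hD C ws * h * prodL hD (D.posRoots.filter p) t * (nW hD C ws * h)⁻¹ ∈ D.posUnipotent F := by
    apply conj_prodL_mem_h20 hD
    intro r hr c
    rw [List.mem_filter] at hr
    have hrpos := (hmem r).mp hr.1
    have hr2 : D.nroots / 2 ≤ wordRootF C.tabs ws r := of_decide_eq_true hr.2
    obtain ⟨c', hc'⟩ := hconj r hrpos.1 c
    rw [hc']
    exact xG_mem_posUnipotent hD _ c'
      ((isPosRoot_iff hD _).mpr ⟨wordRootF_lt C ws hws r hrpos.1, hr2⟩)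
  -- the second factor is conjugated into `V`
  have h2 : nW hD C ws * h * prodL hD (D.posRoots.filter fun r => !p r) t * (nW hD C ws * h)⁻¹ ∈
      D.negUnipotent F := by
    apply conj_prodL_mem_h20 hD
    intro r hr c
    rw [List.mem_filter] at hr
    have hrpos := (hmem r).mp hr.1
    have hr2 : ¬ D.nroots / 2 ≤ wordRootF C.tabs ws r := by
      have h := hr.2
      simp only [p, Bool.not_eq_true'] at h
      exact of_decide_eq_false h
    obtain ⟨c', hc'⟩ := hconj r hrpos.1 c
    rw [hc']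
    exact Subgroup.subset_closure ⟨_, c', isNegRoot_of_lt D (signOK_of_mem D hD) _
      (wordRootF_lt C ws hws r hrpos.1) (by omega), rfl⟩
  -- hence the second factor is trivial
  have h3 : nW hD C ws * h * prodL hD (D.posRoots.filter fun r => !p r) t * (nW hD C ws * h)⁻¹ ∈
      D.posUnipotent F := by
    have e : nW hD C ws * h * prodL hD (D.posRoots.filter fun r => !p r) t * (nW hD C ws * h)⁻¹ =
        (nW hD C ws * h * prodL hD (D.posRoots.filter p) t * (nW hD C ws * h)⁻¹)⁻¹ *
          (nW hD C ws * h * g * (nW hD C ws * h)⁻¹) := by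
      rw [ht]; group
    rw [e]
    exact mul_mem (inv_mem h1) hg'
  have h4 : nW hD C ws * h * prodL hD (D.posRoots.filter fun r => !p r) t * (nW hD C ws * h)⁻¹ = 1 := by
    have : nW hD C ws * h * prodL hD (D.posRoots.filter fun r => !p r) t * (nW hD C ws * h)⁻¹ ∈
        D.borelSubgroup F ⊓ D.negUnipotent F := ⟨borel_of_posUnipotent _ h3, h2⟩
    rw [(Cfsg.Agent.S1037.result D hD).1, Subgroup.mem_bot] at this
    exact this
  have h5 : prodL hD (D.posRoots.filter fun r => !p r) t = 1 := by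
    have := congrArg (fun z => (nW hD C ws * h)⁻¹ * z * (nW hD C ws * h)) h4
    simp only [mul_one, inv_mul_cancel] at this
    rw [← this]
    group
  rw [h5, mul_one] at ht
  rw [ht]
  exact prodL_mem_closure hD (fun r => D.IsPosRoot r ∧ D.nroots / 2 ≤ wordRootF C.tabs ws r)
    (D.posRoots.filter p)
    (fun r hr => by
      rw [List.mem_filter] at hr
      exact ⟨(hmem r).mp hr.1, of_decide_eq_true hr.2⟩) t

end Cfsg.Agent.Lib.Helper20.TwoBlocks
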