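import Mathlib
import Cfsg.Prelude.Def_GeometricClasses
import Cfsg.Agent.Lib.Helper99.AschDefs
import Cfsg.Agent.Lib.Helper99.U92.Defs
import Cfsg.Agent.Lib.Helper95.U92F4
import Cfsg.Agent.Lib.Helper95.U92R3Group
import Cfsg.Agent.Lib.Helper95.U92R3U
import Cfsg.Agent.Lib.Helper25.U92PT2
import Cfsg.Agent.Lib.Helper49.U92R3Fourier
import Cfsg.Agent.Lib.Helper21.U92R9Group

/-!
# U92-[R9-SYMP], U92-[SYMPTYPE]: the group `3^{1+4}` of 9 × 9 matrices is of symplectic type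
-/

set_option autoImplicit false

namespace Cfsg.Agent.Lib.Helper20.U92Symp

open Cfsg Cfsg.Geo Cfsg.Agent.Lib.Helper99.Asch Cfsg.Agent.Lib.Helper70.AschU Cfsg.Agent.Lib.Helper99.U92
open Cfsg.Agent.Lib.Helper15.AschSlotNorm Cfsg.Agent.Lib.Helper15.AschUPure
open scoped MatrixGroups Matrix

variable {F : Type*} [Field F] [Fintype F] {σ : F ≃+* F} {ω : F}

/-- An element of `GL` that conjugates a finite subgroup into itself induces an automorphism of it. -/
theorem exists_conj_aut {G : Type*} [Group G] [Finite G] (R : Subgroup G) (g : G)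
    (h : ∀ x ∈ R, g * x * g⁻¹ ∈ R) :
    ∃ φ : R ≃* R, ∀ x : R, ((φ x : R) : G) = g * (x : G) * g⁻¹ := by
  let f : R →* R :=
    { toFun := fun x => ⟨g * (x : G) * g⁻¹, h x x.2⟩
      map_one' := by apply Subtype.ext; simp
      map_mul' := fun x y => by apply Subtype.ext; simp [mul_assoc] }
  have hinj : Function.Injective f := by
    intro x y hxy
    have := congrArg Subtype.val hxy
    simp only [f, MonoidHom.coe_mk, OneHom.coe_mk] at this
    apply Subtype.ext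
    have h2 : g⁻¹ * (g * (x : G) * g⁻¹) * g = g⁻¹ * (g * (y : G) * g⁻¹) * g := by rw [this]
    simpa [mul_assoc] using h2
  have hbij : Function.Bijective f := (Finite.injective_iff_bijective).mp hinj
  exact ⟨MulEquiv.ofBijective f hbij, fun x => rfl⟩

end Cfsg.Agent.Lib.Helper20.U92Symp

namespace Cfsg.Agent.Lib.Helper99.U92

open Cfsg Cfsg.Geo Cfsg.Agent.Lib.Helper99.Asch Cfsg.Agent.Lib.Helper70.AschU Cfsg.Agent.Lib.Helper20.U92Symp
open Cfsg.Agent.Lib.Helper15.AschSlotNorm Cfsg.Agent.Lib.Helper15.AschUPure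
open scoped MatrixGroups Matrix

variable {F : Type*} [Field F] [Fintype F] {σ : F ≃+* F} {ω : F}

/-- U92-[R9-SYMP]. -/
theorem cyclic_of_characteristic_R9 (hσ : UCtx σ 2) (hω : ω ^ 2 + ω + 1 = 0) (R : Subgroup (GL I9 F))
    (hR : ∀ g : GL I9 F, g ∈ R ↔ (g : Matrix I9 I9 F) ∈ R9set ω)
    (A : Subgroup R) (hA : A.Characteristic) (hAc : IsMulCommutative A) : IsCyclic A := by
  classical
  have hW1 := W3_mul_map hσ hω
  have hW2 := map_mul_W3 hσ hω
  -- the two Fourier elements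
  set g₁ : GL I9 F := ⟨PT ![W3 ω, 1], PT ![(W3 ω).map σ, 1],
    by rw [PT_two_mul, hW1, one_mul, PT_two_one], by rw [PT_two_mul, hW2, one_mul, PT_two_one]⟩ with hg₁
  set g₂ : GL I9 F := ⟨PT ![1, W3 ω], PT ![1, (W3 ω).map σ],
    by rw [PT_two_mul, hW1, one_mul, PT_two_one], by rw [PT_two_mul, hW2, one_mul, PT_two_one]⟩ with hg₂
  -- they conjugate `R` into itself
  have hconj₁ : ∀ x ∈ R, g₁ * x * g₁⁻¹ ∈ R := by
    intro x hx
    rw [hR] at hx ⊢
    obtain ⟨m₁, hm₁, m₂, hm₂, hx⟩ := hx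
    refine ⟨W3 ω * m₁ * (W3 ω).map σ, W3_conj_mem hσ hω hm₁, m₂, hm₂, ?_⟩
    rw [Units.val_mul, Units.val_mul, hx]
    show PT ![W3 ω, 1] * PT ![m₁, m₂] * PT ![(W3 ω).map σ, 1] = _
    rw [PT_two_mul, PT_two_mul, one_mul, mul_one]
  have hconj₂ : ∀ x ∈ R, g₂ * x * g₂⁻¹ ∈ R := by
    intro x hx
    rw [hR] at hx ⊢
    obtain ⟨m₁, hm₁, m₂, hm₂, hx⟩ := hx
    refine ⟨m₁, hm₁, W3 ω * m₂ * (W3 ω).map σ, W3_conj_mem hσ hω hm₂, ?_⟩
    rw [Units.val_mul, Units.val_mul, hx]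
    show PT ![1, W3 ω] * PT ![m₁, m₂] * PT ![1, (W3 ω).map σ] = _
    rw [PT_two_mul, PT_two_mul, one_mul, mul_one]
  obtain ⟨φ₁, hφ₁⟩ := exists_conj_aut R g₁ hconj₁
  obtain ⟨φ₂, hφ₂⟩ := exists_conj_aut R g₂ hconj₂
  -- invariance of `A`
  have hinv : ∀ φ : R ≃* R, ∀ x ∈ A, φ x ∈ A := by
    intro φ x hx
    have := hA.fixed φ
    rw [← this] at hx
    exact hx
  -- elements of `R3set` are nonzero
  have hne0 : ∀ m ∈ R3set ω, m * m ≠ 0 := by
    intro m hm h0
    have h3 := pow_three_of_mem_R3set hω hm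
    rw [pow_succ, pow_two, h0, zero_mul] at h3
    have h4 : (0 : Matrix (Fin 3) (Fin 3) F) 0 0 = (1 : Matrix (Fin 3) (Fin 3) F) 0 0 := by rw [h3]
    rw [Matrix.zero_apply, Matrix.one_apply_eq] at h4
    exact zero_ne_one h4
  -- every element of `A` is scalar
  have hscal : ∀ x : R, x ∈ A → ∃ c : F, ((x : GL I9 F) : Matrix I9 I9 F) = c • 1 := by
    intro x hx
    obtain ⟨m₁, hm₁, m₂, hm₂, hxm⟩ := (hR x).mp x.2
    have hc₁ : x * φ₁ x = φ₁ x * x := by
      have := hAc.is_comm.comm ⟨x, hx⟩ ⟨φ₁ x, hinv φ₁ x hx⟩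
      exact congrArg Subtype.val this
    have hc₂ : x * φ₂ x = φ₂ x * x := by
      have := hAc.is_comm.comm ⟨x, hx⟩ ⟨φ₂ x, hinv φ₂ x hx⟩
      exact congrArg Subtype.val this
    have hv₁ : (((φ₁ x : R) : GL I9 F) : Matrix I9 I9 F) = PT ![W3 ω * m₁ * (W3 ω).map σ, m₂] := by
      rw [hφ₁, Units.val_mul, Units.val_mul, hxm]
      show PT ![W3 ω, 1] * PT ![m₁, m₂] * PT ![(W3 ω).map σ, 1] = _
      rw [PT_two_mul, PT_two_mul, one_mul, mul_one]
    have hv₂ : (((φ₂ x : R) : GL I9 F) : Matrix I9 I9 F) = PT ![m₁, W3 ω * m₂ * (W3 ω).map σ] := by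
      rw [hφ₂, Units.val_mul, Units.val_mul, hxm]
      show PT ![1, W3 ω] * PT ![m₁, m₂] * PT ![1, (W3 ω).map σ] = _
      rw [PT_two_mul, PT_two_mul, one_mul, mul_one]
    have e₁ : PT ![m₁ * (W3 ω * m₁ * (W3 ω).map σ), m₂ * m₂] =
        PT ![W3 ω * m₁ * (W3 ω).map σ * m₁, m₂ * m₂] := by
      have := congrArg (fun y : R => ((y : GL I9 F) : Matrix I9 I9 F)) hc₁
      simp only [Subgroup.coe_mul, Units.val_mul] at this
      rw [hv₁, hxm, PT_two_mul, PT_two_mul] at this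
      exact this
    have e₂ : PT ![m₁ * m₁, m₂ * (W3 ω * m₂ * (W3 ω).map σ)] =
        PT ![m₁ * m₁, W3 ω * m₂ * (W3 ω).map σ * m₂] := by
      have := congrArg (fun y : R => ((y : GL I9 F) : Matrix I9 I9 F)) hc₂
      simp only [Subgroup.coe_mul, Units.val_mul] at this
      rw [hv₂, hxm, PT_two_mul, PT_two_mul] at this
      exact this
    have k₁ := PT_two_left_cancel (hne0 m₂ hm₂) e₁
    have k₂ := PT_two_right_cancel (hne0 m₁ hm₁) e₂
    obtain ⟨a, ha⟩ := scalar_of_commute_W3_conj hσ hω hm₁ k₁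
    obtain ⟨b, hb⟩ := scalar_of_commute_W3_conj hσ hω hm₂ k₂
    refine ⟨ω ^ a * ω ^ b, ?_⟩
    rw [hxm, ha, hb, PT_two_smul_left, PT_two_smul_right, PT_two_one, smul_smul]
  -- embed `A` in the multiplicative monoid of `F`
  let i₀ : I9 := fun _ => 0
  have hentry : ∀ x : R, x ∈ A → ((x : GL I9 F) : Matrix I9 I9 F) =
      (((x : GL I9 F) : Matrix I9 I9 F) i₀ i₀) • 1 := by
    intro x hx
    obtain ⟨c, hc⟩ := hscal x hx
    rw [hc]
    simp
  let ψ : A →* F :=
    { toFun := fun x => (((x : R) : GL I9 F) : Matrix I9 I9 F) i₀ i₀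
      map_one' := by simp
      map_mul' := fun x y => by
        show (((((x * y : A) : R) : GL I9 F)) : Matrix I9 I9 F) i₀ i₀ = _
        rw [Subgroup.coe_mul, Subgroup.coe_mul, Units.val_mul, hentry x x.2, hentry y y.2]
        simp [mul_comm] }
  have hψ : Function.Injective ψ := by
    intro x y hxy
    apply Subtype.ext
    apply Subtype.ext
    apply Units.ext
    rw [hentry x x.2, hentry y y.2]
    show (ψ x) • (1 : Matrix I9 I9 F) = (ψ y) • 1
    rw [hxy]
  exact isCyclic_of_injective_ringHom ψ hψ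

/-- U92-[SYMPTYPE]. -/
theorem isSymplecticTypeGroup_R9 (hσ : UCtx σ 2) (hω : ω ^ 2 + ω + 1 = 0) (R : Subgroup (GL I9 F))
    (hR : ∀ g : GL I9 F, g ∈ R ↔ (g : Matrix I9 I9 F) ∈ R9set ω) : IsSymplecticTypeGroup 3 R := by
  classical
  have hcube : ∀ x : R, x ^ 3 = 1 := by
    intro x
    apply Subtype.ext
    apply Units.ext
    rw [Subgroup.coe_pow, Units.val_pow_eq_pow_val]
    exact pow_three_of_mem_R9set hω ((hR x).mp x.2)
  refine ⟨Nat.prime_three, ?_, fun A hA hAc => cyclic_of_characteristic_R9 hσ hω R hR A hA hAc, ?_⟩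
  · intro x
    exact ⟨1, by rw [pow_one]; exact hcube x⟩
  · -- exponent 3
    have hdvd : Monoid.exponent R ∣ 3 := Monoid.exponent_dvd_of_forall_pow_eq_one hcube
    have hF : Fintype.card F = 2 ^ 2 := hσ.card
    have hne1 : Monoid.exponent R ≠ 1 := by
      intro h1
      -- `ω • 1 ∈ R` is not the identity
      have hmem : ω ^ 1 • (1 : Matrix I9 I9 F) ∈ R9set ω := smul_one_mem_R9set 1
      have hω3 := omega_pow_three hω
      have hω0 : ω ≠ 0 := by
        intro h0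
        rw [h0] at hω3
        simp at hω3
      set g : GL I9 F := ⟨ω ^ 1 • 1, ω⁻¹ • 1, by
        rw [pow_one, Matrix.smul_mul, Matrix.mul_smul, Matrix.one_mul, smul_smul, mul_inv_cancel₀ hω0, one_smul],
        by rw [pow_one, Matrix.smul_mul, Matrix.mul_smul, Matrix.one_mul, smul_smul, inv_mul_cancel₀ hω0,
          one_smul]⟩ with hg
      have hgR : g ∈ R := (hR g).mpr hmem
      have h2 : (⟨g, hgR⟩ : R) ^ 1 = 1 := by
        rw [← h1]; exact Monoid.pow_exponent_eq_one _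
      rw [pow_one] at h2
      have h3 : g = 1 := congrArg Subtype.val h2
      have h4 := congrArg (fun u : GL I9 F => (u : Matrix I9 I9 F) (fun _ => 0) (fun _ => 0)) h3
      simp only [hg, pow_one, Matrix.smul_apply, Matrix.one_apply_eq, smul_eq_mul, mul_one, Units.val_one] at h4
      exact omega_ne_one hF hω h4
    have : Monoid.exponent R = 3 := by
      rcases (Nat.dvd_prime Nat.prime_three).mp hdvd with h | h
      · exact absurd h hne1
      · exact h
    rw [this]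
    rfl

end Cfsg.Agent.Lib.Helper99.U92
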