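import Cfsg.Agent.Lib.Helper29.ZStarElement
import Cfsg.Prelude.Def_Transfer

/-!
Weakly closed subgroups of the centre of a Sylow 2-subgroup `S`: if all cyclic subgroups of `Z(S)`
are weakly closed in `S`, then all elements of `Z(S)` are, hence (Z*-theorem for 2-elements)
`G = O(G) C_G(Z(S))` (helper20's library).
-/

set_option autoImplicit false

namespace Cfsg.Agent.Lib.Helper20.WeakCenter

universe u

variable {G : Type u} [Group G] [Finite G] (S : Sylow 2 G)

/-- Burnside: a cyclic subgroup of `Z(S)` which is normalized by `g` is centralized by `g`. -/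
theorem normalizer_zpowers_le_centralizer {ζ : G} (hζS : ζ ∈ (S : Subgroup G))
    (hζ : ∀ s ∈ (S : Subgroup G), s * ζ = ζ * s) :
    Subgroup.normalizer (Subgroup.zpowers ζ : Set G) ≤
      Subgroup.centralizer (Subgroup.zpowers ζ : Set G) := by
  classical
  have : Fact (Nat.Prime 2) := ⟨Nat.prime_two⟩
  set Z₀ : Subgroup G := Subgroup.zpowers ζ with hZ₀
  have hSC : (S : Subgroup G) ≤ Subgroup.centralizer (Z₀ : Set G) := by
    intro s hs
    rw [Subgroup.mem_centralizer_iff]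
    intro t ht
    obtain ⟨k, rfl⟩ := Subgroup.mem_zpowers_iff.mp ht
    exact ((Commute.zpow_right (hζ s hs) k).eq).symm
  have hCN : Subgroup.centralizer (Z₀ : Set G) ≤ Subgroup.normalizer (Z₀ : Set G) :=
    Subgroup.centralizer_le_normalizer (Z₀ : Set G)
  have hcyc : IsCyclic Z₀ := by rw [hZ₀]; infer_instance
  have key := Subgroup.card_dvd_of_injective _ (QuotientGroup.kerLift_injective Z₀.normalizerMonoidHom)
  rw [Subgroup.normalizerMonoidHom_ker, ← Subgroup.index, ← Subgroup.relIndex] at key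
  refine Subgroup.relIndex_eq_one.mp (Nat.eq_one_of_dvd_coprimes ?_ dvd_rfl key)
  have hcop : ((Subgroup.centralizer (Z₀ : Set G)).relIndex
      (Subgroup.normalizer (Z₀ : Set G))).Coprime 2 := by
    apply Nat.Coprime.coprime_dvd_left (Subgroup.relIndex_dvd_of_le_left _ hSC)
    apply Nat.Coprime.coprime_dvd_left (Subgroup.relIndex_dvd_index_of_le (hSC.trans hCN))
    rw [Nat.coprime_comm, Nat.Prime.coprime_iff_not_dvd Nat.prime_two]
    exact S.not_dvd_index
  have hZp : IsPGroup 2 Z₀ := S.isPGroup'.to_le (by rw [hZ₀, Subgroup.zpowers_le]; exact hζS)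
  obtain ⟨k, hk⟩ := hZp.exists_card_eq
  rcases Nat.eq_zero_or_pos k with h0 | h0
  · rw [hcyc.card_mulAut, hk, h0, pow_zero, Nat.totient_one]
    apply Nat.coprime_one_right
  rw [hcyc.card_mulAut, hk, Nat.totient_prime_pow Nat.prime_two h0]
  simp only [Nat.add_one_sub_one, mul_one]
  exact Nat.Coprime.pow_right _ hcop

/-- If the cyclic subgroup generated by `ζ ∈ Z(S)` is weakly closed in `S`, then `ζ` is the only
conjugate of itself in `S`. -/
theorem conj_eq_of_weaklyClosed_zpowers {ζ : G} (hζS : ζ ∈ (S : Subgroup G))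
    (hζ : ∀ s ∈ (S : Subgroup G), s * ζ = ζ * s)
    (hw : Cfsg.IsWeaklyClosed (Subgroup.zpowers ζ) (S : Subgroup G)) (g : G)
    (hg : g * ζ * g⁻¹ ∈ (S : Subgroup G)) : g * ζ * g⁻¹ = ζ := by
  have h1 : (Subgroup.zpowers ζ).map (MulAut.conj g).toMonoidHom = Subgroup.zpowers (g * ζ * g⁻¹) := by
    rw [MonoidHom.map_zpowers]; rfl
  have h2 := hw.2 g (by rw [h1, Subgroup.zpowers_le]; exact hg)
  have hgN : g ∈ Subgroup.normalizer (Subgroup.zpowers ζ : Set G) := by
    rw [Subgroup.mem_normalizer_iff]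
    intro t
    constructor
    · intro ht
      rw [← h2]
      exact ⟨t, ht, rfl⟩
    · intro ht
      rw [← h2] at ht
      obtain ⟨t', ht', he⟩ := ht
      have : t' = t := by
        have he' : g * t' * g⁻¹ = g * t * g⁻¹ := he
        have := mul_left_cancel (mul_right_cancel he')
        exact this
      rw [← this]; exact ht'
  have hgC := normalizer_zpowers_le_centralizer S hζS hζ hgN
  rw [Subgroup.mem_centralizer_iff] at hgC
  have := hgC ζ (Subgroup.mem_zpowers ζ)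
  rw [← this, mul_inv_cancel_right]

/-- Frattini-type argument: if every element of `Z(S)` is weakly closed in `S`, then
`G = O(G) C_G(Z(S))` (given the Z*-theorem). -/
theorem exists_oddCore_mul_centralizer (hZ : Cfsg.Agent.Lib.Helper29.ZStarStatement.{u})
    (hw : ∀ ζ ∈ (Subgroup.center (S : Subgroup G)).map (S : Subgroup G).subtype,
      ∀ g : G, g * ζ * g⁻¹ ∈ (S : Subgroup G) → g * ζ * g⁻¹ = ζ) (h : G) :
    ∃ o ∈ Cfsg.oddCore G, ∃ c ∈ Subgroup.centralizer
      (((Subgroup.center (S : Subgroup G)).map (S : Subgroup G).subtype : Subgroup G) : Set G),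
      h = o * c := by
  have : Fact (Nat.Prime 2) := ⟨Nat.prime_two⟩
  set Z : Subgroup G := (Subgroup.center (S : Subgroup G)).map (S : Subgroup G).subtype with hZdef
  have hZS : Z ≤ (S : Subgroup G) := Subgroup.map_subtype_le _
  have hOn : (Cfsg.oddCore G).Normal := Cfsg.Agent.Lib.Helper97.pPrimeCore_normal 2
  have hc : ∀ ζ ∈ Z, ∀ g : G, ζ * g * ζ⁻¹ * g⁻¹ ∈ Cfsg.oddCore G := fun ζ hζ =>
    Cfsg.Agent.Lib.Helper29.zstar_element hZ S ζ (hZS hζ) (hw ζ hζ)
  have hSZ : ∀ s ∈ (S : Subgroup G), ∀ ζ ∈ Z, s * ζ = ζ * s := by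
    intro s hs ζ hζ
    obtain ⟨c, hc, rfl⟩ := hζ
    have := (Subgroup.mem_center_iff.mp hc) ⟨s, hs⟩
    exact congrArg Subtype.val this
  -- `D = h Z h⁻¹` lies in `O S`
  set D : Subgroup G := Z.map (MulAut.conj h).toMonoidHom with hD
  have hDle : D ≤ Cfsg.oddCore G ⊔ (S : Subgroup G) := by
    rintro _ ⟨ζ, hζ, rfl⟩
    show h * ζ * h⁻¹ ∈ _
    have h1 : h * ζ * h⁻¹ = (ζ * h * ζ⁻¹ * h⁻¹)⁻¹ * ζ := by group
    rw [h1]
    exact Subgroup.mul_mem _ (Subgroup.mem_sup_left (Subgroup.inv_mem _ (hc ζ hζ h)))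
      (Subgroup.mem_sup_right (hZS hζ))
  have hDp : IsPGroup 2 D := by
    have : IsPGroup 2 Z := S.isPGroup'.to_le hZS
    exact this.map _
  obtain ⟨c, hcM, hcD⟩ := Cfsg.Agent.Lib.Helper29.exists_conj_mem_sylow_of_le S
    (Cfsg.oddCore G ⊔ (S : Subgroup G)) le_sup_right D hDle hDp
  rw [← SetLike.mem_coe, Subgroup.normal_mul] at hcM
  obtain ⟨o, ho, s, hs, rfl⟩ := hcM
  -- `(o s)⁻¹ h` centralizes `Z`
  have hcent : (o * s)⁻¹ * h ∈ Subgroup.centralizer (Z : Set G) := by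
    rw [Subgroup.mem_centralizer_iff]
    intro ζ hζ
    have h1 := hcD (h * ζ * h⁻¹) ⟨ζ, hζ, rfl⟩
    have h2 : (o * s)⁻¹ * (h * ζ * h⁻¹) * (o * s) = ((o * s)⁻¹ * h) * ζ * ((o * s)⁻¹ * h)⁻¹ := by
      group
    rw [h2] at h1
    have h3 := hw ζ hζ _ h1
    calc ζ * ((o * s)⁻¹ * h) = (((o * s)⁻¹ * h) * ζ * ((o * s)⁻¹ * h)⁻¹) * ((o * s)⁻¹ * h) := by
          rw [h3]
      _ = (o * s)⁻¹ * h * ζ := by group
  have hsC : s ∈ Subgroup.centralizer (Z : Set G) := by
    rw [Subgroup.mem_centralizer_iff]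
    intro ζ hζ
    exact (hSZ s hs ζ hζ).symm
  refine ⟨o, ho, s * ((o * s)⁻¹ * h), Subgroup.mul_mem _ hsC hcent, ?_⟩
  group

/-- S1215 modulo the Z*-theorem. -/
theorem eq_oddCore_mul_centralizer (hZ : Cfsg.Agent.Lib.Helper29.ZStarStatement.{u})
    (hwc : ∀ Z₀ : Subgroup G, Z₀ ≤ ((Subgroup.center (S : Subgroup G)).map (S : Subgroup G).subtype) →
      Cfsg.IsWeaklyClosed Z₀ (S : Subgroup G)) (h : G) :
    ∃ o ∈ Cfsg.oddCore G, ∃ c ∈ Subgroup.centralizer
      (((Subgroup.center (S : Subgroup G)).map (S : Subgroup G).subtype : Subgroup G) : Set G),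
      h = o * c := by
  apply exists_oddCore_mul_centralizer S hZ
  intro ζ hζ g hg
  have hζS : ζ ∈ (S : Subgroup G) := Subgroup.map_subtype_le _ hζ
  have hcomm : ∀ s ∈ (S : Subgroup G), s * ζ = ζ * s := by
    intro s hs
    obtain ⟨c, hc, rfl⟩ := hζ
    have := (Subgroup.mem_center_iff.mp hc) ⟨s, hs⟩
    exact congrArg Subtype.val this
  apply conj_eq_of_weaklyClosed_zpowers S hζS hcomm _ g hg
  apply hwc
  rw [Subgroup.zpowers_le]; exact hζ

end Cfsg.Agent.Lib.Helper20.WeakCenter
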