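import Cfsg.Agent.Lib.Helper38.WreathedMore

/-!
Wreathed 2-groups `Z_{2^n} ≀ Z_2`: further facts in helper38's normal form calculus, used for the
fusion analysis of finite groups with wreathed Sylow 2-subgroups (helper20's library).

Notation: `N = 2^n`, `M = 2^(n-1)`, `H = 2^(n-2)`; `a = x^M`, `b = y^M`, `e = ab`.
-/

set_option autoImplicit false

namespace Cfsg.Agent.Lib.Helper20.Wr

open Cfsg.Agent.Lib.Helper38

variable {P : Type*} [Group P] {x y z : P} {n : ℕ}

local notation "NN" => ((2 ^ n : ℕ) : ℤ)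
local notation "MM" => ((2 ^ (n - 1) : ℕ) : ℤ)
local notation "HH" => ((2 ^ (n - 2) : ℕ) : ℤ)

/-! ### Arithmetic -/

theorem M_eq (h : IsWr x y z n) : MM = 2 * HH := by
  have hn := h.hn
  have : n - 1 = (n - 2) + 1 := by omega
  rw [this, pow_succ]
  push_cast; ring

theorem N_eq4 (h : IsWr x y z n) : NN = 4 * HH := by
  rw [h.N_eq, M_eq h]; ring

theorem H_pos : (0 : ℤ) < HH := by positivity

theorem not_N_dvd_H (h : IsWr x y z n) : ¬ NN ∣ HH := by
  intro hd
  have := Int.le_of_dvd H_pos hd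
  rw [N_eq4 h] at this
  have := @H_pos n
  omega

theorem not_M_dvd_H (h : IsWr x y z n) : ¬ MM ∣ HH := by
  intro hd
  have := Int.le_of_dvd H_pos hd
  rw [M_eq h] at this
  have := @H_pos n
  omega

theorem not_N_dvd_M' (h : IsWr x y z n) : ¬ NN ∣ MM := h.not_N_dvd_M

/-- `N ∣ M k` iff `k` is even. -/
theorem N_dvd_M_mul_iff (h : IsWr x y z n) (k : ℤ) : NN ∣ MM * k ↔ 2 ∣ k := by
  rw [h.N_eq]
  constructor
  · rintro ⟨c, hc⟩
    have hM := @IsWr.M_pos n
    have : MM * k = MM * (2 * c) := by rw [hc]; ring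
    have := mul_left_cancel₀ hM.ne' this
    exact ⟨c, this⟩
  · rintro ⟨c, rfl⟩
    exact ⟨c, by ring⟩

/-- `M ∣ i` and `N ∤ i` means `i ≡ M`. -/
theorem dvd_sub_M_of (h : IsWr x y z n) {i : ℤ} (h1 : MM ∣ i) (h2 : ¬ NN ∣ i) : NN ∣ i - MM := by
  rcases h.dvd_or_dvd_sub h1 with h3 | h3
  · exact absurd h3 h2
  · exact h3

theorem N_dvd_two_M (h : IsWr x y z n) : NN ∣ MM + MM := by
  rw [h.N_eq]; exact ⟨1, by ring⟩

/-! ### Generators as normal forms -/

theorem x_eq_al : x = al x y 1 0 := by simp [al]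

theorem y_eq_al : y = al x y 0 1 := by simp [al]

theorem z_eq_alz : z = al x y 0 0 * z := by simp [al]

theorem zpow_x_eq_al (i : ℤ) : x ^ i = al x y i 0 := by simp [al]

theorem zpow_y_eq_al (j : ℤ) : y ^ j = al x y 0 j := by simp [al]

theorem al_eq_zpow_mul (i j : ℤ) : al x y i j = x ^ i * y ^ j := rfl

/-! ### Changing the involution `z` -/

/-- Replacing `z` by its conjugate `x^i y^{-i} z`. -/
theorem rebase (h : IsWr x y z n) (i : ℤ) : IsWr x y (al x y i (-i) * z) n where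
  hn := h.hn
  card := h.card
  hx := h.hx
  hxy := h.hxy
  hinf := h.hinf
  hz := by
    rw [h.orderOf_alz_eq_two_iff]; simp
  hzx := by
    have h1 := h.conj_al_by_alz i (-i) 1 0
    rw [← x_eq_al] at h1
    rw [h1]; simp [al]

theorem al_mul_rebase (h : IsWr x y z n) (i p q : ℤ) :
    al x y p q * (al x y i (-i) * z) = al x y (p + i) (q - i) * z := by
  rw [← mul_assoc, h.al_mul_al]; congr 2

/-! ### The elements `a`, `b`, `e` -/

theorem al_sq (h : IsWr x y z n) (p q : ℤ) : al x y p q * al x y p q = al x y (2 * p) (2 * q) := by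
  rw [h.al_mul_al]; congr 1 <;> ring

/-- An element of `A` of square one is `1`, `a`, `b` or `e`. -/
theorem al_sq_eq_one (h : IsWr x y z n) {p q : ℤ} (hs : al x y p q * al x y p q = 1) :
    al x y p q = 1 ∨ al x y p q = al x y MM 0 ∨ al x y p q = al x y 0 MM ∨
      al x y p q = al x y MM MM := by
  rw [al_sq h, h.al_eq_one_iff, h.N_dvd_two_mul_iff, h.N_dvd_two_mul_iff] at hs
  obtain ⟨hp, hq⟩ := hs
  rcases h.dvd_or_dvd_sub hp with hp' | hp' <;> rcases h.dvd_or_dvd_sub hq with hq' | hq'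
  · left; rw [h.al_eq_one_iff]; exact ⟨hp', hq'⟩
  · right; right; left; rw [h.al_eq_al_iff]; exact ⟨by simpa using hp', hq'⟩
  · right; left; rw [h.al_eq_al_iff]; exact ⟨hp', by simpa using hq'⟩
  · right; right; right; rw [h.al_eq_al_iff]; exact ⟨hp', hq'⟩

/-- A central element of square one is `1` or `e`. -/
theorem center_sq_eq_one (h : IsWr x y z n) {s : P} (hs : s ∈ Subgroup.center P) (hss : s * s = 1) :
    s = 1 ∨ s = al x y MM MM := by
  obtain ⟨i, rfl⟩ := (h.mem_center_iff s).mp hs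
  rw [al_sq h, h.al_eq_one_iff, h.N_dvd_two_mul_iff] at hss
  rcases h.dvd_or_dvd_sub hss.1 with h1 | h1
  · left; rw [h.al_eq_one_iff]; exact ⟨h1, h1⟩
  · right; rw [h.al_eq_al_iff]; exact ⟨h1, h1⟩

theorem e_mem_center (h : IsWr x y z n) : al x y MM MM ∈ Subgroup.center P :=
  (h.mem_center_iff _).mpr ⟨_, rfl⟩

theorem e_ne_one (h : IsWr x y z n) : al x y MM MM ≠ 1 := by
  rw [Ne, h.al_eq_one_iff]; exact fun hh => h.not_N_dvd_M hh.1

theorem a_notMem_center (h : IsWr x y z n) : al x y MM 0 ∉ Subgroup.center P := by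
  rw [h.al_mem_center_iff]; simpa using h.not_N_dvd_M

theorem b_notMem_center (h : IsWr x y z n) : al x y 0 MM ∉ Subgroup.center P := by
  rw [h.al_mem_center_iff]
  intro hd
  have : NN ∣ MM := by
    have := (dvd_neg).mpr hd
    simpa using this
  exact h.not_N_dvd_M this

theorem z_conj_a (h : IsWr x y z n) : z * al x y MM 0 * z⁻¹ = al x y 0 MM := by
  have := h.conj_al_by_alz 0 0 MM 0
  rwa [IsWr.al_zero_zero, one_mul] at this

theorem a_mul_e (h : IsWr x y z n) : al x y MM 0 * al x y MM MM = al x y 0 MM := by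
  rw [h.al_mul_al, h.al_eq_al_iff]
  exact ⟨by simpa using N_dvd_two_M h, by simp⟩

theorem b_mul_e (h : IsWr x y z n) : al x y 0 MM * al x y MM MM = al x y MM 0 := by
  rw [h.al_mul_al, h.al_eq_al_iff]
  exact ⟨by simp, by simpa using N_dvd_two_M h⟩

/-- An element commuting with `a` lies in `A`. -/
theorem mem_A_of_comm_a (h : IsWr x y z n) {s : P} (hs : s * al x y MM 0 = al x y MM 0 * s) :
    s ∈ h.A := by
  by_contra hsA
  obtain ⟨k, l, rfl⟩ := h.notMem_A hsA
  rw [h.alz_mul_al, h.al_mul_alz, h.alz_eq_alz_iff] at hs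
  have := hs.1
  have e : k + 0 - (MM + k) = -MM := by ring
  rw [e] at this
  exact h.not_N_dvd_M ((dvd_neg).mp this)

/-- An element commuting with `b` lies in `A`. -/
theorem mem_A_of_comm_b (h : IsWr x y z n) {s : P} (hs : s * al x y 0 MM = al x y 0 MM * s) :
    s ∈ h.A := by
  by_contra hsA
  obtain ⟨k, l, rfl⟩ := h.notMem_A hsA
  rw [h.alz_mul_al, h.al_mul_alz, h.alz_eq_alz_iff] at hs
  have := hs.2
  have e : l + 0 - (MM + l) = -MM := by ring
  rw [e] at this
  exact h.not_N_dvd_M ((dvd_neg).mp this)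

/-- Involutions outside `A`. -/
theorem invol_notMem_A (h : IsWr x y z n) {s : P} (hs : s ∉ h.A) (hss : s * s = 1) :
    ∃ i : ℤ, s = al x y i (-i) * z := by
  obtain ⟨k, l, rfl⟩ := h.notMem_A hs
  rw [h.alz_mul_alz, h.al_eq_one_iff] at hss
  refine ⟨k, ?_⟩
  rw [h.alz_eq_alz_iff]
  refine ⟨by simp, ?_⟩
  have e : l - -k = k + l := by ring
  rw [e]; exact hss.1

end Cfsg.Agent.Lib.Helper20.Wr
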