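import Cfsg.Agent.Lib.Helper20.ConjMap
import Cfsg.Agent.Lib.Helper33.SylIn

/-!
Generic group-theoretic lemmas used in the fusion analysis of groups with wreathed Sylow
2-subgroups (helper20's library).
-/

set_option autoImplicit false

namespace Cfsg.Agent.Lib.Helper20.Wr

open Cfsg.Agent.Lib.Helper33

section quot

/-- A non-commutative group covered by four cosets of its centre has central quotient of order 4. -/
theorem card_quot_center_eq_four {W : Type*} [Group W] [Finite W] (a z : W) (hne : a * z ≠ z * a)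
    (hcov : ∀ w : W, ∃ ζ ∈ Subgroup.center W, w = ζ ∨ w = ζ * a ∨ w = ζ * z ∨ w = ζ * (a * z)) :
    Nat.card (W ⧸ Subgroup.center W) = 4 := by
  have hle : Nat.card (W ⧸ Subgroup.center W) ≤ 4 := by
    let f : Fin 4 → W ⧸ Subgroup.center W := ![1, (a : W ⧸ Subgroup.center W), z, (a * z : W)]
    have hf : Function.Surjective f := by
      intro t
      induction t using QuotientGroup.induction_on with
      | H w =>
        obtain ⟨ζ, hζ, h | h | h | h⟩ := hcov w
        · refine ⟨0, ?_⟩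
          show (1 : W ⧸ Subgroup.center W) = _
          rw [h, eq_comm, QuotientGroup.eq_one_iff]; exact hζ
        · refine ⟨1, ?_⟩
          show ((a : W) : W ⧸ Subgroup.center W) = _
          rw [h, QuotientGroup.eq]
          have : a⁻¹ * (ζ * a) = ζ := by
            rw [Subgroup.mem_center_iff] at hζ
            rw [← hζ a]; group
          rw [this]; exact hζ
        · refine ⟨2, ?_⟩
          show ((z : W) : W ⧸ Subgroup.center W) = _
          rw [h, QuotientGroup.eq]
          have : z⁻¹ * (ζ * z) = ζ := by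
            rw [Subgroup.mem_center_iff] at hζ
            rw [← hζ z]; group
          rw [this]; exact hζ
        · refine ⟨3, ?_⟩
          show ((a * z : W) : W ⧸ Subgroup.center W) = _
          rw [h, QuotientGroup.eq]
          have : (a * z)⁻¹ * (ζ * (a * z)) = ζ := by
            rw [Subgroup.mem_center_iff] at hζ
            rw [← hζ (a * z)]; group
          rw [this]; exact hζ
    have := Nat.card_le_card_of_surjective f hf
    simpa using this
  have hpos : 0 < Nat.card (W ⧸ Subgroup.center W) := Nat.card_pos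
  have hcyc : ¬ IsCyclic (W ⧸ Subgroup.center W) := by
    intro hc
    have := MonoidHom.isMulCommutative_of_isCyclic_of_ker_le_center
      (QuotientGroup.mk' (Subgroup.center W)) (by rw [QuotientGroup.ker_mk'])
    exact hne (this.is_comm.comm a z)
  by_contra hne4
  have hlt : Nat.card (W ⧸ Subgroup.center W) < 4 := lt_of_le_of_ne hle hne4
  apply hcyc
  interval_cases hc : Nat.card (W ⧸ Subgroup.center W)
  · have : Subsingleton (W ⧸ Subgroup.center W) := (Nat.card_eq_one_iff_unique.mp hc).1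
    exact isCyclic_of_subsingleton
  · have : Fact (Nat.Prime 2) := ⟨Nat.prime_two⟩
    exact isCyclic_of_prime_card hc
  · have : Fact (Nat.Prime 3) := ⟨Nat.prime_three⟩
    exact isCyclic_of_prime_card hc

end quot

variable {G : Type*} [Group G]

/-- Coprime powers. -/
theorem mem_of_pow_mem {D : Subgroup G} {g : G} {a b : ℕ} (hab : Nat.Coprime a b)
    (ha : g ^ a ∈ D) (hb : g ^ b ∈ D) : g ∈ D := by
  have h1 : g ^ (Nat.gcd a b : ℤ) ∈ D := by
    rw [Nat.gcd_eq_gcd_ab, zpow_add, zpow_mul, zpow_mul, zpow_natCast, zpow_natCast]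
    exact mul_mem (zpow_mem ha _) (zpow_mem hb _)
  rw [hab] at h1
  simpa using h1

/-- Splitting an element of a finite group into its `2`-part and its odd part. -/
theorem mem_of_two_part_odd_part [Finite G] {D : Subgroup G} {g : G}
    (h2 : ∀ k m : ℕ, Odd m → orderOf (g ^ m) ∣ 2 ^ k → g ^ m ∈ D)
    (hodd : ∀ k : ℕ, Odd (orderOf (g ^ 2 ^ k)) → g ^ 2 ^ k ∈ D) : g ∈ D := by
  have ho : orderOf g ≠ 0 := (orderOf_pos g).ne'
  obtain ⟨k, m, hm, hkm⟩ := Nat.exists_eq_two_pow_mul_odd ho
  have hcop : Nat.Coprime m (2 ^ k) := (Nat.Coprime.pow_right k hm.coprime_two_right)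
  apply mem_of_pow_mem hcop
  · apply h2 k m hm
    rw [orderOf_dvd_iff_pow_eq_one, ← pow_mul, mul_comm, ← hkm, pow_orderOf_eq_one]
  · apply hodd k
    have : orderOf (g ^ 2 ^ k) ∣ m := by
      rw [orderOf_dvd_iff_pow_eq_one, ← pow_mul, ← hkm, pow_orderOf_eq_one]
    exact Odd.of_dvd_nat hm this

/-- In a finite group, `g W g⁻¹ ⊆ W` implies `g ∈ N(W)`. -/
theorem mem_normalizer_of_forall_conj_mem [Finite G] {W : Subgroup G} {g : G}
    (h : ∀ w ∈ W, g * w * g⁻¹ ∈ W) : g ∈ Subgroup.normalizer (W : Set G) := by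
  rw [mem_normalizer_iff_cj_eq]
  have hle : cj g W ≤ W := by
    intro v hv
    rw [mem_cj] at hv
    have := h _ hv
    have e : g * (g⁻¹ * v * g) * g⁻¹ = v := by group
    rwa [e] at this
  exact Subgroup.eq_of_le_of_card_ge hle (by rw [card_cj])

/-- The `Ω₁`-lemma for commutative `2`-groups: an automorphism of odd order which is trivial on the
elements of square one is trivial. -/
theorem omega_lemma {W : Subgroup G} (hcomm : ∀ u ∈ W, ∀ v ∈ W, u * v = v * u)
    (h2 : ∀ u ∈ W, ∃ k : ℕ, u ^ 2 ^ k = 1) {g : G} (hg : ∀ u ∈ W, g * u * g⁻¹ ∈ W)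
    {m : ℕ} (hm : Odd m) (hgm : g ^ m = 1) (hfix : ∀ t ∈ W, t * t = 1 → g * t * g⁻¹ = t) :
    ∀ u ∈ W, g * u * g⁻¹ = u := by
  have key : ∀ k : ℕ, ∀ u ∈ W, u ^ 2 ^ k = 1 → g * u * g⁻¹ = u := by
    intro k
    induction k with
    | zero =>
      intro u _ hu
      rw [pow_zero, pow_one] at hu
      rw [hu]; group
    | succ k ih =>
      intro u huW hu
      have hsq : g * (u * u) * g⁻¹ = u * u := by
        apply ih _ (mul_mem huW huW)
        rw [← pow_two, ← pow_mul, ← pow_succ']; exact hu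
      set t := g * u * g⁻¹ * u⁻¹ with ht
      have htW : t ∈ W := mul_mem (hg u huW) (inv_mem huW)
      have hu' : g * u * g⁻¹ = t * u := by rw [ht]; group
      have htt : t * t = 1 := by
        have h1 : (g * u * g⁻¹) * (g * u * g⁻¹) = u * u := by
          rw [← hsq]; group
        have h2 : t * t = (g * u * g⁻¹) * (g * u * g⁻¹) * (u⁻¹ * u⁻¹) := by
          rw [ht]
          have := hcomm _ (hg u huW) _ (inv_mem huW)
          calc g * u * g⁻¹ * u⁻¹ * (g * u * g⁻¹ * u⁻¹)
              = g * u * g⁻¹ * (u⁻¹ * (g * u * g⁻¹)) * u⁻¹ := by group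
            _ = g * u * g⁻¹ * ((g * u * g⁻¹) * u⁻¹) * u⁻¹ := by rw [this]
            _ = _ := by group
        rw [h2, h1]; group
      have hgt := hfix t htW htt
      -- `g^j u g^{-j} = t^j u`
      have hpow : ∀ j : ℕ, g ^ j * u * (g ^ j)⁻¹ = t ^ j * u := by
        intro j
        induction j with
        | zero => simp
        | succ j ihj =>
          calc g ^ (j + 1) * u * (g ^ (j + 1))⁻¹ = g * (g ^ j * u * (g ^ j)⁻¹) * g⁻¹ := by
                rw [pow_succ']; group
            _ = g * (t ^ j * u) * g⁻¹ := by rw [ihj]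
            _ = (g * t * g⁻¹) ^ j * (g * u * g⁻¹) := by rw [conj_pow]; group
            _ = t ^ j * (t * u) := by rw [hgt, hu']
            _ = t ^ (j + 1) * u := by rw [pow_succ]; group
      have h3 := hpow m
      rw [hgm] at h3
      obtain ⟨c, hc⟩ := hm
      have h4 : t ^ m = t := by
        rw [hc, pow_succ, pow_mul, pow_two, htt, one_pow, one_mul]
      rw [h4] at h3
      have h5 : t = 1 := by
        have : u = t * u := by simpa using h3
        exact (mul_eq_right.mp this.symm)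
      rw [hu', h5, one_mul]
  intro u hu
  obtain ⟨k, hk⟩ := h2 u hu
  exact key k u hu hk

section sylow

variable [Finite G] {p : ℕ} [Fact p.Prime]

/-- A `p`-subgroup of `H` lies in a Sylow `p`-subgroup of `H`. -/
theorem exists_sylIn_ge {Q H : Subgroup G} (hQ : Q ≤ H) (hQp : IsPGroup p Q) :
    ∃ R : Subgroup G, SylIn p R H ∧ Q ≤ R := by
  obtain ⟨R, hR⟩ := (hQp.comap_subtype (K := H)).exists_le_sylow
  refine ⟨(R : Subgroup H).map H.subtype, sylIn_of_sylow R, ?_⟩
  intro q hq
  exact ⟨⟨q, hQ hq⟩, hR (Subgroup.mem_subgroupOf.mpr hq), rfl⟩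

/-- Control of fusion in a weakly closed commutative subgroup of a Sylow subgroup (Burnside). -/
theorem exists_normalizer_conj (S : Sylow p G) (U : Subgroup G)
    (hUS : U ≤ (S : Subgroup G)) (hUc : ∀ u ∈ U, ∀ v ∈ U, u * v = v * u)
    (hwc : ∀ g : G, cj g U ≤ (S : Subgroup G) → cj g U = U)
    (X : Set G) (hX : X ⊆ U) (g : G) (hg : ∀ t ∈ X, g * t * g⁻¹ ∈ U) :
    ∃ k ∈ Subgroup.normalizer (U : Set G), ∀ t ∈ X, k * t * k⁻¹ = g * t * g⁻¹ := by
  set Y : Set G := (fun t => g * t * g⁻¹) '' X with hY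
  set C := Subgroup.centralizer Y with hC
  have hUC : U ≤ C := by
    intro u hu
    rw [hC, Subgroup.mem_centralizer_iff]
    rintro _ ⟨t, ht, rfl⟩
    exact hUc _ (hg t ht) _ hu
  have hgUC : cj g U ≤ C := by
    intro v hv
    rw [mem_cj] at hv
    rw [hC, Subgroup.mem_centralizer_iff]
    rintro _ ⟨t, ht, rfl⟩
    have := hUc _ (hX ht) _ hv
    calc g * t * g⁻¹ * v = g * (t * (g⁻¹ * v * g)) * g⁻¹ := by group
      _ = g * ((g⁻¹ * v * g) * t) * g⁻¹ := by rw [this]
      _ = v * (g * t * g⁻¹) := by group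
  have hUp : IsPGroup p U := S.isPGroup'.to_le hUS
  obtain ⟨R, hR, hUR⟩ := exists_sylIn_ge hUC hUp
  obtain ⟨c, hc, hcle⟩ := hR.exists_cj_le hgUC (isPGroup_cj hUp)
  obtain ⟨k, hk⟩ := pgroup_le_map_conj_sylow S hR.isPGroup
  have hk' : R ≤ cj k (S : Subgroup G) := hk
  have h1 : cj k⁻¹ U = U := by
    apply hwc
    rw [cj_le_iff, inv_inv]
    exact hUR.trans hk'
  have h2 : cj (k⁻¹ * (c * g)) U = U := by
    apply hwc
    rw [cj_mul, cj_le_iff, inv_inv, cj_mul]
    exact hcle.trans hk'
  have hkN : k⁻¹ ∈ Subgroup.normalizer (U : Set G) := mem_normalizer_iff_cj_eq.mpr h1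
  have hkN' : k⁻¹ * (c * g) ∈ Subgroup.normalizer (U : Set G) := mem_normalizer_iff_cj_eq.mpr h2
  refine ⟨c * g, ?_, ?_⟩
  · have : c * g = (k⁻¹)⁻¹ * (k⁻¹ * (c * g)) := by group
    rw [this]
    exact mul_mem (inv_mem hkN) hkN'
  · intro t ht
    rw [hC, Subgroup.mem_centralizer_iff] at hc
    have := hc _ ⟨t, ht, rfl⟩
    calc c * g * t * (c * g)⁻¹ = c * (g * t * g⁻¹) * c⁻¹ := by group
      _ = (g * t * g⁻¹) * c * c⁻¹ := by rw [← this]
      _ = g * t * g⁻¹ := by group

end sylow

section indexTwo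

/-- Powers and subgroups of index two. -/
theorem zpow_mem_iff_of_index_two {H : Subgroup G} (hH : H.index = 2) (g : G) (k : ℤ) :
    g ^ k ∈ H ↔ (Even k ∨ g ∈ H) := by
  have hsq : g * g ∈ H := by
    rw [Subgroup.mul_mem_iff_of_index_two hH]
  constructor
  · intro h
    by_contra hcon
    rw [not_or, Int.not_even_iff_odd] at hcon
    obtain ⟨⟨c, hc⟩, hg⟩ := hcon
    apply hg
    have : g = ((g * g) ^ c)⁻¹ * g ^ k := by
      rw [hc, zpow_add, zpow_mul, zpow_one, zpow_ofNat, pow_two, inv_mul_cancel_left]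
    rw [this]
    exact mul_mem (inv_mem (zpow_mem hsq _)) h
  · rintro (⟨c, hc⟩ | hg)
    · have : g ^ k = (g * g) ^ c := by
        rw [hc, ← two_mul, zpow_mul, zpow_ofNat, pow_two]
      rw [this]; exact zpow_mem hsq _
    · exact zpow_mem hg _

end indexTwo

end Cfsg.Agent.Lib.Helper20.Wr
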