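import Cfsg.Agent.Lib.Helper20.WrV
import Cfsg.Agent.Lib.Helper20.WrGen
import Cfsg.Agent.Lib.Helper20.QDFusion
import Cfsg.Agent.Lib.Helper38.KleinFour
import Cfsg.Agent.S1196
import Cfsg.Agent.S1201

/-!
Fusion in finite groups with wreathed Sylow 2-subgroups, part 1: the commutative subgroup `U` of
index two of `S`, control of fusion in `U`, and `N_G(U)/C_G(U)` (helper20's library).
-/

set_option autoImplicit false
set_option linter.unusedSectionVars false

namespace Cfsg.Agent.Lib.Helper20.Wr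

open Cfsg.Agent.Lib.Helper38 Cfsg.Agent.Lib.Helper33 Cfsg.Agent.Lib.Helper20
  Cfsg.Agent.Lib.Helper20.QDF

variable {G : Type*} [Group G] [Finite G] (S : Sylow 2 G) {n : ℕ} {x y z : (S : Subgroup G)}

local notation "NN" => ((2 ^ n : ℕ) : ℤ)
local notation "MM" => ((2 ^ (n - 1) : ℕ) : ℤ)
local notation "HH" => ((2 ^ (n - 2) : ℕ) : ℤ)

/-! ### The subgroups `U`, `Z(S)`, `V` and `Ω₁(U)` of `G` -/

/-- The commutative subgroup of index two of `S`, as a subgroup of `G`. -/
def UU (h : IsWr x y z n) : Subgroup G := h.A.map (S : Subgroup G).subtype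

/-- The centre of `S`, as a subgroup of `G`. -/
def ZZ : Subgroup G := (Subgroup.center (S : Subgroup G)).map (S : Subgroup G).subtype

/-- The subgroup `V₀`, as a subgroup of `G`. -/
def VV (h : IsWr x y z n) : Subgroup G := (V0 h).map (S : Subgroup G).subtype

theorem coe_mem_UU (h : IsWr x y z n) (s : (S : Subgroup G)) : (s : G) ∈ UU S h ↔ s ∈ h.A :=
  Subgroup.mem_map_iff_mem (S : Subgroup G).subtype_injective

theorem coe_mem_ZZ (s : (S : Subgroup G)) : (s : G) ∈ ZZ S ↔ s ∈ Subgroup.center (S : Subgroup G) :=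
  Subgroup.mem_map_iff_mem (S : Subgroup G).subtype_injective

theorem coe_mem_VV (h : IsWr x y z n) (s : (S : Subgroup G)) : (s : G) ∈ VV S h ↔ s ∈ V0 h :=
  Subgroup.mem_map_iff_mem (S : Subgroup G).subtype_injective

theorem UU_le (h : IsWr x y z n) : UU S h ≤ (S : Subgroup G) := Subgroup.map_subtype_le _

theorem ZZ_le : ZZ S ≤ (S : Subgroup G) := Subgroup.map_subtype_le _

theorem VV_le (h : IsWr x y z n) : VV S h ≤ (S : Subgroup G) := Subgroup.map_subtype_le _

theorem ZZ_le_UU (h : IsWr x y z n) : ZZ S ≤ UU S h := Subgroup.map_mono h.center_le_A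

theorem ZZ_le_VV (h : IsWr x y z n) : ZZ S ≤ VV S h := Subgroup.map_mono (center_le_V0 h)

theorem UU_comm (h : IsWr x y z n) {u v : G} (hu : u ∈ UU S h) (hv : v ∈ UU S h) : u * v = v * u := by
  obtain ⟨s, hs, rfl⟩ := hu
  obtain ⟨t, ht, rfl⟩ := hv
  have := h.A_comm hs ht
  exact congrArg Subtype.val this

theorem card_UU (h : IsWr x y z n) : Nat.card (UU S h) = 2 ^ (2 * n) := by
  unfold UU
  rw [Subgroup.card_map_of_injective (S : Subgroup G).subtype_injective, h.card_A]

/-- Uniqueness of the commutative subgroup of order `2^(2n)` of `S`. -/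
theorem eq_UU_of (h : IsWr x y z n) (W : Subgroup G) (hWS : W ≤ (S : Subgroup G))
    (hcomm : ∀ u ∈ W, ∀ v ∈ W, u * v = v * u) (hcard : Nat.card W = 2 ^ (2 * n)) :
    W = UU S h := by
  have h1 : IsMulCommutative (W.subgroupOf (S : Subgroup G)) :=
    ⟨⟨fun a b => by
      apply Subtype.ext; apply Subtype.ext
      exact hcomm _ (Subgroup.mem_subgroupOf.mp a.2) _ (Subgroup.mem_subgroupOf.mp b.2)⟩⟩
  have h2 : Nat.card (W.subgroupOf (S : Subgroup G)) = 2 ^ (2 * n) := by
    rw [Nat.card_congr (Subgroup.subgroupOfEquivOfLe hWS).toEquiv, hcard]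
  have h3 := Cfsg.Agent.S1196.eq_A_of_comm h _ h1 h2
  unfold UU
  rw [← h3, Subgroup.map_subgroupOf_eq_of_le hWS]

/-- `U` is weakly closed in `S` with respect to `G`. -/
theorem UU_weakly_closed (h : IsWr x y z n) (g : G) (hg : cj g (UU S h) ≤ (S : Subgroup G)) :
    cj g (UU S h) = UU S h := by
  apply eq_UU_of S h _ hg
  · intro u hu v hv
    rw [mem_cj] at hu hv
    have := UU_comm S h hu hv
    calc u * v = g * ((g⁻¹ * u * g) * (g⁻¹ * v * g)) * g⁻¹ := by group
      _ = g * ((g⁻¹ * v * g) * (g⁻¹ * u * g)) * g⁻¹ := by rw [this]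
      _ = v * u := by group
  · rw [card_cj, card_UU]

/-- Control of fusion in `U` by `N_G(U)`. -/
theorem fusion_UU (h : IsWr x y z n) (X : Set G) (hX : X ⊆ UU S h) (g : G)
    (hg : ∀ t ∈ X, g * t * g⁻¹ ∈ UU S h) :
    ∃ k ∈ Subgroup.normalizer (UU S h : Set G), ∀ t ∈ X, k * t * k⁻¹ = g * t * g⁻¹ := by
  have : Fact (Nat.Prime 2) := ⟨Nat.prime_two⟩
  exact exists_normalizer_conj S (UU S h) (UU_le S h) (fun u hu v hv => UU_comm S h hu hv)
    (UU_weakly_closed S h) X hX g hg

theorem S_le_normalizer_UU (h : IsWr x y z n) :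
    (S : Subgroup G) ≤ Subgroup.normalizer (UU S h : Set G) := by
  intro s hs
  apply mem_normalizer_of_forall_conj_mem
  rintro _ ⟨u, hu, rfl⟩
  have := h.A_normal.conj_mem u hu ⟨s, hs⟩
  exact ⟨_, this, rfl⟩

/-! ### The four-group `Ω₁(U)` -/

theorem coe_a_sq (h : IsWr x y z n) :
    ((al x y MM 0 : (S : Subgroup G)) : G) * ((al x y MM 0 : (S : Subgroup G)) : G) = 1 := by
  have := al_sq h MM 0
  have h1 : al x y MM 0 * al x y MM 0 = 1 := by
    rw [h.al_mul_al, h.al_eq_one_iff]; exact ⟨N_dvd_two_M h, by simp⟩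
  exact_mod_cast h1

theorem coe_b_sq (h : IsWr x y z n) :
    ((al x y 0 MM : (S : Subgroup G)) : G) * ((al x y 0 MM : (S : Subgroup G)) : G) = 1 := by
  have h1 : al x y 0 MM * al x y 0 MM = 1 := by
    rw [h.al_mul_al, h.al_eq_one_iff]; exact ⟨by simp, N_dvd_two_M h⟩
  exact_mod_cast h1

theorem coe_a_mul_b (h : IsWr x y z n) :
    ((al x y MM 0 : (S : Subgroup G)) : G) * ((al x y 0 MM : (S : Subgroup G)) : G) =
      ((al x y MM MM : (S : Subgroup G)) : G) := by
  have h1 : al x y MM 0 * al x y 0 MM = al x y MM MM := by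
    rw [h.al_mul_al]; simp
  exact_mod_cast h1

/-- `Ω₁(U) = {1, a, b, e}`. -/
def TT (h : IsWr x y z n) : Subgroup G :=
  klein4 ((al x y MM 0 : (S : Subgroup G)) : G) ((al x y 0 MM : (S : Subgroup G)) : G)
    (coe_a_sq S h) (coe_b_sq S h) (by
      have := h.al_comm MM 0 0 MM
      exact_mod_cast this)

theorem mem_TT (h : IsWr x y z n) (t : G) :
    t ∈ TT S h ↔ t = 1 ∨ t = ((al x y MM 0 : (S : Subgroup G)) : G) ∨
      t = ((al x y 0 MM : (S : Subgroup G)) : G) ∨ t = ((al x y MM MM : (S : Subgroup G)) : G) := by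
  unfold TT
  rw [mem_klein4, coe_a_mul_b S h]

theorem mem_TT_iff (h : IsWr x y z n) (t : G) : t ∈ TT S h ↔ t ∈ UU S h ∧ t * t = 1 := by
  rw [mem_TT]
  constructor
  · rintro (rfl | rfl | rfl | rfl)
    · exact ⟨one_mem _, one_mul 1⟩
    · exact ⟨(coe_mem_UU S h _).mpr (h.al_mem_A _ _), coe_a_sq S h⟩
    · exact ⟨(coe_mem_UU S h _).mpr (h.al_mem_A _ _), coe_b_sq S h⟩
    · refine ⟨(coe_mem_UU S h _).mpr (h.al_mem_A _ _), ?_⟩
      have h1 : al x y MM MM * al x y MM MM = 1 := by
        rw [h.al_mul_al, h.al_eq_one_iff]; exact ⟨N_dvd_two_M h, N_dvd_two_M h⟩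
      exact_mod_cast h1
  · rintro ⟨⟨s, ⟨p, q, rfl⟩, rfl⟩, htt⟩
    simp only [Subgroup.coe_subtype] at htt ⊢
    have h1 : al x y p q * al x y p q = 1 := by
      apply Subtype.ext
      rw [Subgroup.coe_mul, Subgroup.coe_one]; exact htt
    rcases al_sq_eq_one h h1 with h2 | h2 | h2 | h2
    · left; rw [h2]; rfl
    · right; left; rw [h2]
    · right; right; left; rw [h2]
    · right; right; right; rw [h2]

theorem TT_le_UU (h : IsWr x y z n) : TT S h ≤ UU S h := fun t ht => ((mem_TT_iff S h t).mp ht).1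

theorem card_TT (h : IsWr x y z n) : Nat.card (TT S h) = 4 := by
  unfold TT
  apply card_klein4
  · intro hh
    have : al x y MM 0 = 1 := Subtype.ext (by exact_mod_cast hh)
    rw [h.al_eq_one_iff] at this
    exact h.not_N_dvd_M this.1
  · intro hh
    have : al x y 0 MM = 1 := Subtype.ext (by exact_mod_cast hh)
    rw [h.al_eq_one_iff] at this
    exact h.not_N_dvd_M this.2
  · intro hh
    have : al x y MM 0 = al x y 0 MM := Subtype.ext hh
    rw [h.al_eq_al_iff] at this
    have := this.1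
    simp only [sub_zero] at this
    exact h.not_N_dvd_M this

theorem normalizer_UU_le (h : IsWr x y z n) :
    Subgroup.normalizer (UU S h : Set G) ≤ Subgroup.normalizer (TT S h : Set G) := by
  intro g hg
  apply mem_normalizer_of_forall_conj_mem
  intro t ht
  rw [mem_TT_iff] at ht ⊢
  refine ⟨(Subgroup.mem_normalizer_iff.mp hg t).mp ht.1, ?_⟩
  calc g * t * g⁻¹ * (g * t * g⁻¹) = g * (t * t) * g⁻¹ := by group
    _ = 1 := by rw [ht.2]; group

/-! ### `N_G(U) / C_G(U)` -/

theorem pow_two_of_mem_S (s : G) (hs : s ∈ (S : Subgroup G)) : ∃ k : ℕ, s ^ 2 ^ k = 1 := by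
  obtain ⟨k, hk⟩ := S.isPGroup' ⟨s, hs⟩
  refine ⟨k, ?_⟩
  have := congrArg Subtype.val hk
  simpa using this

theorem coe_z_conj_a (h : IsWr x y z n) :
    (z : G) * ((al x y MM 0 : (S : Subgroup G)) : G) * (z : G)⁻¹ =
      ((al x y 0 MM : (S : Subgroup G)) : G) := by
  have := z_conj_a h
  exact_mod_cast this

theorem coe_a_ne_b (h : IsWr x y z n) :
    ((al x y MM 0 : (S : Subgroup G)) : G) ≠ ((al x y 0 MM : (S : Subgroup G)) : G) := by
  intro hh
  have : al x y MM 0 = al x y 0 MM := Subtype.ext hh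
  rw [h.al_eq_al_iff] at this
  have := this.1
  simp only [sub_zero] at this
  exact h.not_N_dvd_M this

/-- An element of `N_G(U)` centralizing `Ω₁(U)` centralizes `U`. -/
theorem mem_centralizer_UU_of (h : IsWr x y z n) {g : G}
    (hgN : g ∈ Subgroup.normalizer (UU S h : Set G))
    (hgC : g ∈ Subgroup.centralizer (TT S h : Set G)) :
    g ∈ Subgroup.centralizer (UU S h : Set G) := by
  have : Fact (Nat.Prime 2) := ⟨Nat.prime_two⟩
  apply mem_of_two_part_odd_part
  · -- the `2`-part lies in `U`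
    intro k m _ hk
    have hg1N : g ^ m ∈ Subgroup.normalizer (UU S h : Set G) := pow_mem hgN m
    have hg1C : g ^ m ∈ Subgroup.centralizer (TT S h : Set G) := pow_mem hgC m
    have hp1 : IsPGroup 2 (Subgroup.zpowers (g ^ m)) := by
      obtain ⟨j, _, hj⟩ := (Nat.dvd_prime_pow Nat.prime_two).mp hk
      apply IsPGroup.of_card (n := j)
      rw [Nat.card_zpowers, hj]
    have hp2 : IsPGroup 2 (UU S h) := S.isPGroup'.to_le (UU_le S h)
    have hp : IsPGroup 2 (Subgroup.zpowers (g ^ m) ⊔ UU S h : Subgroup G) :=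
      IsPGroup.to_sup_of_normal_right' hp1 hp2 (by
        rw [Subgroup.zpowers_le]; exact hg1N)
    obtain ⟨k', hk'⟩ := pgroup_le_map_conj_sylow S hp
    have hk'' : Subgroup.zpowers (g ^ m) ⊔ UU S h ≤ cj k' (S : Subgroup G) := hk'
    have h1 : cj k'⁻¹ (UU S h) = UU S h := by
      apply UU_weakly_closed
      rw [cj_le_iff, inv_inv]
      exact le_sup_right.trans hk''
    have hkN : k'⁻¹ ∈ Subgroup.normalizer (UU S h : Set G) := mem_normalizer_iff_cj_eq.mpr h1
    have hkT : k'⁻¹ ∈ Subgroup.normalizer (TT S h : Set G) := normalizer_UU_le S h hkN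
    have hsS : k'⁻¹ * g ^ m * k' ∈ (S : Subgroup G) := by
      have := hk'' (Subgroup.mem_sup_left (Subgroup.mem_zpowers (g ^ m)))
      exact mem_cj.mp this
    -- `s = k'⁻¹ g^m k'` commutes with `a`
    have haT : k' * ((al x y MM 0 : (S : Subgroup G)) : G) * k'⁻¹ ∈ TT S h := by
      have := (Subgroup.mem_normalizer_iff.mp (inv_mem hkT) _).mp
        ((mem_TT S h _).mpr (Or.inr (Or.inl rfl)))
      simpa using this
    have hcomm : (k'⁻¹ * g ^ m * k') * ((al x y MM 0 : (S : Subgroup G)) : G) =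
        ((al x y MM 0 : (S : Subgroup G)) : G) * (k'⁻¹ * g ^ m * k') := by
      rw [Subgroup.mem_centralizer_iff] at hg1C
      have := hg1C _ haT
      calc k'⁻¹ * g ^ m * k' * ((al x y MM 0 : (S : Subgroup G)) : G)
          = k'⁻¹ * (g ^ m * (k' * ((al x y MM 0 : (S : Subgroup G)) : G) * k'⁻¹)) * k' := by group
        _ = k'⁻¹ * ((k' * ((al x y MM 0 : (S : Subgroup G)) : G) * k'⁻¹) * g ^ m) * k' := by
            rw [this]
        _ = _ := by group
    have hsA : (⟨_, hsS⟩ : (S : Subgroup G)) ∈ h.A := by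
      apply mem_A_of_comm_a h
      apply Subtype.ext
      exact hcomm
    have hsU : k'⁻¹ * g ^ m * k' ∈ UU S h := (coe_mem_UU S h ⟨_, hsS⟩).mpr hsA
    have hgU : g ^ m ∈ UU S h := by
      have := (Subgroup.mem_normalizer_iff.mp (inv_mem hkN) _).mp hsU
      simpa [mul_assoc] using this
    rw [Subgroup.mem_centralizer_iff]
    intro u hu
    exact UU_comm S h hu hgU
  · -- the odd part centralizes `U`
    intro k hk
    have hg2N : g ^ 2 ^ k ∈ Subgroup.normalizer (UU S h : Set G) := pow_mem hgN _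
    have hg2C : g ^ 2 ^ k ∈ Subgroup.centralizer (TT S h : Set G) := pow_mem hgC _
    have key := omega_lemma (W := UU S h) (fun u hu v hv => UU_comm S h hu hv)
      (fun u hu => pow_two_of_mem_S S u (UU_le S h hu)) (g := g ^ 2 ^ k)
      (fun u hu => (Subgroup.mem_normalizer_iff.mp hg2N u).mp hu) hk (pow_orderOf_eq_one _)
      (fun t ht htt => by
        rw [Subgroup.mem_centralizer_iff] at hg2C
        have := hg2C t ((mem_TT_iff S h t).mpr ⟨ht, htt⟩)
        rw [← this]; group)
    rw [Subgroup.mem_centralizer_iff]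
    intro u hu
    have := key u hu
    calc u * g ^ 2 ^ k = (g ^ 2 ^ k * u * (g ^ 2 ^ k)⁻¹) * g ^ 2 ^ k := by rw [this]
      _ = g ^ 2 ^ k * u := by group

/-- The permutation representation of `N_G(U)` on the involutions of `U`. -/
noncomputable def psiU (h : IsWr x y z n) :
    Subgroup.normalizer (UU S h : Set G) →* Equiv.Perm {t : TT S h // t ≠ 1} :=
  (psiT (TT S h)).comp (Subgroup.inclusion (normalizer_UU_le S h))

theorem psiU_apply_coe (h : IsWr x y z n) (g : Subgroup.normalizer (UU S h : Set G))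
    (t : {t : TT S h // t ≠ 1}) :
    (((psiU S h g t : {t : TT S h // t ≠ 1}) : TT S h) : G) = (g : G) * (t : TT S h) * (g : G)⁻¹ :=
  rfl

theorem psiU_ker (h : IsWr x y z n) :
    (psiU S h).ker = (Subgroup.centralizer (UU S h : Set G)).subgroupOf
      (Subgroup.normalizer (UU S h : Set G)) := by
  ext g
  rw [MonoidHom.mem_ker, Subgroup.mem_subgroupOf]
  unfold psiU
  rw [MonoidHom.comp_apply, ← MonoidHom.mem_ker, psiT_ker, Subgroup.mem_subgroupOf]
  show (g : G) ∈ Subgroup.centralizer (TT S h : Set G) ↔ _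
  constructor
  · exact mem_centralizer_UU_of S h g.2
  · exact fun hg => Subgroup.centralizer_le (TT_le_UU S h) hg

theorem z_mem_normalizer_UU (h : IsWr x y z n) : (z : G) ∈ Subgroup.normalizer (UU S h : Set G) :=
  S_le_normalizer_UU S h z.2

theorem z_notMem_centralizer_UU (h : IsWr x y z n) :
    (z : G) ∉ Subgroup.centralizer (UU S h : Set G) := by
  intro hz
  rw [Subgroup.mem_centralizer_iff] at hz
  have h1 := hz _ ((coe_mem_UU S h (al x y MM 0)).mpr (h.al_mem_A _ _))
  apply coe_a_ne_b S h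
  rw [← coe_z_conj_a S h, ← h1]; group

/-- `|N_G(U) : C_G(U)| ∈ {2, 6}`. -/
theorem rU_two_or_six (h : IsWr x y z n) :
    (Subgroup.centralizer (UU S h : Set G)).relIndex (Subgroup.normalizer (UU S h : Set G)) = 2 ∨
    (Subgroup.centralizer (UU S h : Set G)).relIndex (Subgroup.normalizer (UU S h : Set G)) = 6 := by
  have hdvd := index_ker_dvd (psiU S h)
  rw [psiU_ker, card_perm_ne_one_of_card_four _ (card_TT S h)] at hdvd
  apply two_or_six _ hdvd
  have key := two_dvd_index_ker (psiU S h) ⟨(z : G), z_mem_normalizer_UU S h⟩ ?_ ?_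
  · rwa [psiU_ker] at key
  · intro hh
    have h1 : (⟨(z : G), z_mem_normalizer_UU S h⟩ : Subgroup.normalizer (UU S h : Set G)) ∈
        (psiU S h).ker := hh
    rw [psiU_ker, Subgroup.mem_subgroupOf] at h1
    exact z_notMem_centralizer_UU S h h1
  · rw [← MonoidHom.mem_ker, psiU_ker, Subgroup.mem_subgroupOf]
    have : (z : G) * (z : G) = 1 := by
      have := h.z_mul_z
      exact_mod_cast this
    show (z : G) * (z : G) ∈ _
    rw [this]; exact one_mem _

theorem coe_z_mul_z (h : IsWr x y z n) : (z : G) * (z : G) = 1 := by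
  have := h.z_mul_z
  exact_mod_cast this

theorem coe_z_inv (h : IsWr x y z n) : (z : G)⁻¹ = (z : G) := by
  have := h.z_inv
  exact_mod_cast this

theorem coe_e_ne_one (h : IsWr x y z n) : ((al x y MM MM : (S : Subgroup G)) : G) ≠ 1 := by
  intro hh
  exact e_ne_one h (Subtype.ext (by exact_mod_cast hh))

theorem coe_a_ne_one (h : IsWr x y z n) : ((al x y MM 0 : (S : Subgroup G)) : G) ≠ 1 := by
  intro hh
  have : al x y MM 0 = 1 := Subtype.ext (by exact_mod_cast hh)
  rw [h.al_eq_one_iff] at this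
  exact h.not_N_dvd_M this.1

theorem coe_b_ne_one (h : IsWr x y z n) : ((al x y 0 MM : (S : Subgroup G)) : G) ≠ 1 := by
  intro hh
  have : al x y 0 MM = 1 := Subtype.ext (by exact_mod_cast hh)
  rw [h.al_eq_one_iff] at this
  exact h.not_N_dvd_M this.2

theorem coe_a_ne_e (h : IsWr x y z n) :
    ((al x y MM 0 : (S : Subgroup G)) : G) ≠ ((al x y MM MM : (S : Subgroup G)) : G) := by
  intro hh
  have : al x y MM 0 = al x y MM MM := Subtype.ext hh
  rw [h.al_eq_al_iff] at this
  have := this.2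
  simp only [zero_sub] at this
  exact h.not_N_dvd_M ((dvd_neg).mp this)

theorem coe_b_ne_e (h : IsWr x y z n) :
    ((al x y 0 MM : (S : Subgroup G)) : G) ≠ ((al x y MM MM : (S : Subgroup G)) : G) := by
  intro hh
  have : al x y 0 MM = al x y MM MM := Subtype.ext hh
  rw [h.al_eq_al_iff] at this
  have := this.1
  simp only [zero_sub] at this
  exact h.not_N_dvd_M ((dvd_neg).mp this)

/-- If `|N_G(U) : C_G(U)| = 6`, some element of `N_G(U)` interchanges `a` and `e` and fixes `b`. -/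
theorem exists_swap_of_six (h : IsWr x y z n)
    (h6 : (Subgroup.centralizer (UU S h : Set G)).relIndex
      (Subgroup.normalizer (UU S h : Set G)) = 6) :
    ∃ k ∈ Subgroup.normalizer (UU S h : Set G),
      k * ((al x y MM 0 : (S : Subgroup G)) : G) * k⁻¹ = ((al x y MM MM : (S : Subgroup G)) : G) ∧
      k * ((al x y MM MM : (S : Subgroup G)) : G) * k⁻¹ = ((al x y MM 0 : (S : Subgroup G)) : G) ∧
      k * ((al x y 0 MM : (S : Subgroup G)) : G) * k⁻¹ = ((al x y 0 MM : (S : Subgroup G)) : G) := by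
  classical
  have hsurj : Function.Surjective (psiU S h) := by
    apply surjective_of_index_ker
    rw [psiU_ker, card_perm_ne_one_of_card_four _ (card_TT S h)]
    exact h6
  have haT : ((al x y MM 0 : (S : Subgroup G)) : G) ∈ TT S h :=
    (mem_TT S h _).mpr (Or.inr (Or.inl rfl))
  have hbT : ((al x y 0 MM : (S : Subgroup G)) : G) ∈ TT S h :=
    (mem_TT S h _).mpr (Or.inr (Or.inr (Or.inl rfl)))
  have heT : ((al x y MM MM : (S : Subgroup G)) : G) ∈ TT S h :=
    (mem_TT S h _).mpr (Or.inr (Or.inr (Or.inr rfl)))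
  let ta : {t : TT S h // t ≠ 1} := ⟨⟨_, haT⟩, fun hh => coe_a_ne_one S h (congrArg Subtype.val hh)⟩
  let tb : {t : TT S h // t ≠ 1} := ⟨⟨_, hbT⟩, fun hh => coe_b_ne_one S h (congrArg Subtype.val hh)⟩
  let te : {t : TT S h // t ≠ 1} := ⟨⟨_, heT⟩, fun hh => coe_e_ne_one S h (congrArg Subtype.val hh)⟩
  obtain ⟨k, hk⟩ := hsurj (Equiv.swap ta te)
  refine ⟨(k : G), k.2, ?_, ?_, ?_⟩
  · have h1 := psiU_apply_coe S h k ta
    rw [hk, Equiv.swap_apply_left] at h1
    exact h1.symm
  · have h1 := psiU_apply_coe S h k te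
    rw [hk, Equiv.swap_apply_right] at h1
    exact h1.symm
  · have h1 := psiU_apply_coe S h k tb
    have hba : tb ≠ ta := by
      intro hh
      have := congrArg (fun t : {t : TT S h // t ≠ 1} => ((t : TT S h) : G)) hh
      exact coe_a_ne_b S h this.symm
    have hbe : tb ≠ te := by
      intro hh
      have := congrArg (fun t : {t : TT S h // t ≠ 1} => ((t : TT S h) : G)) hh
      exact coe_b_ne_e S h this
    rw [hk, Equiv.swap_apply_of_ne_of_ne hba hbe] at h1
    exact h1.symm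

/-- If `|N_G(U) : C_G(U)| = 2`, then `S` controls the fusion of elements of `U`. -/
theorem ctrl_of_two (h : IsWr x y z n)
    (h2 : (Subgroup.centralizer (UU S h : Set G)).relIndex
      (Subgroup.normalizer (UU S h : Set G)) = 2)
    {u : G} (hu : u ∈ UU S h) (g : G) (hg : g * u * g⁻¹ ∈ UU S h) :
    g * u * g⁻¹ = u ∨ g * u * g⁻¹ = (z : G) * u * (z : G)⁻¹ := by
  obtain ⟨k, hkN, hk⟩ := fusion_UU S h {u} (by simpa using hu) g (by simpa using hg)
  have hku := hk u rfl
  rw [← hku]
  by_cases hkC : k ∈ Subgroup.centralizer (UU S h : Set G)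
  · left
    rw [Subgroup.mem_centralizer_iff] at hkC
    rw [← hkC u hu]; group
  · right
    have hkz : (⟨k, hkN⟩ : Subgroup.normalizer (UU S h : Set G)) * ⟨(z : G), z_mem_normalizer_UU S h⟩ ∈
        (Subgroup.centralizer (UU S h : Set G)).subgroupOf
          (Subgroup.normalizer (UU S h : Set G)) := by
      rw [Subgroup.mul_mem_iff_of_index_two h2, Subgroup.mem_subgroupOf, Subgroup.mem_subgroupOf]
      exact ⟨fun hh => absurd hh hkC, fun hh => absurd hh (z_notMem_centralizer_UU S h)⟩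
    rw [Subgroup.mem_subgroupOf] at hkz
    have hkz' : k * (z : G) ∈ Subgroup.centralizer (UU S h : Set G) := hkz
    rw [Subgroup.mem_centralizer_iff] at hkz'
    have hzu : (z : G) * u * (z : G)⁻¹ ∈ UU S h :=
      (Subgroup.mem_normalizer_iff.mp (z_mem_normalizer_UU S h) u).mp hu
    have := hkz' _ hzu
    have hzz := coe_z_mul_z S h
    have hzi := coe_z_inv S h
    calc k * u * k⁻¹ = (k * (z : G)) * ((z : G) * u * (z : G)⁻¹) * (k * (z : G))⁻¹ := by
          rw [hzi]
          calc k * u * k⁻¹ = k * ((z : G) * (z : G)) * u * ((z : G) * (z : G)) * k⁻¹ := by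
                rw [hzz]; group
            _ = _ := by rw [mul_inv_rev, hzi]; group
      _ = ((z : G) * u * (z : G)⁻¹) * (k * (z : G)) * (k * (z : G))⁻¹ := by rw [this]
      _ = (z : G) * u * (z : G)⁻¹ := by group

end Cfsg.Agent.Lib.Helper20.Wr
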