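import Cfsg.Agent.Lib.Helper20.WrG1

/-!
Fusion in finite groups with wreathed Sylow 2-subgroups, part 2: the subgroup `V = Q Z(S)` and
`N_G(V) / V C_G(V)` (helper20's library).
-/

set_option autoImplicit false
set_option linter.unusedSectionVars false

namespace Cfsg.Agent.Lib.Helper20.Wr

open Cfsg.Agent.Lib.Helper38 Cfsg.Agent.Lib.Helper33 Cfsg.Agent.Lib.Helper20
  Cfsg.Agent.Lib.Helper20.QDF

section plevel

variable {P : Type*} [Group P] {x y z : P} {n : ℕ}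

local notation "NN" => ((2 ^ n : ℕ) : ℤ)
local notation "MM" => ((2 ^ (n - 1) : ℕ) : ℤ)
local notation "HH" => ((2 ^ (n - 2) : ℕ) : ℤ)

/-- An element commuting with two non-commuting elements is central. -/
theorem mem_center_of_comm_noncomm (h : IsWr x y z n) {s t₁ t₂ : P} (h1 : s * t₁ = t₁ * s)
    (h2 : s * t₂ = t₂ * s) (hne : t₁ * t₂ ≠ t₂ * t₁) : s ∈ Subgroup.center P := by
  rcases h.exists_rep s with ⟨i, j, rfl⟩ | ⟨i, j, rfl⟩
  · rw [h.al_mem_center_iff]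
    rcases h.exists_rep t₁ with ⟨k, l, rfl⟩ | ⟨k, l, rfl⟩
    · rcases h.exists_rep t₂ with ⟨k', l', rfl⟩ | ⟨k', l', rfl⟩
      · exact absurd (h.al_comm _ _ _ _) hne
      · exact (h.al_comm_alz_iff _ _ _ _).mp h2
    · exact (h.al_comm_alz_iff _ _ _ _).mp h1
  · exfalso
    -- the centralizer of `s` is commutative
    have key : ∀ t : P, (al x y i j * z) * t = t * (al x y i j * z) →
        t ∈ Subgroup.center P ∨ ∃ ζ ∈ Subgroup.center P, t = ζ * (al x y i j * z) := by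
      intro t ht
      rcases h.exists_rep t with ⟨k, l, rfl⟩ | ⟨k, l, rfl⟩
      · left
        rw [h.al_mem_center_iff]
        exact (h.al_comm_alz_iff _ _ _ _).mp ht.symm
      · right
        refine ⟨al x y (k - i) (l - j), ?_, ?_⟩
        · rw [h.al_mem_center_iff]
          have := (h.alz_comm_alz_iff _ _ _ _).mp ht
          have e : k - i - (l - j) = -((i + l) - (j + k)) := by ring
          rw [e]; exact (dvd_neg).mpr this
        · rw [h.al_mul_alz]; congr 2 <;> ring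
    apply hne
    rcases key t₁ h1 with hc1 | ⟨ζ₁, hζ₁, rfl⟩
    · rw [Subgroup.mem_center_iff] at hc1
      exact (hc1 t₂).symm
    · rcases key t₂ h2 with hc2 | ⟨ζ₂, hζ₂, rfl⟩
      · rw [Subgroup.mem_center_iff] at hc2
        exact hc2 _
      · rw [Subgroup.mem_center_iff] at hζ₁ hζ₂
        calc ζ₁ * (al x y i j * z) * (ζ₂ * (al x y i j * z))
            = ζ₁ * ((al x y i j * z) * ζ₂) * (al x y i j * z) := by group
          _ = ζ₁ * (ζ₂ * (al x y i j * z)) * (al x y i j * z) := by rw [hζ₂]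
          _ = (ζ₁ * ζ₂) * (al x y i j * z) * (al x y i j * z) := by group
          _ = (ζ₂ * ζ₁) * (al x y i j * z) * (al x y i j * z) := by rw [hζ₂ ζ₁]
          _ = ζ₂ * (ζ₁ * (al x y i j * z)) * (al x y i j * z) := by group
          _ = ζ₂ * ((al x y i j * z) * ζ₁) * (al x y i j * z) := by rw [hζ₁]
          _ = _ := by group

theorem a_conj_z (h : IsWr x y z n) :
    al x y MM 0 * z * (al x y MM 0)⁻¹ = z * al x y MM MM := by
  have h1 := h.conj_alz_by_al MM 0 0 0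
  rw [IsWr.al_zero_zero, one_mul] at h1
  rw [h1, h.z_mul_al, h.alz_eq_alz_iff]
  refine ⟨by simp, ?_⟩
  have e : 0 + 0 - MM - MM = -(MM + MM) := by ring
  rw [e]; exact (dvd_neg).mpr (N_dvd_two_M h)

theorem z_conj_a' (h : IsWr x y z n) :
    z * al x y MM 0 * z⁻¹ = al x y MM 0 * al x y MM MM := by
  rw [z_conj_a h, a_mul_e h]

theorem e_comm_a (h : IsWr x y z n) :
    al x y MM MM * al x y MM 0 = al x y MM 0 * al x y MM MM := h.al_comm _ _ _ _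

end plevel

variable {G : Type*} [Group G] [Finite G] (S : Sylow 2 G) {n : ℕ} {x y z : (S : Subgroup G)}

local notation "NN" => ((2 ^ n : ℕ) : ℤ)
local notation "MM" => ((2 ^ (n - 1) : ℕ) : ℤ)
local notation "HH" => ((2 ^ (n - 2) : ℕ) : ℤ)
local notation "𝐚" => ((al x y MM 0 : (S : Subgroup G)) : G)
local notation "𝐛" => ((al x y 0 MM : (S : Subgroup G)) : G)
local notation "𝐞" => ((al x y MM MM : (S : Subgroup G)) : G)
local notation "𝐳" => ((z : (S : Subgroup G)) : G)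
local notation "𝐬" => ((al x y HH 0 : (S : Subgroup G)) : G)

/-! ### Basic facts on `V` and `Z(S)` in `G` -/

theorem a_mem_VV (h : IsWr x y z n) : 𝐚 ∈ VV S h := (coe_mem_VV S h _).mpr (a_mem_V0 h)

theorem z_mem_VV (h : IsWr x y z n) : 𝐳 ∈ VV S h := (coe_mem_VV S h _).mpr (z_mem_V0 h)

theorem e_mem_ZZ (h : IsWr x y z n) : 𝐞 ∈ ZZ S := (coe_mem_ZZ S _).mpr (e_mem_center h)

theorem ZZ_comm {ζ s : G} (hζ : ζ ∈ ZZ S) (hs : s ∈ (S : Subgroup G)) : ζ * s = s * ζ := by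
  obtain ⟨c, hc, rfl⟩ := hζ
  rw [SetLike.mem_coe, Subgroup.mem_center_iff] at hc
  have := hc ⟨s, hs⟩
  exact (congrArg Subtype.val this).symm

/-- `Z(S) = Z(V)`. -/
theorem mem_ZZ_iff_VV (h : IsWr x y z n) (t : G) :
    t ∈ ZZ S ↔ t ∈ VV S h ∧ ∀ v ∈ VV S h, t * v = v * t := by
  constructor
  · intro ht
    exact ⟨ZZ_le_VV S h ht, fun v hv => ZZ_comm S ht (VV_le S h hv)⟩
  · rintro ⟨⟨s, hs, rfl⟩, hcomm⟩
    apply (coe_mem_ZZ S s).mpr
    apply mem_center_of_comm_V0 h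
    intro t ht
    have := hcomm (t : G) ((coe_mem_VV S h t).mpr ht)
    apply Subtype.ext
    exact this

theorem conj_mem_ZZ (h : IsWr x y z n) {g : G} (hg : g ∈ Subgroup.normalizer (VV S h : Set G))
    {ζ : G} (hζ : ζ ∈ ZZ S) : g * ζ * g⁻¹ ∈ ZZ S := by
  rw [mem_ZZ_iff_VV S h] at hζ ⊢
  refine ⟨(Subgroup.mem_normalizer_iff.mp hg ζ).mp hζ.1, ?_⟩
  intro v hv
  have hv' : g⁻¹ * v * g ∈ VV S h := by
    have := (Subgroup.mem_normalizer_iff.mp (inv_mem hg) v).mp hv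
    simpa using this
  have := hζ.2 _ hv'
  calc g * ζ * g⁻¹ * v = g * (ζ * (g⁻¹ * v * g)) * g⁻¹ := by group
    _ = g * ((g⁻¹ * v * g) * ζ) * g⁻¹ := by rw [this]
    _ = v * (g * ζ * g⁻¹) := by group

theorem mem_center_VV_iff (h : IsWr x y z n) (v : VV S h) :
    v ∈ Subgroup.center (VV S h) ↔ (v : G) ∈ ZZ S := by
  rw [mem_ZZ_iff_VV S h, Subgroup.mem_center_iff]
  constructor
  · intro hv
    refine ⟨v.2, fun w hw => ?_⟩
    have := hv ⟨w, hw⟩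
    exact (congrArg Subtype.val this).symm
  · rintro ⟨_, hv⟩ w
    apply Subtype.ext
    exact (hv w w.2).symm

theorem coe_a_z_not_comm (h : IsWr x y z n) : 𝐚 * 𝐳 ≠ 𝐳 * 𝐚 := by
  intro hh
  apply a_z_not_comm h
  apply Subtype.ext
  exact_mod_cast hh

theorem VV_cases (h : IsWr x y z n) {v : G} (hv : v ∈ VV S h) :
    ∃ ζ ∈ ZZ S, v = ζ ∨ v = ζ * 𝐚 ∨ v = ζ * 𝐳 ∨ v = ζ * (𝐚 * 𝐳) := by
  obtain ⟨s, hs, rfl⟩ := hv
  obtain ⟨ζ, hζ, hh⟩ := V0_cases h hs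
  refine ⟨(ζ : G), (coe_mem_ZZ S ζ).mpr hζ, ?_⟩
  rcases hh with rfl | rfl | rfl | rfl
  · left; rfl
  · right; left; rfl
  · right; right; left; rfl
  · right; right; right; rfl

theorem card_quot_VV (h : IsWr x y z n) :
    Nat.card (VV S h ⧸ Subgroup.center (VV S h)) = 4 := by
  apply card_quot_center_eq_four (⟨𝐚, a_mem_VV S h⟩ : VV S h) ⟨𝐳, z_mem_VV S h⟩
  · intro hh
    exact coe_a_z_not_comm S h (congrArg Subtype.val hh)
  · intro w
    obtain ⟨ζ, hζ, hh⟩ := VV_cases S h w.2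
    refine ⟨⟨ζ, ZZ_le_VV S h hζ⟩, (mem_center_VV_iff S h _).mpr hζ, ?_⟩
    rcases hh with hh | hh | hh | hh
    · left; exact Subtype.ext hh
    · right; left; exact Subtype.ext hh
    · right; right; left; exact Subtype.ext hh
    · right; right; right; exact Subtype.ext hh

/-! ### `N_G(V)` centralizes `Z(S)` -/

theorem ZZ_comm' {ζ ξ : G} (hζ : ζ ∈ ZZ S) (hξ : ξ ∈ ZZ S) : ζ * ξ = ξ * ζ :=
  ZZ_comm S hζ (ZZ_le S hξ)

theorem ZZ_sq_eq_one (h : IsWr x y z n) {ζ : G} (hζ : ζ ∈ ZZ S) (hh : ζ * ζ = 1) :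
    ζ = 1 ∨ ζ = 𝐞 := by
  obtain ⟨c, hc, rfl⟩ := hζ
  simp only [Subgroup.coe_subtype] at hh ⊢
  have h1 : c * c = 1 := Subtype.ext (by rw [Subgroup.coe_mul, Subgroup.coe_one]; exact hh)
  rcases center_sq_eq_one h hc h1 with h2 | h2
  · left; rw [h2]; rfl
  · right; rw [h2]

theorem conj_e_of_mem_normalizer_VV (h : IsWr x y z n) {g : G}
    (hg : g ∈ Subgroup.normalizer (VV S h : Set G)) : g * 𝐞 * g⁻¹ = 𝐞 := by
  have h1 := conj_mem_ZZ S h hg (e_mem_ZZ S h)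
  have h2 : g * 𝐞 * g⁻¹ * (g * 𝐞 * g⁻¹) = 1 := by
    have : 𝐞 * 𝐞 = 1 := by
      have h3 : al x y MM MM * al x y MM MM = 1 := by
        rw [h.al_mul_al, h.al_eq_one_iff]; exact ⟨N_dvd_two_M h, N_dvd_two_M h⟩
      exact_mod_cast h3
    calc g * 𝐞 * g⁻¹ * (g * 𝐞 * g⁻¹) = g * (𝐞 * 𝐞) * g⁻¹ := by group
      _ = 1 := by rw [this]; group
  rcases ZZ_sq_eq_one S h h1 h2 with h3 | h3
  · exfalso
    apply coe_e_ne_one S h
    have : 𝐞 = g⁻¹ * (g * 𝐞 * g⁻¹) * g := by group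
    rw [this, h3]; group
  · exact h3

/-- `N_G(V)` centralizes `Z(S)`. -/
theorem normalizer_VV_le_centralizer_ZZ (h : IsWr x y z n) :
    Subgroup.normalizer (VV S h : Set G) ≤ Subgroup.centralizer (ZZ S : Set G) := by
  have : Fact (Nat.Prime 2) := ⟨Nat.prime_two⟩
  intro g hgN
  apply mem_of_two_part_odd_part
  · intro k m _ hk
    have hg1N : g ^ m ∈ Subgroup.normalizer (VV S h : Set G) := pow_mem hgN m
    have hp1 : IsPGroup 2 (Subgroup.zpowers (g ^ m)) := by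
      obtain ⟨j, _, hj⟩ := (Nat.dvd_prime_pow Nat.prime_two).mp hk
      apply IsPGroup.of_card (n := j)
      rw [Nat.card_zpowers, hj]
    have hp2 : IsPGroup 2 (VV S h) := S.isPGroup'.to_le (VV_le S h)
    have hp : IsPGroup 2 (Subgroup.zpowers (g ^ m) ⊔ VV S h : Subgroup G) :=
      IsPGroup.to_sup_of_normal_right' hp1 hp2 (by
        rw [Subgroup.zpowers_le]; exact hg1N)
    obtain ⟨k', hk'⟩ := pgroup_le_map_conj_sylow S hp
    have hk'' : Subgroup.zpowers (g ^ m) ⊔ VV S h ≤ cj k' (S : Subgroup G) := hk'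
    have hsS : k'⁻¹ * g ^ m * k' ∈ (S : Subgroup G) :=
      mem_cj.mp (hk'' (Subgroup.mem_sup_left (Subgroup.mem_zpowers (g ^ m))))
    have hVS : ∀ v ∈ VV S h, k'⁻¹ * v * k' ∈ (S : Subgroup G) :=
      fun v hv => mem_cj.mp (hk'' (Subgroup.mem_sup_right hv))
    rw [Subgroup.mem_centralizer_iff]
    intro ζ hζ
    -- `k'⁻¹ ζ k'` is central in `S`
    have hζc : (⟨_, hVS ζ (ZZ_le_VV S h hζ)⟩ : (S : Subgroup G)) ∈
        Subgroup.center (S : Subgroup G) := by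
      apply mem_center_of_comm_noncomm h (t₁ := ⟨_, hVS _ (a_mem_VV S h)⟩)
        (t₂ := ⟨_, hVS _ (z_mem_VV S h)⟩)
      · apply Subtype.ext
        show k'⁻¹ * ζ * k' * (k'⁻¹ * 𝐚 * k') = k'⁻¹ * 𝐚 * k' * (k'⁻¹ * ζ * k')
        have := ZZ_comm S hζ (VV_le S h (a_mem_VV S h))
        calc k'⁻¹ * ζ * k' * (k'⁻¹ * 𝐚 * k') = k'⁻¹ * (ζ * 𝐚) * k' := by group
          _ = k'⁻¹ * (𝐚 * ζ) * k' := by rw [this]
          _ = _ := by group
      · apply Subtype.ext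
        show k'⁻¹ * ζ * k' * (k'⁻¹ * 𝐳 * k') = k'⁻¹ * 𝐳 * k' * (k'⁻¹ * ζ * k')
        have := ZZ_comm S hζ (VV_le S h (z_mem_VV S h))
        calc k'⁻¹ * ζ * k' * (k'⁻¹ * 𝐳 * k') = k'⁻¹ * (ζ * 𝐳) * k' := by group
          _ = k'⁻¹ * (𝐳 * ζ) * k' := by rw [this]
          _ = _ := by group
      · intro hh
        apply coe_a_z_not_comm S h
        have := congrArg Subtype.val hh
        have h1 : k'⁻¹ * 𝐚 * k' * (k'⁻¹ * 𝐳 * k') = k'⁻¹ * 𝐳 * k' * (k'⁻¹ * 𝐚 * k') := this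
        calc 𝐚 * 𝐳 = k' * (k'⁻¹ * 𝐚 * k' * (k'⁻¹ * 𝐳 * k')) * k'⁻¹ := by group
          _ = k' * (k'⁻¹ * 𝐳 * k' * (k'⁻¹ * 𝐚 * k')) * k'⁻¹ := by rw [h1]
          _ = 𝐳 * 𝐚 := by group
    have hζZ : k'⁻¹ * ζ * k' ∈ ZZ S := (coe_mem_ZZ S ⟨_, hVS ζ (ZZ_le_VV S h hζ)⟩).mpr hζc
    have := ZZ_comm S hζZ hsS
    calc ζ * g ^ m = k' * ((k'⁻¹ * ζ * k') * (k'⁻¹ * g ^ m * k')) * k'⁻¹ := by group
      _ = k' * ((k'⁻¹ * g ^ m * k') * (k'⁻¹ * ζ * k')) * k'⁻¹ := by rw [this]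
      _ = g ^ m * ζ := by group
  · intro k hk
    have hg2N : g ^ 2 ^ k ∈ Subgroup.normalizer (VV S h : Set G) := pow_mem hgN _
    have key := omega_lemma (W := ZZ S) (fun u hu v hv => ZZ_comm' S hu hv)
      (fun u hu => pow_two_of_mem_S S u (ZZ_le S hu)) (g := g ^ 2 ^ k)
      (fun u hu => conj_mem_ZZ S h hg2N hu) hk (pow_orderOf_eq_one _)
      (fun t ht htt => by
        rcases ZZ_sq_eq_one S h ht htt with rfl | rfl
        · group
        · exact conj_e_of_mem_normalizer_VV S h hg2N)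
    rw [Subgroup.mem_centralizer_iff]
    intro u hu
    have := key u hu
    calc u * g ^ 2 ^ k = (g ^ 2 ^ k * u * (g ^ 2 ^ k)⁻¹) * g ^ 2 ^ k := by rw [this]
      _ = g ^ 2 ^ k * u := by group

theorem conj_ZZ_of_mem_normalizer_VV (h : IsWr x y z n) {g : G}
    (hg : g ∈ Subgroup.normalizer (VV S h : Set G)) {ζ : G} (hζ : ζ ∈ ZZ S) : g * ζ * g⁻¹ = ζ := by
  have := normalizer_VV_le_centralizer_ZZ S h hg
  rw [Subgroup.mem_centralizer_iff] at this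
  rw [← this ζ hζ]; group

/-! ### `N_G(V) / V C_G(V)` -/

theorem coe_z_conj_a' (h : IsWr x y z n) : 𝐳 * 𝐚 * 𝐳⁻¹ = 𝐚 * 𝐞 := by
  have := z_conj_a' h
  exact_mod_cast this

theorem coe_a_conj_z (h : IsWr x y z n) : 𝐚 * 𝐳 * 𝐚⁻¹ = 𝐳 * 𝐞 := by
  have := a_conj_z h
  exact_mod_cast this

theorem coe_e_comm_a (h : IsWr x y z n) : 𝐞 * 𝐚 = 𝐚 * 𝐞 := by
  have := e_comm_a h
  exact_mod_cast this

theorem coe_e_sq (h : IsWr x y z n) : 𝐞 * 𝐞 = 1 := by
  have h3 : al x y MM MM * al x y MM MM = 1 := by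
    rw [h.al_mul_al, h.al_eq_one_iff]; exact ⟨N_dvd_two_M h, N_dvd_two_M h⟩
  exact_mod_cast h3

/-- If `g t g⁻¹ ∈ t Z(S)` for an involution `t ∈ S`, then `g t g⁻¹ ∈ {t, t e}`. -/
theorem conj_invol_cases (h : IsWr x y z n) {g t : G} (htS : t ∈ (S : Subgroup G))
    (htt : t * t = 1) (hζ : t⁻¹ * (g * t * g⁻¹) ∈ ZZ S) :
    g * t * g⁻¹ = t ∨ g * t * g⁻¹ = t * 𝐞 := by
  set ζ := t⁻¹ * (g * t * g⁻¹) with hζdef
  have h1 : g * t * g⁻¹ = t * ζ := by rw [hζdef]; group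
  have h2 : ζ * t = t * ζ := ZZ_comm S hζ htS
  have h3 : ζ * ζ = 1 := by
    have h4 : (g * t * g⁻¹) * (g * t * g⁻¹) = 1 := by
      calc g * t * g⁻¹ * (g * t * g⁻¹) = g * (t * t) * g⁻¹ := by group
        _ = 1 := by rw [htt]; group
    rw [h1] at h4
    calc ζ * ζ = (t * t) * (ζ * ζ) := by rw [htt, one_mul]
      _ = t * (t * ζ) * ζ := by group
      _ = t * (ζ * t) * ζ := by rw [h2]
      _ = t * ζ * (t * ζ) := by group
      _ = 1 := h4
  rcases ZZ_sq_eq_one S h hζ h3 with h5 | h5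
  · left; rw [h1, h5, mul_one]
  · right; rw [h1, h5]

/-- The kernel of the action of `N_G(V)` on `V / Z(V)` is `V C_G(V)`. -/
theorem ker_decomp_VV (h : IsWr x y z n) (g : Subgroup.normalizer (VV S h : Set G))
    (hg : g ∈ (psiQ (VV S h)).ker) :
    ∃ q₀ ∈ VV S h, ∃ c ∈ Subgroup.centralizer (VV S h : Set G), (g : G) = q₀ * c := by
  rw [mem_psiQ_ker] at hg
  have ha := (mem_center_VV_iff S h _).mp (hg ⟨𝐚, a_mem_VV S h⟩)
  have hz := (mem_center_VV_iff S h _).mp (hg ⟨𝐳, z_mem_VV S h⟩)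
  simp only [Subgroup.coe_mul, Subgroup.coe_inv, normalizerMonoidHom_coe] at ha hz
  have hv := conj_invol_cases S h (VV_le S h (a_mem_VV S h)) (coe_a_sq S h) ha
  have hw := conj_invol_cases S h (VV_le S h (z_mem_VV S h)) (coe_z_mul_z S h) hz
  obtain ⟨q₀, hq₀, hc1, hc2⟩ := four_case (g : G) 𝐚 𝐳 𝐞 (coe_z_conj_a' S h) (coe_a_conj_z S h)
    (coe_e_comm_a S h) hv hw
  have hq₀V : q₀ ∈ VV S h := by
    rcases hq₀ with rfl | rfl | rfl | rfl
    · exact one_mem _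
    · exact z_mem_VV S h
    · exact a_mem_VV S h
    · exact mul_mem (a_mem_VV S h) (z_mem_VV S h)
  refine ⟨q₀, hq₀V, q₀⁻¹ * g, ?_, by group⟩
  have hcN : q₀⁻¹ * (g : G) ∈ Subgroup.normalizer (VV S h : Set G) :=
    mul_mem (inv_mem (Subgroup.le_normalizer hq₀V)) g.2
  have hca : (q₀⁻¹ * (g : G)) * 𝐚 = 𝐚 * (q₀⁻¹ * (g : G)) := commute_of_conj hc1
  have hcz : (q₀⁻¹ * (g : G)) * 𝐳 = 𝐳 * (q₀⁻¹ * (g : G)) := commute_of_conj hc2
  have hcZ : ∀ ζ ∈ ZZ S, (q₀⁻¹ * (g : G)) * ζ = ζ * (q₀⁻¹ * (g : G)) := by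
    intro ζ hζ
    have := normalizer_VV_le_centralizer_ZZ S h hcN
    rw [Subgroup.mem_centralizer_iff] at this
    exact (this ζ hζ).symm
  rw [Subgroup.mem_centralizer_iff]
  intro v hv
  set c := q₀⁻¹ * (g : G) with hcdef
  obtain ⟨ζ, hζ, hh | hh | hh | hh⟩ := VV_cases S h hv <;> rw [hh]
  · exact (hcZ ζ hζ).symm
  · calc ζ * 𝐚 * c = ζ * (𝐚 * c) := by group
      _ = ζ * (c * 𝐚) := by rw [hca]
      _ = (ζ * c) * 𝐚 := by group
      _ = (c * ζ) * 𝐚 := by rw [hcZ ζ hζ]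
      _ = c * (ζ * 𝐚) := by group
  · calc ζ * 𝐳 * c = ζ * (𝐳 * c) := by group
      _ = ζ * (c * 𝐳) := by rw [hcz]
      _ = (ζ * c) * 𝐳 := by group
      _ = (c * ζ) * 𝐳 := by rw [hcZ ζ hζ]
      _ = c * (ζ * 𝐳) := by group
  · calc ζ * (𝐚 * 𝐳) * c = ζ * 𝐚 * (𝐳 * c) := by group
      _ = ζ * 𝐚 * (c * 𝐳) := by rw [hcz]
      _ = ζ * (𝐚 * c) * 𝐳 := by group
      _ = ζ * (c * 𝐚) * 𝐳 := by rw [hca]
      _ = (ζ * c) * 𝐚 * 𝐳 := by group
      _ = (c * ζ) * 𝐚 * 𝐳 := by rw [hcZ ζ hζ]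
      _ = c * (ζ * (𝐚 * 𝐳)) := by group

theorem psiV_ker (h : IsWr x y z n) :
    (psiQ (VV S h)).ker = (VV S h ⊔ Subgroup.centralizer (VV S h : Set G)).subgroupOf
      (Subgroup.normalizer (VV S h : Set G)) := by
  ext g
  rw [Subgroup.mem_subgroupOf]
  constructor
  · intro hg
    obtain ⟨q₀, hq₀, c, hc, hh⟩ := ker_decomp_VV S h g hg
    rw [hh]
    exact mul_mem (Subgroup.mem_sup_left hq₀) (Subgroup.mem_sup_right hc)
  · intro hg
    have hle : VV S h ⊔ Subgroup.centralizer (VV S h : Set G) ≤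
        (psiQ (VV S h)).ker.map (Subgroup.normalizer (VV S h : Set G)).subtype := by
      apply sup_le
      · intro q₁ hq₁
        refine ⟨⟨q₁, Subgroup.le_normalizer hq₁⟩, ?_, rfl⟩
        rw [SetLike.mem_coe, mem_psiQ_ker]
        intro q
        rw [mem_center_VV_iff]
        simp only [Subgroup.coe_mul, Subgroup.coe_inv, normalizerMonoidHom_coe]
        obtain ⟨s, hs, hsq⟩ := q.2
        obtain ⟨t, ht, htq⟩ := hq₁
        have := V0_comm_mem_center h hs ht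
        have h1 := (coe_mem_ZZ S _).mpr this
        rw [← hsq, ← htq]
        exact_mod_cast h1
      · intro c hc
        refine ⟨⟨c, Subgroup.centralizer_le_normalizer _ hc⟩, ?_, rfl⟩
        rw [SetLike.mem_coe, mem_psiQ_ker]
        intro q
        have e : q⁻¹ * (VV S h).normalizerMonoidHom
            ⟨c, Subgroup.centralizer_le_normalizer _ hc⟩ q = 1 := by
          apply Subtype.ext
          show (q : G)⁻¹ * (c * q * c⁻¹) = 1
          rw [Subgroup.mem_centralizer_iff] at hc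
          rw [← hc q q.2]; group
        rw [e]; exact one_mem _
    obtain ⟨g', hg', hgg'⟩ := hle hg
    have : g' = g := Subtype.ext hgg'
    rw [← this]; exact hg'

theorem s0_mem_normalizer_VV (h : IsWr x y z n) : 𝐬 ∈ Subgroup.normalizer (VV S h : Set G) := by
  apply mem_normalizer_of_forall_conj_mem
  rintro _ ⟨t, ht, rfl⟩
  have := (s0_conj_mem_V0_iff h t).mpr ht
  have h1 := (coe_mem_VV S h _).mpr this
  exact_mod_cast h1

theorem s0_notMem_ker (h : IsWr x y z n) :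
    (⟨𝐬, s0_mem_normalizer_VV S h⟩ : Subgroup.normalizer (VV S h : Set G)) ∉ (psiQ (VV S h)).ker := by
  intro hh
  rw [mem_psiQ_ker] at hh
  have h1 := (mem_center_VV_iff S h _).mp (hh ⟨𝐳, z_mem_VV S h⟩)
  simp only [Subgroup.coe_mul, Subgroup.coe_inv, normalizerMonoidHom_coe] at h1
  apply s0_conj_z_notMem h
  apply (coe_mem_ZZ S _).mp
  exact_mod_cast h1

theorem card_perm_VV (h : IsWr x y z n) :
    Nat.card (Equiv.Perm {t : VV S h ⧸ Subgroup.center (VV S h) // t ≠ 1}) = 6 :=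
  card_perm_ne_one_of_card_four _ (card_quot_VV S h)

/-- `|N_G(V) : V C_G(V)| ∈ {2, 6}`. -/
theorem rV_two_or_six (h : IsWr x y z n) :
    (VV S h ⊔ Subgroup.centralizer (VV S h : Set G)).relIndex
      (Subgroup.normalizer (VV S h : Set G)) = 2 ∨
    (VV S h ⊔ Subgroup.centralizer (VV S h : Set G)).relIndex
      (Subgroup.normalizer (VV S h : Set G)) = 6 := by
  have hdvd := index_ker_dvd (psiQ (VV S h))
  rw [card_perm_VV S h, psiV_ker S h] at hdvd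
  apply two_or_six _ hdvd
  have key := two_dvd_index_ker (psiQ (VV S h)) ⟨𝐬, s0_mem_normalizer_VV S h⟩ ?_ ?_
  · rwa [psiV_ker S h] at key
  · exact fun hh => s0_notMem_ker S h hh
  · rw [← MonoidHom.mem_ker, psiV_ker S h, Subgroup.mem_subgroupOf]
    apply Subgroup.mem_sup_left
    have h1 := (coe_mem_VV S h _).mpr (a_mem_V0 h)
    rw [← s0_sq h] at h1
    exact_mod_cast h1

theorem a_notMem_ZZ (h : IsWr x y z n) : 𝐚 ∉ ZZ S :=
  fun hh => a_notMem_center h ((coe_mem_ZZ S _).mp hh)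

theorem z_notMem_ZZ (h : IsWr x y z n) : 𝐳 ∉ ZZ S := by
  intro hh
  have := (coe_mem_ZZ S _).mp hh
  exact h.z_notMem_A (h.center_le_A this)

/-- If `|N_G(V) : V C_G(V)| = 6`, some element of `N_G(V)` maps the coset `a Z(S)` to `z Z(S)`. -/
theorem exists_of_rV_six (h : IsWr x y z n)
    (h6 : (VV S h ⊔ Subgroup.centralizer (VV S h : Set G)).relIndex
      (Subgroup.normalizer (VV S h : Set G)) = 6) :
    ∃ σ ∈ Subgroup.normalizer (VV S h : Set G), σ * 𝐚 * σ⁻¹ = 𝐳 ∨ σ * 𝐚 * σ⁻¹ = 𝐳 * 𝐞 := by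
  classical
  have hsurj : Function.Surjective (psiQ (VV S h)) := by
    apply surjective_of_index_ker
    rw [psiV_ker S h, card_perm_VV S h]
    exact h6
  let qa : VV S h ⧸ Subgroup.center (VV S h) := ((⟨𝐚, a_mem_VV S h⟩ : VV S h) : VV S h ⧸ _)
  let qz : VV S h ⧸ Subgroup.center (VV S h) := ((⟨𝐳, z_mem_VV S h⟩ : VV S h) : VV S h ⧸ _)
  have hqa : qa ≠ 1 := by
    intro hh
    rw [QuotientGroup.eq_one_iff, mem_center_VV_iff] at hh
    exact a_notMem_ZZ S h hh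
  have hqz : qz ≠ 1 := by
    intro hh
    rw [QuotientGroup.eq_one_iff, mem_center_VV_iff] at hh
    exact z_notMem_ZZ S h hh
  obtain ⟨σ, hσ⟩ := hsurj (Equiv.swap ⟨qa, hqa⟩ ⟨qz, hqz⟩)
  refine ⟨(σ : G), σ.2, ?_⟩
  have h1 : ((psiQ (VV S h) σ ⟨qa, hqa⟩ : {t : VV S h ⧸ Subgroup.center (VV S h) // t ≠ 1}) :
      VV S h ⧸ Subgroup.center (VV S h)) =
      (((VV S h).normalizerMonoidHom σ ⟨𝐚, a_mem_VV S h⟩ : VV S h) : VV S h ⧸ _) := rfl
  rw [hσ, Equiv.swap_apply_left] at h1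
  have h2 : (⟨𝐳, z_mem_VV S h⟩ : VV S h)⁻¹ *
      ((VV S h).normalizerMonoidHom σ ⟨𝐚, a_mem_VV S h⟩) ∈ Subgroup.center (VV S h) :=
    QuotientGroup.eq.mp h1
  rw [mem_center_VV_iff] at h2
  simp only [Subgroup.coe_mul, Subgroup.coe_inv, normalizerMonoidHom_coe] at h2
  -- `σ a σ⁻¹ = z ζ` with `ζ² = 1`
  set ζ := 𝐳⁻¹ * ((σ : G) * 𝐚 * (σ : G)⁻¹) with hζdef
  have h3 : (σ : G) * 𝐚 * (σ : G)⁻¹ = 𝐳 * ζ := by rw [hζdef]; group
  have h4 : ζ * 𝐳 = 𝐳 * ζ := ZZ_comm S h2 z.2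
  have h5 : ζ * ζ = 1 := by
    have h6 : ((σ : G) * 𝐚 * (σ : G)⁻¹) * ((σ : G) * 𝐚 * (σ : G)⁻¹) = 1 := by
      calc (σ : G) * 𝐚 * (σ : G)⁻¹ * ((σ : G) * 𝐚 * (σ : G)⁻¹) = (σ : G) * (𝐚 * 𝐚) * (σ : G)⁻¹ := by
            group
        _ = 1 := by rw [coe_a_sq S h]; group
    rw [h3] at h6
    calc ζ * ζ = (𝐳 * 𝐳) * (ζ * ζ) := by rw [coe_z_mul_z S h, one_mul]
      _ = 𝐳 * (𝐳 * ζ) * ζ := by group
      _ = 𝐳 * (ζ * 𝐳) * ζ := by rw [h4]
      _ = 𝐳 * ζ * (𝐳 * ζ) := by group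
      _ = 1 := h6
  rcases ZZ_sq_eq_one S h h2 h5 with h7 | h7
  · left; rw [h3, h7, mul_one]
  · right; rw [h3, h7]

/-! ### Normalizing the data of the statements -/

/-- Common setup: choose wreathed coordinates adapted to the quaternion subgroup `Q`. -/
theorem setup (hS : Cfsg.IsWreathed (S : Subgroup G)) (n : ℕ)
    (hn : Nat.card (S : Subgroup G) = 2 ^ (2 * n + 1)) (U : Subgroup G) (hUS : U ≤ (S : Subgroup G))
    (hUab : IsMulCommutative U) (hUcard : Nat.card U = 2 ^ (2 * n)) (Q : Subgroup G)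
    (hQS : Q ≤ (S : Subgroup G)) (eQ : Q ≃* QuaternionGroup 2) :
    ∃ (x y z : (S : Subgroup G)) (h : IsWr x y z n), U = UU S h ∧
      Q ⊔ (Subgroup.center (S : Subgroup G)).map (S : Subgroup G).subtype = VV S h := by
  obtain ⟨x, y, z₀, h₀⟩ := exists_isWr_of_card hS n hn
  obtain ⟨i, hc, hw, hQV⟩ := quat_normal h₀ (Q.subgroupOf (S : Subgroup G))
    ((Subgroup.subgroupOfEquivOfLe hQS).trans eQ)
  refine ⟨x, y, _, rebase h₀ i, ?_, ?_⟩
  · apply eq_UU_of S (rebase h₀ i) U hUS _ hUcard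
    intro u hu v hv
    have := hUab.is_comm.comm ⟨u, hu⟩ ⟨v, hv⟩
    exact congrArg Subtype.val this
  · have h1 := sup_eq_V0 (rebase h₀ i) (Q.subgroupOf (S : Subgroup G)) hc hw hQV
    unfold VV
    rw [← h1, Subgroup.map_sup, Subgroup.map_subgroupOf_eq_of_le hQS]

end Cfsg.Agent.Lib.Helper20.Wr
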