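import Cfsg.Agent.Lib.Helper20.WrG2
import Cfsg.Agent.Lib.Helper20.QDFusion2

/-!
Fusion in finite groups with wreathed Sylow 2-subgroups, part 3: conjugacy classes of involutions,
subgroups of index two (helper20's library).
-/

set_option autoImplicit false
set_option linter.unusedSectionVars false

namespace Cfsg.Agent.Lib.Helper20.Wr

open Cfsg.Agent.Lib.Helper38 Cfsg.Agent.Lib.Helper33 Cfsg.Agent.Lib.Helper20
  Cfsg.Agent.Lib.Helper20.QDF

section generic

variable {G : Type*} [Group G]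

theorem mul_mem_iff_of_relIndex_two {H L : Subgroup G} (h2 : H.relIndex L = 2) {u v : G}
    (hu : u ∈ L) (hv : v ∈ L) : u * v ∈ H ↔ (u ∈ H ↔ v ∈ H) := by
  have := Subgroup.mul_mem_iff_of_index_two (H := H.subgroupOf L) h2 (a := ⟨u, hu⟩) (b := ⟨v, hv⟩)
  simpa [Subgroup.mem_subgroupOf] using this

theorem zpow_mem_iff_of_relIndex_two {H L : Subgroup G} (h2 : H.relIndex L = 2) {u : G}
    (hu : u ∈ L) (k : ℤ) : u ^ k ∈ H ↔ (Even k ∨ u ∈ H) := by
  have := zpow_mem_iff_of_index_two (H := H.subgroupOf L) h2 ⟨u, hu⟩ k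
  simpa [Subgroup.mem_subgroupOf] using this

theorem conj_mem_iff_of_relIndex_two {H L : Subgroup G} (h2 : H.relIndex L = 2) {k u : G}
    (hk : k ∈ L) (hu : u ∈ L) : k * u * k⁻¹ ∈ H ↔ u ∈ H := by
  rw [mul_mem_iff_of_relIndex_two h2 (mul_mem hk hu) (inv_mem hk),
    mul_mem_iff_of_relIndex_two h2 hk hu]
  have : k⁻¹ ∈ H ↔ k ∈ H := by
    have := zpow_mem_iff_of_relIndex_two h2 hk (-1)
    simp at this
    simpa using this
  rw [this]
  tauto

theorem relIndex_top_of_index {H : Subgroup G} (h2 : H.index = 2) : H.relIndex ⊤ = 2 := by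
  rw [Subgroup.relIndex_top_right]; exact h2

end generic

variable {G : Type*} [Group G] [Finite G] (S : Sylow 2 G) {n : ℕ} {x y z : (S : Subgroup G)}

local notation "NN" => ((2 ^ n : ℕ) : ℤ)
local notation "MM" => ((2 ^ (n - 1) : ℕ) : ℤ)
local notation "HH" => ((2 ^ (n - 2) : ℕ) : ℤ)
local notation "𝐚" => ((al x y MM 0 : (S : Subgroup G)) : G)
local notation "𝐛" => ((al x y 0 MM : (S : Subgroup G)) : G)
local notation "𝐞" => ((al x y MM MM : (S : Subgroup G)) : G)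
local notation "𝐳" => ((z : (S : Subgroup G)) : G)
local notation "𝐬" => ((al x y HH 0 : (S : Subgroup G)) : G)

/-! ### Conjugacy of involutions -/

theorem isConj_a_b (h : IsWr x y z n) : IsConj 𝐚 𝐛 :=
  isConj_of_conj_eq (coe_z_conj_a S h)

theorem coe_a_mul_e (h : IsWr x y z n) : 𝐚 * 𝐞 = 𝐛 := by
  have := a_mul_e h
  exact_mod_cast this

theorem isConj_a_e_of_six (h : IsWr x y z n)
    (h6 : (Subgroup.centralizer (UU S h : Set G)).relIndex
      (Subgroup.normalizer (UU S h : Set G)) = 6) : IsConj 𝐚 𝐞 := by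
  obtain ⟨k, _, hk, _, _⟩ := exists_swap_of_six S h h6
  exact isConj_of_conj_eq hk

theorem isConj_a_z_of_six (h : IsWr x y z n)
    (h6 : (VV S h ⊔ Subgroup.centralizer (VV S h : Set G)).relIndex
      (Subgroup.normalizer (VV S h : Set G)) = 6) : IsConj 𝐚 𝐳 := by
  obtain ⟨σ, hσN, hσ | hσ⟩ := exists_of_rV_six S h h6
  · exact isConj_of_conj_eq hσ
  · apply (isConj_a_b S h).trans
    apply isConj_of_conj_eq (g := σ)
    have he := conj_ZZ_of_mem_normalizer_VV S h hσN (e_mem_ZZ S h)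
    rw [← coe_a_mul_e S h]
    calc σ * (𝐚 * 𝐞) * σ⁻¹ = (σ * 𝐚 * σ⁻¹) * (σ * 𝐞 * σ⁻¹) := by group
      _ = 𝐳 * 𝐞 * 𝐞 := by rw [hσ, he]
      _ = 𝐳 := by rw [mul_assoc, coe_e_sq S h, mul_one]

theorem orderOf_coe_a (h : IsWr x y z n) : orderOf 𝐚 = 2 := by
  rw [Subgroup.orderOf_coe]; exact h.orderOf_a

theorem orderOf_coe_e (h : IsWr x y z n) : orderOf 𝐞 = 2 := by
  rw [Subgroup.orderOf_coe]; exact h.orderOf_ab

theorem orderOf_coe_z (h : IsWr x y z n) : orderOf 𝐳 = 2 := by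
  rw [Subgroup.orderOf_coe]; exact h.hz

/-- Every involution of `G` is conjugate to `a`, `e` or `z`. -/
theorem invol_class (h : IsWr x y z n) (t : G) (ht : orderOf t = 2) :
    IsConj 𝐚 t ∨ IsConj 𝐞 t ∨ IsConj 𝐳 t := by
  obtain ⟨g, hg⟩ := exists_conj_mem_sylow S t 1 (by rw [ht, pow_one])
  have ho : orderOf (⟨g * t * g⁻¹, hg⟩ : (S : Subgroup G)) = 2 := by
    rw [Subgroup.orderOf_mk, orderOf_conj', ht]
  have hc : IsConj t (g * t * g⁻¹) := isConj_of_conj_eq rfl
  rcases h.involution_cases ho with h1 | h1 | h1 | ⟨i, h1⟩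
  · left
    have : g * t * g⁻¹ = 𝐚 := congrArg Subtype.val h1
    rw [← this]; exact hc.symm
  · left
    have : g * t * g⁻¹ = 𝐛 := congrArg Subtype.val h1
    apply (isConj_a_b S h).trans
    rw [← this]; exact hc.symm
  · right; left
    have : g * t * g⁻¹ = 𝐞 := congrArg Subtype.val h1
    rw [← this]; exact hc.symm
  · right; right
    have h2 : IsConj (⟨g * t * g⁻¹, hg⟩ : (S : Subgroup G)) z := by
      rw [h1]; exact isConj_of_conj_eq (h.conj_to_z i)
    exact ((isConj_coe h2).symm).trans hc.symm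

/-! ### Subgroups of index two and the action of `N_G(U)` -/

theorem coe_al_eq (i j : ℤ) :
    ((al x y i j : (S : Subgroup G)) : G) = (x : G) ^ i * (y : G) ^ j := by
  unfold al
  rw [Subgroup.coe_mul, Subgroup.coe_zpow, Subgroup.coe_zpow]

theorem x_mem_UU (h : IsWr x y z n) : (x : G) ∈ UU S h := by
  rw [coe_mem_UU]; exact ⟨1, 0, x_eq_al⟩

theorem y_mem_UU (h : IsWr x y z n) : (y : G) ∈ UU S h := by
  rw [coe_mem_UU]; exact ⟨0, 1, y_eq_al⟩

theorem coe_z_conj_x (h : IsWr x y z n) : 𝐳 * (x : G) * 𝐳⁻¹ = (y : G) := by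
  have := h.hzx
  exact_mod_cast this

/-- If `k ∈ N_G(U)` and `k x^M k⁻¹ = x^{pM} y^{qM}` then `k x k⁻¹ = x^{p'} y^{q'}` with
`p' ≡ p`, `q' ≡ q` mod 2. -/
theorem conj_x_parity (h : IsWr x y z n) {k : G} (hkN : k ∈ Subgroup.normalizer (UU S h : Set G))
    {p q : ℤ} (hk : k * 𝐚 * k⁻¹ = ((al x y (MM * p) (MM * q) : (S : Subgroup G)) : G)) :
    ∃ p' q' : ℤ, k * (x : G) * k⁻¹ = ((al x y p' q' : (S : Subgroup G)) : G) ∧
      (2 ∣ p' - p) ∧ (2 ∣ q' - q) := by
  have h1 := (Subgroup.mem_normalizer_iff.mp hkN _).mp (x_mem_UU S h)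
  obtain ⟨s, ⟨p', q', rfl⟩, hs⟩ := h1
  refine ⟨p', q', hs.symm, ?_⟩
  have h2 : 𝐚 = (x : G) ^ (2 ^ (n - 1)) := by
    rw [coe_al_eq, zpow_zero, mul_one, zpow_natCast]
  have h3 : k * 𝐚 * k⁻¹ = ((al x y p' q' ^ (2 ^ (n - 1)) : (S : Subgroup G)) : G) := by
    rw [h2, Subgroup.coe_pow, ← conj_pow]
    congr 1
    exact hs.symm
  rw [hk, h.al_pow] at h3
  have h4 := Subtype.ext h3
  rw [h.al_eq_al_iff] at h4
  have e1 : MM * p - p' * ((2 ^ (n - 1) : ℕ) : ℤ) = MM * (p - p') := by ring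
  have e2 : MM * q - q' * ((2 ^ (n - 1) : ℕ) : ℤ) = MM * (q - q') := by ring
  rw [e1, e2, N_dvd_M_mul_iff h, N_dvd_M_mul_iff h] at h4
  exact ⟨by
    have := (dvd_neg).mpr h4.1
    simpa using this, by
    have := (dvd_neg).mpr h4.2
    simpa using this⟩

/-- If `k ∈ N_G(U) ∩ L` maps `a` to `e`, then `y ∈ H` for every subgroup `H` of relative index two
in a subgroup `L` containing `U`. -/
theorem y_mem_of_conj_a_e (h : IsWr x y z n) {H L : Subgroup G} (h2 : H.relIndex L = 2)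
    (hUL : UU S h ≤ L) {k : G} (hkL : k ∈ L) (hkN : k ∈ Subgroup.normalizer (UU S h : Set G))
    (hk : k * 𝐚 * k⁻¹ = 𝐞) : (y : G) ∈ H := by
  have hk' : k * 𝐚 * k⁻¹ = ((al x y (MM * 1) (MM * 1) : (S : Subgroup G)) : G) := by
    rw [hk, mul_one]
  obtain ⟨p', q', hkx, hp, hq⟩ := conj_x_parity S h hkN hk'
  have hxL : (x : G) ∈ L := hUL (x_mem_UU S h)
  have hyL : (y : G) ∈ L := hUL (y_mem_UU S h)
  have h3 := conj_mem_iff_of_relIndex_two h2 hkL hxL
  rw [hkx, coe_al_eq, mul_mem_iff_of_relIndex_two h2 (zpow_mem hxL _) (zpow_mem hyL _),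
    zpow_mem_iff_of_relIndex_two h2 hxL, zpow_mem_iff_of_relIndex_two h2 hyL] at h3
  have hp' : ¬ Even p' := by
    rw [Int.not_even_iff_odd]
    obtain ⟨c, hc⟩ := hp
    exact ⟨c, by linarith⟩
  have hq' : ¬ Even q' := by
    rw [Int.not_even_iff_odd]
    obtain ⟨c, hc⟩ := hq
    exact ⟨c, by linarith⟩
  simp only [hp', hq', false_or] at h3
  tauto

/-- Interchanging the roles of `x` and `y`. -/
theorem swapXY (h : IsWr x y z n) : IsWr y x z n where
  hn := h.hn
  card := h.card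
  hx := h.hy
  hxy := h.hxy.symm
  hinf := by rw [inf_comm]; exact h.hinf
  hz := h.hz
  hzx := by
    have := h.zy
    rw [this]; group

theorem al_swapXY (h : IsWr x y z n) (i j : ℤ) : al y x i j = al x y j i := by
  unfold al
  exact (h.xy_zpow_comm j i).symm

theorem UU_swapXY (h : IsWr x y z n) : UU S (swapXY S h) = UU S h := by
  apply eq_UU_of S h _ (UU_le S _) (fun u hu v hv => UU_comm S _ hu hv) (card_UU S _)

/-- If `k ∈ N_G(U) ∩ L` maps `b` to `e`, then `x ∈ H` for every subgroup `H` of relative index two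
in a subgroup `L` containing `U`. -/
theorem x_mem_of_conj_b_e (h : IsWr x y z n) {H L : Subgroup G} (h2 : H.relIndex L = 2)
    (hUL : UU S h ≤ L) {k : G} (hkL : k ∈ L) (hkN : k ∈ Subgroup.normalizer (UU S h : Set G))
    (hk : k * 𝐛 * k⁻¹ = 𝐞) : (x : G) ∈ H := by
  have hU := UU_swapXY S h
  apply y_mem_of_conj_a_e S (swapXY S h) h2 (by rw [hU]; exact hUL) hkL (by rw [hU]; exact hkN)
  rw [al_swapXY S h, al_swapXY S h]
  exact hk

theorem UU_le_of_x_y_mem (h : IsWr x y z n) {H : Subgroup G} (hx : (x : G) ∈ H) (hy : (y : G) ∈ H) :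
    UU S h ≤ H := by
  rintro _ ⟨s, ⟨i, j, rfl⟩, rfl⟩
  simp only [Subgroup.coe_subtype]
  rw [coe_al_eq]
  exact mul_mem (zpow_mem hx _) (zpow_mem hy _)

theorem S_le_of_UU_le_of_z_mem (h : IsWr x y z n) {H : Subgroup G} (hU : UU S h ≤ H) (hz : 𝐳 ∈ H) :
    (S : Subgroup G) ≤ H := by
  intro s hs
  rcases h.exists_rep ⟨s, hs⟩ with ⟨i, j, hh⟩ | ⟨i, j, hh⟩
  · have : s = ((al x y i j : (S : Subgroup G)) : G) := congrArg Subtype.val hh
    rw [this]
    exact hU ((coe_mem_UU S h _).mpr (h.al_mem_A i j))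
  · have : s = ((al x y i j : (S : Subgroup G)) : G) * 𝐳 := congrArg Subtype.val hh
    rw [this]
    exact mul_mem (hU ((coe_mem_UU S h _).mpr (h.al_mem_A i j))) hz

/-- Both indices `6`: no subgroup of index two. -/
theorem no_index_two_of_six_six (h : IsWr x y z n)
    (h6U : (Subgroup.centralizer (UU S h : Set G)).relIndex
      (Subgroup.normalizer (UU S h : Set G)) = 6)
    (h6V : (VV S h ⊔ Subgroup.centralizer (VV S h : Set G)).relIndex
      (Subgroup.normalizer (VV S h : Set G)) = 6) (H : Subgroup G) : H.index ≠ 2 := by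
  intro hH
  have h2 := relIndex_top_of_index hH
  obtain ⟨k, hkN, hk, _, _⟩ := exists_swap_of_six S h h6U
  have hy : (y : G) ∈ H := y_mem_of_conj_a_e S h h2 le_top (Subgroup.mem_top k) hkN hk
  have hx : (x : G) ∈ H := by
    have := conj_mem_iff_of_relIndex_two h2 (Subgroup.mem_top 𝐳) (Subgroup.mem_top (x : G))
    rw [coe_z_conj_x S h] at this
    exact this.mp hy
  have hU := UU_le_of_x_y_mem S h hx hy
  have ha : 𝐚 ∈ H := hU ((coe_mem_UU S h _).mpr (h.al_mem_A _ _))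
  have hz : 𝐳 ∈ H := (mem_iff_of_isConj hH (isConj_a_z_of_six S h h6V)).mp ha
  exact not_sylow_le_of_index_two S H hH (S_le_of_UU_le_of_z_mem S h hU hz)

/-- Both indices `6`: one class of involutions. -/
theorem card_invol_of_six_six (h : IsWr x y z n)
    (h6U : (Subgroup.centralizer (UU S h : Set G)).relIndex
      (Subgroup.normalizer (UU S h : Set G)) = 6)
    (h6V : (VV S h ⊔ Subgroup.centralizer (VV S h : Set G)).relIndex
      (Subgroup.normalizer (VV S h : Set G)) = 6) :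
    Nat.card {C : ConjClasses G // ∃ t : G, orderOf t = 2 ∧ ConjClasses.mk t = C} = 1 := by
  apply card_classes_eq_one (fun t => orderOf t = 2) 𝐚 (orderOf_coe_a S h)
  intro t ht
  rcases invol_class S h t ht with h1 | h1 | h1
  · exact h1
  · exact (isConj_a_e_of_six S h h6U).trans h1
  · exact (isConj_a_z_of_six S h h6V).trans h1

end Cfsg.Agent.Lib.Helper20.Wr
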