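import Cfsg.Agent.Lib.Helper20.WrG3

/-!
Fusion in finite groups with wreathed Sylow 2-subgroups, part 4: fusion of the involution `z` into
`U` forces `|N_G(V) : V C_G(V)| = 6` (helper20's library).
-/

set_option autoImplicit false
set_option linter.unusedSectionVars false

namespace Cfsg.Agent.Lib.Helper20.Wr

open Cfsg.Agent.Lib.Helper38 Cfsg.Agent.Lib.Helper33 Cfsg.Agent.Lib.Helper20
  Cfsg.Agent.Lib.Helper20.QDF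

section plevel

variable {P : Type*} [Group P] {x y z : P} {n : ℕ}

local notation "NN" => ((2 ^ n : ℕ) : ℤ)
local notation "MM" => ((2 ^ (n - 1) : ℕ) : ℤ)
local notation "HH" => ((2 ^ (n - 2) : ℕ) : ℤ)

theorem pow_M_mem_center_of_notMem_A (h : IsWr x y z n) {s : P} (hs : s ∉ h.A) :
    s ^ 2 ^ (n - 1) ∈ Subgroup.center P := by
  obtain ⟨p, q, rfl⟩ := h.notMem_A hs
  have hn := h.hn
  have e : 2 ^ (n - 1) = 2 * 2 ^ (n - 2) := by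
    have : n - 1 = (n - 2) + 1 := by omega
    rw [this, pow_succ]; ring
  rw [e, pow_mul, h.alz_sq]
  exact pow_mem ((h.mem_center_iff _).mpr ⟨_, rfl⟩) _

theorem mem_center_of_comm_notMem_A (h : IsWr x y z n) {u s : P} (hu : u ∈ h.A) (hs : s ∉ h.A)
    (hus : u * s = s * u) : u ∈ Subgroup.center P := by
  obtain ⟨p, q, rfl⟩ := hu
  obtain ⟨k, l, rfl⟩ := h.notMem_A hs
  rw [h.al_mem_center_iff]
  exact (h.al_comm_alz_iff _ _ _ _).mp hus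

theorem center_eq_zpow (h : IsWr x y z n) {s : P} (hs : s ∈ Subgroup.center P) :
    ∃ i : ℤ, s = al x y 1 1 ^ i := by
  obtain ⟨i, rfl⟩ := (h.mem_center_iff s).mp hs
  refine ⟨i, ?_⟩
  rw [h.al_zpow]; simp

theorem z_conj_b (h : IsWr x y z n) : z * al x y 0 MM * z⁻¹ = al x y MM 0 := by
  have := h.conj_al_by_alz 0 0 0 MM
  rwa [IsWr.al_zero_zero, one_mul] at this

/-- The subgroup `U₀ = V₀ ∩ A = Z(P) ⟨a⟩`. -/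
theorem mem_U0_iff (h : IsWr x y z n) (s : P) :
    s ∈ V0 h ⊓ h.A ↔ ∃ p q : ℤ, MM ∣ p - q ∧ s = al x y p q := by
  rw [Subgroup.mem_inf]
  constructor
  · rintro ⟨hV, p, q, rfl⟩
    exact ⟨p, q, (al_mem_V0_iff h p q).mp hV, rfl⟩
  · rintro ⟨p, q, hd, rfl⟩
    exact ⟨al_mem_V0 h hd, h.al_mem_A p q⟩

theorem U0_conj_mem (h : IsWr x y z n) {s : P} (hs : s ∈ V0 h ⊓ h.A) (t : P) :
    t * s * t⁻¹ ∈ V0 h ⊓ h.A := by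
  rw [mem_U0_iff] at hs ⊢
  obtain ⟨p, q, hd, rfl⟩ := hs
  rcases h.exists_rep t with ⟨k, l, rfl⟩ | ⟨k, l, rfl⟩
  · exact ⟨p, q, hd, h.conj_al_by_al _ _ _ _⟩
  · refine ⟨q, p, ?_, h.conj_al_by_alz _ _ _ _⟩
    have e : q - p = -(p - q) := by ring
    rw [e]; exact (dvd_neg).mpr hd

theorem U0_cases (h : IsWr x y z n) {s : P} (hs : s ∈ V0 h ⊓ h.A) :
    ∃ ζ ∈ Subgroup.center P, s = ζ ∨ s = ζ * al x y MM 0 := by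
  obtain ⟨ζ, hζ, hh | hh | hh | hh⟩ := V0_cases h hs.1
  · exact ⟨ζ, hζ, Or.inl hh⟩
  · exact ⟨ζ, hζ, Or.inr hh⟩
  · exfalso
    have h1 : ζ⁻¹ * s = z := by rw [hh]; group
    apply h.z_notMem_A
    have h2 : ζ⁻¹ * s ∈ h.A := mul_mem (inv_mem (h.center_le_A hζ)) hs.2
    rwa [h1] at h2
  · exfalso
    have h1 : (al x y MM 0)⁻¹ * (ζ⁻¹ * s) = z := by rw [hh]; group
    apply h.z_notMem_A
    have h2 : (al x y MM 0)⁻¹ * (ζ⁻¹ * s) ∈ h.A :=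
      mul_mem (inv_mem (h.al_mem_A _ _)) (mul_mem (inv_mem (h.center_le_A hζ)) hs.2)
    rwa [h1] at h2

theorem a_mem_U0 (h : IsWr x y z n) : al x y MM 0 ∈ V0 h ⊓ h.A :=
  ⟨a_mem_V0 h, h.al_mem_A _ _⟩

theorem center_le_U0 (h : IsWr x y z n) : Subgroup.center P ≤ V0 h ⊓ h.A :=
  le_inf (center_le_V0 h) h.center_le_A

theorem s0_conj_invol (h : IsWr x y z n) (i : ℤ) :
    al x y HH 0 * (al x y i (-i) * z) * (al x y HH 0)⁻¹ =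
      al x y MM 0 * al x y (-HH) (-HH) * (al x y i (-i) * z) := by
  rw [s0_conj_alz h, h.al_mul_al, h.al_mul_alz, M_eq h]
  congr 2 <;> ring

end plevel

variable {G : Type*} [Group G] [Finite G] (S : Sylow 2 G) {n : ℕ} {x y z : (S : Subgroup G)}

local notation "NN" => ((2 ^ n : ℕ) : ℤ)
local notation "MM" => ((2 ^ (n - 1) : ℕ) : ℤ)
local notation "HH" => ((2 ^ (n - 2) : ℕ) : ℤ)
local notation "𝐚" => ((al x y MM 0 : (S : Subgroup G)) : G)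
local notation "𝐛" => ((al x y 0 MM : (S : Subgroup G)) : G)
local notation "𝐞" => ((al x y MM MM : (S : Subgroup G)) : G)
local notation "𝐳" => ((z : (S : Subgroup G)) : G)
local notation "𝐬" => ((al x y HH 0 : (S : Subgroup G)) : G)
local notation "𝛇" => ((al x y 1 1 : (S : Subgroup G)) : G)

/-! ### Reduction: fusion of `z` into `U` happens inside `C_G(Z(S))` -/

theorem ZZ_eq_zpow (h : IsWr x y z n) {ζ : G} (hζ : ζ ∈ ZZ S) : ∃ i : ℤ, ζ = 𝛇 ^ i := by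
  obtain ⟨c, hc, rfl⟩ := hζ
  obtain ⟨i, hi⟩ := center_eq_zpow h hc
  refine ⟨i, ?_⟩
  rw [hi]; simp

theorem zeta_mem_ZZ (h : IsWr x y z n) : 𝛇 ∈ ZZ S :=
  (coe_mem_ZZ S _).mpr ((h.mem_center_iff _).mpr ⟨1, rfl⟩)

theorem zeta_pow_M (h : IsWr x y z n) : 𝛇 ^ 2 ^ (n - 1) = 𝐞 := by
  have : al x y 1 1 ^ 2 ^ (n - 1) = al x y MM MM := by
    rw [h.al_pow]; simp
  exact_mod_cast this

theorem coe_z_conj_b (h : IsWr x y z n) : 𝐳 * 𝐛 * 𝐳⁻¹ = 𝐚 := by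
  have := z_conj_b h
  exact_mod_cast this

theorem conj_invol_sq {g t : G} (ht : t * t = 1) : (g * t * g⁻¹) * (g * t * g⁻¹) = 1 := by
  calc g * t * g⁻¹ * (g * t * g⁻¹) = g * (t * t) * g⁻¹ := by group
    _ = 1 := by rw [ht]; group

/-- If `z` is conjugate in `G` to an element of `U`, then some element of `C_G(Z(S))` conjugates
`z` to `a`. -/
theorem exists_centralizing_conj (h : IsWr x y z n) (g₀ : G) (hg₀ : g₀ * 𝐳 * g₀⁻¹ ∈ UU S h) :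
    ∃ g : G, (∀ ζ ∈ ZZ S, g * ζ * g⁻¹ = ζ) ∧ g * 𝐳 * g⁻¹ = 𝐚 := by
  have : Fact (Nat.Prime 2) := ⟨Nat.prime_two⟩
  set u := g₀ * 𝐳 * g₀⁻¹ with hu
  have hζz : 𝛇 * 𝐳 = 𝐳 * 𝛇 := ZZ_comm S (zeta_mem_ZZ S h) z.2
  -- Step 1: move `⟨ζ, z⟩` into `S` keeping the image of `z` in `U`
  set E := Subgroup.closure ({𝛇, 𝐳} : Set G) with hE
  have hES : E ≤ (S : Subgroup G) := by
    rw [hE, Subgroup.closure_le]
    rintro t (rfl | rfl)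
    · exact (al x y 1 1 : (S : Subgroup G)).2
    · exact z.2
  set C := Subgroup.centralizer ({u} : Set G) with hC
  have hUC : UU S h ≤ C := by
    intro v hv
    rw [hC, Subgroup.mem_centralizer_singleton_iff]
    exact UU_comm S h hv hg₀
  have hEC : cj g₀ E ≤ C := by
    rw [hE, cj_closure, Subgroup.closure_le]
    rintro _ ⟨t, (rfl | rfl), rfl⟩
    · rw [SetLike.mem_coe, hC, Subgroup.mem_centralizer_singleton_iff, hu]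
      calc g₀ * 𝛇 * g₀⁻¹ * (g₀ * 𝐳 * g₀⁻¹) = g₀ * (𝛇 * 𝐳) * g₀⁻¹ := by group
        _ = g₀ * (𝐳 * 𝛇) * g₀⁻¹ := by rw [hζz]
        _ = _ := by group
    · rw [SetLike.mem_coe, hC, Subgroup.mem_centralizer_singleton_iff]
  have hUp : IsPGroup 2 (UU S h) := S.isPGroup'.to_le (UU_le S h)
  have hEp : IsPGroup 2 E := S.isPGroup'.to_le hES
  obtain ⟨R, hR, hUR⟩ := exists_sylIn_ge hUC hUp
  obtain ⟨c, hc, hcle⟩ := hR.exists_cj_le hEC (isPGroup_cj hEp)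
  obtain ⟨k, hk⟩ := pgroup_le_map_conj_sylow S hR.isPGroup
  have hk' : R ≤ cj k (S : Subgroup G) := hk
  have h1 : cj k⁻¹ (UU S h) = UU S h := by
    apply UU_weakly_closed
    rw [cj_le_iff, inv_inv]
    exact hUR.trans hk'
  have hkN : k⁻¹ ∈ Subgroup.normalizer (UU S h : Set G) := mem_normalizer_iff_cj_eq.mpr h1
  set g₁ := k⁻¹ * (c * g₀) with hg₁
  have hE1 : cj g₁ E ≤ (S : Subgroup G) := by
    rw [hg₁, cj_mul, cj_le_iff, inv_inv, cj_mul]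
    exact hcle.trans hk'
  have hs₁S : g₁ * 𝛇 * g₁⁻¹ ∈ (S : Subgroup G) :=
    hE1 (conj_mem_cj (Subgroup.subset_closure (by simp)))
  have hu₁ : g₁ * 𝐳 * g₁⁻¹ ∈ UU S h := by
    have e1 : g₁ * 𝐳 * g₁⁻¹ = k⁻¹ * (c * u * c⁻¹) * k⁻¹⁻¹ := by rw [hg₁, hu]; group
    have e2 : c * u * c⁻¹ = u := by
      rw [hC, Subgroup.mem_centralizer_singleton_iff] at hc
      rw [hc]; group
    rw [e1, e2]
    exact (Subgroup.mem_normalizer_iff.mp hkN u).mp hg₀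
  have hcomm1 : (g₁ * 𝛇 * g₁⁻¹) * (g₁ * 𝐳 * g₁⁻¹) = (g₁ * 𝐳 * g₁⁻¹) * (g₁ * 𝛇 * g₁⁻¹) := by
    calc g₁ * 𝛇 * g₁⁻¹ * (g₁ * 𝐳 * g₁⁻¹) = g₁ * (𝛇 * 𝐳) * g₁⁻¹ := by group
      _ = g₁ * (𝐳 * 𝛇) * g₁⁻¹ := by rw [hζz]
      _ = _ := by group
  have hzne : 𝐳 ≠ 𝐞 := fun hh => z_notMem_ZZ S h (hh ▸ e_mem_ZZ S h)
  -- Step 2: the image of `ζ` lies in `U`
  have hs₁U : g₁ * 𝛇 * g₁⁻¹ ∈ UU S h := by
    by_contra hnot
    have hnotA : (⟨_, hs₁S⟩ : (S : Subgroup G)) ∉ h.A := fun hh => hnot ((coe_mem_UU S h _).mpr hh)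
    obtain ⟨u₁, hu₁A, hu₁e⟩ := hu₁
    have hu₁e' : (u₁ : G) = g₁ * 𝐳 * g₁⁻¹ := hu₁e
    have hu₁c : u₁ ∈ Subgroup.center (S : Subgroup G) := by
      apply mem_center_of_comm_notMem_A h hu₁A hnotA
      apply Subtype.ext
      show (u₁ : G) * (g₁ * 𝛇 * g₁⁻¹) = (g₁ * 𝛇 * g₁⁻¹) * (u₁ : G)
      rw [hu₁e']; exact hcomm1.symm
    have hu₁Z : g₁ * 𝐳 * g₁⁻¹ ∈ ZZ S := by
      rw [← hu₁e']; exact (coe_mem_ZZ S _).mpr hu₁c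
    have hu₁ee : g₁ * 𝐳 * g₁⁻¹ = 𝐞 := by
      rcases ZZ_sq_eq_one S h hu₁Z (conj_invol_sq (coe_z_mul_z S h)) with hh | hh
      · exfalso
        apply h.z_ne_one
        have : 𝐳 = 1 := by
          have e : 𝐳 = g₁⁻¹ * (g₁ * 𝐳 * g₁⁻¹) * g₁ := by group
          rw [e, hh]; group
        exact Subtype.ext (by exact_mod_cast this)
      · exact hh
    have hpow : g₁ * 𝐞 * g₁⁻¹ ∈ ZZ S := by
      have h2 := pow_M_mem_center_of_notMem_A h hnotA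
      have h3 := (coe_mem_ZZ S _).mpr h2
      rw [Subgroup.coe_pow] at h3
      have e : (g₁ * 𝛇 * g₁⁻¹) ^ 2 ^ (n - 1) = g₁ * 𝐞 * g₁⁻¹ := by
        rw [conj_pow, zeta_pow_M S h]
      rw [← e]; exact h3
    have hee : g₁ * 𝐞 * g₁⁻¹ = 𝐞 := by
      rcases ZZ_sq_eq_one S h hpow (conj_invol_sq (coe_e_sq S h)) with hh | hh
      · exfalso
        apply coe_e_ne_one S h
        have e : 𝐞 = g₁⁻¹ * (g₁ * 𝐞 * g₁⁻¹) * g₁ := by group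
        rw [e, hh]; group
      · exact hh
    apply hzne
    calc 𝐳 = g₁⁻¹ * (g₁ * 𝐳 * g₁⁻¹) * g₁ := by group
      _ = g₁⁻¹ * 𝐞 * g₁ := by rw [hu₁ee]
      _ = g₁⁻¹ * (g₁ * 𝐞 * g₁⁻¹) * g₁ := by rw [hee]
      _ = 𝐞 := by group
  -- Step 3: control of fusion in `U`
  have hZU : ∀ ζ ∈ ZZ S, g₁ * ζ * g₁⁻¹ ∈ UU S h := by
    intro ζ hζ
    obtain ⟨i, rfl⟩ := ZZ_eq_zpow S h hζ
    rw [← conj_zpow]
    exact zpow_mem hs₁U i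
  obtain ⟨k₂, hk₂N, hk₂⟩ := fusion_UU S h (ZZ S : Set G) (ZZ_le_UU S h) g₁ hZU
  set g₂ := k₂⁻¹ * g₁ with hg₂
  have hg₂Z : ∀ ζ ∈ ZZ S, g₂ * ζ * g₂⁻¹ = ζ := by
    intro ζ hζ
    have := hk₂ ζ hζ
    calc g₂ * ζ * g₂⁻¹ = k₂⁻¹ * (g₁ * ζ * g₁⁻¹) * k₂ := by rw [hg₂]; group
      _ = k₂⁻¹ * (k₂ * ζ * k₂⁻¹) * k₂ := by rw [this]
      _ = ζ := by group
  have hu₂ : g₂ * 𝐳 * g₂⁻¹ ∈ UU S h := by
    have e : g₂ * 𝐳 * g₂⁻¹ = k₂⁻¹ * (g₁ * 𝐳 * g₁⁻¹) * k₂⁻¹⁻¹ := by rw [hg₂]; group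
    rw [e]
    exact (Subgroup.mem_normalizer_iff.mp (inv_mem hk₂N) _).mp hu₁
  have hu₂T : g₂ * 𝐳 * g₂⁻¹ ∈ TT S h :=
    (mem_TT_iff S h _).mpr ⟨hu₂, conj_invol_sq (coe_z_mul_z S h)⟩
  rcases (mem_TT S h _).mp hu₂T with hh | hh | hh | hh
  · exfalso
    apply h.z_ne_one
    have : 𝐳 = 1 := by
      have e : 𝐳 = g₂⁻¹ * (g₂ * 𝐳 * g₂⁻¹) * g₂ := by group
      rw [e, hh]; group
    exact Subtype.ext (by exact_mod_cast this)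
  · exact ⟨g₂, hg₂Z, hh⟩
  · refine ⟨𝐳 * g₂, ?_, ?_⟩
    · intro ζ hζ
      calc 𝐳 * g₂ * ζ * (𝐳 * g₂)⁻¹ = 𝐳 * (g₂ * ζ * g₂⁻¹) * 𝐳⁻¹ := by group
        _ = 𝐳 * ζ * 𝐳⁻¹ := by rw [hg₂Z ζ hζ]
        _ = ζ := by rw [← ZZ_comm S hζ z.2]; group
    · calc 𝐳 * g₂ * 𝐳 * (𝐳 * g₂)⁻¹ = 𝐳 * (g₂ * 𝐳 * g₂⁻¹) * 𝐳⁻¹ := by group
        _ = 𝐳 * 𝐛 * 𝐳⁻¹ := by rw [hh]
        _ = 𝐚 := coe_z_conj_b S h
  · exfalso
    apply hzne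
    calc 𝐳 = g₂⁻¹ * (g₂ * 𝐳 * g₂⁻¹) * g₂ := by group
      _ = g₂⁻¹ * 𝐞 * g₂ := by rw [hh]
      _ = g₂⁻¹ * (g₂ * 𝐞 * g₂⁻¹) * g₂ := by rw [hg₂Z 𝐞 (e_mem_ZZ S h)]
      _ = 𝐞 := by group

/-! ### The subgroup `U₀ = V ∩ U` -/

/-- `U₀ = Z(S) ⟨a⟩`, as a subgroup of `G`. -/
def UU0 (h : IsWr x y z n) : Subgroup G := (V0 h ⊓ h.A).map (S : Subgroup G).subtype

theorem coe_mem_UU0 (h : IsWr x y z n) (s : (S : Subgroup G)) :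
    (s : G) ∈ UU0 S h ↔ s ∈ V0 h ⊓ h.A :=
  Subgroup.mem_map_iff_mem (S : Subgroup G).subtype_injective

theorem UU0_le_UU (h : IsWr x y z n) : UU0 S h ≤ UU S h := Subgroup.map_mono inf_le_right

theorem UU0_le_VV (h : IsWr x y z n) : UU0 S h ≤ VV S h := Subgroup.map_mono inf_le_left

theorem ZZ_le_UU0 (h : IsWr x y z n) : ZZ S ≤ UU0 S h := Subgroup.map_mono (center_le_U0 h)

theorem a_mem_UU0 (h : IsWr x y z n) : 𝐚 ∈ UU0 S h := (coe_mem_UU0 S h _).mpr (a_mem_U0 h)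

theorem UU0_cases (h : IsWr x y z n) {v : G} (hv : v ∈ UU0 S h) :
    ∃ ζ ∈ ZZ S, v = ζ ∨ v = ζ * 𝐚 := by
  obtain ⟨s, hs, rfl⟩ := hv
  obtain ⟨ζ, hζ, hh⟩ := U0_cases h hs
  refine ⟨(ζ : G), (coe_mem_ZZ S ζ).mpr hζ, ?_⟩
  rcases hh with rfl | rfl
  · left; rfl
  · right; rfl

theorem S_le_normalizer_UU0 (h : IsWr x y z n) :
    (S : Subgroup G) ≤ Subgroup.normalizer (UU0 S h : Set G) := by
  intro s hs
  apply mem_normalizer_of_forall_conj_mem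
  rintro _ ⟨u, hu, rfl⟩
  exact ⟨_, U0_conj_mem h hu ⟨s, hs⟩, rfl⟩

theorem S_le_centralizer_ZZ : (S : Subgroup G) ≤ Subgroup.centralizer (ZZ S : Set G) := by
  intro s hs
  rw [Subgroup.mem_centralizer_iff]
  intro ζ hζ
  exact ZZ_comm S hζ hs

theorem coe_s0_conj_invol (h : IsWr x y z n) (i : ℤ) :
    𝐬 * ((al x y i (-i) * z : (S : Subgroup G)) : G) * 𝐬⁻¹ =
      𝐚 * ((al x y (-HH) (-HH) : (S : Subgroup G)) : G) *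
        ((al x y i (-i) * z : (S : Subgroup G)) : G) := by
  have := s0_conj_invol h i
  exact_mod_cast this

theorem coe_a_inv (h : IsWr x y z n) : 𝐚⁻¹ = 𝐚 := inv_eq_of_mul_eq_one_left (coe_a_sq S h)

/-! ### Fusion of `z` into `U` forces index `6` -/

/-- If some element of `C_G(Z(S))` conjugates `z` to `a`, then `|N_G(V) : V C_G(V)| ≠ 2`. -/
theorem rV_ne_two_of_conj (h : IsWr x y z n) (g : G) (hgZ : ∀ ζ ∈ ZZ S, g * ζ * g⁻¹ = ζ)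
    (hg : g * 𝐳 * g⁻¹ = 𝐚) :
    (VV S h ⊔ Subgroup.centralizer (VV S h : Set G)).relIndex
      (Subgroup.normalizer (VV S h : Set G)) ≠ 2 := by
  have : Fact (Nat.Prime 2) := ⟨Nat.prime_two⟩
  intro hrel
  have hgZ' : ∀ ζ ∈ ZZ S, g⁻¹ * ζ * g = ζ := by
    intro ζ hζ
    have := hgZ ζ hζ
    calc g⁻¹ * ζ * g = g⁻¹ * (g * ζ * g⁻¹) * g := by rw [this]
      _ = ζ := by group
  -- Step 1: `g V g⁻¹ ≤ N' = N_G(U₀) ∩ C_G(Z(S))`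
  set N' := Subgroup.normalizer (UU0 S h : Set G) ⊓ Subgroup.centralizer (ZZ S : Set G) with hN'
  have hSN' : (S : Subgroup G) ≤ N' := le_inf (S_le_normalizer_UU0 S h) (S_le_centralizer_ZZ S)
  have hVN' : cj g (VV S h) ≤ N' := by
    intro v' hv'
    rw [mem_cj] at hv'
    set v := g⁻¹ * v' * g with hv
    have hv'e : v' = g * v * g⁻¹ := by rw [hv]; group
    have hcZ : ∀ ζ ∈ ZZ S, v' * ζ * v'⁻¹ = ζ := by
      intro ζ hζ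
      have h1 : v * ζ * v⁻¹ = ζ := by
        rw [← ZZ_comm S hζ (VV_le S h hv')]; group
      calc v' * ζ * v'⁻¹ = g * (v * (g⁻¹ * ζ * g) * v⁻¹) * g⁻¹ := by rw [hv'e]; group
        _ = g * (v * ζ * v⁻¹) * g⁻¹ := by rw [hgZ' ζ hζ]
        _ = ζ := by rw [h1, hgZ ζ hζ]
    refine Subgroup.mem_inf.mpr ⟨?_, ?_⟩
    · apply mem_normalizer_of_forall_conj_mem
      intro w hw
      -- `v' a v'⁻¹ ∈ a Z(S)`
      have hva : v' * 𝐚 * v'⁻¹ ∈ UU0 S h := by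
        obtain ⟨s, hs, hsv⟩ := hv'
        have h2 := V0_comm_mem_center h (z_mem_V0 h) hs
        have h3 := (coe_mem_ZZ S _).mpr h2
        rw [Subgroup.coe_mul, Subgroup.coe_inv, Subgroup.coe_mul, Subgroup.coe_mul,
          Subgroup.coe_inv] at h3
        have hsv' : (s : G) = v := hsv
        rw [hsv'] at h3
        set ζ' := 𝐳⁻¹ * (v * 𝐳 * v⁻¹) with hζ'
        have e1 : v * 𝐳 * v⁻¹ = 𝐳 * ζ' := by rw [hζ']; group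
        have e2 : v' * 𝐚 * v'⁻¹ = 𝐚 * ζ' := by
          calc v' * 𝐚 * v'⁻¹ = g * (v * (g⁻¹ * 𝐚 * g) * v⁻¹) * g⁻¹ := by rw [hv'e]; group
            _ = g * (v * 𝐳 * v⁻¹) * g⁻¹ := by rw [← hg]; group
            _ = g * (𝐳 * ζ') * g⁻¹ := by rw [e1]
            _ = (g * 𝐳 * g⁻¹) * (g * ζ' * g⁻¹) := by group
            _ = 𝐚 * ζ' := by rw [hg, hgZ ζ' h3]
        rw [e2]
        exact mul_mem (a_mem_UU0 S h) (ZZ_le_UU0 S h h3)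
      obtain ⟨ζ, hζ, hh | hh⟩ := UU0_cases S h hw <;> rw [hh]
      · rw [hcZ ζ hζ]; exact ZZ_le_UU0 S h hζ
      · have e : v' * (ζ * 𝐚) * v'⁻¹ = (v' * ζ * v'⁻¹) * (v' * 𝐚 * v'⁻¹) := by group
        rw [e, hcZ ζ hζ]
        exact mul_mem (ZZ_le_UU0 S h hζ) hva
    · rw [Subgroup.mem_centralizer_iff]
      intro ζ hζ
      have := hcZ ζ hζ
      calc ζ * v' = (v' * ζ * v'⁻¹) * v' := by rw [this]
        _ = v' * ζ := by group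
  -- Step 2: move `g V g⁻¹` into `S`
  have hSyl : SylIn 2 (S : Subgroup G) N' := sylIn_of_sylow_le S hSN'
  obtain ⟨k, hkN', hkle⟩ := hSyl.exists_cj_le hVN' (isPGroup_cj (S.isPGroup'.to_le (VV_le S h)))
  have hkN := (Subgroup.mem_inf.mp hkN').1
  have hkC := (Subgroup.mem_inf.mp hkN').2
  set g₂ := k * g with hg₂
  have hg₂Z : ∀ ζ ∈ ZZ S, g₂ * ζ * g₂⁻¹ = ζ := by
    intro ζ hζ
    rw [Subgroup.mem_centralizer_iff] at hkC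
    calc g₂ * ζ * g₂⁻¹ = k * (g * ζ * g⁻¹) * k⁻¹ := by rw [hg₂]; group
      _ = k * ζ * k⁻¹ := by rw [hgZ ζ hζ]
      _ = ζ := by rw [← hkC ζ hζ]; group
  have hg₂Z' : ∀ ζ ∈ ZZ S, g₂⁻¹ * ζ * g₂ = ζ := by
    intro ζ hζ
    have := hg₂Z ζ hζ
    calc g₂⁻¹ * ζ * g₂ = g₂⁻¹ * (g₂ * ζ * g₂⁻¹) * g₂ := by rw [this]
      _ = ζ := by group
  have hg₂V : ∀ v ∈ VV S h, g₂ * v * g₂⁻¹ ∈ (S : Subgroup G) := by
    intro v hv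
    apply hkle
    rw [hg₂, cj_def, ← cj_def, ← cj_mul]
    exact conj_mem_cj hv
  -- the image `a'` of `z`
  set a' := g₂ * 𝐳 * g₂⁻¹ with ha'
  have ha'U0 : a' ∈ UU0 S h := by
    have e : a' = k * 𝐚 * k⁻¹ := by rw [ha', hg₂, ← hg]; group
    rw [e]
    exact (Subgroup.mem_normalizer_iff.mp hkN _).mp (a_mem_UU0 S h)
  have ha'sq : a' * a' = 1 := conj_invol_sq (coe_z_mul_z S h)
  have ha'nZ : a' ∉ ZZ S := by
    intro hh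
    apply z_notMem_ZZ S h
    have e : 𝐳 = g₂⁻¹ * a' * g₂ := by rw [ha']; group
    rw [e, hg₂Z' a' hh]; exact hh
  obtain ⟨ζa, hζa, ha'e⟩ : ∃ ζa ∈ ZZ S, 𝐚 = a' * ζa := by
    obtain ⟨ζ, hζ, hh | hh⟩ := UU0_cases S h ha'U0
    · exact absurd (hh ▸ hζ) ha'nZ
    · refine ⟨ζ⁻¹, inv_mem hζ, ?_⟩
      rw [hh, ZZ_comm S hζ (VV_le S h (a_mem_VV S h))]; group
  have ha'UU : a' ∈ UU S h := UU0_le_UU S h ha'U0
  -- the image `t` of `a`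
  set t := g₂ * 𝐚 * g₂⁻¹ with ht
  have htS : t ∈ (S : Subgroup G) := hg₂V _ (a_mem_VV S h)
  have htsq : t * t = 1 := conj_invol_sq (coe_a_sq S h)
  have htU : t ∉ UU S h := by
    intro hh
    apply coe_a_z_not_comm S h
    have := UU_comm S h hh ha'UU
    calc 𝐚 * 𝐳 = g₂⁻¹ * (t * a') * g₂ := by rw [ht, ha']; group
      _ = g₂⁻¹ * (a' * t) * g₂ := by rw [this]
      _ = 𝐳 * 𝐚 := by rw [ht, ha']; group
  obtain ⟨i, hti⟩ : ∃ i : ℤ, t = ((al x y i (-i) * z : (S : Subgroup G)) : G) := by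
    have h1 : (⟨t, htS⟩ : (S : Subgroup G)) ∉ h.A := fun hh => htU ((coe_mem_UU S h _).mpr hh)
    have h2 : (⟨t, htS⟩ : (S : Subgroup G)) * ⟨t, htS⟩ = 1 := Subtype.ext htsq
    obtain ⟨i, hi⟩ := invol_notMem_A h h1 h2
    exact ⟨i, congrArg Subtype.val hi⟩
  -- Step 3: the element `τ = g₂⁻¹ s₀ g₂`
  set ζc := ((al x y (-HH) (-HH) : (S : Subgroup G)) : G) with hζc
  have hζcZ : ζc ∈ ZZ S := (coe_mem_ZZ S _).mpr ((h.mem_center_iff _).mpr ⟨_, rfl⟩)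
  have hst : 𝐬 * t * 𝐬⁻¹ = a' * (ζa * ζc) * t := by
    rw [hti, coe_s0_conj_invol S h i, ← hζc, ha'e]; group
  have hsa' : 𝐬 * a' * 𝐬⁻¹ = a' := by
    have hsU : 𝐬 ∈ UU S h := (coe_mem_UU S h _).mpr (h.al_mem_A _ _)
    rw [UU_comm S h hsU ha'UU]; group
  set ζ₂ := ζa * ζc with hζ₂
  have hζ₂Z : ζ₂ ∈ ZZ S := mul_mem hζa hζcZ
  set τ := g₂⁻¹ * 𝐬 * g₂ with hτ
  have hτZ : ∀ ζ ∈ ZZ S, τ * ζ * τ⁻¹ = ζ := by
    intro ζ hζ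
    have hs : 𝐬 * ζ * 𝐬⁻¹ = ζ := by
      rw [← ZZ_comm S hζ (al x y HH 0 : (S : Subgroup G)).2]; group
    calc τ * ζ * τ⁻¹ = g₂⁻¹ * (𝐬 * (g₂ * ζ * g₂⁻¹) * 𝐬⁻¹) * g₂ := by rw [hτ]; group
      _ = g₂⁻¹ * (𝐬 * ζ * 𝐬⁻¹) * g₂ := by rw [hg₂Z ζ hζ]
      _ = g₂⁻¹ * ζ * g₂ := by rw [hs]
      _ = ζ := hg₂Z' ζ hζ
  have hτz : τ * 𝐳 * τ⁻¹ = 𝐳 := by
    calc τ * 𝐳 * τ⁻¹ = g₂⁻¹ * (𝐬 * a' * 𝐬⁻¹) * g₂ := by rw [hτ, ha']; group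
      _ = g₂⁻¹ * a' * g₂ := by rw [hsa']
      _ = 𝐳 := by rw [ha']; group
  have hτa : τ * 𝐚 * τ⁻¹ = 𝐳 * ζ₂ * 𝐚 := by
    calc τ * 𝐚 * τ⁻¹ = g₂⁻¹ * (𝐬 * t * 𝐬⁻¹) * g₂ := by rw [hτ, ht]; group
      _ = g₂⁻¹ * (a' * ζ₂ * t) * g₂ := by rw [hst]
      _ = (g₂⁻¹ * a' * g₂) * (g₂⁻¹ * ζ₂ * g₂) * (g₂⁻¹ * t * g₂) := by group
      _ = 𝐳 * ζ₂ * 𝐚 := by
          rw [hg₂Z' ζ₂ hζ₂Z]
          have e1 : g₂⁻¹ * a' * g₂ = 𝐳 := by rw [ha']; group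
          have e2 : g₂⁻¹ * t * g₂ = 𝐚 := by rw [ht]; group
          rw [e1, e2]
  have hτN : τ ∈ Subgroup.normalizer (VV S h : Set G) := by
    apply mem_normalizer_of_forall_conj_mem
    intro v hv
    have hzV := z_mem_VV S h
    have haV := a_mem_VV S h
    have hζ₂V := ZZ_le_VV S h hζ₂Z
    obtain ⟨ζ, hζ, hh | hh | hh | hh⟩ := VV_cases S h hv <;> rw [hh]
    · rw [hτZ ζ hζ]; exact ZZ_le_VV S h hζ
    · have e : τ * (ζ * 𝐚) * τ⁻¹ = (τ * ζ * τ⁻¹) * (τ * 𝐚 * τ⁻¹) := by group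
      rw [e, hτZ ζ hζ, hτa]
      exact mul_mem (ZZ_le_VV S h hζ) (mul_mem (mul_mem hzV hζ₂V) haV)
    · have e : τ * (ζ * 𝐳) * τ⁻¹ = (τ * ζ * τ⁻¹) * (τ * 𝐳 * τ⁻¹) := by group
      rw [e, hτZ ζ hζ, hτz]
      exact mul_mem (ZZ_le_VV S h hζ) hzV
    · have e : τ * (ζ * (𝐚 * 𝐳)) * τ⁻¹ = (τ * ζ * τ⁻¹) * ((τ * 𝐚 * τ⁻¹) * (τ * 𝐳 * τ⁻¹)) := by
        group
      rw [e, hτZ ζ hζ, hτa, hτz]
      exact mul_mem (ZZ_le_VV S h hζ) (mul_mem (mul_mem (mul_mem hzV hζ₂V) haV) hzV)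
  -- Step 4: `τ` and `s₀` act differently on `V / Z(V)`
  have hτker : (⟨τ, hτN⟩ : Subgroup.normalizer (VV S h : Set G)) ∉ (psiQ (VV S h)).ker := by
    intro hh
    rw [mem_psiQ_ker] at hh
    have h1 := (mem_center_VV_iff S h _).mp (hh ⟨𝐚, a_mem_VV S h⟩)
    simp only [Subgroup.coe_mul, Subgroup.coe_inv, normalizerMonoidHom_coe] at h1
    rw [hτa] at h1
    -- `a⁻¹ z ζ₂ a ∈ Z(S)` forces `z ∈ U`
    apply h.z_notMem_A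
    apply (coe_mem_UU S h z).mp
    have h2 : 𝐳 = 𝐚 * (𝐚⁻¹ * (𝐳 * ζ₂ * 𝐚)) * 𝐚⁻¹ * ζ₂⁻¹ := by group
    rw [h2]
    have haU : 𝐚 ∈ UU S h := (coe_mem_UU S h _).mpr (h.al_mem_A _ _)
    exact mul_mem (mul_mem (mul_mem haU (ZZ_le_UU S h h1)) (inv_mem haU))
      (inv_mem (ZZ_le_UU S h hζ₂Z))
  have hprod : (⟨τ, hτN⟩ : Subgroup.normalizer (VV S h : Set G)) *
      ⟨𝐬, s0_mem_normalizer_VV S h⟩ ∈ (psiQ (VV S h)).ker := by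
    have hidx : (psiQ (VV S h)).ker.index = 2 := by rw [psiV_ker S h]; exact hrel
    rw [Subgroup.mul_mem_iff_of_index_two hidx]
    exact ⟨fun hh => absurd hh hτker, fun hh => absurd hh (s0_notMem_ker S h)⟩
  rw [mem_psiQ_ker] at hprod
  have h1 := (mem_center_VV_iff S h _).mp (hprod ⟨𝐳, z_mem_VV S h⟩)
  simp only [Subgroup.coe_mul, Subgroup.coe_inv, normalizerMonoidHom_coe] at h1
  have hsz : 𝐬 * 𝐳 * 𝐬⁻¹ = 𝐚 * ζc * 𝐳 := by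
    have := coe_s0_conj_invol S h 0
    simp only [neg_zero, IsWr.al_zero_zero, one_mul] at this
    exact this
  have e : τ * 𝐬 * 𝐳 * (τ * 𝐬)⁻¹ = 𝐳 * ζ₂ * 𝐚 * ζc * 𝐳 := by
    calc τ * 𝐬 * 𝐳 * (τ * 𝐬)⁻¹ = τ * (𝐬 * 𝐳 * 𝐬⁻¹) * τ⁻¹ := by group
      _ = τ * (𝐚 * ζc * 𝐳) * τ⁻¹ := by rw [hsz]
      _ = (τ * 𝐚 * τ⁻¹) * (τ * ζc * τ⁻¹) * (τ * 𝐳 * τ⁻¹) := by group
      _ = 𝐳 * ζ₂ * 𝐚 * ζc * 𝐳 := by rw [hτa, hτZ ζc hζcZ, hτz]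
  rw [e] at h1
  -- `ζ₂ a ζc z ∈ Z(S)` forces `z ∈ U`
  apply h.z_notMem_A
  apply (coe_mem_UU S h z).mp
  have haU : 𝐚 ∈ UU S h := (coe_mem_UU S h _).mpr (h.al_mem_A _ _)
  have h2 : 𝐳 = ζc⁻¹ * 𝐚⁻¹ * ζ₂⁻¹ * (𝐳⁻¹ * (𝐳 * ζ₂ * 𝐚 * ζc * 𝐳)) := by group
  rw [h2]
  exact mul_mem (mul_mem (mul_mem (inv_mem (ZZ_le_UU S h hζcZ)) (inv_mem haU))
    (inv_mem (ZZ_le_UU S h hζ₂Z))) (ZZ_le_UU S h h1)

end Cfsg.Agent.Lib.Helper20.Wr
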