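import Cfsg.Agent.Lib.Helper20.WrG4
import Cfsg.Agent.Lib.Helper20.QDFusion5

/-!
Fusion in finite groups with wreathed Sylow 2-subgroups, part 5: the case
`|N_G(U) : C_G(U)| = 6`, `|N_G(V) : V C_G(V)| = 2` (helper20's library).
-/

set_option autoImplicit false
set_option linter.unusedSectionVars false

namespace Cfsg.Agent.Lib.Helper20.Wr

open Cfsg.Agent.Lib.Helper38 Cfsg.Agent.Lib.Helper33 Cfsg.Agent.Lib.Helper20
  Cfsg.Agent.Lib.Helper20.QDF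

variable {G : Type*} [Group G] [Finite G] (S : Sylow 2 G) {n : ℕ} {x y z : (S : Subgroup G)}

local notation "NN" => ((2 ^ n : ℕ) : ℤ)
local notation "MM" => ((2 ^ (n - 1) : ℕ) : ℤ)
local notation "HH" => ((2 ^ (n - 2) : ℕ) : ℤ)
local notation "𝐚" => ((al x y MM 0 : (S : Subgroup G)) : G)
local notation "𝐛" => ((al x y 0 MM : (S : Subgroup G)) : G)
local notation "𝐞" => ((al x y MM MM : (S : Subgroup G)) : G)
local notation "𝐳" => ((z : (S : Subgroup G)) : G)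

/-- If `|N_G(V) : V C_G(V)| = 2`, then `z` is not conjugate into `U`. -/
theorem z_not_conj_UU_of_rV_two (h : IsWr x y z n)
    (h2 : (VV S h ⊔ Subgroup.centralizer (VV S h : Set G)).relIndex
      (Subgroup.normalizer (VV S h : Set G)) = 2) (g : G) : g * 𝐳 * g⁻¹ ∉ UU S h := by
  intro hg
  obtain ⟨g', hg'Z, hg'⟩ := exists_centralizing_conj S h g hg
  exact rV_ne_two_of_conj S h g' hg'Z hg' h2

theorem z_notMem_UU (h : IsWr x y z n) : 𝐳 ∉ UU S h :=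
  fun hh => h.z_notMem_A ((coe_mem_UU S h z).mp hh)

theorem UU_relIndex (h : IsWr x y z n) : (UU S h).relIndex (S : Subgroup G) = 2 := by
  unfold UU
  rw [relIndex_map_subtype]; exact h.A_index

/-- Thompson transfer: if `z` is not conjugate into `U`, some normal subgroup of index two
misses `z`. -/
theorem exists_K_of_not_conj (h : IsWr x y z n) (hz : ∀ g : G, g * 𝐳 * g⁻¹ ∉ UU S h) :
    ∃ K : Subgroup G, K.Normal ∧ K.index = 2 ∧ 𝐳 ∉ K := by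
  rcases Cfsg.Agent.S0111.result S (UU S h) (UU_le S h) (UU_relIndex S h) 𝐳 (orderOf_coe_z S h)
    z.2 (z_notMem_UU S h) with ⟨K, hK1, hK2, hK3⟩ | ⟨g, hg⟩
  · exact ⟨K, hK1, hK2, hK3⟩
  · exact absurd hg (hz g)

/-- `S ∩ K = U` when `U ≤ K`, `z ∉ K`. -/
theorem mem_UU_of_mem_K (h : IsWr x y z n) {K : Subgroup G} (hUK : UU S h ≤ K) (hzK : 𝐳 ∉ K)
    {s : G} (hsS : s ∈ (S : Subgroup G)) (hsK : s ∈ K) : s ∈ UU S h := by
  by_contra hsU
  have h1 : (⟨s, hsS⟩ : (S : Subgroup G)) ∉ h.A := fun hh => hsU ((coe_mem_UU S h _).mpr hh)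
  obtain ⟨i, j, hij⟩ := h.notMem_A h1
  have h2 : s = ((al x y i j : (S : Subgroup G)) : G) * 𝐳 := congrArg Subtype.val hij
  apply hzK
  have h3 : 𝐳 = (((al x y i j : (S : Subgroup G)) : G))⁻¹ * s := by rw [h2]; group
  rw [h3]
  exact mul_mem (inv_mem (hUK ((coe_mem_UU S h _).mpr (h.al_mem_A i j)))) hsK

/-- Index `6` for `U`: every normal subgroup of index two contains `U`. -/
theorem UU_le_of_index_two_of_six (h : IsWr x y z n)
    (h6U : (Subgroup.centralizer (UU S h : Set G)).relIndex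
      (Subgroup.normalizer (UU S h : Set G)) = 6) {K : Subgroup G} (hK : K.index = 2) :
    UU S h ≤ K := by
  have h2 := relIndex_top_of_index hK
  obtain ⟨k, hkN, hk, _, _⟩ := exists_swap_of_six S h h6U
  have hy : (y : G) ∈ K := y_mem_of_conj_a_e S h h2 le_top (Subgroup.mem_top k) hkN hk
  have hx : (x : G) ∈ K := by
    have := conj_mem_iff_of_relIndex_two h2 (Subgroup.mem_top 𝐳) (Subgroup.mem_top (x : G))
    rw [coe_z_conj_x S h] at this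
    exact this.mp hy
  exact UU_le_of_x_y_mem S h hx hy

/-- Index `6` for `U`: a normal subgroup `K` of index two with `z ∉ K` has no subgroup of
index two. -/
theorem no_index_two_K_of_six (h : IsWr x y z n)
    (h6U : (Subgroup.centralizer (UU S h : Set G)).relIndex
      (Subgroup.normalizer (UU S h : Set G)) = 6) (K : Subgroup G) [K.Normal] (hK : K.index = 2)
    (hzK : 𝐳 ∉ K) (H : Subgroup K) : H.index ≠ 2 := by
  intro hH
  have hUK := UU_le_of_index_two_of_six S h h6U hK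
  obtain ⟨k, hkN, hka, hke, hkb⟩ := exists_swap_of_six S h h6U
  -- the 3-cycle `k₀ = k z : a → b → e → a`
  set k₀ := k * 𝐳 with hk₀
  have hk₀N : k₀ ∈ Subgroup.normalizer (UU S h : Set G) := mul_mem hkN (z_mem_normalizer_UU S h)
  have h0a : k₀ * 𝐚 * k₀⁻¹ = 𝐛 := by
    calc k₀ * 𝐚 * k₀⁻¹ = k * (𝐳 * 𝐚 * 𝐳⁻¹) * k⁻¹ := by rw [hk₀]; group
      _ = 𝐛 := by rw [coe_z_conj_a S h, hkb]
  have h0b : k₀ * 𝐛 * k₀⁻¹ = 𝐞 := by
    calc k₀ * 𝐛 * k₀⁻¹ = k * (𝐳 * 𝐛 * 𝐳⁻¹) * k⁻¹ := by rw [hk₀]; group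
      _ = 𝐞 := by rw [coe_z_conj_b S h, hka]
  have h0e : k₀ * 𝐞 * k₀⁻¹ = 𝐚 := by
    have hez : 𝐳 * 𝐞 * 𝐳⁻¹ = 𝐞 := by
      rw [← ZZ_comm S (e_mem_ZZ S h) z.2]; group
    calc k₀ * 𝐞 * k₀⁻¹ = k * (𝐳 * 𝐞 * 𝐳⁻¹) * k⁻¹ := by rw [hk₀]; group
      _ = 𝐚 := by rw [hez, hke]
  have hk₁K : k₀ * k₀ ∈ K := Subgroup.mul_self_mem_of_index_two hK k₀
  have hk₁N : k₀ * k₀ ∈ Subgroup.normalizer (UU S h : Set G) := mul_mem hk₀N hk₀N
  have h1a : (k₀ * k₀) * 𝐚 * (k₀ * k₀)⁻¹ = 𝐞 := by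
    calc (k₀ * k₀) * 𝐚 * (k₀ * k₀)⁻¹ = k₀ * (k₀ * 𝐚 * k₀⁻¹) * k₀⁻¹ := by group
      _ = 𝐞 := by rw [h0a, h0b]
  have h1b : (k₀ * k₀) * 𝐛 * (k₀ * k₀)⁻¹ = 𝐚 := by
    calc (k₀ * k₀) * 𝐛 * (k₀ * k₀)⁻¹ = k₀ * (k₀ * 𝐛 * k₀⁻¹) * k₀⁻¹ := by group
      _ = 𝐚 := by rw [h0b, h0e]
  have h2b : ((k₀ * k₀) * (k₀ * k₀)) * 𝐛 * ((k₀ * k₀) * (k₀ * k₀))⁻¹ = 𝐞 := by
    calc ((k₀ * k₀) * (k₀ * k₀)) * 𝐛 * ((k₀ * k₀) * (k₀ * k₀))⁻¹
        = (k₀ * k₀) * ((k₀ * k₀) * 𝐛 * (k₀ * k₀)⁻¹) * (k₀ * k₀)⁻¹ := by group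
      _ = 𝐞 := by rw [h1b, h1a]
  -- the image of `H` in `G`
  set H' := H.map K.subtype with hH'
  have hrel : H'.relIndex K = 2 := by rw [hH', relIndex_map_subtype]; exact hH
  have hy : (y : G) ∈ H' := y_mem_of_conj_a_e S h hrel hUK hk₁K hk₁N h1a
  have hx : (x : G) ∈ H' :=
    x_mem_of_conj_b_e S h hrel hUK (mul_mem hk₁K hk₁K) (mul_mem hk₁N hk₁N) h2b
  have hUH := UU_le_of_x_y_mem S h hx hy
  apply false_of_sylow_le S K H hH
  apply subgroupOf_le_of_forall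
  intro s hs
  have hsU := mem_UU_of_mem_K S h hUK hzK s.2 hs
  obtain ⟨t, ht, hts⟩ := hUH hsU
  have : t = ⟨(s : G), hs⟩ := Subtype.ext hts
  rw [← this]; exact ht

/-- Case `(6, 2)`: two classes of involutions. -/
theorem card_invol_of_six_two (h : IsWr x y z n)
    (h6U : (Subgroup.centralizer (UU S h : Set G)).relIndex
      (Subgroup.normalizer (UU S h : Set G)) = 6)
    {K : Subgroup G} (hKn : K.Normal) (hUK : UU S h ≤ K) (hzK : 𝐳 ∉ K) :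
    Nat.card {C : ConjClasses G // ∃ t : G, orderOf t = 2 ∧ ConjClasses.mk t = C} = 2 := by
  apply card_classes_eq_two (fun t => orderOf t = 2) 𝐚 𝐳 (orderOf_coe_a S h) (orderOf_coe_z S h)
  · intro hc
    obtain ⟨g, hg⟩ := isConj_iff.mp hc
    apply hzK
    rw [← hg]
    exact hKn.conj_mem _ (hUK ((coe_mem_UU S h _).mpr (h.al_mem_A _ _))) g
  · intro t ht
    rcases invol_class S h t ht with h1 | h1 | h1
    · exact Or.inl h1
    · exact Or.inl ((isConj_a_e_of_six S h h6U).trans h1)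
    · exact Or.inr h1

end Cfsg.Agent.Lib.Helper20.Wr
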