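import Cfsg.Agent.Lib.Helper20.WrG5
import Cfsg.Agent.Lib.Helper55.TransferEval
import Cfsg.Agent.S1199

/-!
Fusion in finite groups with wreathed Sylow 2-subgroups, part 6: transfer homomorphisms
(helper20's library).
-/

set_option autoImplicit false
set_option linter.unusedSectionVars false

namespace Cfsg.Agent.Lib.Helper20.Wr

open Cfsg.Agent.Lib.Helper38 Cfsg.Agent.Lib.Helper33 Cfsg.Agent.Lib.Helper20
  Cfsg.Agent.Lib.Helper20.QDF

section plevel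

variable {P : Type*} [Group P] {x y z : P} {n : ℕ}

local notation "NN" => ((2 ^ n : ℕ) : ℤ)
local notation "MM" => ((2 ^ (n - 1) : ℕ) : ℤ)
local notation "HH" => ((2 ^ (n - 2) : ℕ) : ℤ)

theorem two_M_zmod (h : IsWr x y z n) :
    (((2 ^ (n - 1) : ℕ) : ℤ) : ZMod (2 ^ n)) + (((2 ^ (n - 1) : ℕ) : ℤ) : ZMod (2 ^ n)) = 0 := by
  have h1 : (((2 ^ n : ℕ) : ℤ) : ZMod (2 ^ n)) = 0 := by
    rw [Int.cast_natCast]; exact ZMod.natCast_self _
  rw [h.N_eq] at h1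
  rw [← h1]; push_cast; ring

/-- the function `x^i y^j z^ε ↦ i + j + ε M` -/
noncomputable def lamFun (h : IsWr x y z n) (s : P) : Multiplicative (ZMod (2 ^ n)) :=
  Multiplicative.ofAdd ((h.nf s).1 + (h.nf s).2.1 +
    if (h.nf s).2.2 then ((MM : ℤ) : ZMod (2 ^ n)) else 0)

theorem lamFun_al (h : IsWr x y z n) (i j : ℤ) :
    lamFun h (al x y i j) = Multiplicative.ofAdd (((i + j : ℤ) : ZMod (2 ^ n))) := by
  unfold lamFun
  rw [h.nf_al]
  simp

theorem lamFun_alz (h : IsWr x y z n) (i j : ℤ) :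
    lamFun h (al x y i j * z) = Multiplicative.ofAdd (((i + j + MM : ℤ) : ZMod (2 ^ n))) := by
  unfold lamFun
  rw [h.nf_alz]
  simp

/-- the homomorphism `λ : P → Z_{2^n}` with kernel the generalized quaternion subgroup -/
noncomputable def lam (h : IsWr x y z n) : P →* Multiplicative (ZMod (2 ^ n)) :=
  MonoidHom.mk' (lamFun h) (by
    intro s t
    have h2 := two_M_zmod h
    rcases h.exists_rep s with ⟨i, j, rfl⟩ | ⟨i, j, rfl⟩ <;>
      rcases h.exists_rep t with ⟨k, l, rfl⟩ | ⟨k, l, rfl⟩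
    · rw [h.al_mul_al, lamFun_al, lamFun_al, lamFun_al, ← ofAdd_add]
      congr 1; push_cast; ring
    · rw [h.al_mul_alz, lamFun_al, lamFun_alz, lamFun_alz, ← ofAdd_add]
      congr 1; push_cast; ring
    · rw [h.alz_mul_al, lamFun_al, lamFun_alz, lamFun_alz, ← ofAdd_add]
      congr 1; push_cast; ring
    · rw [h.alz_mul_alz, lamFun_al, lamFun_alz, lamFun_alz, ← ofAdd_add]
      congr 1; push_cast; push_cast at h2
      linear_combination (-1 : ZMod (2 ^ n)) * h2)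

theorem lam_al (h : IsWr x y z n) (i j : ℤ) :
    lam h (al x y i j) = Multiplicative.ofAdd (((i + j : ℤ) : ZMod (2 ^ n))) := lamFun_al h i j

theorem lam_alz (h : IsWr x y z n) (i j : ℤ) :
    lam h (al x y i j * z) = Multiplicative.ofAdd (((i + j + MM : ℤ) : ZMod (2 ^ n))) :=
  lamFun_alz h i j

/-- the function `x^i y^j z^ε ↦ ε` -/
noncomputable def epsFun (h : IsWr x y z n) (s : P) : Multiplicative (ZMod 2) :=
  Multiplicative.ofAdd (if (h.nf s).2.2 then 1 else 0)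

theorem epsFun_al (h : IsWr x y z n) (i j : ℤ) : epsFun h (al x y i j) = 1 := by
  unfold epsFun
  rw [h.nf_al]
  simp

theorem epsFun_alz (h : IsWr x y z n) (i j : ℤ) :
    epsFun h (al x y i j * z) = Multiplicative.ofAdd 1 := by
  unfold epsFun
  rw [h.nf_alz]
  simp

/-- the homomorphism `ε : P → Z_2` with kernel `A` -/
noncomputable def eps (h : IsWr x y z n) : P →* Multiplicative (ZMod 2) :=
  MonoidHom.mk' (epsFun h) (by
    intro s t
    rcases h.exists_rep s with ⟨i, j, rfl⟩ | ⟨i, j, rfl⟩ <;>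
      rcases h.exists_rep t with ⟨k, l, rfl⟩ | ⟨k, l, rfl⟩
    · rw [h.al_mul_al, epsFun_al, epsFun_al, epsFun_al, one_mul]
    · rw [h.al_mul_alz, epsFun_al, epsFun_alz, epsFun_alz, one_mul]
    · rw [h.alz_mul_al, epsFun_al, epsFun_alz, epsFun_alz, mul_one]
    · rw [h.alz_mul_alz, epsFun_al, epsFun_alz, epsFun_alz, ← ofAdd_add]
      rfl)

theorem eps_al (h : IsWr x y z n) (i j : ℤ) : eps h (al x y i j) = 1 := epsFun_al h i j

theorem eps_alz (h : IsWr x y z n) (i j : ℤ) :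
    eps h (al x y i j * z) = Multiplicative.ofAdd 1 := epsFun_alz h i j

end plevel

variable {G : Type*} [Group G] [Finite G] (S : Sylow 2 G) {n : ℕ} {x y z : (S : Subgroup G)}

local notation "NN" => ((2 ^ n : ℕ) : ℤ)
local notation "MM" => ((2 ^ (n - 1) : ℕ) : ℤ)
local notation "HH" => ((2 ^ (n - 2) : ℕ) : ℤ)
local notation "𝐚" => ((al x y MM 0 : (S : Subgroup G)) : G)
local notation "𝐛" => ((al x y 0 MM : (S : Subgroup G)) : G)
local notation "𝐞" => ((al x y MM MM : (S : Subgroup G)) : G)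
local notation "𝐳" => ((z : (S : Subgroup G)) : G)

/-! ### Evaluation of transfers -/

/-- `S` controls the fusion of elements of `U`. -/
def CtrlU (h : IsWr x y z n) : Prop :=
  ∀ u ∈ UU S h, ∀ g : G, g * u * g⁻¹ ∈ UU S h → g * u * g⁻¹ = u ∨ g * u * g⁻¹ = 𝐳 * u * 𝐳⁻¹

theorem ctrlU_of_two (h : IsWr x y z n)
    (h2 : (Subgroup.centralizer (UU S h : Set G)).relIndex
      (Subgroup.normalizer (UU S h : Set G)) = 2) : CtrlU S h :=
  fun _ hu g hg => ctrl_of_two S h h2 hu g hg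

theorem x_pow_eq_al (k : ℕ) : x ^ k = al x y (k : ℤ) 0 := by
  rw [← zpow_natCast, zpow_x_eq_al]

theorem y_pow_eq_al (k : ℕ) : y ^ k = al x y 0 (k : ℤ) := by
  rw [← zpow_natCast, zpow_y_eq_al]

theorem z_conj_x_pow (h : IsWr x y z n) (k : ℕ) : z * x ^ k * z⁻¹ = y ^ k := by
  rw [← conj_pow, h.hzx]

/-- Evaluation of a transfer at `x`. -/
theorem transfer_x (h : IsWr x y z n) {A' : Type*} [CommGroup A'] (ϕ : (S : Subgroup G) →* A')
    (hctrl : CtrlU S h) (hxy : ϕ y = ϕ x)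
    (hinv : ∀ (i : ℤ) (g₀ : G), g₀⁻¹ * 𝐚 * g₀ = ((al x y i (-i) * z : (S : Subgroup G)) : G) →
      ϕ (al x y i (-i) * z) = ϕ x ^ 2 ^ (n - 1)) :
    MonoidHom.transfer ϕ (x : G) = ϕ x ^ (S : Subgroup G).index := by
  have key := Cfsg.Agent.Lib.Helper55.transfer_eq_pow_index ϕ (x : G) x.2 ?_
  · exact key
  intro k g₀ hk
  show ϕ ⟨g₀⁻¹ * (x : G) ^ k * g₀, hk⟩ = ϕ x ^ k
  have hxk : (x : G) ^ k ∈ UU S h := pow_mem (x_mem_UU S h) k
  by_cases hsA : (⟨g₀⁻¹ * (x : G) ^ k * g₀, hk⟩ : (S : Subgroup G)) ∈ h.A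
  · have hsU : g₀⁻¹ * (x : G) ^ k * g₀⁻¹⁻¹ ∈ UU S h := by
      rw [inv_inv]; exact (coe_mem_UU S h ⟨_, hk⟩).mpr hsA
    rcases hctrl _ hxk g₀⁻¹ hsU with h1 | h1
    · have : (⟨g₀⁻¹ * (x : G) ^ k * g₀, hk⟩ : (S : Subgroup G)) = x ^ k := by
        apply Subtype.ext
        rw [inv_inv] at h1
        rw [Subgroup.coe_pow]; exact h1
      rw [this, map_pow]
    · have : (⟨g₀⁻¹ * (x : G) ^ k * g₀, hk⟩ : (S : Subgroup G)) = y ^ k := by
        apply Subtype.ext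
        rw [inv_inv] at h1
        rw [← z_conj_x_pow S h k]
        simp only [Subgroup.coe_mul, Subgroup.coe_pow, Subgroup.coe_inv]
        exact h1
      rw [this, map_pow, hxy]
  · obtain ⟨p, q, hpq⟩ := h.notMem_A hsA
    -- the square lies in `U`
    have hsq : (⟨g₀⁻¹ * (x : G) ^ k * g₀, hk⟩ : (S : Subgroup G)) *
        ⟨g₀⁻¹ * (x : G) ^ k * g₀, hk⟩ = al x y (p + q) (q + p) := by
      rw [hpq, h.alz_mul_alz]
    have hsqG : g₀⁻¹ * (x : G) ^ (2 * k) * g₀⁻¹⁻¹ =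
        ((al x y (p + q) (q + p) : (S : Subgroup G)) : G) := by
      rw [← hsq, inv_inv, Subgroup.coe_mul]
      show _ = g₀⁻¹ * (x : G) ^ k * g₀ * (g₀⁻¹ * (x : G) ^ k * g₀)
      rw [two_mul, pow_add]; group
    have hx2k : (x : G) ^ (2 * k) ∈ UU S h := pow_mem (x_mem_UU S h) _
    have hsqU : g₀⁻¹ * (x : G) ^ (2 * k) * g₀⁻¹⁻¹ ∈ UU S h := by
      rw [hsqG]; exact (coe_mem_UU S h _).mpr (h.al_mem_A _ _)
    have hdiv : NN ∣ p + q ∧ NN ∣ ((2 * k : ℕ) : ℤ) := by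
      rcases hctrl _ hx2k g₀⁻¹ hsqU with h1 | h1
      · rw [hsqG] at h1
        have h2 : al x y (p + q) (q + p) = x ^ (2 * k) := Subtype.ext (by
          rw [Subgroup.coe_pow]; exact h1)
        rw [x_pow_eq_al, h.al_eq_al_iff] at h2
        obtain ⟨h3, h4⟩ := h2
        have h5 : NN ∣ p + q := by
          have e : p + q = q + p - 0 := by ring
          rw [e]; exact h4
        refine ⟨h5, ?_⟩
        have := dvd_sub h5 h3
        simpa using this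
      · rw [hsqG] at h1
        have h2 : al x y (p + q) (q + p) = y ^ (2 * k) := Subtype.ext (by
          rw [← z_conj_x_pow S h (2 * k)]
          simp only [Subgroup.coe_mul, Subgroup.coe_pow, Subgroup.coe_inv]
          exact h1)
        rw [y_pow_eq_al, h.al_eq_al_iff] at h2
        obtain ⟨h3, h4⟩ := h2
        have h5 : NN ∣ p + q := by simpa using h3
        refine ⟨h5, ?_⟩
        have e : ((2 * k : ℕ) : ℤ) = (p + q) - (q + p - ((2 * k : ℕ) : ℤ)) := by ring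
        rw [e]; exact dvd_sub h5 h4
    obtain ⟨hpq0, h2k⟩ := hdiv
    have hMk : MM ∣ (k : ℤ) := by
      have : NN ∣ 2 * (k : ℤ) := by
        have e : ((2 * k : ℕ) : ℤ) = 2 * (k : ℤ) := by push_cast; ring
        rwa [e] at h2k
      exact (h.N_dvd_two_mul_iff _).mp this
    have hNk : ¬ NN ∣ (k : ℤ) := by
      intro hh
      apply hsA
      have h1 : x ^ k = 1 := by
        rw [x_pow_eq_al, h.al_eq_one_iff]; exact ⟨hh, by simp⟩
      have h2 : (⟨g₀⁻¹ * (x : G) ^ k * g₀, hk⟩ : (S : Subgroup G)) = 1 := by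
        apply Subtype.ext
        have : (x : G) ^ k = 1 := by
          have := congrArg Subtype.val h1
          simpa using this
        show g₀⁻¹ * (x : G) ^ k * g₀ = 1
        rw [this]; group
      rw [h2]; exact one_mem _
    have hkM := dvd_sub_M_of h hMk hNk
    have hxkM : x ^ k = al x y MM 0 := by
      rw [x_pow_eq_al, h.al_eq_al_iff]; exact ⟨hkM, by simp⟩
    have hs' : (⟨g₀⁻¹ * (x : G) ^ k * g₀, hk⟩ : (S : Subgroup G)) = al x y p (-p) * z := by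
      rw [hpq, h.alz_eq_alz_iff]
      refine ⟨by simp, ?_⟩
      have e : q - -p = p + q := by ring
      rw [e]; exact hpq0
    have h3 := hinv p g₀ (by
      rw [← hs', ← hxkM, Subgroup.coe_pow])
    rw [hs', h3]
    have h4 : ϕ x ^ k = ϕ (x ^ k) := (map_pow ϕ x k).symm
    rw [h4, hxkM]
    have h5 : al x y MM 0 = x ^ 2 ^ (n - 1) := by
      rw [x_pow_eq_al]
    rw [h5, map_pow]

/-- Evaluation of a transfer at `z`, when `z` is not fused into `U`. -/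
theorem transfer_z (h : IsWr x y z n) {A' : Type*} [CommGroup A'] (ϕ : (S : Subgroup G) →* A')
    (hz : ∀ g : G, g * 𝐳 * g⁻¹ ∉ UU S h)
    (hinv : ∀ i : ℤ, ϕ (al x y i (-i) * z) = ϕ z) :
    MonoidHom.transfer ϕ 𝐳 = ϕ z ^ (S : Subgroup G).index := by
  have key := Cfsg.Agent.Lib.Helper55.transfer_eq_pow_index ϕ 𝐳 z.2 ?_
  · exact key
  intro k g₀ hk
  show ϕ ⟨g₀⁻¹ * 𝐳 ^ k * g₀, hk⟩ = ϕ z ^ k
  have hzz : ϕ z * ϕ z = 1 := by rw [← map_mul, h.z_mul_z, map_one]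
  rcases Nat.even_or_odd' k with ⟨c, rfl | rfl⟩
  · have h1 : 𝐳 ^ (2 * c) = 1 := by rw [pow_mul, pow_two, coe_z_mul_z S h, one_pow]
    have h2 : (⟨g₀⁻¹ * 𝐳 ^ (2 * c) * g₀, hk⟩ : (S : Subgroup G)) = 1 := by
      apply Subtype.ext
      show g₀⁻¹ * 𝐳 ^ (2 * c) * g₀ = 1
      rw [h1]; group
    rw [h2, map_one, pow_mul, pow_two, hzz, one_pow]
  · have h1 : 𝐳 ^ (2 * c + 1) = 𝐳 := by
      rw [pow_succ, pow_mul, pow_two, coe_z_mul_z S h, one_pow, one_mul]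
    have hsA : (⟨g₀⁻¹ * 𝐳 ^ (2 * c + 1) * g₀, hk⟩ : (S : Subgroup G)) ∉ h.A := by
      intro hh
      have h2 := (coe_mem_UU S h ⟨_, hk⟩).mpr hh
      have h3 : g₀⁻¹ * 𝐳 * g₀⁻¹⁻¹ ∈ UU S h := by
        rw [inv_inv, ← h1]; exact h2
      exact hz g₀⁻¹ h3
    have hss : (⟨g₀⁻¹ * 𝐳 ^ (2 * c + 1) * g₀, hk⟩ : (S : Subgroup G)) *
        ⟨g₀⁻¹ * 𝐳 ^ (2 * c + 1) * g₀, hk⟩ = 1 := by
      apply Subtype.ext
      show g₀⁻¹ * 𝐳 ^ (2 * c + 1) * g₀ * (g₀⁻¹ * 𝐳 ^ (2 * c + 1) * g₀) = 1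
      rw [h1]
      calc g₀⁻¹ * 𝐳 * g₀ * (g₀⁻¹ * 𝐳 * g₀) = g₀⁻¹ * (𝐳 * 𝐳) * g₀ := by group
        _ = 1 := by rw [coe_z_mul_z S h]; group
    obtain ⟨i, hi⟩ := invol_notMem_A h hsA hss
    rw [hi, hinv i, pow_succ, pow_mul, pow_two, hzz, one_pow, one_mul]

end Cfsg.Agent.Lib.Helper20.Wr
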