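import Cfsg.Agent.Lib.Helper20.WrG6
import Cfsg.Agent.Lib.Helper55.IndexTwoLift

/-!
Fusion in finite groups with wreathed Sylow 2-subgroups, part 7: the case
`|N(U):C(U)| = 2 = |N(V):V C(V)|` (helper20's library).
-/

set_option autoImplicit false
set_option linter.unusedSectionVars false

namespace Cfsg.Agent.Lib.Helper20.Wr

open Cfsg.Agent.Lib.Helper38 Cfsg.Agent.Lib.Helper33 Cfsg.Agent.Lib.Helper20
  Cfsg.Agent.Lib.Helper20.QDF

section plevel

variable {P : Type*} [Group P] {x y z : P} {n : ℕ}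

local notation "NN" => ((2 ^ n : ℕ) : ℤ)
local notation "MM" => ((2 ^ (n - 1) : ℕ) : ℤ)
local notation "HH" => ((2 ^ (n - 2) : ℕ) : ℤ)

theorem lam_x (h : IsWr x y z n) : lam h x = Multiplicative.ofAdd 1 := by
  have := lam_al h 1 0
  rw [← x_eq_al] at this
  rw [this]; simp

theorem lam_y (h : IsWr x y z n) : lam h y = Multiplicative.ofAdd 1 := by
  have := lam_al h 0 1
  rw [← y_eq_al] at this
  rw [this]; simp

theorem lam_z (h : IsWr x y z n) :
    lam h z = Multiplicative.ofAdd (((2 ^ (n - 1) : ℕ) : ZMod (2 ^ n))) := by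
  have := lam_alz h 0 0
  rw [← z_eq_alz] at this
  rw [this]; simp

theorem eps_x (h : IsWr x y z n) : eps h x = 1 := by
  have := eps_al h 1 0
  rwa [← x_eq_al] at this

theorem eps_y (h : IsWr x y z n) : eps h y = 1 := by
  have := eps_al h 0 1
  rwa [← y_eq_al] at this

theorem eps_z (h : IsWr x y z n) : eps h z = Multiplicative.ofAdd 1 := by
  have := eps_alz h 0 0
  rwa [← z_eq_alz] at this

end plevel

variable {G : Type*} [Group G] [Finite G] (S : Sylow 2 G) {n : ℕ} {x y z : (S : Subgroup G)}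

local notation "NN" => ((2 ^ n : ℕ) : ℤ)
local notation "MM" => ((2 ^ (n - 1) : ℕ) : ℤ)
local notation "HH" => ((2 ^ (n - 2) : ℕ) : ℤ)
local notation "𝐚" => ((al x y MM 0 : (S : Subgroup G)) : G)
local notation "𝐛" => ((al x y 0 MM : (S : Subgroup G)) : G)
local notation "𝐞" => ((al x y MM MM : (S : Subgroup G)) : G)
local notation "𝐳" => ((z : (S : Subgroup G)) : G)

/-- A homomorphism to a commutative group is constant on conjugacy classes. -/
theorem map_conj_comm {A' : Type*} [CommGroup A'] (ϕ : G →* A') (g u : G) :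
    ϕ (g * u * g⁻¹) = ϕ u := by
  rw [map_mul, map_mul, map_inv, mul_comm, inv_mul_cancel_left]

theorem map_coe_al {A' : Type*} [CommGroup A'] (h : IsWr x y z n) (ϕ : G →* A') (i j : ℤ) :
    ϕ ((al x y i j : (S : Subgroup G)) : G) = ϕ (x : G) ^ (i + j) := by
  rw [coe_al_eq, map_mul, map_zpow, map_zpow, ← coe_z_conj_x S h, map_conj_comm, zpow_add]

theorem map_coe_alz {A' : Type*} [CommGroup A'] (h : IsWr x y z n) (ϕ : G →* A') (i j : ℤ) :
    ϕ ((al x y i j * z : (S : Subgroup G)) : G) = ϕ (x : G) ^ (i + j) * ϕ 𝐳 := by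
  rw [Subgroup.coe_mul, map_mul, map_coe_al S h]

theorem odd_index : Odd (S : Subgroup G).index := by
  have h2 : ¬ 2 ∣ (S : Subgroup G).index := S.not_dvd_index
  exact Nat.odd_iff.mpr (by omega)

theorem transfer_lam_x (h : IsWr x y z n) (hctrl : CtrlU S h) :
    MonoidHom.transfer (lam h) (x : G) =
      Multiplicative.ofAdd (((S : Subgroup G).index : ZMod (2 ^ n))) := by
  rw [transfer_x S h (lam h) hctrl (by rw [lam_x, lam_y]) ?_, lam_x]
  · rw [← ofAdd_nsmul]; simp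
  · intro i g₀ _
    rw [lam_alz, lam_x, ← ofAdd_nsmul]
    congr 1
    simp

theorem transfer_eps_x (h : IsWr x y z n) (hctrl : CtrlU S h)
    (hz : ∀ g : G, g * 𝐳 * g⁻¹ ∉ UU S h) :
    MonoidHom.transfer (eps h) (x : G) = 1 := by
  rw [transfer_x S h (eps h) hctrl (by rw [eps_x, eps_y]) ?_, eps_x, one_pow]
  intro i g₀ hg
  exfalso
  have h1 := h.conj_to_z i
  have h2 : ((al x y (-i) 0 : (S : Subgroup G)) : G) *
      ((al x y i (-i) * z : (S : Subgroup G)) : G) *
      ((al x y (-i) 0 : (S : Subgroup G)) : G)⁻¹ = 𝐳 := by exact_mod_cast h1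
  rw [← hg] at h2
  apply hz (g₀ * ((al x y (-i) 0 : (S : Subgroup G)) : G)⁻¹)
  rw [← h2]
  have : g₀ * ((al x y (-i) 0 : (S : Subgroup G)) : G)⁻¹ *
      (((al x y (-i) 0 : (S : Subgroup G)) : G) * (g₀⁻¹ * 𝐚 * g₀) *
        ((al x y (-i) 0 : (S : Subgroup G)) : G)⁻¹) *
      (g₀ * ((al x y (-i) 0 : (S : Subgroup G)) : G)⁻¹)⁻¹ = 𝐚 := by group
  rw [this]
  exact (coe_mem_UU S h _).mpr (h.al_mem_A _ _)

theorem transfer_eps_z (h : IsWr x y z n) (hz : ∀ g : G, g * 𝐳 * g⁻¹ ∉ UU S h) :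
    MonoidHom.transfer (eps h) 𝐳 = Multiplicative.ofAdd 1 := by
  rw [transfer_z S h (eps h) hz ?_, eps_z]
  · rw [← ofAdd_nsmul]
    congr 1
    rw [nsmul_eq_mul, mul_one, ZMod.natCast_eq_one_iff_odd]
    exact odd_index S
  · intro i
    rw [eps_alz, eps_z]

/-! ### The case `(2, 2)`: normal 2-complement -/

/-- the intersection of the kernels of the two transfers -/
noncomputable def LL (h : IsWr x y z n) : Subgroup G :=
  (MonoidHom.transfer (lam h)).ker ⊓ (MonoidHom.transfer (eps h)).ker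

instance LL_normal (h : IsWr x y z n) : (LL S h).Normal := by
  unfold LL; infer_instance

theorem map_eq_one_of_odd {A' : Type*} [CommGroup A'] [Finite A'] {k : ℕ}
    (hA : Nat.card A' = 2 ^ k) (ϕ : G →* A') (g : G) (hg : Nat.Coprime (orderOf g) 2) :
    ϕ g = 1 := by
  apply Cfsg.Agent.Lib.Helper55.eq_one_of_pow_eq_one_of_coprime (p := 2) (n := orderOf g)
    ⟨k, ?_⟩ hg.symm
  · rw [← map_pow, pow_orderOf_eq_one, map_one]
  · rw [← hA]; exact orderOf_dvd_natCard _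

theorem mem_LL_of_odd (h : IsWr x y z n) (g : G) (hg : Nat.Coprime (orderOf g) 2) :
    g ∈ LL S h := by
  unfold LL
  rw [Subgroup.mem_inf, MonoidHom.mem_ker, MonoidHom.mem_ker]
  constructor
  · apply map_eq_one_of_odd (k := n) _ _ g hg
    rw [Nat.card_congr Multiplicative.toAdd, Nat.card_zmod]
  · apply map_eq_one_of_odd (k := 1) _ _ g hg
    rw [Nat.card_congr Multiplicative.toAdd, Nat.card_zmod, pow_one]

theorem zpow_ofAdd_index_eq_one_iff (k : ℤ) :
    (Multiplicative.ofAdd (((S : Subgroup G).index : ZMod (2 ^ n)))) ^ k = 1 ↔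
      ((2 ^ n : ℕ) : ℤ) ∣ k := by
  rw [← ofAdd_zsmul, ofAdd_eq_one, zsmul_eq_mul]
  have hu : IsUnit (((S : Subgroup G).index : ZMod (2 ^ n))) := by
    rw [ZMod.isUnit_iff_coprime]
    apply Nat.Coprime.pow_right
    exact (odd_index S).coprime_two_right
  rw [hu.mul_left_eq_zero, ZMod.intCast_zmod_eq_zero_iff_dvd]

theorem LL_subgroupOf_le (h : IsWr x y z n) (hctrl : CtrlU S h)
    (hz : ∀ g : G, g * 𝐳 * g⁻¹ ∉ UU S h) :
    (LL S h).subgroupOf (S : Subgroup G) ≤ Subgroup.zpowers (al x y (-1) 1) := by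
  intro s hs
  rw [Subgroup.mem_subgroupOf] at hs
  unfold LL at hs
  rw [Subgroup.mem_inf, MonoidHom.mem_ker, MonoidHom.mem_ker] at hs
  obtain ⟨hs1, hs2⟩ := hs
  rcases h.exists_rep s with ⟨i, j, rfl⟩ | ⟨i, j, rfl⟩
  · rw [map_coe_al S h, transfer_lam_x S h hctrl, zpow_ofAdd_index_eq_one_iff] at hs1
    have : al x y i j = al x y (-j) j := by
      rw [h.al_eq_al_iff]
      refine ⟨?_, by simp⟩
      have e : i - -j = i + j := by ring
      rw [e]; exact hs1
    rw [this]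
    exact h.al_mem_D (by ring)
  · exfalso
    rw [map_coe_alz S h, transfer_eps_x S h hctrl hz, one_zpow, one_mul,
      transfer_eps_z S h hz] at hs2
    revert hs2
    decide

theorem e_mem_LL (h : IsWr x y z n) (hctrl : CtrlU S h)
    (hz : ∀ g : G, g * 𝐳 * g⁻¹ ∉ UU S h) : 𝐞 ∈ LL S h := by
  unfold LL
  rw [Subgroup.mem_inf, MonoidHom.mem_ker, MonoidHom.mem_ker]
  constructor
  · rw [map_coe_al S h, transfer_lam_x S h hctrl, zpow_ofAdd_index_eq_one_iff]
    rw [← two_mul, ← h.N_eq]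
  · rw [map_coe_al S h, transfer_eps_x S h hctrl hz, one_zpow]

theorem hasNormalPComplement_of_ctrl (h : IsWr x y z n) (hctrl : CtrlU S h)
    (hz : ∀ g : G, g * 𝐳 * g⁻¹ ∉ UU S h) : Cfsg.HasNormalPComplement 2 G := by
  have : Fact (Nat.Prime 2) := ⟨Nat.prime_two⟩
  have hall := mem_LL_of_odd S h
  rw [Cfsg.Agent.Lib.Helper34.hasNormalPComplement_iff_pResidual_coprime,
    Cfsg.Agent.Lib.Helper55.pResidual_eq_map_of_forall_mem 2 (LL S h) hall,
    Subgroup.card_map_of_injective (LL S h).subtype_injective,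
    ← Cfsg.Agent.Lib.Helper34.hasNormalPComplement_iff_pResidual_coprime]
  obtain ⟨R, hR⟩ := exists_sylow_eq_subgroupOf_normal (LL S h) S
  obtain ⟨e⟩ := sylow_iso_of_normal S (LL S h) R
  have hcyc0 : IsCyclic ((LL S h).subgroupOf (S : Subgroup G)) :=
    Subgroup.isCyclic_of_le (LL_subgroupOf_le S h hctrl hz)
  have hcyc : IsCyclic (R : Subgroup (LL S h)) :=
    isCyclic_of_surjective e.symm.toMonoidHom e.symm.surjective
  have hZL := e_mem_LL S h hctrl hz
  have hminfac : (Nat.card (LL S h)).minFac = 2 := by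
    rw [Nat.minFac_eq_two_iff]
    have h1 : orderOf (⟨_, hZL⟩ : (LL S h)) = 2 := by
      rw [Subgroup.orderOf_mk]; exact orderOf_coe_e S h
    rw [← h1]; exact orderOf_dvd_natCard _
  have hcomp := IsCyclic.isComplement' hminfac hcyc
  exact ⟨R, _, inferInstance, hcomp⟩

theorem card_invol_of_two_two (h : IsWr x y z n)
    (h1 : (Subgroup.centralizer (UU S h : Set G)).relIndex
      (Subgroup.normalizer (UU S h : Set G)) = 2)
    (hz : ∀ g : G, g * 𝐳 * g⁻¹ ∉ UU S h) :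
    Nat.card {C : ConjClasses G // ∃ t : G, orderOf t = 2 ∧ ConjClasses.mk t = C} = 3 := by
  have haU : 𝐚 ∈ UU S h := (coe_mem_UU S h _).mpr (h.al_mem_A _ _)
  have heU : 𝐞 ∈ UU S h := (coe_mem_UU S h _).mpr (h.al_mem_A _ _)
  apply card_classes_eq_three (fun t => orderOf t = 2) 𝐚 𝐞 𝐳 (orderOf_coe_a S h)
    (orderOf_coe_e S h) (orderOf_coe_z S h)
  · intro hc
    obtain ⟨g, hg⟩ := isConj_iff.mp hc
    rcases ctrl_of_two S h h1 haU g (by rw [hg]; exact heU) with h3 | h3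
    · rw [hg] at h3
      exact coe_a_ne_e S h h3.symm
    · rw [hg, coe_z_conj_a S h] at h3
      exact coe_b_ne_e S h h3.symm
  · intro hc
    obtain ⟨g, hg⟩ := isConj_iff.mp hc
    apply hz g⁻¹
    rw [← hg]
    have : g⁻¹ * (g * 𝐚 * g⁻¹) * g⁻¹⁻¹ = 𝐚 := by group
    rw [this]; exact haU
  · intro hc
    obtain ⟨g, hg⟩ := isConj_iff.mp hc
    apply hz g⁻¹
    rw [← hg]
    have : g⁻¹ * (g * 𝐞 * g⁻¹) * g⁻¹⁻¹ = 𝐞 := by group
    rw [this]; exact heU
  · exact invol_class S h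

end Cfsg.Agent.Lib.Helper20.Wr
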