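import Cfsg.Agent.Lib.Helper20.WrG7

/-!
Fusion in finite groups with wreathed Sylow 2-subgroups, part 8: the case
`|N(U):C(U)| = 2`, `|N(V):V C(V)| = 6` (helper20's library).
-/

set_option autoImplicit false
set_option linter.unusedSectionVars false

namespace Cfsg.Agent.Lib.Helper20.Wr

open Cfsg.Agent.Lib.Helper38 Cfsg.Agent.Lib.Helper33 Cfsg.Agent.Lib.Helper20
  Cfsg.Agent.Lib.Helper20.QDF

section plevel

variable {P : Type*} [Group P] {x y z : P} {n : ℕ}

local notation "NN" => ((2 ^ n : ℕ) : ℤ)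
local notation "MM" => ((2 ^ (n - 1) : ℕ) : ℤ)
local notation "HH" => ((2 ^ (n - 2) : ℕ) : ℤ)

theorem a_mul_zeta_H (h : IsWr x y z n) : al x y MM 0 * al x y HH HH = al x y (-HH) HH := by
  rw [h.al_mul_al, h.al_eq_al_iff]
  refine ⟨?_, by simp⟩
  have e : MM + HH - -HH = NN := by rw [N_eq4 h, M_eq h]; ring
  rw [e]

theorem x_conj_w (h : IsWr x y z n) (j p : ℤ) :
    al x y j 0 * (al x y p (MM - p) * z) * (al x y j 0)⁻¹ =
      al x y (p + j) (MM - (p + j)) * z := by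
  rw [h.conj_alz_by_al]; congr 2 <;> ring

theorem w_mul_w_inv (h : IsWr x y z n) :
    (al x y 0 MM * z) * (al x y 1 (MM - 1) * z)⁻¹ = al x y (-1) 1 := by
  rw [h.alz_inv, h.alz_mul_alz]; congr 1 <;> ring

theorem d_zpow_H (h : IsWr x y z n) : al x y (-1) 1 ^ HH = al x y (-HH) HH := by
  rw [h.al_zpow]; congr 1 <;> ring

theorem zeta_H_mul_z (h : IsWr x y z n) : z * al x y HH HH = al x y HH (MM - HH) * z := by
  rw [h.z_mul_al, h.alz_eq_alz_iff]
  refine ⟨by simp, ?_⟩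
  have e : HH - (MM - HH) = 0 := by rw [M_eq h]; ring
  rw [e]; exact dvd_zero _

theorem zeta_3H_mul_z (h : IsWr x y z n) :
    z * al x y MM MM * al x y HH HH = al x y (MM + HH) (MM - (MM + HH)) * z := by
  rw [mul_assoc, h.al_mul_al, h.z_mul_al, h.alz_eq_alz_iff]
  refine ⟨by simp, ?_⟩
  have e : MM + HH - (MM - (MM + HH)) = NN := by rw [N_eq4 h, M_eq h]; ring
  rw [e]

/-- membership in the generalized quaternion subgroup -/
theorem al_mem_Q_iff (h : IsWr x y z n) (i j : ℤ) :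
    al x y i j ∈ Cfsg.Agent.S1199.Q h ↔ NN ∣ i + j := by
  refine ⟨?_, Cfsg.Agent.S1199.al_mem_Q h⟩
  rintro ⟨q, hq⟩
  rcases q with v | v
  · rw [Cfsg.Agent.S1199.qhom_a, h.al_eq_al_iff] at hq
    have e : i + j = -(((v.val : ℕ) : ℤ) - i) - (-((v.val : ℕ) : ℤ) - j) := by ring
    rw [e]; exact dvd_sub ((dvd_neg).mpr hq.1) hq.2
  · rw [Cfsg.Agent.S1199.qhom_xa] at hq
    exact absurd hq.symm (h.al_ne_alz _ _ _ _)

theorem alz_mem_Q_iff (h : IsWr x y z n) (i j : ℤ) :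
    al x y i j * z ∈ Cfsg.Agent.S1199.Q h ↔ NN ∣ i + j + MM := by
  constructor
  · rintro ⟨q, hq⟩
    rcases q with v | v
    · rw [Cfsg.Agent.S1199.qhom_a] at hq
      exact absurd hq (h.al_ne_alz _ _ _ _)
    · rw [Cfsg.Agent.S1199.qhom_xa, h.alz_eq_alz_iff] at hq
      have e : i + j + MM = -(MM - ((v.val : ℕ) : ℤ) - i) - (((v.val : ℕ) : ℤ) - j) + (MM + MM) := by
        ring
      rw [e]; exact dvd_add (dvd_sub ((dvd_neg).mpr hq.1) hq.2) (N_dvd_two_M h)
  · intro hd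
    apply Cfsg.Agent.S1199.alz_mem_Q h
    have e : i + j - MM = (i + j + MM) - (MM + MM) := by ring
    rw [e]; exact dvd_sub hd (N_dvd_two_M h)

end plevel

variable {G : Type*} [Group G] [Finite G] (S : Sylow 2 G) {n : ℕ} {x y z : (S : Subgroup G)}

local notation "NN" => ((2 ^ n : ℕ) : ℤ)
local notation "MM" => ((2 ^ (n - 1) : ℕ) : ℤ)
local notation "HH" => ((2 ^ (n - 2) : ℕ) : ℤ)
local notation "𝐚" => ((al x y MM 0 : (S : Subgroup G)) : G)
local notation "𝐛" => ((al x y 0 MM : (S : Subgroup G)) : G)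
local notation "𝐞" => ((al x y MM MM : (S : Subgroup G)) : G)
local notation "𝐳" => ((z : (S : Subgroup G)) : G)

/-- the kernel of the transfer of `lam` -/
noncomputable def KK (h : IsWr x y z n) : Subgroup G := (MonoidHom.transfer (lam h)).ker

instance KK_normal (h : IsWr x y z n) : (KK S h).Normal := by
  unfold KK; infer_instance

theorem exists_zpow_ofAdd_index (t : Multiplicative (ZMod (2 ^ n))) :
    ∃ j : ℤ, (Multiplicative.ofAdd (((S : Subgroup G).index : ZMod (2 ^ n)))) ^ j = t := by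
  have hu : IsUnit (((S : Subgroup G).index : ZMod (2 ^ n))) := by
    rw [ZMod.isUnit_iff_coprime]
    apply Nat.Coprime.pow_right
    exact (odd_index S).coprime_two_right
  obtain ⟨u, hu⟩ := hu
  refine ⟨(((Multiplicative.toAdd t * (u⁻¹ : (ZMod (2 ^ n))ˣ)).val : ℕ) : ℤ), ?_⟩
  rw [← ofAdd_zsmul, zsmul_eq_mul, Int.cast_natCast, ZMod.natCast_zmod_val, ← hu,
    Units.inv_mul_cancel_right]
  rfl

theorem transfer_lam_surjective (h : IsWr x y z n) (hctrl : CtrlU S h) :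
    Function.Surjective (MonoidHom.transfer (lam h)) := by
  intro t
  obtain ⟨j, hj⟩ := exists_zpow_ofAdd_index S t
  exact ⟨(x : G) ^ j, by rw [map_zpow, transfer_lam_x S h hctrl, hj]⟩

theorem KK_index (h : IsWr x y z n) (hctrl : CtrlU S h) : (KK S h).index = 2 ^ n := by
  unfold KK
  rw [Subgroup.index_ker, MonoidHom.range_eq_top.mpr (transfer_lam_surjective S h hctrl),
    Subgroup.card_top, Nat.card_congr Multiplicative.toAdd, Nat.card_zmod]

/-- every element of `G` is a product of an element of `K` and a power of `x` -/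
theorem exists_KK_mul_zpow (h : IsWr x y z n) (hctrl : CtrlU S h) (g : G) :
    ∃ k ∈ KK S h, ∃ j : ℤ, g = k * (x : G) ^ j := by
  obtain ⟨j, hj⟩ := exists_zpow_ofAdd_index S (MonoidHom.transfer (lam h) g)
  refine ⟨g * ((x : G) ^ j)⁻¹, ?_, j, by group⟩
  unfold KK
  rw [MonoidHom.mem_ker, map_mul, map_inv, map_zpow, transfer_lam_x S h hctrl, hj,
    mul_inv_cancel]

theorem transfer_lam_z (h : IsWr x y z n)
    (h6 : (VV S h ⊔ Subgroup.centralizer (VV S h : Set G)).relIndex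
      (Subgroup.normalizer (VV S h : Set G)) = 6) {A' : Type*} [CommGroup A'] (ϕ : G →* A') :
    ϕ 𝐳 = ϕ (x : G) ^ MM := by
  obtain ⟨g, hg⟩ := isConj_iff.mp (isConj_a_z_of_six S h h6)
  rw [← hg, map_conj_comm, map_coe_al S h, add_zero]

theorem coe_al_mem_KK_iff (h : IsWr x y z n) (hctrl : CtrlU S h) (i j : ℤ) :
    ((al x y i j : (S : Subgroup G)) : G) ∈ KK S h ↔ NN ∣ i + j := by
  unfold KK
  rw [MonoidHom.mem_ker, map_coe_al S h, transfer_lam_x S h hctrl, zpow_ofAdd_index_eq_one_iff]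

theorem coe_alz_mem_KK_iff (h : IsWr x y z n) (hctrl : CtrlU S h)
    (h6 : (VV S h ⊔ Subgroup.centralizer (VV S h : Set G)).relIndex
      (Subgroup.normalizer (VV S h : Set G)) = 6) (i j : ℤ) :
    ((al x y i j * z : (S : Subgroup G)) : G) ∈ KK S h ↔ NN ∣ i + j + MM := by
  unfold KK
  rw [MonoidHom.mem_ker, map_coe_alz S h, transfer_lam_z S h h6, ← zpow_add,
    transfer_lam_x S h hctrl, zpow_ofAdd_index_eq_one_iff]

theorem KK_subgroupOf_eq (h : IsWr x y z n) (hctrl : CtrlU S h)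
    (h6 : (VV S h ⊔ Subgroup.centralizer (VV S h : Set G)).relIndex
      (Subgroup.normalizer (VV S h : Set G)) = 6) :
    (KK S h).subgroupOf (S : Subgroup G) = Cfsg.Agent.S1199.Q h := by
  ext s
  rw [Subgroup.mem_subgroupOf]
  rcases h.exists_rep s with ⟨i, j, rfl⟩ | ⟨i, j, rfl⟩
  · rw [coe_al_mem_KK_iff S h hctrl, al_mem_Q_iff]
  · rw [coe_alz_mem_KK_iff S h hctrl h6, alz_mem_Q_iff]

theorem sylow_KK (h : IsWr x y z n) (hctrl : CtrlU S h)
    (h6 : (VV S h ⊔ Subgroup.centralizer (VV S h : Set G)).relIndex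
      (Subgroup.normalizer (VV S h : Set G)) = 6) (P : Sylow 2 (KK S h)) :
    ∃ m : ℕ, 1 ≤ m ∧ Nonempty ((P : Subgroup (KK S h)) ≃* QuaternionGroup (2 ^ m)) := by
  obtain ⟨e⟩ := sylow_iso_of_normal S (KK S h) P
  have hn := h.hn
  exact ⟨n - 1, by omega, ⟨(e.trans (MulEquiv.subgroupCongr (KK_subgroupOf_eq S h hctrl h6))).trans
    (Cfsg.Agent.S1199.Q_equiv h)⟩⟩

local notation "𝐜" => ((al x y (-HH) HH : (S : Subgroup G)) : G)
local notation "𝐝" => ((al x y (-1) 1 : (S : Subgroup G)) : G)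

/-- some `w_p` is `K`-conjugate to `c = d^H` -/
theorem exists_conj_c_eq_w (h : IsWr x y z n) (hctrl : CtrlU S h)
    (h6 : (VV S h ⊔ Subgroup.centralizer (VV S h : Set G)).relIndex
      (Subgroup.normalizer (VV S h : Set G)) = 6) :
    ∃ p0 : ℤ, ∃ k ∈ KK S h, k * 𝐜 * k⁻¹ = ((al x y p0 (MM - p0) * z : (S : Subgroup G)) : G) := by
  obtain ⟨σ, hσN, hσ⟩ := exists_of_rV_six S h h6
  have hζ : ((al x y HH HH : (S : Subgroup G)) : G) ∈ ZZ S :=
    (coe_mem_ZZ S _).mpr ((h.mem_center_iff _).mpr ⟨HH, rfl⟩)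
  have hσζ := conj_ZZ_of_mem_normalizer_VV S h hσN hζ
  have hσe := conj_ZZ_of_mem_normalizer_VV S h hσN (e_mem_ZZ S h)
  have hc : 𝐜 = 𝐚 * ((al x y HH HH : (S : Subgroup G)) : G) := by
    exact_mod_cast congrArg Subtype.val (a_mul_zeta_H h).symm
  obtain ⟨k, hk, j, hj⟩ := exists_KK_mul_zpow S h hctrl σ
  have hcU : 𝐜 ∈ UU S h := (coe_mem_UU S h _).mpr (h.al_mem_A _ _)
  have hxc : (x : G) ^ j * 𝐜 * ((x : G) ^ j)⁻¹ = 𝐜 := by
    rw [UU_comm S h (zpow_mem (x_mem_UU S h) j) hcU]; group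
  have hkc : k * 𝐜 * k⁻¹ = σ * 𝐜 * σ⁻¹ := by
    rw [hj]
    calc k * 𝐜 * k⁻¹ = k * ((x : G) ^ j * 𝐜 * ((x : G) ^ j)⁻¹) * k⁻¹ := by rw [hxc]
      _ = k * (x : G) ^ j * 𝐜 * (k * (x : G) ^ j)⁻¹ := by group
  have hsplit : σ * 𝐜 * σ⁻¹ =
      (σ * 𝐚 * σ⁻¹) * (σ * ((al x y HH HH : (S : Subgroup G)) : G) * σ⁻¹) := by
    rw [hc]; group
  rcases hσ with hσ | hσ
  · refine ⟨HH, k, hk, ?_⟩
    rw [hkc, hsplit, hσ, hσζ]
    exact_mod_cast congrArg Subtype.val (zeta_H_mul_z h)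
  · refine ⟨MM + HH, k, hk, ?_⟩
    rw [hkc, hsplit, hσ, hσζ]
    exact_mod_cast congrArg Subtype.val (zeta_3H_mul_z h)

/-- every `w_p` is `K`-conjugate to `c = d^H` -/
theorem forall_conj_c_eq_w (h : IsWr x y z n) (hctrl : CtrlU S h)
    (h6 : (VV S h ⊔ Subgroup.centralizer (VV S h : Set G)).relIndex
      (Subgroup.normalizer (VV S h : Set G)) = 6) (p : ℤ) :
    ∃ k ∈ KK S h, k * 𝐜 * k⁻¹ = ((al x y p (MM - p) * z : (S : Subgroup G)) : G) := by
  obtain ⟨p0, k, hk, hkc⟩ := exists_conj_c_eq_w S h hctrl h6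
  have hcU : 𝐜 ∈ UU S h := (coe_mem_UU S h _).mpr (h.al_mem_A _ _)
  have hxc : ((x : G) ^ (p - p0))⁻¹ * 𝐜 * ((x : G) ^ (p - p0)) = 𝐜 := by
    rw [mul_assoc, UU_comm S h hcU (zpow_mem (x_mem_UU S h) _)]; group
  refine ⟨(x : G) ^ (p - p0) * k * ((x : G) ^ (p - p0))⁻¹,
    (KK_normal S h).conj_mem k hk _, ?_⟩
  have hw := x_conj_w h (p - p0) p0
  have e : p0 + (p - p0) = p := by ring
  rw [e, ← zpow_x_eq_al] at hw
  calc (x : G) ^ (p - p0) * k * ((x : G) ^ (p - p0))⁻¹ * 𝐜 *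
        ((x : G) ^ (p - p0) * k * ((x : G) ^ (p - p0))⁻¹)⁻¹
      = (x : G) ^ (p - p0) * (k * (((x : G) ^ (p - p0))⁻¹ * 𝐜 * ((x : G) ^ (p - p0))) * k⁻¹) *
        ((x : G) ^ (p - p0))⁻¹ := by group
    _ = (x : G) ^ (p - p0) * ((al x y p0 (MM - p0) * z : (S : Subgroup G)) : G) *
        ((x : G) ^ (p - p0))⁻¹ := by rw [hxc, hkc]
    _ = ((al x y p (MM - p) * z : (S : Subgroup G)) : G) := by
        exact_mod_cast congrArg Subtype.val hw

theorem no_index_two_KK (h : IsWr x y z n) (hctrl : CtrlU S h)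
    (h6 : (VV S h ⊔ Subgroup.centralizer (VV S h : Set G)).relIndex
      (Subgroup.normalizer (VV S h : Set G)) = 6) (H : Subgroup (KK S h)) : H.index ≠ 2 := by
  intro hH
  have hrel : (H.map (KK S h).subtype).relIndex (KK S h) = 2 := by
    rw [relIndex_map_subtype]; exact hH
  have hcK : 𝐜 ∈ KK S h := (coe_al_mem_KK_iff S h hctrl _ _).mpr (by simp)
  have hwK : ∀ p : ℤ, ((al x y p (MM - p) * z : (S : Subgroup G)) : G) ∈ KK S h := by
    intro p
    rw [coe_alz_mem_KK_iff S h hctrl h6]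
    have e : p + (MM - p) + MM = MM + MM := by ring
    rw [e]; exact N_dvd_two_M h
  have step3 : ∀ p : ℤ, ((al x y p (MM - p) * z : (S : Subgroup G)) : G) ∈ H.map (KK S h).subtype ↔
      𝐜 ∈ H.map (KK S h).subtype := by
    intro p
    obtain ⟨k, hk, hkc⟩ := forall_conj_c_eq_w S h hctrl h6 p
    rw [← hkc]
    exact conj_mem_iff_of_relIndex_two hrel hk hcK
  have hd : 𝐝 ∈ H.map (KK S h).subtype := by
    have h0 := hwK 0
    have h1 := hwK 1
    have hw : 𝐝 = ((al x y 0 (MM - 0) * z : (S : Subgroup G)) : G) *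
        ((al x y 1 (MM - 1) * z : (S : Subgroup G)) : G)⁻¹ := by
      have := w_mul_w_inv h
      rw [sub_zero]
      exact_mod_cast congrArg Subtype.val this.symm
    rw [hw, mul_mem_iff_of_relIndex_two hrel h0 (inv_mem h1), inv_mem_iff, step3, step3]
  have hc : 𝐜 ∈ H.map (KK S h).subtype := by
    have : 𝐜 = 𝐝 ^ HH := by
      exact_mod_cast congrArg Subtype.val (d_zpow_H h).symm
    rw [this]; exact zpow_mem hd _
  apply false_of_sylow_le S (KK S h) H hH
  apply subgroupOf_le_of_forall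
  intro s hs
  have key : (s : G) ∈ H.map (KK S h).subtype := by
    rcases h.exists_rep s with ⟨i, j, rfl⟩ | ⟨i, j, rfl⟩
    · rw [coe_al_mem_KK_iff S h hctrl] at hs
      have : al x y i j = al x y (-1) 1 ^ j := by
        rw [h.al_zpow, h.al_eq_al_iff]
        refine ⟨?_, by simp⟩
        have e : i - -1 * j = i + j := by ring
        rw [e]; exact hs
      rw [this, Subgroup.coe_zpow]
      exact zpow_mem hd _
    · rw [coe_alz_mem_KK_iff S h hctrl h6] at hs
      have : al x y i j * z = al x y i (MM - i) * z := by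
        rw [h.alz_eq_alz_iff]
        refine ⟨by simp, ?_⟩
        have e : j - (MM - i) = (i + j + MM) - (MM + MM) := by ring
        rw [e]; exact dvd_sub hs (N_dvd_two_M h)
      rw [this, step3]; exact hc
  obtain ⟨r, hr, hrs⟩ := key
  have : r = ⟨(s : G), hs⟩ := Subtype.ext hrs
  rw [← this]; exact hr

/-! ### Weak closure of the subgroups of `Z(S)` -/

theorem coe_z_conj_center (h : IsWr x y z n) (i : ℤ) :
    𝐳 * ((al x y i i : (S : Subgroup G)) : G) * 𝐳⁻¹ = ((al x y i i : (S : Subgroup G)) : G) := by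
  have : z * al x y i i * z⁻¹ = al x y i i := by
    rw [h.z_mul_al, mul_inv_cancel_right]
  exact_mod_cast congrArg Subtype.val this

theorem conj_ZZ_eq_of_mem (h : IsWr x y z n) (hctrl : CtrlU S h)
    (h6 : (VV S h ⊔ Subgroup.centralizer (VV S h : Set G)).relIndex
      (Subgroup.normalizer (VV S h : Set G)) = 6) {ζ : G} (hζ : ζ ∈ ZZ S) (g : G)
    (hg : g * ζ * g⁻¹ ∈ (S : Subgroup G)) : g * ζ * g⁻¹ = ζ := by
  obtain ⟨c, hc, rfl⟩ := hζ
  rw [SetLike.mem_coe, h.mem_center_iff] at hc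
  obtain ⟨i, rfl⟩ := hc
  simp only [Subgroup.coe_subtype] at hg ⊢
  have hζU : ((al x y i i : (S : Subgroup G)) : G) ∈ UU S h :=
    (coe_mem_UU S h _).mpr (h.al_mem_A _ _)
  rcases h.exists_rep ⟨_, hg⟩ with ⟨p, q, hpq⟩ | ⟨p, q, hpq⟩
  · have hs : g * ((al x y i i : (S : Subgroup G)) : G) * g⁻¹ =
        ((al x y p q : (S : Subgroup G)) : G) := congrArg Subtype.val hpq
    have hsU : g * ((al x y i i : (S : Subgroup G)) : G) * g⁻¹ ∈ UU S h := by
      rw [hs]; exact (coe_mem_UU S h _).mpr (h.al_mem_A _ _)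
    rcases hctrl _ hζU g hsU with h1 | h1
    · exact h1
    · rw [h1, coe_z_conj_center S h]
  · exfalso
    have hs : g * ((al x y i i : (S : Subgroup G)) : G) * g⁻¹ =
        ((al x y p q * z : (S : Subgroup G)) : G) := congrArg Subtype.val hpq
    have hζ2 : ((al x y i i : (S : Subgroup G)) : G) * ((al x y i i : (S : Subgroup G)) : G) =
        ((al x y (i + i) (i + i) : (S : Subgroup G)) : G) := by
      exact_mod_cast congrArg Subtype.val (h.al_mul_al i i i i)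
    have hsq : g * ((al x y (i + i) (i + i) : (S : Subgroup G)) : G) * g⁻¹ =
        ((al x y (p + q) (q + p) : (S : Subgroup G)) : G) := by
      rw [← hζ2]
      calc g * (((al x y i i : (S : Subgroup G)) : G) * ((al x y i i : (S : Subgroup G)) : G)) * g⁻¹
          = (g * ((al x y i i : (S : Subgroup G)) : G) * g⁻¹) *
            (g * ((al x y i i : (S : Subgroup G)) : G) * g⁻¹) := by group
        _ = _ := by
          rw [hs]
          exact_mod_cast congrArg Subtype.val (h.alz_mul_alz p q p q)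
    have hζ2U : ((al x y (i + i) (i + i) : (S : Subgroup G)) : G) ∈ UU S h :=
      (coe_mem_UU S h _).mpr (h.al_mem_A _ _)
    have hfix : g * ((al x y (i + i) (i + i) : (S : Subgroup G)) : G) * g⁻¹ =
        ((al x y (i + i) (i + i) : (S : Subgroup G)) : G) := by
      rcases hctrl _ hζ2U g (by rw [hsq]; exact (coe_mem_UU S h _).mpr (h.al_mem_A _ _)) with h1 | h1
      · exact h1
      · rw [h1, coe_z_conj_center S h]
    rw [hsq] at hfix
    have h2 : al x y (p + q) (q + p) = al x y (i + i) (i + i) := Subtype.ext hfix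
    rw [h.al_eq_al_iff] at h2
    have hV : MonoidHom.transfer (lam h) (g * ((al x y i i : (S : Subgroup G)) : G) * g⁻¹) =
        MonoidHom.transfer (lam h) ((al x y i i : (S : Subgroup G)) : G) := map_conj_comm _ _ _
    rw [hs, map_coe_alz S h, transfer_lam_z S h h6, ← zpow_add, map_coe_al S h,
      transfer_lam_x S h hctrl] at hV
    have h3 : (Multiplicative.ofAdd (((S : Subgroup G).index : ZMod (2 ^ n)))) ^
        (p + q + MM - (i + i)) = 1 := by
      rw [zpow_sub, hV, mul_inv_cancel]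
    rw [zpow_ofAdd_index_eq_one_iff] at h3
    apply h.not_N_dvd_M
    have e : MM = (p + q + MM - (i + i)) - (p + q - (i + i)) := by ring
    rw [e]; exact dvd_sub h3 h2.1

theorem isWeaklyClosed_of_le_ZZ (h : IsWr x y z n) (hctrl : CtrlU S h)
    (h6 : (VV S h ⊔ Subgroup.centralizer (VV S h : Set G)).relIndex
      (Subgroup.normalizer (VV S h : Set G)) = 6) (Z₀ : Subgroup G) (hZ : Z₀ ≤ ZZ S) :
    Cfsg.IsWeaklyClosed Z₀ (S : Subgroup G) := by
  refine ⟨hZ.trans (ZZ_le S), fun g hg => ?_⟩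
  have key : ∀ ζ ∈ Z₀, g * ζ * g⁻¹ = ζ := fun ζ hζ =>
    conj_ZZ_eq_of_mem S h hctrl h6 (hZ hζ) g (hg ⟨ζ, hζ, rfl⟩)
  ext t
  rw [Subgroup.mem_map]
  constructor
  · rintro ⟨ζ, hζ, rfl⟩
    show g * ζ * g⁻¹ ∈ Z₀
    rw [key ζ hζ]; exact hζ
  · intro ht
    exact ⟨t, ht, key t ht⟩

theorem card_invol_of_two_six (h : IsWr x y z n)
    (h1 : (Subgroup.centralizer (UU S h : Set G)).relIndex
      (Subgroup.normalizer (UU S h : Set G)) = 2)
    (h6 : (VV S h ⊔ Subgroup.centralizer (VV S h : Set G)).relIndex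
      (Subgroup.normalizer (VV S h : Set G)) = 6) :
    Nat.card {C : ConjClasses G // ∃ t : G, orderOf t = 2 ∧ ConjClasses.mk t = C} = 2 := by
  have haU : 𝐚 ∈ UU S h := (coe_mem_UU S h _).mpr (h.al_mem_A _ _)
  have heU : 𝐞 ∈ UU S h := (coe_mem_UU S h _).mpr (h.al_mem_A _ _)
  apply card_classes_eq_two (fun t => orderOf t = 2) 𝐚 𝐞 (orderOf_coe_a S h)
    (orderOf_coe_e S h)
  · intro hc
    obtain ⟨g, hg⟩ := isConj_iff.mp hc
    rcases ctrl_of_two S h h1 haU g (by rw [hg]; exact heU) with h3 | h3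
    · rw [hg] at h3
      exact coe_a_ne_e S h h3.symm
    · rw [hg, coe_z_conj_a S h] at h3
      exact coe_b_ne_e S h h3.symm
  · intro t ht
    rcases invol_class S h t ht with h3 | h3 | h3
    · exact Or.inl h3
    · exact Or.inr h3
    · exact Or.inl ((isConj_a_z_of_six S h h6).trans h3)

end Cfsg.Agent.Lib.Helper20.Wr
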