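import Cfsg.Agent.Lib.Helper20.WrBase

/-!
Wreathed 2-groups: the subgroups `V = Q Z(S)` (`Q` quaternion of order 8), in normal form
(helper20's library).
-/

set_option autoImplicit false

namespace Cfsg.Agent.Lib.Helper20.Wr

open Cfsg.Agent.Lib.Helper38

/-! ### Quaternion groups of order 8 relative to a subgroup of index two -/

section q8

theorem q8_dec : ∀ c w : QuaternionGroup 2,
    (c = QuaternionGroup.a 1 ∧ w = QuaternionGroup.xa 0) ∨
    (c = QuaternionGroup.xa 0 ∧ w = QuaternionGroup.a 1) ∨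
    (c = QuaternionGroup.a 1 * QuaternionGroup.xa 0 ∧ w = QuaternionGroup.a 1) →
    c ^ 4 = 1 ∧ c ^ 2 ≠ 1 ∧ w * c * w⁻¹ = c⁻¹ ∧ w ^ 2 = c ^ 2 ∧ c * w ≠ w * c ∧
      ∀ q : QuaternionGroup 2, ∃ k : Fin 4, q = c ^ (k : ℕ) ∨ q = c ^ (k : ℕ) * w := by
  decide

/-- The Prop-package of relations of a generating pair of `Q₈`. -/
def Q8Pair {Q : Type*} [Group Q] (c w : Q) : Prop :=
  c ^ 4 = 1 ∧ c ^ 2 ≠ 1 ∧ w * c * w⁻¹ = c⁻¹ ∧ w ^ 2 = c ^ 2 ∧ c * w ≠ w * c ∧
    ∀ q : Q, ∃ k : ℕ, q = c ^ k ∨ q = c ^ k * w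

theorem q8Pair_symm {Q : Type*} [Group Q] (e : Q ≃* QuaternionGroup 2) {c₀ w₀ : QuaternionGroup 2}
    (h : c₀ ^ 4 = 1 ∧ c₀ ^ 2 ≠ 1 ∧ w₀ * c₀ * w₀⁻¹ = c₀⁻¹ ∧ w₀ ^ 2 = c₀ ^ 2 ∧ c₀ * w₀ ≠ w₀ * c₀ ∧
      ∀ q : QuaternionGroup 2, ∃ k : Fin 4, q = c₀ ^ (k : ℕ) ∨ q = c₀ ^ (k : ℕ) * w₀) :
    Q8Pair (e.symm c₀) (e.symm w₀) := by
  obtain ⟨h1, h2, h3, h4, h5, h6⟩ := h
  refine ⟨?_, ?_, ?_, ?_, ?_, ?_⟩
  · rw [← map_pow, h1, map_one]
  · rw [← map_pow]
    intro hh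
    apply h2
    have := congrArg e hh
    rwa [e.apply_symm_apply, map_one] at this
  · rw [← map_inv, ← map_mul, ← map_mul, h3, map_inv]
  · rw [← map_pow, ← map_pow, h4]
  · rw [← map_mul, ← map_mul]
    intro hh
    exact h5 (e.symm.injective hh)
  · intro q
    obtain ⟨k, hk⟩ := h6 (e q)
    refine ⟨(k : ℕ), ?_⟩
    rcases hk with hk | hk
    · left
      rw [← map_pow, ← hk, e.symm_apply_apply]
    · right
      rw [← map_pow, ← map_mul, ← hk, e.symm_apply_apply]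

/-- A quaternion group of order 8 not contained in a commutative "index two" subgroup `A` has a
standard generating pair `c ∈ A`, `w ∉ A`. -/
theorem q8_split {Q : Type*} [Group Q] (e : Q ≃* QuaternionGroup 2) (A : Subgroup Q)
    (hA : ∀ s t : Q, s ∉ A → t ∉ A → s * t ∈ A)
    (hcomm : ∀ s t : Q, s ∈ A → t ∈ A → s * t = t * s) :
    ∃ c w : Q, c ∈ A ∧ w ∉ A ∧ Q8Pair c w := by
  have p1 := q8Pair_symm e (q8_dec _ _ (Or.inl ⟨rfl, rfl⟩))
  have p2 := q8Pair_symm e (q8_dec _ _ (Or.inr (Or.inl ⟨rfl, rfl⟩)))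
  have p3 := q8Pair_symm e (q8_dec _ _ (Or.inr (Or.inr ⟨rfl, rfl⟩)))
  by_cases hI : e.symm (QuaternionGroup.a 1) ∈ A
  · refine ⟨_, _, hI, ?_, p1⟩
    intro hJ
    exact p1.2.2.2.2.1 (hcomm _ _ hI hJ)
  · by_cases hJ : e.symm (QuaternionGroup.xa 0) ∈ A
    · exact ⟨_, _, hJ, hI, p2⟩
    · refine ⟨_, _, ?_, hI, p3⟩
      rw [map_mul]
      exact hA _ _ hI hJ

end q8

variable {P : Type*} [Group P] {x y z : P} {n : ℕ}

local notation "NN" => ((2 ^ n : ℕ) : ℤ)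
local notation "MM" => ((2 ^ (n - 1) : ℕ) : ℤ)
local notation "HH" => ((2 ^ (n - 2) : ℕ) : ℤ)

/-! ### The subgroup `V₀ = {x^p y^q z^ε : p ≡ q mod M}` -/

/-- `V₀ = ⟨Z(P), a, z⟩`. -/
def V0 (h : IsWr x y z n) : Subgroup P where
  carrier := {s | ∃ p q : ℤ, MM ∣ p - q ∧ (s = al x y p q ∨ s = al x y p q * z)}
  mul_mem' := by
    rintro _ _ ⟨p, q, hd, rfl | rfl⟩ ⟨k, l, hd', rfl | rfl⟩
    · refine ⟨p + k, q + l, ?_, Or.inl (h.al_mul_al _ _ _ _)⟩
      have e : p + k - (q + l) = (p - q) + (k - l) := by ring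
      rw [e]; exact dvd_add hd hd'
    · refine ⟨p + k, q + l, ?_, Or.inr (h.al_mul_alz _ _ _ _)⟩
      have e : p + k - (q + l) = (p - q) + (k - l) := by ring
      rw [e]; exact dvd_add hd hd'
    · refine ⟨p + l, q + k, ?_, Or.inr (h.alz_mul_al _ _ _ _)⟩
      have e : p + l - (q + k) = (p - q) - (k - l) := by ring
      rw [e]; exact dvd_sub hd hd'
    · refine ⟨p + l, q + k, ?_, Or.inl (h.alz_mul_alz _ _ _ _)⟩
      have e : p + l - (q + k) = (p - q) - (k - l) := by ring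
      rw [e]; exact dvd_sub hd hd'
  one_mem' := ⟨0, 0, by simp, Or.inl IsWr.al_zero_zero.symm⟩
  inv_mem' := by
    rintro _ ⟨p, q, hd, rfl | rfl⟩
    · refine ⟨-p, -q, ?_, Or.inl (h.al_inv _ _)⟩
      have e : -p - -q = -(p - q) := by ring
      rw [e]; exact (dvd_neg).mpr hd
    · refine ⟨-q, -p, ?_, Or.inr (h.alz_inv _ _)⟩
      have e : -q - -p = p - q := by ring
      rw [e]; exact hd

theorem mem_V0 (h : IsWr x y z n) (s : P) :
    s ∈ V0 h ↔ ∃ p q : ℤ, MM ∣ p - q ∧ (s = al x y p q ∨ s = al x y p q * z) := Iff.rfl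

theorem al_mem_V0 (h : IsWr x y z n) {p q : ℤ} (hd : MM ∣ p - q) : al x y p q ∈ V0 h :=
  ⟨p, q, hd, Or.inl rfl⟩

theorem alz_mem_V0 (h : IsWr x y z n) {p q : ℤ} (hd : MM ∣ p - q) : al x y p q * z ∈ V0 h :=
  ⟨p, q, hd, Or.inr rfl⟩

theorem al_mem_V0_iff (h : IsWr x y z n) (p q : ℤ) : al x y p q ∈ V0 h ↔ MM ∣ p - q := by
  refine ⟨?_, al_mem_V0 h⟩
  rintro ⟨k, l, hd, hh | hh⟩
  · rw [h.al_eq_al_iff] at hh
    have e : p - q = (p - k) - (q - l) + (k - l) := by ring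
    rw [e]
    exact dvd_add (dvd_sub (h.M_dvd_N.trans hh.1) (h.M_dvd_N.trans hh.2)) hd
  · exact absurd hh (h.al_ne_alz _ _ _ _)

theorem alz_mem_V0_iff (h : IsWr x y z n) (p q : ℤ) : al x y p q * z ∈ V0 h ↔ MM ∣ p - q := by
  refine ⟨?_, alz_mem_V0 h⟩
  rintro ⟨k, l, hd, hh | hh⟩
  · exact absurd hh.symm (h.al_ne_alz _ _ _ _)
  · rw [h.alz_eq_alz_iff] at hh
    have e : p - q = (p - k) - (q - l) + (k - l) := by ring
    rw [e]
    exact dvd_add (dvd_sub (h.M_dvd_N.trans hh.1) (h.M_dvd_N.trans hh.2)) hd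

theorem center_le_V0 (h : IsWr x y z n) : Subgroup.center P ≤ V0 h := by
  intro s hs
  obtain ⟨i, rfl⟩ := (h.mem_center_iff s).mp hs
  exact al_mem_V0 h (by simp)

theorem z_mem_V0 (h : IsWr x y z n) : z ∈ V0 h := by
  have := alz_mem_V0 h (p := 0) (q := 0) (by simp)
  rwa [IsWr.al_zero_zero, one_mul] at this

theorem a_mem_V0 (h : IsWr x y z n) : al x y MM 0 ∈ V0 h := al_mem_V0 h (by simp)

theorem b_mem_V0 (h : IsWr x y z n) : al x y 0 MM ∈ V0 h := al_mem_V0 h (by simp)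

/-- Elements of `V₀` are `ζ`, `ζ a`, `ζ z` or `ζ a z` with `ζ` central. -/
theorem V0_cases (h : IsWr x y z n) {s : P} (hs : s ∈ V0 h) :
    ∃ ζ ∈ Subgroup.center P, s = ζ ∨ s = ζ * al x y MM 0 ∨ s = ζ * z ∨ s = ζ * (al x y MM 0 * z) := by
  obtain ⟨p, q, hd, hh⟩ := hs
  refine ⟨al x y q q, (h.mem_center_iff _).mpr ⟨q, rfl⟩, ?_⟩
  rcases h.dvd_or_dvd_sub hd with h1 | h1
  · have e1 : al x y p q = al x y q q := by
      rw [h.al_eq_al_iff]; exact ⟨h1, by simp⟩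
    rcases hh with rfl | rfl
    · left; exact e1
    · right; right; left; rw [e1]
  · have e1 : al x y p q = al x y q q * al x y MM 0 := by
      rw [h.al_mul_al, h.al_eq_al_iff]
      refine ⟨?_, by simp⟩
      have e : p - (q + MM) = p - q - MM := by ring
      rw [e]; exact h1
    rcases hh with rfl | rfl
    · right; left; exact e1
    · right; right; right; rw [e1, mul_assoc]

/-- An element centralizing `V₀` is central. -/
theorem mem_center_of_comm_V0 (h : IsWr x y z n) {s : P}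
    (hs : ∀ t ∈ V0 h, s * t = t * s) : s ∈ Subgroup.center P := by
  have hsA := mem_A_of_comm_a h (hs _ (a_mem_V0 h))
  obtain ⟨k, l, rfl⟩ := hsA
  rw [h.al_mem_center_iff]
  have := hs _ (z_mem_V0 h)
  rw [z_eq_alz (x := x) (y := y) (z := z)] at this
  rwa [h.al_comm_alz_iff] at this

/-- `V₀ / Z(P)` is commutative. -/
theorem V0_comm_mem_center (h : IsWr x y z n) {s t : P} (hs : s ∈ V0 h) (ht : t ∈ V0 h) :
    s⁻¹ * (t * s * t⁻¹) ∈ Subgroup.center P := by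
  obtain ⟨p, q, hd, rfl | rfl⟩ := hs <;> obtain ⟨k, l, hd', rfl | rfl⟩ := ht
  · rw [h.conj_al_by_al, inv_mul_cancel]; exact one_mem _
  · rw [h.conj_al_by_alz, h.al_inv, h.al_mul_al, h.al_mem_center_iff, h.N_eq]
    obtain ⟨c, hc⟩ := hd
    exact ⟨-c, by linear_combination (-2 : ℤ) * hc⟩
  · rw [h.conj_alz_by_al, h.alz_inv, h.alz_mul_alz, h.al_mem_center_iff, h.N_eq]
    obtain ⟨c, hc⟩ := hd'
    exact ⟨-c, by linear_combination (-2 : ℤ) * hc⟩
  · rw [h.conj_alz_by_alz, h.alz_inv, h.alz_mul_alz, h.al_mem_center_iff, h.N_eq]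
    obtain ⟨c, hc⟩ := hd
    obtain ⟨c', hc'⟩ := hd'
    exact ⟨c - c', by linear_combination (2 : ℤ) * hc - (2 : ℤ) * hc'⟩

/-- `V₀` is not commutative. -/
theorem a_z_not_comm (h : IsWr x y z n) : al x y MM 0 * z ≠ z * al x y MM 0 := by
  intro hh
  have h1 := mem_A_of_comm_a h hh.symm
  exact h.z_notMem_A h1

/-! ### The element `s₀ = x^H` normalizing `V₀` -/

theorem s0_conj_al (h : IsWr x y z n) (p q : ℤ) :
    al x y HH 0 * al x y p q * (al x y HH 0)⁻¹ = al x y p q := h.conj_al_by_al _ _ _ _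

theorem s0_conj_alz (h : IsWr x y z n) (p q : ℤ) :
    al x y HH 0 * (al x y p q * z) * (al x y HH 0)⁻¹ = al x y (p + HH) (q - HH) * z := by
  rw [h.conj_alz_by_al]; congr 2 <;> ring

theorem s0_conj_mem_V0_iff (h : IsWr x y z n) (t : P) :
    al x y HH 0 * t * (al x y HH 0)⁻¹ ∈ V0 h ↔ t ∈ V0 h := by
  rcases h.exists_rep t with ⟨p, q, rfl⟩ | ⟨p, q, rfl⟩
  · rw [s0_conj_al h]
  · rw [s0_conj_alz h, alz_mem_V0_iff, alz_mem_V0_iff]
    have e : p + HH - (q - HH) = (p - q) + MM := by rw [M_eq h]; ring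
    rw [e]
    exact ⟨fun hh => (dvd_add_left dvd_rfl).mp hh, fun hh => dvd_add hh dvd_rfl⟩

theorem s0_notMem_V0 (h : IsWr x y z n) : al x y HH 0 ∉ V0 h := by
  rw [al_mem_V0_iff]; simpa using not_M_dvd_H h

theorem s0_sq (h : IsWr x y z n) : al x y HH 0 * al x y HH 0 = al x y MM 0 := by
  rw [h.al_mul_al, M_eq h]; congr 1 <;> ring

/-- `s₀` moves the coset `z Z(P)`. -/
theorem s0_conj_z_notMem (h : IsWr x y z n) :
    z⁻¹ * (al x y HH 0 * z * (al x y HH 0)⁻¹) ∉ Subgroup.center P := by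
  have h1 := s0_conj_alz h 0 0
  rw [IsWr.al_zero_zero, one_mul] at h1
  rw [h1, h.z_inv, ← mul_assoc, h.z_mul_al, mul_assoc, h.z_mul_z, mul_one, h.al_mem_center_iff]
  intro hd
  have e : (0 - HH) - (0 + HH) = -MM := by rw [M_eq h]; ring
  rw [e] at hd
  exact h.not_N_dvd_M ((dvd_neg).mp hd)

/-! ### Quaternion subgroups of order 8 -/

theorem pow_four_al (h : IsWr x y z n) (p q : ℤ) : al x y p q ^ 4 = al x y (4 * p) (4 * q) := by
  rw [h.al_pow]; congr 1 <;> push_cast <;> ring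

/-- The cyclic subgroup of order 4 of `S'`. -/
theorem c_cases (h : IsWr x y z n) {p : ℤ} (h4 : NN ∣ 4 * p) (h2 : ¬ NN ∣ 2 * p) :
    NN ∣ p + HH ∨ NN ∣ p - HH := by
  rw [N_eq4 h] at h4 h2 ⊢
  have hH := @H_pos n
  obtain ⟨c, hc⟩ := h4
  have hpc : p = HH * c := by
    have : 4 * p = 4 * (HH * c) := by rw [hc]; ring
    linarith
  subst hpc
  obtain ⟨d, r, hr, rfl⟩ : ∃ d r : ℤ, (r = 0 ∨ r = 1 ∨ r = 2 ∨ r = 3) ∧ c = 4 * d + r := by
    refine ⟨c / 4, c % 4, by omega, by omega⟩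
  rcases hr with rfl | rfl | rfl | rfl
  · exfalso; apply h2
    exact ⟨2 * d, by ring⟩
  · right
    exact ⟨d, by ring⟩
  · exfalso; apply h2
    exact ⟨2 * d + 1, by ring⟩
  · left
    exact ⟨d + 1, by ring⟩

/-- Classification of the quaternion subgroups of order 8 of a wreathed group. -/
theorem quat_normal (h : IsWr x y z n) (Q : Subgroup P) (e : Q ≃* QuaternionGroup 2) :
    ∃ i : ℤ, al x y (-HH) HH ∈ Q ∧ al x y 0 MM * (al x y i (-i) * z) ∈ Q ∧ Q ≤ V0 (rebase h i) := by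
  obtain ⟨c, w, hcA, hwA, h1, h2, h3, h4, -, h6⟩ := q8_split e (h.A.subgroupOf Q)
    (fun s t hs ht => by
      rw [Subgroup.mem_subgroupOf] at hs ht ⊢
      rw [Subgroup.coe_mul, Subgroup.mul_mem_iff_of_index_two h.A_index]
      exact ⟨fun hh => absurd hh hs, fun hh => absurd hh ht⟩)
    (fun s t hs ht => Subtype.ext (h.A_comm hs ht))
  rw [Subgroup.mem_subgroupOf] at hcA hwA
  obtain ⟨p, q, hcpq⟩ := hcA
  obtain ⟨k, l, hwkl⟩ := h.notMem_A hwA
  -- relations in `P`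
  have h1' : (c : P) ^ 4 = 1 := by
    have := congrArg Subtype.val h1
    simpa using this
  have h2' : (c : P) ^ 2 ≠ 1 := by
    intro hh; apply h2; apply Subtype.ext; simpa using hh
  have h3' : (w : P) * c * (w : P)⁻¹ = (c : P)⁻¹ := by
    have := congrArg Subtype.val h3
    simpa using this
  have h4' : (w : P) ^ 2 = (c : P) ^ 2 := by
    have := congrArg Subtype.val h4
    simpa using this
  rw [hcpq] at h1' h2' h3' h4'
  rw [hwkl] at h3' h4'
  rw [h.conj_al_by_alz, h.al_inv, h.al_eq_al_iff] at h3'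
  rw [pow_four_al h, h.al_eq_one_iff] at h1'
  rw [h.alz_sq, h.al_pow, h.al_eq_al_iff] at h4'
  rw [Ne, h.al_pow, h.al_eq_one_iff] at h2'
  have hpq : NN ∣ p + q := by
    have := h3'.2
    have e : p - -q = p + q := by ring
    rwa [e] at this
  have h2p : ¬ NN ∣ 2 * p := by
    intro hh
    apply h2'
    refine ⟨by simpa [mul_comm] using hh, ?_⟩
    have e : q * ((2 : ℕ) : ℤ) = 2 * (p + q) - 2 * p := by push_cast; ring
    rw [e]
    exact dvd_sub (dvd_mul_of_dvd_right hpq 2) hh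
  have hcV : ∀ i : ℤ, (c : P) ∈ V0 (rebase h i) := by
    intro i
    rw [hcpq]
    apply al_mem_V0
    rcases c_cases h h1'.1 h2p with hh | hh
    · obtain ⟨u, hu⟩ := hh
      obtain ⟨v, hv⟩ := hpq
      rw [N_eq4 h] at hu hv
      rw [M_eq h]
      exact ⟨4 * u - 1 - 2 * v, by linear_combination (2 : ℤ) * hu - hv⟩
    · obtain ⟨u, hu⟩ := hh
      obtain ⟨v, hv⟩ := hpq
      rw [N_eq4 h] at hu hv
      rw [M_eq h]
      exact ⟨4 * u + 1 - 2 * v, by linear_combination (2 : ℤ) * hu - hv⟩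
  have hklM : NN ∣ k + l - MM := by
    have h5 := h4'.1
    have e : k + l - MM = (k + l - p * ((2 : ℕ) : ℤ)) + (2 * p - MM) := by push_cast; ring
    rw [e]
    apply dvd_add h5
    rcases c_cases h h1'.1 h2p with hh | hh
    · obtain ⟨u, hu⟩ := hh
      rw [N_eq4 h] at hu ⊢
      rw [M_eq h]
      exact ⟨2 * u - 1, by linear_combination (2 : ℤ) * hu⟩
    · obtain ⟨u, hu⟩ := hh
      rw [N_eq4 h] at hu ⊢
      rw [M_eq h]
      exact ⟨2 * u, by linear_combination (2 : ℤ) * hu⟩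
  have hwe : (w : P) = al x y 0 MM * (al x y k (-k) * z) := by
    rw [hwkl, al_mul_rebase h, h.alz_eq_alz_iff]
    refine ⟨by simp, ?_⟩
    have e : l - (MM - k) = k + l - MM := by ring
    rw [e]; exact hklM
  refine ⟨k, ?_, ?_, ?_⟩
  · rcases c_cases h h1'.1 h2p with hh | hh
    · have : (c : P) = al x y (-HH) HH := by
        rw [hcpq, h.al_eq_al_iff]
        refine ⟨by simpa using hh, ?_⟩
        have e : q - HH = (p + q) - (p + HH) := by ring
        rw [e]; exact dvd_sub hpq hh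
      rw [← this]; exact c.2
    · have : (c⁻¹ : Q) = al x y (-HH) HH := by
        rw [Subgroup.coe_inv, hcpq, h.al_inv, h.al_eq_al_iff]
        refine ⟨?_, ?_⟩
        · have e : -p - -HH = -(p - HH) := by ring
          rw [e]; exact (dvd_neg).mpr hh
        · have e : -q - HH = -(p + q) + (p - HH) := by ring
          rw [e]; exact dvd_add ((dvd_neg).mpr hpq) hh
      rw [← this]; exact (c⁻¹).2
  · rw [← hwe]; exact w.2
  · intro s hs
    have hwV : (w : P) ∈ V0 (rebase h k) := by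
      rw [hwe]
      exact alz_mem_V0 (rebase h k) (by simp)
    obtain ⟨j, hj | hj⟩ := h6 ⟨s, hs⟩
    · have : s = (c : P) ^ j := by
        have := congrArg Subtype.val hj
        simpa using this
      rw [this]; exact pow_mem (hcV k) j
    · have : s = (c : P) ^ j * w := by
        have := congrArg Subtype.val hj
        simpa using this
      rw [this]; exact mul_mem (pow_mem (hcV k) j) hwV

/-- `Q Z(P) = V₀` for a quaternion subgroup `Q` in standard position. -/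
theorem sup_eq_V0 (h : IsWr x y z n) (Q : Subgroup P) (hc : al x y (-HH) HH ∈ Q)
    (hw : al x y 0 MM * z ∈ Q) (hQ : Q ≤ V0 h) : Q ⊔ Subgroup.center P = V0 h := by
  apply le_antisymm (sup_le hQ (center_le_V0 h))
  have hZ : ∀ s ∈ Subgroup.center P, s ∈ Q ⊔ Subgroup.center P :=
    fun s hs => Subgroup.mem_sup_right hs
  have ha : al x y MM 0 ∈ Q ⊔ Subgroup.center P := by
    have e : al x y MM 0 = (al x y (-HH) HH)⁻¹ * al x y HH HH := by
      rw [h.al_inv, h.al_mul_al, M_eq h]; congr 1 <;> ring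
    rw [e]
    exact mul_mem (inv_mem (Subgroup.mem_sup_left hc)) (hZ _ ((h.mem_center_iff _).mpr ⟨_, rfl⟩))
  have hb : al x y 0 MM ∈ Q ⊔ Subgroup.center P := by
    rw [← a_mul_e h]
    exact mul_mem ha (hZ _ (e_mem_center h))
  have hz : z ∈ Q ⊔ Subgroup.center P := by
    have e : z = (al x y 0 MM)⁻¹ * (al x y 0 MM * z) := by group
    rw [e]
    exact mul_mem (inv_mem hb) (Subgroup.mem_sup_left hw)
  intro s hs
  obtain ⟨ζ, hζ, rfl | rfl | rfl | rfl⟩ := V0_cases h hs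
  · exact hZ _ hζ
  · exact mul_mem (hZ _ hζ) ha
  · exact mul_mem (hZ _ hζ) hz
  · exact mul_mem (hZ _ hζ) (mul_mem ha hz)

end Cfsg.Agent.Lib.Helper20.Wr
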